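import Cfsg.Agent.Lib.Classical.ClassTheory.IsometryConj
import Cfsg.Agent.Lib.Classical.Symplectic.Matrix
import Cfsg.Agent.Lib.Known.SemisimpleClass

/-!
# Semisimple classes of the symplectic and orthogonal groups and linear conjugacy
-/

set_option autoImplicit false

namespace CfsgLib.Classical.ClassTheory

open scoped Matrix

variable {F : Type*} [Field F] [Fintype F] {p : ℕ} [Fact p.Prime] [CharP F p]

/-- The linear equivalence of an invertible matrix. -/
noncomputable def unitEquiv {ι : Type*} [Fintype ι] [DecidableEq ι] (c : (Matrix ι ι F)ˣ) :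
    (ι → F) ≃ₗ[F] (ι → F) :=
  LinearEquiv.ofLinear (Matrix.mulVecLin (c : Matrix ι ι F))
    (Matrix.mulVecLin ((c⁻¹ : (Matrix ι ι F)ˣ) : Matrix ι ι F))
    (by rw [← Matrix.mulVecLin_mul, Units.mul_inv, Matrix.mulVecLin_one])
    (by rw [← Matrix.mulVecLin_mul, Units.inv_mul, Matrix.mulVecLin_one])

omit [Fintype F] in
theorem unitEquiv_apply {ι : Type*} [Fintype ι] [DecidableEq ι] (c : (Matrix ι ι F)ˣ) (v : ι → F) :
    unitEquiv c v = (c : Matrix ι ι F) *ᵥ v := rfl

theorem natCast_ne_zero_of_coprime {N : ℕ} (hN : N.Coprime p) : (N : F) ≠ 0 := fun h =>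
  (Nat.Prime.coprime_iff_not_dvd Fact.out).1 hN.symm ((CharP.cast_eq_zero_iff F p N).1 h)

/-- Semisimple elements of `Sp` that are conjugate in `GL` are conjugate in `Sp`. -/
theorem sp_isConj_iff {m : ℕ} (A B : Matrix.symplecticGroup (Fin m) F) (hA : (orderOf A).Coprime p) :
    IsConj A B ↔ IsConj (A : Matrix (Fin m ⊕ Fin m) (Fin m ⊕ Fin m) F)
      (B : Matrix (Fin m ⊕ Fin m) (Fin m ⊕ Fin m) F) := by
  refine ⟨fun h => MonoidHom.map_isConj (Matrix.symplecticGroup (Fin m) F).subtype h, ?_⟩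
  rintro ⟨c, hc⟩
  let S := Symp.symplecticEquiv m F
  have hb := Symp.sympBil_nondegenerate m F
  have halt := Symp.sympBil_isAlt m F
  have he : ∀ v, unitEquiv c ((S A).1 v) = (S B).1 (unitEquiv c v) := fun v => by
    rw [unitEquiv_apply, unitEquiv_apply, Symp.symplecticEquiv_apply, Symp.symplecticEquiv_apply,
      Matrix.mulVec_mulVec, Matrix.mulVec_mulVec, hc.eq]
  have hN : ((S A).1 : (Fin m ⊕ Fin m → F) →ₗ[F] (Fin m ⊕ Fin m → F)) ^ orderOf A = 1 := by
    have hk : ∀ k : ℕ, ((S A).1 : (Fin m ⊕ Fin m → F) →ₗ[F] (Fin m ⊕ Fin m → F)) ^ k =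
        ((S (A ^ k)).1 : (Fin m ⊕ Fin m → F) →ₗ[F] (Fin m ⊕ Fin m → F)) := by
      intro k
      induction k with
      | zero => rw [pow_zero, pow_zero, map_one]; rfl
      | succ k ih => rw [pow_succ, pow_succ, ih, map_mul]; rfl
    rw [hk, pow_orderOf_eq_one, map_one]
    rfl
  obtain ⟨f, hf, hfb⟩ := exists_isometric_alt hb halt hb halt (S A).1 (S A).2 (S B).1 (S B).2
    (unitEquiv c) he (natCast_ne_zero_of_coprime (p := p) hA) hN
  refine isConj_iff.2 ⟨S.symm ⟨f, hfb⟩, mul_inv_eq_iff_eq_mul.2 (S.injective ?_)⟩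
  rw [map_mul, map_mul, MulEquiv.apply_symm_apply]
  exact Subtype.ext (LinearEquiv.ext hf)

/-- Semisimple elements of `Sp` with the same characteristic polynomial are conjugate. -/
theorem sp_isConj_of_charpoly {m : ℕ} (g h : Matrix.symplecticGroup (Fin m) F) (hg : (orderOf g).Coprime p)
    (hh : (orderOf h).Coprime p)
    (hc : (g : Matrix (Fin m ⊕ Fin m) (Fin m ⊕ Fin m) F).charpoly =
      (h : Matrix (Fin m ⊕ Fin m) (Fin m ⊕ Fin m) F).charpoly) : IsConj g h := by
  rw [sp_isConj_iff g h hg]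
  let e : Fin m ⊕ Fin m ≃ Fin (m + m) := finSumFinEquiv
  let φ : Matrix.symplecticGroup (Fin m) F →* GL (Fin (m + m)) F :=
    (Units.map (Matrix.reindexAlgEquiv F F e).toMonoidHom).comp
      (Matrix.symplecticGroup (Fin m) F).subtype.toHomUnits
  have hval : ∀ x, (φ x : Matrix (Fin (m + m)) (Fin (m + m)) F) =
      Matrix.reindexAlgEquiv F F e (x : Matrix (Fin m ⊕ Fin m) (Fin m ⊕ Fin m) F) := fun x => rfl
  have hφ : Function.Injective φ := fun x y hxy => Subtype.ext ((Matrix.reindexAlgEquiv F F e).injective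
    (by rw [← hval, ← hval, hxy]))
  obtain ⟨u, hu⟩ := Known.SemisimpleClass.isConj_of_charpoly_eq (p := p) (φ g) (φ h)
    (by rwa [orderOf_injective φ hφ]) (by rwa [orderOf_injective φ hφ])
    (by rw [hval, hval, Matrix.coe_reindexAlgEquiv, Matrix.charpoly_reindex, Matrix.charpoly_reindex, hc])
  have hu' : IsConj (φ g : Matrix (Fin (m + m)) (Fin (m + m)) F) (φ h : Matrix (Fin (m + m)) (Fin (m + m)) F) :=
    MonoidHom.map_isConj (Units.coeHom _) ⟨u, hu⟩
  have h2 := MonoidHom.map_isConj (Matrix.reindexAlgEquiv F F e).symm.toMonoidHom hu'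
  rw [hval, hval] at h2
  simpa using h2

/-- Odd order semisimple elements of an orthogonal group and linear conjugacy. -/
theorem orth_isConj_iff {κ : Type} [Fintype κ] [DecidableEq κ] (Q : QuadraticForm F (κ → F))
    (hQ : (QuadraticMap.polarBilin Q).Nondegenerate) (A B : ↥(Cfsg.isometryGroup F ⇑Q))
    (hodd : Odd (orderOf A)) (hA : (orderOf A).Coprime p) :
    IsConj A B ↔ IsConj ((A : Matrix.GeneralLinearGroup κ F) : Matrix κ κ F)
      ((B : Matrix.GeneralLinearGroup κ F) : Matrix κ κ F) := by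
  refine ⟨fun h => MonoidHom.map_isConj ((Units.coeHom _).comp (Cfsg.isometryGroup F ⇑Q).subtype) h, ?_⟩
  rintro ⟨c, hc⟩
  have he : ∀ v, unitEquiv c (unitEquiv (A : GL κ F) v) = unitEquiv (B : GL κ F) (unitEquiv c v) :=
    fun v => by simp only [unitEquiv_apply, Matrix.mulVec_mulVec, hc.eq]
  have hN : (unitEquiv (A : GL κ F) : (κ → F) →ₗ[F] (κ → F)) ^ orderOf A = 1 := by
    show Matrix.toLinAlgEquiv' ((A : GL κ F) : Matrix κ κ F) ^ orderOf A = 1
    rw [← map_pow, ← Units.val_pow_eq_pow_val, ← Subgroup.coe_pow, pow_orderOf_eq_one, Subgroup.coe_one,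
      Units.val_one, map_one]
  obtain ⟨f, hf, hfQ⟩ := exists_isometric_odd hQ (unitEquiv (A : GL κ F)) (unitEquiv (B : GL κ F))
    (fun v => A.2 v v) (fun v => B.2 v v) (unitEquiv c) he hodd (natCast_ne_zero_of_coprime (p := p) hA) hN
  let g : GL κ F := ⟨LinearMap.toMatrix' (f : (κ → F) →ₗ[F] (κ → F)),
    LinearMap.toMatrix' (f.symm : (κ → F) →ₗ[F] (κ → F)),
    by rw [← LinearMap.toMatrix'_comp, LinearEquiv.comp_coe, f.symm_trans_self]; exact LinearMap.toMatrix'_id,
    by rw [← LinearMap.toMatrix'_comp, LinearEquiv.comp_coe, f.self_trans_symm]; exact LinearMap.toMatrix'_id⟩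
  have hg : ∀ v, (g : Matrix κ κ F) *ᵥ v = f v := fun v => LinearMap.toMatrix'_mulVec _ _
  refine isConj_iff.2 ⟨⟨g, fun u v => ?_⟩, mul_inv_eq_iff_eq_mul.2 (Subtype.ext (Units.ext ?_))⟩
  · show Q ((g : Matrix κ κ F) *ᵥ u) = Q u
    rw [hg, hfQ]
  · show (g : Matrix κ κ F) * ((A : GL κ F) : Matrix κ κ F) =
      ((B : GL κ F) : Matrix κ κ F) * (g : Matrix κ κ F)
    refine Matrix.toLin'.injective (LinearMap.ext fun v => ?_)
    rw [Matrix.toLin'_apply, Matrix.toLin'_apply, ← Matrix.mulVec_mulVec, ← Matrix.mulVec_mulVec, hg, hg]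
    exact hf v

end CfsgLib.Classical.ClassTheory
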