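import Cfsg.Agent.Lib.Classical.ClassTheory.SelfDual
import Cfsg.Agent.Lib.Classical.ClassTheory.Semisimple

/-!
# Semisimple elements of `Sp` with given characteristic polynomial
-/

set_option autoImplicit false

open Polynomial

namespace CfsgLib.Classical.ClassTheory

open LinearMap (BilinForm)

universe u

section Inverse

variable {F : Type*} [Field F] {ι : Type*} [Fintype ι] [DecidableEq ι]

theorem charpoly_of_mul_eq_one {A B : Matrix ι ι F} (h : B * A = 1) :
    B.charpoly = dualPoly (RingHom.id F) A.charpoly := by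
  have hA : IsUnit A := IsUnit.of_mul_eq_one_right B h
  rw [← Matrix.inv_eq_left_inv h, Matrix.charpoly_inv A hA, Ring.inverse_eq_inv', ← Matrix.reverse_charpoly,
    Matrix.det_eq_sign_charpoly_coeff, dualPoly, Polynomial.map_id, RingHom.id_apply, mul_inv, C_mul,
    show ((-1 : F) ^ Fintype.card ι)⁻¹ = (-1) ^ Fintype.card ι by rw [← inv_pow, inv_neg_one], C_pow, C_neg, C_1,
    ← mul_assoc ((-1 : F[X]) ^ Fintype.card ι), ← mul_pow, neg_one_mul, neg_neg, one_pow, one_mul]

theorem end_charpoly_of_mul_eq_one {V : Type*} [AddCommGroup V] [Module F V] [FiniteDimensional F V]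
    {a b : Module.End F V} (h : b * a = 1) : b.charpoly = dualPoly (RingHom.id F) a.charpoly := by
  classical
  let e := Module.finBasis F V
  rw [← LinearMap.charpoly_toMatrix a e, ← LinearMap.charpoly_toMatrix b e]
  exact charpoly_of_mul_eq_one (by rw [← LinearMap.toMatrix_mul, h, LinearMap.toMatrix_one])

end Inverse

variable {F : Type u} [Field F]

/-- `χ` is the characteristic polynomial of a semisimple isometry of an alternating form. -/
def SympReal (χ : F[X]) : Prop :=
  ∃ (V : Type u) (_ : AddCommGroup V) (_ : Module F V) (_ : FiniteDimensional F V) (B : BilinForm F V)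
    (g : Module.End F V) (N : ℕ),
    B.IsAlt ∧ B.Nondegenerate ∧ (∀ u v, B (g u) (g v) = B u v) ∧ g ^ N = 1 ∧ (N : F) ≠ 0 ∧ g.charpoly = χ

theorem prodMap_pow_eq {V W : Type*} [AddCommGroup V] [Module F V] [AddCommGroup W] [Module F W]
    (a : Module.End F V) (b : Module.End F W) (k : ℕ) :
    (LinearMap.prodMap a b : Module.End F (V × W)) ^ k = LinearMap.prodMap (a ^ k) (b ^ k) := by
  induction k with
  | zero => exact LinearMap.ext fun _ => rfl
  | succ k ih =>
    rw [pow_succ, ih, pow_succ, pow_succ]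
    exact LinearMap.ext fun _ => rfl

theorem SympReal.one : SympReal (1 : F[X]) := by
  refine ⟨Fin 0 → F, inferInstance, inferInstance, inferInstance, 0, 1, 1, fun v => by simp,
    ⟨fun v _ => Subsingleton.elim _ _, fun v _ => Subsingleton.elim _ _⟩, fun u v => by simp, one_pow 1,
    by rw [Nat.cast_one]; exact one_ne_zero, ?_⟩
  exact eq_one_of_monic_natDegree_zero (LinearMap.charpoly_monic _)
    (by rw [LinearMap.charpoly_natDegree]; simp)

theorem SympReal.mul {χ ψ : F[X]} (h1 : SympReal χ) (h2 : SympReal ψ) : SympReal (χ * ψ) := by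
  obtain ⟨V, _, _, _, B, g, N, hA, hB, hg, hN, hN', rfl⟩ := h1
  obtain ⟨W, _, _, _, C, k, M, kA, kB, kg, kN, kN', rfl⟩ := h2
  let D : BilinForm F (V × W) := B.compl₁₂ (LinearMap.fst F V W) (LinearMap.fst F V W) +
    C.compl₁₂ (LinearMap.snd F V W) (LinearMap.snd F V W)
  have hD : ∀ x y, D x y = B x.1 y.1 + C x.2 y.2 := fun _ _ => rfl
  refine ⟨V × W, inferInstance, inferInstance, inferInstance, D, LinearMap.prodMap g k, N * M,
    fun x => by rw [hD, hA, kA, add_zero], ⟨fun x hx => ?_, fun x hx => ?_⟩, fun x y => ?_, ?_,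
    by rw [Nat.cast_mul]; exact mul_ne_zero hN' kN', LinearMap.charpoly_prodMap g k⟩
  · refine Prod.ext (hB.1 _ fun v => ?_) (kB.1 _ fun w => ?_)
    · simpa [hD] using hx (v, 0)
    · simpa [hD] using hx (0, w)
  · refine Prod.ext (hB.2 _ fun v => ?_) (kB.2 _ fun w => ?_)
    · simpa [hD] using hx (v, 0)
    · simpa [hD] using hx (0, w)
  · rw [hD, hD, LinearMap.prodMap_apply, LinearMap.prodMap_apply, hg, kg]
  · rw [prodMap_pow_eq, pow_mul, hN, one_pow, mul_comm N, pow_mul, kN, one_pow]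
    exact LinearMap.ext fun _ => rfl

/-- The conversion to the standard symplectic group. -/
theorem SympReal.exists_symplectic {p : ℕ} [Fact p.Prime] [CharP F p] {χ : F[X]} (h : SympReal χ) :
    ∃ (m : ℕ) (A : Matrix.symplecticGroup (Fin m) F), χ.natDegree = 2 * m ∧ (orderOf A).Coprime p ∧
      (A : Matrix (Fin m ⊕ Fin m) (Fin m ⊕ Fin m) F).charpoly = χ := by
  obtain ⟨V, _, _, _, B, g, N, hA, hB, hg, hN, hN', rfl⟩ := h
  obtain ⟨m, v, hv, hm⟩ := Symp.exists_sympSys hA hB
  obtain ⟨e, he⟩ := Symp.exists_isometry hA hB (Symp.sympBil_isAlt m F) (Symp.sympBil_nondegenerate m F)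
    (by rw [Symp.finrank_sympSpace, hm])
  obtain ⟨M, rfl⟩ : ∃ M, N = M + 1 := Nat.exists_eq_succ_of_ne_zero (by rintro rfl; exact hN' Nat.cast_zero)
  let g' : V ≃ₗ[F] V := LinearEquiv.ofLinear g (g ^ M)
    (by rw [← Module.End.mul_eq_comp, ← pow_succ', hN]; rfl) (by rw [← Module.End.mul_eq_comp, ← pow_succ, hN]; rfl)
  let S : Symp.Sp (Symp.sympBil m F) := ⟨e.symm.trans (g'.trans e), fun u v => by
    obtain ⟨a, rfl⟩ := e.surjective u
    obtain ⟨b, rfl⟩ := e.surjective v
    simp [g', he, hg]⟩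
  set A := (Symp.symplecticEquiv m F).symm S
  have hlin : Matrix.toLinAlgEquiv' (A : Matrix (Fin m ⊕ Fin m) (Fin m ⊕ Fin m) F) = e.conj g :=
    LinearMap.ext fun w => by
      obtain ⟨a, rfl⟩ := e.surjective w
      rw [LinearEquiv.conj_apply_apply, e.symm_apply_apply, Matrix.toLinAlgEquiv'_apply,
        Symp.symplecticEquiv_symm_mulVec]
      show e (g' (e.symm (e a))) = _
      rw [e.symm_apply_apply]
      rfl
  refine ⟨m, A, by rw [LinearMap.charpoly_natDegree, hm], ?_, ?_⟩
  · refine Nat.Coprime.coprime_dvd_left (orderOf_dvd_of_pow_eq_one (n := M + 1) ?_)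
      (Nat.coprime_comm.1 ((Fact.out : p.Prime).coprime_iff_not_dvd.2 fun h =>
        hN' ((CharP.cast_eq_zero_iff F p _).2 h)))
    refine Subtype.ext (Matrix.toLinAlgEquiv'.injective ?_)
    rw [SubmonoidClass.coe_pow, map_pow, hlin, OneMemClass.coe_one, map_one]
    have : ∀ k : ℕ, e.conj g ^ k = e.conj (g ^ k) := fun k => by
      induction k with
      | zero => exact (LinearEquiv.conj_id e).symm
      | succ k ih =>
        rw [pow_succ, ih, pow_succ, Module.End.mul_eq_comp, Module.End.mul_eq_comp, LinearEquiv.conj_comp]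
    rw [this, hN]
    exact LinearEquiv.conj_id e
  · rw [← Matrix.charpoly_toLin', ← LinearEquiv.charpoly_conj e g, ← hlin]
    rfl

section Blocks

variable [Finite F] {f : F[X]}

theorem charpoly_lmul_root (hfm : f.Monic) [Fact (Irreducible f)] :
    haveI : FiniteDimensional F (AdjoinRoot f) := (AdjoinRoot.powerBasis (Fact.out : Irreducible f).ne_zero).finite
    (Algebra.lmul F (AdjoinRoot f) (AdjoinRoot.root f)).charpoly = f := by
  classical
  have hf : Irreducible f := Fact.out
  let pb := AdjoinRoot.powerBasis hf.ne_zero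
  haveI : FiniteDimensional F (AdjoinRoot f) := pb.finite
  rw [← LinearMap.charpoly_toMatrix _ pb.basis]
  have h := charpoly_leftMulMatrix pb
  simp only [pb, AdjoinRoot.powerBasis_gen, AdjoinRoot.minpoly_root hf.ne_zero, hfm.leadingCoeff, inv_one,
    map_one, mul_one] at h
  exact h

theorem root_ne_zero (hf0 : f.coeff 0 ≠ 0) [Fact (Irreducible f)] : AdjoinRoot.root f ≠ 0 := by
  intro h0
  have := AdjoinRoot.eval₂_root f
  rw [h0, eval₂_at_zero] at this
  exact hf0 ((map_eq_zero (AdjoinRoot.of f)).1 this)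

theorem exists_pow_root (hf0 : f.coeff 0 ≠ 0) [Fact (Irreducible f)] :
    ∃ N : ℕ, (N : F) ≠ 0 ∧ AdjoinRoot.root f ^ N = 1 := by
  classical
  haveI : FiniteDimensional F (AdjoinRoot f) := (AdjoinRoot.powerBasis (Fact.out : Irreducible f).ne_zero).finite
  haveI : Finite (AdjoinRoot f) := Module.finite_of_finite F
  haveI : Fintype (AdjoinRoot f) := Fintype.ofFinite _
  refine ⟨Fintype.card (AdjoinRoot f) - 1, fun h0 => ?_, FiniteField.pow_card_sub_one_eq_one _ (root_ne_zero hf0)⟩
  have h1 := congrArg (algebraMap F (AdjoinRoot f)) h0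
  rw [map_natCast, map_zero, Nat.cast_sub Fintype.card_pos, Nat.cast_one, FiniteField.cast_card_eq_zero,
    zero_sub, neg_eq_zero] at h1
  exact one_ne_zero h1

/-- A hyperbolic pair of blocks. -/
theorem sympReal_pair (hfm : f.Monic) (hf : Irreducible f) (hf0 : f.coeff 0 ≠ 0) :
    SympReal (f * dualPoly (RingHom.id F) f) := by
  haveI : Fact (Irreducible f) := ⟨hf⟩
  haveI : FiniteDimensional F (AdjoinRoot f) := (AdjoinRoot.powerBasis hf.ne_zero).finite
  haveI : Finite (AdjoinRoot f) := Module.finite_of_finite F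
  haveI : Algebra.IsAlgebraic F (AdjoinRoot f) := Algebra.IsAlgebraic.of_finite F _
  set E := AdjoinRoot f
  set x := AdjoinRoot.root f
  have hx0 : x ≠ 0 := root_ne_zero hf0
  obtain ⟨N, hN, hxN⟩ := exists_pow_root hf0
  set T := Algebra.traceForm F E
  let D : BilinForm F (E × E) := T.compl₁₂ (LinearMap.fst F E E) (LinearMap.snd F E E) -
    T.compl₁₂ (LinearMap.snd F E E) (LinearMap.fst F E E)
  have hD : ∀ a b : E × E, D a b = Algebra.trace F E (a.1 * b.2) - Algebra.trace F E (a.2 * b.1) := fun _ _ => rfl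
  have hnd := traceForm_nondegenerate F E
  refine ⟨E × E, inferInstance, inferInstance, inferInstance, D,
    LinearMap.prodMap (Algebra.lmul F E x) (Algebra.lmul F E x⁻¹), N, fun a => by rw [hD, mul_comm, sub_self],
    ⟨fun a ha => ?_, fun a ha => ?_⟩, fun a b => ?_, ?_, hN, ?_⟩
  · refine Prod.ext (hnd.1 _ fun w => ?_) (hnd.1 _ fun w => ?_)
    · simpa [hD] using ha (0, w)
    · simpa [hD] using ha (w, 0)
  · refine Prod.ext (hnd.2 _ fun w => ?_) (hnd.2 _ fun w => ?_)
    · simpa [hD] using ha (0, w)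
    · simpa [hD] using ha (w, 0)
  · rw [hD, hD]
    simp only [LinearMap.prodMap_apply, Algebra.coe_lmul_eq_mul, LinearMap.mul_apply_apply]
    rw [show x * a.1 * (x⁻¹ * b.2) = x * x⁻¹ * (a.1 * b.2) by ring,
      show x⁻¹ * a.2 * (x * b.1) = x * x⁻¹ * (a.2 * b.1) by ring, mul_inv_cancel₀ hx0, one_mul, one_mul]
  · rw [prodMap_pow_eq, ← map_pow, ← map_pow, inv_pow, hxN, inv_one, map_one]
    exact LinearMap.ext fun _ => rfl
  · rw [LinearMap.charpoly_prodMap, end_charpoly_of_mul_eq_one (a := Algebra.lmul F E x)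
      (b := Algebra.lmul F E x⁻¹) (by rw [← map_mul, inv_mul_cancel₀ hx0, map_one]), charpoly_lmul_root hfm]

/-- The involution of the field of a self-reciprocal polynomial. -/
theorem exists_field_involution [Fact (Irreducible f)] (hf0 : f.coeff 0 ≠ 0) (hd : dualPoly (RingHom.id F) f = f) :
    ∃ ι : AdjoinRoot f ≃ₐ[F] AdjoinRoot f, ι (AdjoinRoot.root f) = (AdjoinRoot.root f)⁻¹ ∧ ∀ z, ι (ι z) = z := by
  set x := AdjoinRoot.root f
  haveI : Invertible x := invertibleOfNonzero (root_ne_zero hf0)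
  have h0 : f.eval₂ (algebraMap F (AdjoinRoot f)) x⁻¹ = 0 := by
    have hd' : f.eval₂ (algebraMap F (AdjoinRoot f)) x⁻¹ =
        (dualPoly (RingHom.id F) f).eval₂ (algebraMap F (AdjoinRoot f)) x⁻¹ :=
      congrArg (Polynomial.eval₂ (algebraMap F (AdjoinRoot f)) x⁻¹) hd.symm
    rw [hd', dualPoly, eval₂_mul, Polynomial.map_id, eval₂_C]
    rw [show x⁻¹ = ⅟x from (invOf_eq_inv x).symm, (eval₂_reverse_eq_zero_iff _ _ _).2, mul_zero]
    rw [AdjoinRoot.algebraMap_eq]
    exact AdjoinRoot.eval₂_root f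
  let φ : AdjoinRoot f →ₐ[F] AdjoinRoot f := AdjoinRoot.liftAlgHom f (Algebra.ofId F _) x⁻¹ h0
  have hφ : φ x = x⁻¹ := AdjoinRoot.lift_root (i := algebraMap F (AdjoinRoot f)) h0
  have hφφ : φ.comp φ = AlgHom.id F _ := AdjoinRoot.algHom_ext (by
    show φ (φ x) = x
    rw [hφ, map_inv₀, hφ, inv_inv])
  exact ⟨AlgEquiv.ofAlgHom φ φ hφφ hφφ, hφ, fun z => AlgHom.congr_fun hφφ z⟩

/-- A self-reciprocal block without the roots `±1`. -/
theorem sympReal_self (hfm : f.Monic) (hf : Irreducible f) (hf0 : f.coeff 0 ≠ 0)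
    (hd : dualPoly (RingHom.id F) f = f) (h1 : ∀ c : F, c * c = 1 → f.eval c ≠ 0) : SympReal f := by
  haveI : Fact (Irreducible f) := ⟨hf⟩
  haveI : FiniteDimensional F (AdjoinRoot f) := (AdjoinRoot.powerBasis hf.ne_zero).finite
  haveI : Finite (AdjoinRoot f) := Module.finite_of_finite F
  haveI : Algebra.IsAlgebraic F (AdjoinRoot f) := Algebra.IsAlgebraic.of_finite F _
  set E := AdjoinRoot f
  set x := AdjoinRoot.root f
  have hx0 : x ≠ 0 := root_ne_zero hf0
  obtain ⟨N, hN, hxN⟩ := exists_pow_root hf0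
  obtain ⟨ι, hιx, hιι⟩ := exists_field_involution hf0 hd
  set θ := x - ι x
  have hθ : θ ≠ 0 := by
    intro h
    have h2 : x * x = 1 := by
      have h' : x = x⁻¹ := (sub_eq_zero.1 h).trans hιx
      calc x * x = x * x⁻¹ := by rw [← h']
        _ = 1 := mul_inv_cancel₀ hx0
    obtain ⟨c, hc⟩ : ∃ c : F, algebraMap F E c = x := by
      rcases mul_self_eq_one_iff.1 h2 with e | e
      · exact ⟨1, by rw [e, map_one]⟩
      · exact ⟨-1, by rw [e, map_neg, map_one]⟩
    refine h1 c ((algebraMap F E).injective (by rw [map_mul, map_one, hc, h2])) ((algebraMap F E).injective ?_)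
    rw [map_zero, ← eval₂_at_apply, hc, AdjoinRoot.algebraMap_eq]
    exact AdjoinRoot.eval₂_root f
  have hnd := traceForm_nondegenerate F E
  let B : BilinForm F E := (Algebra.traceForm F E).compl₁₂ (Algebra.lmul F E θ) ι.toLinearMap
  have hB : ∀ a b, B a b = Algebra.trace F E (θ * a * ι b) := fun _ _ => rfl
  refine ⟨E, inferInstance, inferInstance, inferInstance, B, Algebra.lmul F E x, N, fun a => ?_,
    ⟨fun a ha => ?_, fun a ha => ?_⟩, fun a b => ?_, ?_, hN, charpoly_lmul_root hfm⟩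
  · have e : θ * a * ι a = x * (a * ι a) - ι (x * (a * ι a)) := by
      rw [map_mul, map_mul, hιι]; ring
    rw [hB, e, map_sub, Algebra.trace_eq_of_algEquiv, sub_self]
  · refine (mul_eq_zero.1 (hnd.1 (θ * a) fun w => ?_)).resolve_left hθ
    have := ha (ι w)
    rwa [hB, hιι] at this
  · refine ι.injective ((hnd.2 (ι a) fun w => ?_).trans (map_zero ι).symm)
    have := ha (θ⁻¹ * w)
    rwa [hB, ← mul_assoc, mul_inv_cancel₀ hθ, one_mul] at this
  · rw [hB, hB]
    simp only [Algebra.coe_lmul_eq_mul, LinearMap.mul_apply_apply, map_mul, hιx]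
    rw [show ι x = x⁻¹ from hιx, show θ * (x * a) * (x⁻¹ * ι b) = x * x⁻¹ * (θ * a * ι b) by ring, mul_inv_cancel₀ hx0, one_mul]
  · rw [← map_pow, hxN, map_one]

end Blocks

/-- A root `±1` of an anti-symmetric polynomial. -/
theorem eval_eq_zero_of_dual {u : F[X]} {c : F} (hc : c * c = 1) (hu : dualPoly (RingHom.id F) u = u)
    (h0 : u.coeff 0 = -c) (hodd : Odd u.natDegree) : u.eval c = 0 := by
  obtain ⟨k, hk⟩ := hodd
  have hci : (-c)⁻¹ = -c := inv_eq_of_mul_eq_one_right (by rw [neg_mul_neg, hc])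
  have hsym : ∀ j, j ≤ u.natDegree → u.coeff j = -c * u.coeff (u.natDegree - j) := by
    intro j hj
    conv_lhs => rw [← hu, coeff_dualPoly, h0, RingHom.id_apply, RingHom.id_apply, hci, revAt_le hj]
  have hc2 : ∀ j, c ^ (2 * j) = 1 := fun j => by rw [pow_mul, pow_two, hc, one_pow]
  rw [eval_eq_sum_range]
  refine Finset.sum_involution (fun j _ => u.natDegree - j) (fun j hj => ?_) (fun j hj _ => ?_)
    (fun j hj => Finset.mem_range.2 (by omega)) fun j hj => ?_
  · rw [Finset.mem_range] at hj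
    have e : c ^ (u.natDegree - j) = c * c ^ j := by
      have : c ^ (u.natDegree - j) * c ^ (2 * j) = c ^ (2 * k) * (c * c ^ j) := by
        rw [← pow_add, ← pow_succ', ← pow_add]
        congr 1
        omega
      rwa [hc2, hc2, mul_one, one_mul] at this
    rw [hsym j (by omega), e]
    ring
  · omega
  · rw [Finset.mem_range] at hj
    omega

variable [Finite F] {p : ℕ} [Fact p.Prime] [CharP F p]

include p in
theorem SympReal.invariants {χ : F[X]} (h : SympReal χ) : Even χ.natDegree ∧ χ.coeff 0 = 1 := by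
  obtain ⟨m, A, hm, -, rfl⟩ := h.exists_symplectic (p := p)
  refine ⟨⟨m, by omega⟩, ?_⟩
  have h := Matrix.det_eq_sign_charpoly_coeff (A : Matrix (Fin m ⊕ Fin m) (Fin m ⊕ Fin m) F)
  rw [SymplecticGroup.det_eq_one A.2, (show Even (Fintype.card (Fin m ⊕ Fin m)) from ⟨m, by simp⟩).neg_one_pow,
    one_mul] at h
  exact h.symm

include p in
/-- Every self-reciprocal polynomial of even degree with constant term `1` occurs in `Sp`. -/
theorem sympReal_of_dual (n : ℕ) : ∀ χ : F[X], χ.natDegree = n → Even n → χ.Monic → χ.coeff 0 = 1 →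
    dualPoly (RingHom.id F) χ = χ → SympReal χ := by
  induction n using Nat.strong_induction_on with
  | _ n ih =>
  intro χ hn hev hm h0 hd
  rcases Nat.eq_zero_or_pos n with rfl | hpos
  · rw [eq_one_of_monic_natDegree_zero hm hn]; exact SympReal.one
  -- remove a realisable self-dual factor
  have step : ∀ g w : F[X], χ = g * w → g.Monic → SympReal g → 0 < g.natDegree →
      dualPoly (RingHom.id F) g = g → SympReal χ := by
    intro g w e hgm hg hgd hgdual
    obtain ⟨hge, hg0⟩ := hg.invariants (p := p)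
    have hwm : w.Monic := hgm.of_mul_monic_left (e ▸ hm)
    have hw0 : w.coeff 0 = 1 := by rw [e, mul_coeff_zero, hg0, one_mul] at h0; exact h0
    have hwd : dualPoly (RingHom.id F) w = w := by
      rw [e, dualPoly_mul, hgdual] at hd
      exact mul_left_cancel₀ hgm.ne_zero hd
    have hsum : g.natDegree + w.natDegree = n := by rw [← hn, e, hgm.natDegree_mul hwm]
    rw [e]
    refine hg.mul (ih w.natDegree (by omega) w rfl ?_ hwm hw0 hwd)
    have := hsum ▸ hev
    exact (Nat.even_add.1 this).1 hge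
  by_cases hroot : ∃ c : F, c * c = 1 ∧ χ.eval c = 0
  · obtain ⟨c, hc, hev0⟩ := hroot
    have hc0 : c ≠ 0 := left_ne_zero_of_mul_eq_one hc
    set L : F[X] := X - C c
    have hLm : L.Monic := monic_X_sub_C c
    have hL0 : L.coeff 0 = -c := by simp [L]
    have hLd : dualPoly (RingHom.id F) L = L := by
      have h1 : L.coeff 0 ≠ 0 := hL0 ▸ neg_ne_zero.2 hc0
      rw [(monic_dualPoly _ h1).eq_X_add_C (by rw [natDegree_dualPoly _ h1, natDegree_X_sub_C]),
        dualPoly_coeff_zero _ hLm, hL0, RingHom.id_apply, inv_eq_of_mul_eq_one_right (show -c * -c = 1 by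
          rw [neg_mul_neg, hc]), C_neg, ← sub_eq_add_neg]
    obtain ⟨u, hu⟩ := dvd_iff_isRoot.2 (show χ.IsRoot c from hev0)
    have hum : u.Monic := hLm.of_mul_monic_left (hu ▸ hm)
    have hu0 : u.coeff 0 = -c := by
      rw [hu, mul_coeff_zero, hL0] at h0
      calc u.coeff 0 = (-c * -c) * u.coeff 0 := by rw [neg_mul_neg, hc, one_mul]
        _ = -c := by rw [mul_assoc, h0, mul_one]
    have hud : dualPoly (RingHom.id F) u = u := by
      rw [hu, dualPoly_mul, hLd] at hd
      exact mul_left_cancel₀ hLm.ne_zero hd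
    have hudeg : Odd u.natDegree := by
      have : L.natDegree + u.natDegree = n := by rw [← hn, hu, hLm.natDegree_mul hum]
      rw [natDegree_X_sub_C] at this
      obtain ⟨j, hj⟩ := hev
      exact ⟨j - 1, by omega⟩
    obtain ⟨w, hw⟩ := dvd_iff_isRoot.2 (show u.IsRoot c from eval_eq_zero_of_dual hc hud hu0 hudeg)
    refine step (L * L) w (by rw [hu, hw, mul_assoc]) (hLm.mul hLm) ?_ ?_ (by rw [dualPoly_mul, hLd])
    · have := sympReal_pair hLm (irreducible_X_sub_C c) (hL0 ▸ neg_ne_zero.2 hc0)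
      rwa [hLd] at this
    · rw [hLm.natDegree_mul hLm, natDegree_X_sub_C]; omega
  · push Not at hroot
    obtain ⟨f, hfm, hf, ⟨u, hu⟩⟩ := Polynomial.exists_monic_irreducible_factor χ fun h => by
      rw [natDegree_eq_zero_of_isUnit h] at hn; omega
    have hf0 : f.coeff 0 ≠ 0 := fun h => by rw [hu, mul_coeff_zero, h, zero_mul] at h0; exact zero_ne_one h0
    by_cases hff : dualPoly (RingHom.id F) f = f
    · exact step f u hu hfm (sympReal_self hfm hf hf0 hff fun c hc h => hroot c hc (by rw [hu, eval_mul, h, zero_mul]))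
        hf.natDegree_pos hff
    · have hdi := irreducible_dualPoly (RingHom.id F) (fun _ => rfl) hfm hf hf0
      have hdm := monic_dualPoly (RingHom.id F) hf0
      have hdvd : dualPoly (RingHom.id F) f ∣ f * u := by
        rw [← hu, ← hd, hu, dualPoly_mul]
        exact dvd_mul_right _ _
      obtain ⟨w, hw⟩ := (hdi.prime.dvd_mul.1 hdvd).resolve_left fun h =>
        hff (eq_of_monic_of_associated hdm hfm (hdi.associated_of_dvd hf h))
      refine step (f * dualPoly (RingHom.id F) f) w (by rw [hu, hw, mul_assoc]) (hfm.mul hdm)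
        (sympReal_pair hfm hf hf0) ?_ ?_
      · rw [hfm.natDegree_mul hdm]; have := hf.natDegree_pos; omega
      · rw [dualPoly_mul, dualPoly_dualPoly _ (fun _ => rfl) hfm hf0, mul_comm]

omit [Fact p.Prime] [CharP F p] in
theorem dualPoly_charpoly_sp {m : ℕ} (A : Matrix.symplecticGroup (Fin m) F) :
    dualPoly (RingHom.id F) (A : Matrix (Fin m ⊕ Fin m) (Fin m ⊕ Fin m) F).charpoly =
      (A : Matrix (Fin m ⊕ Fin m) (Fin m ⊕ Fin m) F).charpoly := by
  set M := (A : Matrix (Fin m ⊕ Fin m) (Fin m ⊕ Fin m) F)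
  set J := Matrix.J (Fin m) F
  have hinv : ((A⁻¹ : Matrix.symplecticGroup (Fin m) F) : Matrix (Fin m ⊕ Fin m) (Fin m ⊕ Fin m) F) * M = 1 :=
    congrArg Subtype.val (inv_mul_cancel A)
  rw [← charpoly_of_mul_eq_one hinv, SymplecticGroup.coe_inv, Matrix.charpoly_mul_comm, ← mul_assoc]
  rw [mul_neg, Matrix.J_squared, neg_neg, one_mul, Matrix.charpoly_transpose]

/-- The number of semisimple classes of `Sp`. -/
theorem sp_semisimple_count [Fintype F] {q : ℕ} (hq : Fintype.card F = q) (n : ℕ) :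
    Nat.card {c : ConjClasses ↥(Matrix.symplecticGroup (Fin n) F) //
      ∃ g : ↥(Matrix.symplecticGroup (Fin n) F), ConjClasses.mk g = c ∧ (orderOf g).Coprime p} = q ^ n := by
  classical
  let P := {χ : F[X] // (χ.Monic ∧ χ.natDegree = 2 * n) ∧ χ.coeff 0 = 1 ∧ dualPoly (RingHom.id F) χ = χ}
  have hP : Nat.card P = q ^ n := by
    let f : P → (Fin n → F) := fun χ k => χ.1.coeff ((k : ℕ) + 1)
    have hsym : ∀ (χ : P) j, j ≤ 2 * n → χ.1.coeff j = χ.1.coeff (2 * n - j) := fun χ j hj => by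
      conv_lhs => rw [← χ.2.2.2, coeff_dualPoly, χ.2.2.1, map_one, inv_one, one_mul, RingHom.id_apply,
        χ.2.1.2, revAt_le hj]
    rw [← hq, Nat.card_congr (Equiv.ofBijective f ⟨fun χ χ' h => Subtype.ext (Polynomial.ext fun j => ?_), fun c => ?_⟩),
      Nat.card_fun, Nat.card_fin, Nat.card_eq_fintype_card]
    · have low : ∀ i, i ≤ n → χ.1.coeff i = χ'.1.coeff i := fun i hi => by
        rcases Nat.eq_zero_or_pos i with rfl | h0
        · rw [χ.2.2.1, χ'.2.2.1]
        · have := congrFun h ⟨i - 1, by omega⟩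
          simpa [f, Nat.sub_add_cancel h0] using this
      rcases Nat.lt_or_ge (2 * n) j with hj | hj
      · rw [coeff_eq_zero_of_natDegree_lt (by rw [χ.2.1.2]; exact hj),
          coeff_eq_zero_of_natDegree_lt (by rw [χ'.2.1.2]; exact hj)]
      rcases Nat.lt_or_ge n j with hj' | hj'
      · rw [hsym χ j hj, hsym χ' j hj]; exact low _ (by omega)
      · exact low j hj'
    · let e : {χ : F[X] // χ.Monic ∧ χ.natDegree = 2 * n} ≃ (Fin (2 * n) → F) :=
        (monicEquivDegreeLT (2 * n)).trans (degreeLTEquiv F (2 * n)).toEquiv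
      have he : ∀ (χ : {χ : F[X] // χ.Monic ∧ χ.natDegree = 2 * n}) (i : Fin (2 * n)), e χ i = χ.1.coeff i := by
        intro χ i
        show (χ.1.eraseLead).coeff i = _
        rw [eraseLead_coeff, if_neg (by rw [χ.2.2]; omega)]
      let v : Fin (2 * n) → F := fun i =>
        if hi : (i : ℕ) = 0 then 1
        else if hin : (i : ℕ) ≤ n then c ⟨i - 1, by omega⟩ else c ⟨2 * n - i - 1, by omega⟩
      set χ := e.symm v
      have hco : ∀ i : Fin (2 * n), χ.1.coeff i = v i := fun i => by rw [← he, e.apply_symm_apply]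
      have hlead : χ.1.coeff (2 * n) = 1 := by
        have := χ.2.1.coeff_natDegree
        rwa [χ.2.2] at this
      have h0 : χ.1.coeff 0 = 1 := by
        rcases Nat.eq_zero_or_pos n with rfl | hn
        · exact hlead
        · exact (hco ⟨0, by omega⟩).trans (dif_pos rfl)
      have hd : dualPoly (RingHom.id F) χ.1 = χ.1 := by
        ext j
        rcases Nat.lt_or_ge (2 * n) j with hj | hj
        · rw [coeff_eq_zero_of_natDegree_lt (by rw [natDegree_dualPoly _ (h0 ▸ one_ne_zero), χ.2.2]; exact hj),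
            coeff_eq_zero_of_natDegree_lt (by rw [χ.2.2]; exact hj)]
        rw [coeff_dualPoly, h0, map_one, inv_one, one_mul, RingHom.id_apply, χ.2.2, revAt_le hj]
        rcases Nat.eq_zero_or_pos j with rfl | hj0
        · rw [Nat.sub_zero, hlead, h0]
        rcases eq_or_lt_of_le hj with rfl | hj'
        · rw [Nat.sub_self, hlead, h0]
        rw [hco ⟨2 * n - j, by omega⟩, hco ⟨j, hj'⟩]
        simp only [v, Fin.val_mk]
        rw [dif_neg (by omega : ¬ 2 * n - j = 0), dif_neg (by omega : ¬ j = 0)]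
        split_ifs <;> congr 2 <;> omega
      refine ⟨⟨χ.1, χ.2, h0, hd⟩, funext fun k => ?_⟩
      show χ.1.coeff ((k : ℕ) + 1) = c k
      rw [hco ⟨(k : ℕ) + 1, by omega⟩]
      simp only [v, Fin.val_mk]
      rw [dif_neg (Nat.succ_ne_zero _), dif_pos (by omega : (k : ℕ) + 1 ≤ n)]
      exact congrArg c (Fin.ext (Nat.add_sub_cancel _ _))
  rw [← hP]
  choose r hr hrp using fun c : {c : ConjClasses ↥(Matrix.symplecticGroup (Fin n) F) //
    ∃ g : ↥(Matrix.symplecticGroup (Fin n) F), ConjClasses.mk g = c ∧ (orderOf g).Coprime p} => c.2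
  have hdeg : ∀ g : Matrix.symplecticGroup (Fin n) F,
      (g : Matrix (Fin n ⊕ Fin n) (Fin n ⊕ Fin n) F).charpoly.natDegree = 2 * n := fun g => by
    rw [Matrix.charpoly_natDegree_eq_dim, Fintype.card_sum, Fintype.card_fin, two_mul]
  have hc0 : ∀ g : Matrix.symplecticGroup (Fin n) F,
      (g : Matrix (Fin n ⊕ Fin n) (Fin n ⊕ Fin n) F).charpoly.coeff 0 = 1 := fun g => by
    have h := Matrix.det_eq_sign_charpoly_coeff (g : Matrix (Fin n ⊕ Fin n) (Fin n ⊕ Fin n) F)
    rw [SymplecticGroup.det_eq_one g.2, (show Even (Fintype.card (Fin n ⊕ Fin n)) from ⟨n, by simp⟩).neg_one_pow,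
      one_mul] at h
    exact h.symm
  refine Nat.card_congr (Equiv.ofBijective (fun c => (⟨_, ⟨Matrix.charpoly_monic _, hdeg (r c)⟩, hc0 _,
    dualPoly_charpoly_sp _⟩ : P)) ⟨fun c c' h => ?_, fun χ => ?_⟩)
  · apply Subtype.ext
    rw [← hr c, ← hr c']
    exact ConjClasses.mk_eq_mk_iff_isConj.2 (sp_isConj_of_charpoly _ _ (hrp c) (hrp c') (congrArg Subtype.val h))
  · obtain ⟨m, A, hm, hA, hAc⟩ := (sympReal_of_dual (p := p) (2 * n) χ.1 χ.2.1.2 (even_two_mul n) χ.2.1.1 χ.2.2.1
      χ.2.2.2).exists_symplectic (p := p)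
    obtain rfl : m = n := by rw [χ.2.1.2] at hm; omega
    refine ⟨⟨ConjClasses.mk A, A, rfl, hA⟩, Subtype.ext ?_⟩
    obtain ⟨k, hk⟩ := isConj_iff.1 (ConjClasses.mk_eq_mk_iff_isConj.1 (hr ⟨ConjClasses.mk A, A, rfl, hA⟩))
    show (r _ : Matrix (Fin m ⊕ Fin m) (Fin m ⊕ Fin m) F).charpoly = χ.1
    refine Eq.trans ?_ ((congrArg (fun B : Matrix.symplecticGroup (Fin m) F =>
      (B : Matrix (Fin m ⊕ Fin m) (Fin m ⊕ Fin m) F).charpoly) hk).trans hAc)
    show _ = Matrix.charpoly _
    rw [Submonoid.coe_mul, Submonoid.coe_mul, Matrix.charpoly_mul_comm, ← mul_assoc,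
      ← Submonoid.coe_mul, inv_mul_cancel, OneMemClass.coe_one, one_mul]

end CfsgLib.Classical.ClassTheory
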