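import Cfsg.Agent.Lib.Classical.ClassTheory.NormRing
import Cfsg.Agent.Lib.Classical.Unitary.Matrix
import Cfsg.Agent.Lib.Known.UnipotentClasses
import Cfsg.Agent.Lib.Known.TransposeSimilar

/-!
# Conjugacy in `GU` is conjugacy in `GL`; which classes meet `GU`
-/

set_option autoImplicit false

namespace CfsgLib.Classical.ClassTheory

open scoped Matrix
open CfsgLib.Classical.Herm

section Star

variable {K : Type*} [Field K] {ι : Type*} [Fintype ι] [DecidableEq ι] (σ : K →+* K)

/-- The conjugate transpose for a field endomorphism. -/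
def sstar (M : Matrix ι ι K) : Matrix ι ι K := (M.map σ)ᵀ

omit [DecidableEq ι] in
theorem sstar_mul (M N : Matrix ι ι K) : sstar σ (M * N) = sstar σ N * sstar σ M := by
  rw [sstar, Matrix.map_mul, Matrix.transpose_mul]
  rfl

omit [Fintype ι] [DecidableEq ι] in
theorem sstar_add (M N : Matrix ι ι K) : sstar σ (M + N) = sstar σ M + sstar σ N := by
  ext i j
  simp [sstar]

omit [Fintype ι] in
theorem sstar_one : sstar σ (1 : Matrix ι ι K) = 1 := by
  ext i j
  by_cases h : i = j
  · subst h; simp [sstar]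
  · simp [sstar, Matrix.one_apply_ne h, Matrix.one_apply_ne (Ne.symm h)]

omit [Fintype ι] [DecidableEq ι] in
theorem sstar_sstar (hσ : ∀ a, σ (σ a) = a) (M : Matrix ι ι K) : sstar σ (sstar σ M) = M := by
  ext i j
  simp [sstar, hσ]

theorem sstar_scalar (c : K) : sstar σ (Matrix.scalar ι c) = Matrix.scalar ι (σ c) := by
  ext i j
  by_cases h : i = j
  · subst h; simp [sstar]
  · simp [sstar, h, Ne.symm h]

/-- The conjugate transpose of a unit. -/
def ustar (u : (Matrix ι ι K)ˣ) : (Matrix ι ι K)ˣ where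
  val := sstar σ (u : Matrix ι ι K)
  inv := sstar σ ((u⁻¹ : (Matrix ι ι K)ˣ) : Matrix ι ι K)
  val_inv := by rw [← sstar_mul, Units.inv_mul, sstar_one]
  inv_val := by rw [← sstar_mul, Units.mul_inv, sstar_one]

theorem ustar_mul (u v : (Matrix ι ι K)ˣ) : ustar σ (u * v) = ustar σ v * ustar σ u :=
  Units.ext (sstar_mul σ _ _)

theorem ustar_inv (u : (Matrix ι ι K)ˣ) : ustar σ u⁻¹ = (ustar σ u)⁻¹ := Units.ext rfl

theorem ustar_ustar (hσ : ∀ a, σ (σ a) = a) (u : (Matrix ι ι K)ˣ) : ustar σ (ustar σ u) = u :=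
  Units.ext (sstar_sstar σ hσ _)

variable [Finite K] (hσ : IsInvol σ)

omit [Finite K] in
include hσ in
theorem exists_scalar_theta : ∃ θ : K, IsUnit (Matrix.scalar ι θ - sstar σ (Matrix.scalar ι θ)) := by
  obtain ⟨θ, hθ⟩ : ∃ θ, σ θ ≠ θ := by
    by_contra hc
    push Not at hc
    exact hσ.ne_id (RingHom.ext hc)
  refine ⟨θ, ?_⟩
  rw [sstar_scalar, ← map_sub]
  exact (IsUnit.mk0 _ (sub_ne_zero.2 (Ne.symm hθ))).map _

include hσ in
/-- A Hermitian unit is `D⋆ D` with `D` in its double centraliser. -/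
theorem exists_sstar_mul_self (C : (Matrix ι ι K)ˣ) (hC : ustar σ C = C) :
    ∃ D : (Matrix ι ι K)ˣ, ustar σ D * D = C ∧ ∀ y, Commute C y → Commute D y := by
  obtain ⟨θ, hθ⟩ := exists_scalar_theta (ι := ι) σ hσ
  have hs : ∀ y, Commute (Matrix.scalar ι θ) y := Matrix.scalar_commute θ (Commute.all θ)
  have hs' : ∀ y, Commute (sstar σ (Matrix.scalar ι θ)) y := fun y => by
    rw [sstar_scalar]
    exact Matrix.scalar_commute _ (Commute.all _) y
  obtain ⟨d, hd, hdc, hcomm⟩ := exists_star_mul_self (sstar σ) (sstar_add σ) (sstar_mul σ) (sstar_one σ)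
    (sstar_sstar σ hσ.invol) (congrArg Units.val hC) C.isUnit (hs _).symm (hs _) hθ
  refine ⟨hd.unit, Units.ext hdc, fun y hy => Units.ext ?_⟩
  exact hcomm (y : Matrix ι ι K) (congrArg Units.val hy.eq) (hs _) (hs' _)

include hσ in
/-- An invertible element twisted-invariant under the conjugate transpose gives a Hermitian one. -/
theorem exists_herm_invariant (A P : (Matrix ι ι K)ˣ) (hP : ustar σ A * P * A = P) :
    ∃ H : (Matrix ι ι K)ˣ, ustar σ H = H ∧ ustar σ A * H * A = H := by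
  have hP' : ustar σ A * ustar σ P * A = ustar σ P := by
    conv_rhs => rw [← hP, ustar_mul, ustar_mul, ustar_ustar σ hσ.invol, ← mul_assoc]
  set x := P⁻¹ * ustar σ P with hx
  have hxA : Commute x A := by
    show x * A = A * x
    have e1 : ustar σ P * A = (ustar σ A)⁻¹ * ustar σ P := by
      rw [eq_inv_mul_iff_mul_eq, ← mul_assoc, hP']
    have e2 : A * P⁻¹ = P⁻¹ * (ustar σ A)⁻¹ := by
      rw [← mul_inv_rev, eq_inv_iff_mul_eq_one, mul_assoc]
      calc A * (P⁻¹ * (ustar σ A * P)) = A * (P⁻¹ * (ustar σ A * P * A)) * A⁻¹ := by group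
        _ = 1 := by rw [hP]; group
    rw [hx, mul_assoc, e1, ← mul_assoc, ← e2, mul_assoc]
  let τ : Matrix ι ι K → Matrix ι ι K := fun X =>
    ((P⁻¹ : (Matrix ι ι K)ˣ) : Matrix ι ι K) * sstar σ X * (P : Matrix ι ι K)
  have hττ : ∀ X, τ (τ X) = (x : Matrix ι ι K) * X * ((x⁻¹ : (Matrix ι ι K)ˣ) : Matrix ι ι K) := fun X => by
    simp only [τ, sstar_mul, sstar_sstar σ hσ.invol, hx, mul_inv_rev, inv_inv, Units.val_mul, mul_assoc,
      ← ustar_inv]
    rfl
  have hτx : τ (x : Matrix ι ι K) = ((x⁻¹ : (Matrix ι ι K)ˣ) : Matrix ι ι K) := by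
    show ((P⁻¹ * ustar σ x * P : (Matrix ι ι K)ˣ) : Matrix ι ι K) = _
    rw [hx, ustar_mul, ustar_ustar σ hσ.invol, ustar_inv]
    congr 1
    group
  obtain ⟨θ, hθ⟩ := exists_scalar_theta (ι := ι) σ hσ
  have hs : ∀ c y, Commute (Matrix.scalar ι c) y := fun c => Matrix.scalar_commute (c : K) (Commute.all c)
  have hτθ : τ (Matrix.scalar ι θ) = sstar σ (Matrix.scalar ι θ) := by
    simp only [τ]
    rw [sstar_scalar, ← (hs _ _).eq, mul_assoc, Units.inv_mul, mul_one]
  have hxmem : ∀ {t : Set (Matrix ι ι K)}, (x : Matrix ι ι K) ∈ t →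
      ((x⁻¹ : (Matrix ι ι K)ˣ) : Matrix ι ι K) ∈
        Subring.centralizer (Subring.centralizer t : Set (Matrix ι ι K)) := fun ht =>
    Subring.mem_centralizer_iff.2 fun y hy =>
      (Commute.units_inv_left (Subring.mem_centralizer_iff.1 hy _ ht)).symm
  have hTc : ∀ a ∈ ({(x : Matrix ι ι K), Matrix.scalar ι θ} : Set (Matrix ι ι K)),
      ∀ b ∈ ({(x : Matrix ι ι K), Matrix.scalar ι θ} : Set (Matrix ι ι K)), Commute a b := by
    rintro a (rfl | rfl) b (rfl | rfl)
    exacts [Commute.refl _, (hs _ _).symm, hs _ _, Commute.refl _]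
  obtain ⟨y, hy, hyu, hxy⟩ := (exists_comm_model τ
    (fun a b => by simp only [τ, sstar_add, mul_add, add_mul])
    (fun a b => by simp only [τ, sstar_mul, mul_assoc, Units.mul_inv_cancel_left])
    (by simp only [τ, sstar_one, mul_one, Units.inv_mul])
    (fun a b h => by
      have h1 := congrArg (fun X => τ X) h
      simpa only [hττ, Units.mul_left_inj, Units.mul_right_inj] using h1)
    hTc (by
      rintro a (rfl | rfl)
      · rw [hτx]; exact hxmem (Set.mem_insert _ _)
      · rw [hτθ, sstar_scalar]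
        exact Subring.mem_centralizer_iff.2 fun z _ => ((hs _ z).eq).symm)
    (fun z hz => by
      rw [hττ, double_centralizer_commute hTc (subset_double_centralizer (Set.mem_insert _ _)) hz,
        mul_assoc, Units.mul_inv, mul_one])
    (θ := Matrix.scalar ι θ) (Set.mem_insert_of_mem _ rfl) (by rw [hτθ]; exact hθ)).2
    (x : Matrix ι ι K) (subset_double_centralizer (Set.mem_insert _ _))
    (by rw [hτx, Units.inv_mul])
  have hyA : Commute y (A : Matrix ι ι K) := commute_of_mem_double_centralizer hy (by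
    rintro t (rfl | rfl)
    · exact congrArg Units.val hxA.eq
    · exact hs _ _)
  have hyx : Commute (x : Matrix ι ι K) (τ y) := by
    refine double_centralizer_commute hTc (subset_double_centralizer (Set.mem_insert _ _)) ?_
    have e : τ y = ((x⁻¹ : (Matrix ι ι K)ˣ) : Matrix ι ι K) * y := by
      rw [← Units.mul_right_inj x, Units.mul_inv_cancel_left, hxy]
    rw [e]
    exact Subring.mul_mem _ (hxmem (Set.mem_insert _ _)) hy
  refine ⟨P * hyu.unit, Units.ext ?_, ?_⟩
  · show sstar σ ((P : Matrix ι ι K) * y) = (P : Matrix ι ι K) * y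
    rw [sstar_mul]
    conv_rhs => rw [← hxy, hyx.eq, hx]
    simp only [τ, Units.val_mul, mul_assoc, Units.mul_inv_cancel_left]
    rfl
  · have h1 : hyu.unit * A = A * hyu.unit := Units.ext hyA.eq
    rw [mul_assoc, mul_assoc P, h1, ← mul_assoc, ← mul_assoc, hP]

end Star

section GU

variable {K : Type*} [Field K] [Fintype K] {q n : ℕ} (hK : Fintype.card K = q ^ 2)

theorem mem_GU_iff (g : GL (Fin n) K) :
    g ∈ Cfsg.GU n K q ↔ ustar (powHom hK) g * g = 1 := by
  set M := (g : Matrix (Fin n) (Fin n) K) with hM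
  have hq : q ≠ 0 := by have := two_le_of_card_sq hK; omega
  have key : (Mᵀ * M.map (powHom hK) = 1) ↔ ustar (powHom hK) g * g = 1 := by
    rw [Units.ext_iff]
    show _ ↔ sstar (powHom hK) M * M = 1
    constructor
    · intro h
      rw [sstar, ← Matrix.transpose_one, ← h, Matrix.transpose_mul, Matrix.transpose_transpose]
    · intro h
      have := congrArg Matrix.transpose h
      rwa [Matrix.transpose_mul, sstar, Matrix.transpose_transpose, Matrix.transpose_one] at this
  have form : ∀ u v : Fin n → K, Cfsg.hermForm n K q u v = u ⬝ᵥ (powHom hK ∘ v) := fun u v => rfl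
  rw [← key]
  constructor
  · intro h
    ext i j
    have := h (Pi.single i 1) (Pi.single j 1)
    rw [form, form, Matrix.mulVec_single_one, Matrix.mulVec_single_one, single_one_dotProduct] at this
    rw [Matrix.mul_apply, Matrix.one_apply]
    refine Eq.trans ?_ (this.trans ?_)
    · rfl
    · by_cases hij : i = j
      · subst hij; simp
      · simp [hij, hq]
  · intro h u v
    show Cfsg.hermForm n K q (M *ᵥ u) (M *ᵥ v) = Cfsg.hermForm n K q u v
    rw [form, form, show (powHom hK) ∘ (M *ᵥ v) = (M.map (powHom hK)) *ᵥ ((powHom hK) ∘ v) from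
      funext fun i => RingHom.map_mulVec _ _ _ i, ← Matrix.vecMul_transpose M u, ← Matrix.dotProduct_mulVec,
      Matrix.mulVec_mulVec, h, Matrix.one_mulVec]

/-- Conjugacy in `GU` is conjugacy in `GL`. -/
theorem gu_isConj_iff (A B : ↥(Cfsg.GU n K q)) (hK : Fintype.card K = q ^ 2) :
    IsConj A B ↔ IsConj (A : GL (Fin n) K) (B : GL (Fin n) K) := by
  refine ⟨fun h => MonoidHom.map_isConj (Cfsg.GU n K q).subtype h, fun h => ?_⟩
  obtain ⟨P, hP⟩ := isConj_iff.1 h
  set σ := powHom hK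
  have hσ := powHom_isInvol hK
  have hA := (mem_GU_iff hK _).1 A.2
  have hB := (mem_GU_iff hK _).1 B.2
  set a := (A : GL (Fin n) K)
  set b := (B : GL (Fin n) K)
  have hPa : P * a = b * P := mul_inv_eq_iff_eq_mul.1 hP
  obtain ⟨D, hD, hDc⟩ := exists_sstar_mul_self σ hσ (ustar σ P * P) (by rw [ustar_mul, ustar_ustar σ hσ.invol])
  have hca : Commute (ustar σ P * P) a := by
    show _ = _
    have hsa : ustar σ a = a⁻¹ := eq_inv_of_mul_eq_one_left hA
    have hsb : ustar σ b = b⁻¹ := eq_inv_of_mul_eq_one_left hB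
    have e := congrArg (ustar σ) hPa
    rw [ustar_mul, ustar_mul, hsa, hsb] at e
    -- `P⋆ b = a P⋆`
    have e' : ustar σ P * b = a * ustar σ P :=
      calc ustar σ P * b = a * (a⁻¹ * ustar σ P) * b := by group
        _ = a * (ustar σ P * b⁻¹) * b := by rw [e]
        _ = a * ustar σ P := by group
    rw [mul_assoc, hPa, ← mul_assoc, e', mul_assoc]
  have hDa := hDc a hca
  have hmem : P * D⁻¹ ∈ Cfsg.GU n K q := by
    rw [mem_GU_iff hK, ustar_mul, ustar_inv]
    calc (ustar σ D)⁻¹ * ustar σ P * (P * D⁻¹) = (ustar σ D)⁻¹ * (ustar σ P * P) * D⁻¹ := by group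
      _ = 1 := by rw [← hD]; group
  refine isConj_iff.2 ⟨⟨_, hmem⟩, Subtype.ext ?_⟩
  show P * D⁻¹ * a * (P * D⁻¹)⁻¹ = b
  calc P * D⁻¹ * a * (P * D⁻¹)⁻¹ = P * (D⁻¹ * a) * D * P⁻¹ := by group
    _ = P * a * P⁻¹ := by rw [(hDa.inv_left).eq]; group
    _ = b := hP

include hK in
/-- A matrix is similar to a unitary one iff it is similar to its inverse conjugate transpose. -/
theorem exists_gu_conj_iff (A : GL (Fin n) K) :
    (∃ B : ↥(Cfsg.GU n K q), IsConj A (B : GL (Fin n) K)) ↔
      IsConj A (ustar (powHom hK) A)⁻¹ := by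
  set σ := powHom hK
  have hσ := powHom_isInvol hK
  constructor
  · rintro ⟨B, hB⟩
    refine hB.trans ?_
    have hb : ustar σ (B : GL (Fin n) K) = (B : GL (Fin n) K)⁻¹ :=
      eq_inv_of_mul_eq_one_left ((mem_GU_iff hK _).1 B.2)
    obtain ⟨c, hc⟩ := isConj_iff.1 hB.symm
    refine isConj_iff.2 ⟨(ustar σ c)⁻¹, ?_⟩
    rw [← hc, ustar_mul, ustar_mul, ustar_inv, hb]
    group
  · intro h
    obtain ⟨P, hP⟩ := isConj_iff.1 h
    have hPA : ustar σ A * P * A = P := by
      rw [mul_inv_eq_iff_eq_mul] at hP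
      rw [mul_assoc, hP, ← mul_assoc, mul_inv_cancel, one_mul]
    obtain ⟨H, hH, hHA⟩ := exists_herm_invariant σ hσ A P hPA
    obtain ⟨D, hD, -⟩ := exists_sstar_mul_self σ hσ H hH
    refine ⟨⟨D * A * D⁻¹, ?_⟩, isConj_iff.2 ⟨D, rfl⟩⟩
    rw [mem_GU_iff hK, ustar_mul, ustar_mul, ustar_inv]
    calc (ustar σ D)⁻¹ * (ustar σ A * ustar σ D) * (D * A * D⁻¹)
        = (ustar σ D)⁻¹ * (ustar σ A * (ustar σ D * D) * A) * D⁻¹ := by group
      _ = 1 := by rw [hD, hHA, ← hD]; group

include hK in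
theorem ustar_inv_eq (A : GL (Fin n) K) :
    (((A : Matrix (Fin n) (Fin n) K).map (fun x : K => x ^ q)).transpose)⁻¹ =
      (((ustar (powHom hK) A)⁻¹ : GL (Fin n) K) : Matrix (Fin n) (Fin n) K) := by
  rw [Matrix.coe_units_inv]
  rfl

end GU

end CfsgLib.Classical.ClassTheory
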