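import Cfsg.Agent.Lib.Classical.ClassTheory.NormRing
import Cfsg.Agent.Lib.Classical.Symplectic.Geometry
import Cfsg.Agent.Lib.Classical.Quad.Basic

/-!
# Isometric intertwiners from linear ones

An isometry `a` with `a ^ 2 - 1` invertible is determined up to isometric equivalence by its linear
class; for semisimple `a` the fixed and negated parts are split off orthogonally.
-/

set_option autoImplicit false

namespace CfsgLib.Classical.ClassTheory

open LinearMap (BilinForm)

variable {F : Type*} [Field F] [Finite F]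
variable {V : Type*} [AddCommGroup V] [Module F V] [FiniteDimensional F V]
variable {V' : Type*} [AddCommGroup V'] [Module F V'] [FiniteDimensional F V']

omit [Finite F] [FiniteDimensional F V] in
theorem eq_of_form_left {b : BilinForm F V} (hb : b.Nondegenerate) {x y : V}
    (h : ∀ z, b x z = b y z) : x = y :=
  sub_eq_zero.1 (hb.1 (x - y) fun z => by rw [map_sub, LinearMap.sub_apply, h, sub_self])

/-- Isometric intertwiner when `a ^ 2 - 1` is invertible. -/
theorem exists_isometric_of_fpf (ε : F) {b : BilinForm F V} (hb : b.Nondegenerate)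
    (hs : ∀ u v, b v u = ε * b u v) {b' : BilinForm F V'} (hb' : b'.Nondegenerate)
    (hs' : ∀ u v, b' v u = ε * b' u v) (a : V ≃ₗ[F] V) (ha : ∀ u v, b (a u) (a v) = b u v)
    (a' : V' ≃ₗ[F] V') (ha' : ∀ u v, b' (a' u) (a' v) = b' u v) (e : V ≃ₗ[F] V')
    (he : ∀ v, e (a v) = a' (e v)) (hfpf : ∀ v, a (a v) = v → v = 0) :
    ∃ f : V ≃ₗ[F] V', (∀ v, f (a v) = a' (f v)) ∧ ∀ u v, b' (f u) (f v) = b u v := by
  classical
  haveI : Finite V := Module.finite_of_finite F
  haveI : Finite (Module.End F V) := Module.finite_of_finite F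
  let adj : Module.End F V → Module.End F V := fun φ => b.leftAdjointOfNondegenerate hb φ
  have hadj : ∀ φ x y, b (adj φ x) y = b x (φ y) := fun φ =>
    LinearMap.BilinForm.isAdjointPairLeftAdjointOfNondegenerate b hb φ
  have hext : ∀ φ ψ : Module.End F V, (∀ x y, b (φ x) y = b (ψ x) y) → φ = ψ := fun φ ψ h =>
    LinearMap.ext fun x => eq_of_form_left hb (h x)
  have hadd : ∀ φ ψ, adj (φ + ψ) = adj φ + adj ψ := fun φ ψ => hext _ _ fun x y => by
    rw [LinearMap.add_apply, map_add, LinearMap.add_apply, hadj, hadj, hadj, LinearMap.add_apply, map_add]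
  have hmul : ∀ φ ψ, adj (φ * ψ) = adj ψ * adj φ := fun φ ψ => hext _ _ fun x y => by
    rw [Module.End.mul_apply, hadj, hadj, hadj, Module.End.mul_apply]
  have hone : adj 1 = 1 := hext _ _ fun x y => by rw [hadj]; rfl
  have hinv : ∀ φ, adj (adj φ) = φ := fun φ => hext _ _ fun x y => by
    rw [hadj, hs (adj φ y) x, hadj, ← hs y (φ x)]
  let θ : Module.End F V := (a : V →ₗ[F] V)
  let θ' : Module.End F V := (a.symm : V →ₗ[F] V)
  have hθθ' : adj θ = θ' := hext _ _ fun x y => by
    rw [hadj]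
    conv_lhs => rw [show x = a (a.symm x) from (a.apply_symm_apply x).symm]
    exact ha _ _
  let C : Module.End F V := (b.toDual hb).symm.toLinearMap ∘ₗ (b'.compl₁₂ (e : V →ₗ[F] V') (e : V →ₗ[F] V'))
  have hC : ∀ x y, b (C x) y = b' (e x) (e y) := fun x y => by
    show b ((b.toDual hb).symm (b'.compl₁₂ (e : V →ₗ[F] V') (e : V →ₗ[F] V') x)) y = _
    rw [LinearMap.BilinForm.apply_toDual_symm_apply]
    rfl
  have hCsym : adj C = C := hext _ _ fun x y => by rw [hadj, hs (C y) x, hC, hC, ← hs' (e y) (e x)]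
  have hCu : IsUnit C := by
    rw [Module.End.isUnit_iff]
    have hinj : Function.Injective C := (injective_iff_map_eq_zero _).2 fun x hx => by
      refine e.map_eq_zero_iff.1 (hb'.1 _ fun w => ?_)
      obtain ⟨y, rfl⟩ := e.surjective w
      rw [← hC, hx, map_zero, LinearMap.zero_apply]
    exact ⟨hinj, LinearMap.injective_iff_surjective.1 hinj⟩
  have hCθ : Commute C θ := hext _ _ fun x y => by
    show b (C (a x)) y = b (a (C x)) y
    obtain ⟨z, rfl⟩ := a.surjective y
    rw [ha, hC, he, he, ha', hC]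
  have hθu : IsUnit (θ - adj θ) := by
    rw [hθθ', Module.End.isUnit_iff]
    have hinj : Function.Injective (θ - θ' : Module.End F V) := (injective_iff_map_eq_zero _).2 fun x hx => by
      refine hfpf x ?_
      have h1 : a x = a.symm x := sub_eq_zero.1 hx
      rw [h1, a.apply_symm_apply]
    exact ⟨hinj, LinearMap.injective_iff_surjective.1 hinj⟩
  have hθc : Commute θ (adj θ) := by
    rw [hθθ']
    exact LinearMap.ext fun x => (a.apply_symm_apply x).trans (a.symm_apply_apply x).symm
  obtain ⟨D, hD, hDC, hDc⟩ := exists_star_mul_self adj hadd hmul hone hinv hCsym hCu hCθ hθc hθu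
  have hDa : Commute D θ := hDc θ hCθ (Commute.refl _) hθc.symm
  let De : V ≃ₗ[F] V := LinearEquiv.ofBijective D ((Module.End.isUnit_iff D).1 hD)
  have hDe : ∀ x, De x = D x := fun x => rfl
  refine ⟨De.symm.trans e, fun v => ?_, fun u v => ?_⟩
  · obtain ⟨w, rfl⟩ := De.surjective v
    have h1 : a (De w) = De (a w) := (LinearMap.congr_fun hDa.eq w).symm
    rw [h1, LinearEquiv.trans_apply, LinearEquiv.trans_apply, De.symm_apply_apply, De.symm_apply_apply, he]
  · obtain ⟨x, rfl⟩ := De.surjective u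
    obtain ⟨y, rfl⟩ := De.surjective v
    rw [LinearEquiv.trans_apply, LinearEquiv.trans_apply, De.symm_apply_apply, De.symm_apply_apply, ← hC,
      ← hDC, Module.End.mul_apply, hadj, hDe, hDe]

section Split

variable (a : V ≃ₗ[F] V) (c : F)

/-- The eigenspace for `c`. -/
def eigKer : Submodule F V := LinearMap.ker ((a : V →ₗ[F] V) - c • LinearMap.id)

/-- Its complement for semisimple `a`. -/
def eigRange : Submodule F V := LinearMap.range ((a : V →ₗ[F] V) - c • LinearMap.id)

omit [Finite F] [FiniteDimensional F V] in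
theorem mem_eigKer {v : V} : v ∈ eigKer a c ↔ a v = c • v := by
  rw [eigKer, LinearMap.mem_ker, LinearMap.sub_apply, sub_eq_zero]
  rfl

omit [Finite F] [FiniteDimensional F V] in
theorem mem_eigRange {v : V} : v ∈ eigRange a c ↔ ∃ u, a u - c • u = v := Iff.rfl

omit [Finite F] [FiniteDimensional F V] in
theorem eigRange_map {v : V} (hv : v ∈ eigRange a c) : a v ∈ eigRange a c := by
  obtain ⟨u, rfl⟩ := (mem_eigRange a c).1 hv
  exact (mem_eigRange a c).2 ⟨a u, by rw [map_sub, map_smul]⟩

/-- The restriction to the range. -/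
noncomputable def restrictRange : eigRange a c ≃ₗ[F] eigRange a c :=
  LinearEquiv.ofBijective ((a : V →ₗ[F] V).restrict fun _ hv => eigRange_map a c hv)
    (by
      have h : Function.Injective ((a : V →ₗ[F] V).restrict fun _ hv => eigRange_map a c hv) :=
        fun u v huv => Subtype.ext (a.injective (congrArg Subtype.val huv))
      exact ⟨h, LinearMap.injective_iff_surjective.1 h⟩)

omit [Finite F] in
theorem coe_restrictRange (v : eigRange a c) : (restrictRange a c v : V) = a v := rfl

omit [Finite F] [FiniteDimensional F V] in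
theorem pow_apply_jordan {u w : V} (hw : a w = c • w) (hu : a u = c • u + w) :
    ∀ k : ℕ, ((a : V →ₗ[F] V) ^ (k + 1)) u = c ^ (k + 1) • u + ((k + 1 : F) * c ^ k) • w := by
  intro k
  induction k with
  | zero => simp [hu]
  | succ k ih =>
    rw [pow_succ', Module.End.mul_apply, ih, map_add, map_smul, map_smul, LinearEquiv.coe_coe, hu, hw,
      smul_add, smul_smul, smul_smul, add_assoc, ← add_smul]
    push_cast
    congr 2 <;> ring

variable {a c} {N : ℕ}

omit [Finite F] in
theorem isCompl_eig (hN : (N : F) ≠ 0) (haN : (a : V →ₗ[F] V) ^ N = 1) (hc : c ≠ 0) :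
    IsCompl (eigKer a c) (eigRange a c) := by
  obtain ⟨M, rfl⟩ : ∃ M, N = M + 1 :=
    Nat.exists_eq_succ_of_ne_zero (by rintro rfl; exact hN Nat.cast_zero)
  have hdis : Disjoint (eigKer a c) (eigRange a c) := by
    rw [Submodule.disjoint_def]
    intro w hw hw'
    rw [mem_eigKer] at hw
    obtain ⟨u, hu⟩ := (mem_eigRange a c).1 hw'
    have hu' : a u = c • u + w := by rw [← hu]; abel
    have h1 := pow_apply_jordan a c hw hu' M
    have h2 := pow_apply_jordan a c (w := 0) (by simp) (show a w = c • w + 0 by rw [hw, add_zero]) M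
    rw [haN, Module.End.one_apply] at h1 h2
    rw [smul_zero, add_zero] at h2
    by_cases hcN : c ^ (M + 1) = 1
    · rw [hcN, one_smul, left_eq_add] at h1
      rcases smul_eq_zero.1 h1 with h | h
      · exact absurd h (mul_ne_zero (by exact_mod_cast hN) (pow_ne_zero _ hc))
      · exact h
    · by_contra h
      have h3 : (c ^ (M + 1) - 1) • w = 0 := by rw [sub_smul, ← h2, one_smul, sub_self]
      exact (smul_eq_zero.1 h3).elim (sub_ne_zero.2 hcN) h
  refine (Submodule.isCompl_iff_disjoint _ _ ?_).2 hdis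
  rw [add_comm]
  exact (LinearMap.finrank_range_add_finrank_ker _).ge

variable {b : BilinForm F V}

omit [Finite F] [FiniteDimensional F V] in
theorem perp_eig (ha : ∀ u v, b (a u) (a v) = b u v) (hc : c * c = 1) {k r : V} (hk : k ∈ eigKer a c)
    (hr : r ∈ eigRange a c) : b k r = 0 ∧ b r k = 0 := by
  rw [mem_eigKer] at hk
  obtain ⟨u, rfl⟩ := (mem_eigRange a c).1 hr
  have h1 : c * b k (a u) = b k u := by
    conv_rhs => rw [← ha, hk, map_smul, LinearMap.smul_apply, smul_eq_mul]
  have h2 : c * b (a u) k = b u k := by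
    conv_rhs => rw [← ha, hk, map_smul, smul_eq_mul]
  constructor
  · rw [map_sub, map_smul, smul_eq_mul, ← h1, ← mul_assoc, hc, one_mul, sub_self]
  · rw [map_sub, map_smul, LinearMap.sub_apply, LinearMap.smul_apply, smul_eq_mul, ← h2, ← mul_assoc, hc,
      one_mul, sub_self]

omit [Finite F] in
theorem nondegenerate_of_isCompl {K R : Submodule F V} (hcomp : IsCompl K R) (hb : b.Nondegenerate)
    (hperp : ∀ k ∈ K, ∀ r ∈ R, b k r = 0 ∧ b r k = 0) :
    (b.restrict K).Nondegenerate ∧ (b.restrict R).Nondegenerate := by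
  have hsplit : ∀ v : V, ∃ k ∈ K, ∃ r ∈ R, v = k + r := fun v => by
    obtain ⟨k, r, hk, hr, e⟩ := Submodule.codisjoint_iff_exists_add_eq.1 hcomp.codisjoint v
    exact ⟨k, hk, r, hr, e.symm⟩
  refine ⟨⟨fun x hx => Subtype.ext (hb.1 x fun v => ?_), fun x hx => Subtype.ext (hb.2 x fun v => ?_)⟩,
    ⟨fun x hx => Subtype.ext (hb.1 x fun v => ?_), fun x hx => Subtype.ext (hb.2 x fun v => ?_)⟩⟩
  all_goals obtain ⟨k, hk, r, hr, rfl⟩ := hsplit v
  · rw [map_add, (hperp _ x.2 _ hr).1, show b x k = 0 from hx ⟨k, hk⟩, add_zero]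
  · rw [map_add, LinearMap.add_apply, (hperp _ x.2 _ hr).2, show b k x = 0 from hx ⟨k, hk⟩, add_zero]
  · rw [map_add, (hperp _ hk _ x.2).2, show b x r = 0 from hx ⟨r, hr⟩, add_zero]
  · rw [map_add, LinearMap.add_apply, (hperp _ hk _ x.2).1, show b r x = 0 from hx ⟨r, hr⟩, add_zero]

variable {a' : V' ≃ₗ[F] V'} {b' : BilinForm F V'}

omit [Finite F] [FiniteDimensional F V] [FiniteDimensional F V'] in
theorem map_eig (e : V ≃ₗ[F] V') (he : ∀ v, e (a v) = a' (e v)) :
    (eigKer a c).map (e : V →ₗ[F] V') = eigKer a' c ∧ (eigRange a c).map (e : V →ₗ[F] V') = eigRange a' c := by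
  constructor
  · ext w
    obtain ⟨v, rfl⟩ := e.surjective w
    rw [Submodule.mem_map_equiv, e.symm_apply_apply, mem_eigKer, mem_eigKer, ← he, ← map_smul,
      e.injective.eq_iff]
  · ext w
    obtain ⟨v, rfl⟩ := e.surjective w
    rw [Submodule.mem_map_equiv, e.symm_apply_apply, mem_eigRange, mem_eigRange]
    constructor
    · rintro ⟨u, rfl⟩
      exact ⟨e u, by rw [← he, ← map_smul, ← map_sub]⟩
    · rintro ⟨u, hu⟩
      obtain ⟨u, rfl⟩ := e.surjective u
      exact ⟨u, e.injective (by rw [← hu, map_sub, he, map_smul])⟩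

omit [Finite F] in
/-- The restrictions of a linear intertwiner. -/
theorem exists_restrict (e : V ≃ₗ[F] V') (he : ∀ v, e (a v) = a' (e v)) :
    Module.finrank F (eigKer a c) = Module.finrank F (eigKer a' c) ∧
      ∃ eR : eigRange a c ≃ₗ[F] eigRange a' c,
        ∀ v, eR (restrictRange a c v) = restrictRange a' c (eR v) := by
  obtain ⟨h1, h2⟩ := map_eig (c := c) e he
  refine ⟨by rw [← h1]; exact (LinearEquiv.finrank_map_eq e _).symm, e.ofSubmodules _ _ h2, fun v => ?_⟩
  exact Subtype.ext (he v)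

omit [Finite F] in
/-- Glueing isometries of the two parts. -/
theorem exists_glue {K R : Submodule F V} {K' R' : Submodule F V'} (hcomp : IsCompl K R)
    (hcomp' : IsCompl K' R') (hperp : ∀ k ∈ K, ∀ r ∈ R, b k r = 0 ∧ b r k = 0)
    (hperp' : ∀ k ∈ K', ∀ r ∈ R', b' k r = 0 ∧ b' r k = 0) (f0 : K ≃ₗ[F] K') (f1 : R ≃ₗ[F] R')
    (h0 : ∀ u v : K, b' (f0 u) (f0 v) = b u v) (h1 : ∀ u v : R, b' (f1 u) (f1 v) = b u v) :
    ∃ f : V ≃ₗ[F] V', (∀ k : K, f k = f0 k) ∧ (∀ r : R, f r = f1 r) ∧ ∀ u v, b' (f u) (f v) = b u v := by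
  let φ := Submodule.prodEquivOfIsCompl K R hcomp
  let φ' := Submodule.prodEquivOfIsCompl K' R' hcomp'
  refine ⟨φ.symm.trans ((f0.prodCongr f1).trans φ'), fun k => ?_, fun r => ?_, fun u v => ?_⟩
  · rw [LinearEquiv.trans_apply, show φ.symm (k : V) = (k, 0) from
      Submodule.prodEquivOfIsCompl_symm_apply_left _ _ hcomp k]
    simp [φ', Submodule.coe_prodEquivOfIsCompl']
  · rw [LinearEquiv.trans_apply, show φ.symm (r : V) = (0, r) from
      Submodule.prodEquivOfIsCompl_symm_apply_right _ _ hcomp r]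
    simp [φ', Submodule.coe_prodEquivOfIsCompl']
  · obtain ⟨⟨k, r⟩, rfl⟩ := φ.surjective u
    obtain ⟨⟨k', r'⟩, rfl⟩ := φ.surjective v
    simp only [LinearEquiv.trans_apply, φ.symm_apply_apply]
    simp only [LinearEquiv.prodCongr_apply, φ, φ', Submodule.coe_prodEquivOfIsCompl', map_add,
      LinearMap.add_apply, h0, h1, (hperp' _ (f0 k).2 _ (f1 r').2).1, (hperp' _ (f0 k').2 _ (f1 r).2).2,
      (hperp _ k.2 _ r'.2).1, (hperp _ k'.2 _ r.2).2]

end Split

/-- One splitting step. -/
theorem exists_isometric_step (ε : F) {b : BilinForm F V} (hb : b.Nondegenerate)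
    (hs : ∀ u v, b v u = ε * b u v) {b' : BilinForm F V'} (hb' : b'.Nondegenerate)
    (hs' : ∀ u v, b' v u = ε * b' u v) (a : V ≃ₗ[F] V) (ha : ∀ u v, b (a u) (a v) = b u v)
    (a' : V' ≃ₗ[F] V') (ha' : ∀ u v, b' (a' u) (a' v) = b' u v) (e : V ≃ₗ[F] V')
    (he : ∀ v, e (a v) = a' (e v)) {N : ℕ} (hN : (N : F) ≠ 0) (haN : (a : V →ₗ[F] V) ^ N = 1)
    {c : F} (hc : c * c = 1)
    (hker : (b.restrict (eigKer a c)).Nondegenerate → (b'.restrict (eigKer a' c)).Nondegenerate →
      Module.finrank F (eigKer a c) = Module.finrank F (eigKer a' c) →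
      ∃ f0 : eigKer a c ≃ₗ[F] eigKer a' c, ∀ u v, b' (f0 u) (f0 v) = b u v)
    (hran : (b.restrict (eigRange a c)).Nondegenerate → (b'.restrict (eigRange a' c)).Nondegenerate →
      ∀ eR : eigRange a c ≃ₗ[F] eigRange a' c,
      (∀ v, eR (restrictRange a c v) = restrictRange a' c (eR v)) →
      ∃ f1 : eigRange a c ≃ₗ[F] eigRange a' c, (∀ v, f1 (restrictRange a c v) = restrictRange a' c (f1 v)) ∧
        ∀ u v, b' (f1 u) (f1 v) = b u v) :
    ∃ f : V ≃ₗ[F] V', (∀ v, f (a v) = a' (f v)) ∧ ∀ u v, b' (f u) (f v) = b u v := by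
  have hc0 : c ≠ 0 := by rintro rfl; simp at hc
  have haN' : (a' : V' →ₗ[F] V') ^ N = 1 := by
    have hk : ∀ k v, e (((a : V →ₗ[F] V) ^ k) v) = ((a' : V' →ₗ[F] V') ^ k) (e v) := by
      intro k
      induction k with
      | zero => intro v; rfl
      | succ k ih => intro v; rw [pow_succ, pow_succ, Module.End.mul_apply, Module.End.mul_apply, ih]; exact congrArg _ (he v)
    refine LinearMap.ext fun w => ?_
    obtain ⟨v, rfl⟩ := e.surjective w
    rw [← hk, haN]
    rfl
  have hcomp := isCompl_eig hN haN hc0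
  have hcomp' := isCompl_eig hN haN' hc0
  have hperp : ∀ k ∈ eigKer a c, ∀ r ∈ eigRange a c, b k r = 0 ∧ b r k = 0 := fun _ hk _ hr => perp_eig ha hc hk hr
  have hperp' : ∀ k ∈ eigKer a' c, ∀ r ∈ eigRange a' c, b' k r = 0 ∧ b' r k = 0 := fun _ hk _ hr =>
    perp_eig ha' hc hk hr
  obtain ⟨n0, n1⟩ := nondegenerate_of_isCompl hcomp hb hperp
  obtain ⟨n0', n1'⟩ := nondegenerate_of_isCompl hcomp' hb' hperp'
  obtain ⟨hfr, eR, heR⟩ := exists_restrict (c := c) e he
  obtain ⟨f0, hf0⟩ := hker n0 n0' hfr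
  obtain ⟨f1, hf1, hf1'⟩ := hran n1 n1' eR heR
  obtain ⟨f, hfk, hfr', hfb⟩ := exists_glue hcomp hcomp' hperp hperp' f0 f1 hf0 hf1'
  refine ⟨f, fun v => ?_, hfb⟩
  obtain ⟨k, r, hk, hr, rfl⟩ := Submodule.codisjoint_iff_exists_add_eq.1 hcomp.codisjoint v
  rw [map_add, map_add, map_add, map_add]
  congr 1
  · rw [(mem_eigKer a c).1 hk, map_smul, hfk ⟨k, hk⟩, (mem_eigKer a' c).1 (f0 ⟨k, hk⟩).2]
  · rw [← coe_restrictRange a c ⟨r, hr⟩, hfr', hf1, coe_restrictRange, ← hfr']

/-- Semisimple symplectic isometries that are linearly equivalent are isometrically equivalent. -/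
theorem exists_isometric_alt {b : BilinForm F V} (hb : b.Nondegenerate) (hA : b.IsAlt)
    {b' : BilinForm F V'} (hb' : b'.Nondegenerate) (hA' : b'.IsAlt) (a : V ≃ₗ[F] V)
    (ha : ∀ u v, b (a u) (a v) = b u v) (a' : V' ≃ₗ[F] V') (ha' : ∀ u v, b' (a' u) (a' v) = b' u v)
    (e : V ≃ₗ[F] V') (he : ∀ v, e (a v) = a' (e v)) {N : ℕ} (hN : (N : F) ≠ 0)
    (haN : (a : V →ₗ[F] V) ^ N = 1) :
    ∃ f : V ≃ₗ[F] V', (∀ v, f (a v) = a' (f v)) ∧ ∀ u v, b' (f u) (f v) = b u v := by
  have hs : ∀ u v, b v u = -1 * b u v := fun u v => by rw [← LinearMap.IsAlt.neg hA u v]; ring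
  have hs' : ∀ u v, b' v u = -1 * b' u v := fun u v => by rw [← LinearMap.IsAlt.neg hA' u v]; ring
  refine exists_isometric_step (-1) hb hs hb' hs' a ha a' ha' e he hN haN (c := 1) (one_mul 1)
    (fun n n' h => Symp.exists_isometry (show (b.restrict (eigKer a 1)).IsAlt from fun x => hA _) n
      (show (b'.restrict (eigKer a' 1)).IsAlt from fun x => hA' _) n' h) fun n n' eR heR => ?_
  refine exists_isometric_step (-1) n (fun u v => hs u v) n' (fun u v => hs' u v) (restrictRange a 1)
    (fun u v => ha u v) (restrictRange a' 1) (fun u v => ha' u v) eR heR hN ?_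
    (c := -1) (by ring) (fun m m' h => Symp.exists_isometry
      (show ((b.restrict (eigRange a 1)).restrict (eigKer (restrictRange a 1) (-1))).IsAlt from fun x => hA _) m
      (show ((b'.restrict (eigRange a' 1)).restrict (eigKer (restrictRange a' 1) (-1))).IsAlt from fun x => hA' _) m' h)
    fun m m' eR' heR' => ?_
  · refine LinearMap.ext fun v => Subtype.ext ?_
    have hk : ∀ k (v : eigRange a 1), (((restrictRange a 1 : eigRange a 1 →ₗ[F] eigRange a 1) ^ k) v : V) =
        ((a : V →ₗ[F] V) ^ k) v := by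
      intro k
      induction k with
      | zero => intro v; rfl
      | succ k ih => intro v; rw [pow_succ, pow_succ, Module.End.mul_apply, Module.End.mul_apply, ih]; rfl
    rw [hk, haN]
    rfl
  · refine exists_isometric_of_fpf (-1) m (fun u v => hs u v) m' (fun u v => hs' u v) _
      (fun u v => ha u v) _ (fun u v => ha' u v) eR' heR' fun v hv => ?_
    -- `a v = -v` would lie in the kernel, `a v = v` in the first one
    have hv1 : a (a ((v : eigRange a 1) : V)) = ((v : eigRange a 1) : V) :=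
      congrArg Subtype.val (congrArg Subtype.val hv)
    have h1 : a ((v : eigRange a 1) : V) + ((v : eigRange a 1) : V) ∈ eigKer a 1 := by
      rw [mem_eigKer, map_add, hv1, one_smul, add_comm]
    have h2 : a ((v : eigRange a 1) : V) + ((v : eigRange a 1) : V) = 0 :=
      Submodule.disjoint_def.1 (isCompl_eig hN haN one_ne_zero).disjoint _ h1
        (add_mem (eigRange_map a 1 (v : eigRange a 1).2) (v : eigRange a 1).2)
    have h3 : (v : eigRange a 1) ∈ eigKer (restrictRange a 1) (-1) := by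
      rw [mem_eigKer]
      exact Subtype.ext (by rw [coe_restrictRange, neg_one_smul, Submodule.coe_neg]; exact eq_neg_of_add_eq_zero_left h2)
    refine Subtype.ext (Submodule.disjoint_def.1 (isCompl_eig (a := restrictRange a 1) hN ?_
      (neg_ne_zero.2 one_ne_zero)).disjoint _ h3 v.2)
    refine LinearMap.ext fun w => Subtype.ext ?_
    have hk : ∀ k (w : eigRange a 1), (((restrictRange a 1 : eigRange a 1 →ₗ[F] eigRange a 1) ^ k) w : V) =
        ((a : V →ₗ[F] V) ^ k) w := by
      intro k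
      induction k with
      | zero => intro w; rfl
      | succ k ih => intro w; rw [pow_succ, pow_succ, Module.End.mul_apply, Module.End.mul_apply, ih]; rfl
    rw [hk, haN]
    rfl

/-- Linearly equivalent isometries of odd order prime to the characteristic are equivalent in the
orthogonal group. -/
theorem exists_isometric_odd {Q : QuadraticForm F V} (hQ : (QuadraticMap.polarBilin Q).Nondegenerate)
    (a a' : V ≃ₗ[F] V) (ha : ∀ v, Q (a v) = Q v) (ha' : ∀ v, Q (a' v) = Q v) (e : V ≃ₗ[F] V)
    (he : ∀ v, e (a v) = a' (e v)) {N : ℕ} (hodd : Odd N) (hN : (N : F) ≠ 0)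
    (haN : (a : V →ₗ[F] V) ^ N = 1) :
    ∃ f : V ≃ₗ[F] V, (∀ v, f (a v) = a' (f v)) ∧ ∀ v, Q (f v) = Q v := by
  set b := QuadraticMap.polarBilin Q with hbdef
  have hbp : ∀ (g : V ≃ₗ[F] V), (∀ v, Q (g v) = Q v) → ∀ u v, b (g u) (g v) = b u v := fun g hg u v => by
    simp only [hbdef, QuadraticMap.polarBilin_apply_apply, QuadraticMap.polar, ← map_add, hg]
  have hs : ∀ u v, b v u = 1 * b u v := fun u v => by
    rw [one_mul]; exact QuadraticMap.polar_comm _ _ _
  have haN' : (a' : V →ₗ[F] V) ^ N = 1 := by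
    have hk : ∀ k v, e (((a : V →ₗ[F] V) ^ k) v) = ((a' : V →ₗ[F] V) ^ k) (e v) := by
      intro k
      induction k with
      | zero => intro v; rfl
      | succ k ih => intro v; rw [pow_succ, pow_succ, Module.End.mul_apply, Module.End.mul_apply, ih]; exact congrArg _ (he v)
    refine LinearMap.ext fun w => ?_
    obtain ⟨v, rfl⟩ := e.surjective w
    rw [← hk, haN]
    rfl
  have hcomp := isCompl_eig hN haN one_ne_zero
  have hcomp' := isCompl_eig hN haN' one_ne_zero
  obtain ⟨-, n1⟩ := nondegenerate_of_isCompl hcomp hQ fun _ hk _ hr => perp_eig (hbp a ha) (one_mul 1) hk hr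
  obtain ⟨-, n1'⟩ := nondegenerate_of_isCompl hcomp' hQ fun _ hk _ hr => perp_eig (hbp a' ha') (one_mul 1) hk hr
  obtain ⟨-, eR, heR⟩ := exists_restrict (c := (1 : F)) e he
  obtain ⟨f1, hf1, hf1b⟩ := exists_isometric_of_fpf 1 n1 (fun u v => hs u v) n1' (fun u v => hs u v)
    (restrictRange a 1) (fun u v => hbp a ha u v) (restrictRange a' 1) (fun u v => hbp a' ha' u v) eR heR
    fun v hv => by
      have hv1 : a (a (v : V)) = v := congrArg Subtype.val hv
      -- an element of odd order fixing `v` after two steps fixes `v`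
      have hfix : a (v : V) = v := by
        have hk : ∀ k, ((a : V →ₗ[F] V) ^ (2 * k)) (v : V) = v := by
          intro k
          induction k with
          | zero => rfl
          | succ k ih =>
            rw [show 2 * (k + 1) = 2 + 2 * k by ring, pow_add, Module.End.mul_apply, ih, pow_two]
            exact hv1
        obtain ⟨k, rfl⟩ := hodd
        have h := LinearMap.congr_fun haN (v : V)
        rw [pow_succ', Module.End.mul_apply, hk] at h
        exact h
      exact Subtype.ext (Submodule.disjoint_def.1 hcomp.disjoint _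
        ((mem_eigKer a 1).2 (by rw [hfix, one_smul])) v.2)
  -- the two quadratic forms agree on the range
  have hQ1 : ∀ r : eigRange a 1, Q (f1 r : V) = Q (r : V) := by
    intro r
    let d : eigRange a 1 → F := fun r => Q (f1 r : V) - Q (r : V)
    have hadd : ∀ u v, d (u + v) = d u + d v := fun u v => by
      have h1 : b (f1 u : V) (f1 v) = b (u : V) v := hf1b u v
      simp only [hbdef, QuadraticMap.polarBilin_apply_apply, QuadraticMap.polar] at h1
      simp only [d, map_add, Submodule.coe_add]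
      linear_combination h1
    have hinv : ∀ u, d (restrictRange a 1 u) = d u := fun u => by
      simp only [d, hf1, coe_restrictRange, ha, ha']
    have hsurj : ∀ r : eigRange a 1, ∃ u, restrictRange a 1 u - u = r := by
      let L : eigRange a 1 →ₗ[F] eigRange a 1 :=
        (restrictRange a 1 : eigRange a 1 →ₗ[F] eigRange a 1) - LinearMap.id
      have hinj : Function.Injective L :=
        (injective_iff_map_eq_zero _).2 fun u hu => Subtype.ext (Submodule.disjoint_def.1 hcomp.disjoint _
          ((mem_eigKer a 1).2 (by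
            rw [one_smul, ← coe_restrictRange]
            exact congrArg Subtype.val (sub_eq_zero.1 hu))) u.2)
      exact LinearMap.injective_iff_surjective.1 hinj
    obtain ⟨u, rfl⟩ := hsurj r
    have h0 : d 0 = 0 := by simp [d]
    refine sub_eq_zero.1 ?_
    show d (restrictRange a 1 u - u) = 0
    rw [sub_eq_add_neg, hadd, hinv, ← hadd, add_neg_cancel, h0]
  obtain ⟨g, hg⟩ := Quad.witt hQ (eigRange a 1) ((eigRange a' 1).subtype ∘ₗ (f1 : eigRange a 1 →ₗ[F] eigRange a' 1))
    (Subtype.val_injective.comp f1.injective) hQ1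
  have hg' : ∀ r : eigRange a 1, (g : V ≃ₗ[F] V) r = (f1 r : V) := hg
  refine ⟨g, fun v => ?_, fun v => Quad.OQ.map_apply g v⟩
  obtain ⟨k, r, hk, hr, rfl⟩ := Submodule.codisjoint_iff_exists_add_eq.1 hcomp.codisjoint v
  rw [map_add, map_add, map_add, map_add]
  congr 1
  · rw [(mem_eigKer a 1).1 hk, one_smul]
    -- the image of a fixed vector is orthogonal to the range, hence fixed
    obtain ⟨k', r', hk', hr', hsum⟩ := Submodule.codisjoint_iff_exists_add_eq.1 hcomp'.codisjoint ((g : V ≃ₗ[F] V) k)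
    have hr0 : r' = 0 := by
      refine congrArg Subtype.val (n1'.1 ⟨r', hr'⟩ fun w => ?_)
      obtain ⟨u, rfl⟩ := f1.surjective w
      show b r' (f1 u : V) = 0
      have h2 : b ((g : V ≃ₗ[F] V) k) ((g : V ≃ₗ[F] V) (u : V)) = 0 := by
        rw [hbp _ (fun v => Quad.OQ.map_apply g v)]
        exact (perp_eig (hbp a ha) (one_mul 1) hk u.2).1
      rw [← hsum, map_add, LinearMap.add_apply, hg', (perp_eig (hbp a' ha') (one_mul 1) hk' (f1 u).2).1,
        zero_add] at h2
      exact h2
    rw [← hsum, hr0, add_zero, (mem_eigKer a' 1).1 hk', one_smul]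
  · rw [← coe_restrictRange a 1 ⟨r, hr⟩, hg', hf1, coe_restrictRange, ← hg']

end CfsgLib.Classical.ClassTheory
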