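import Mathlib

/-!
# Classes of the kernel of an abelian quotient inside one class
-/

set_option autoImplicit false

namespace CfsgLib.Classical.ClassTheory

variable {G N A : Type*} [Group G] [Finite G] [Group N] [CommGroup A] (d : G →* A) (j : N →* G)
  (hj : Function.Injective j) (hrange : ∀ g, g ∈ Set.range j ↔ d g = 1)

include hj hrange in
theorem card_classes_kernel (x : G) (hx : d x = 1) :
    Nat.card {C : ConjClasses N // ∃ u : N, ConjClasses.mk u = C ∧ IsConj x (j u)} *
      Nat.card ((Subgroup.centralizer ({x} : Set G)).map d) = Nat.card d.range := by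
  classical
  have hconj : ∀ g : G, ∃ u : N, j u = g * x * g⁻¹ := fun g =>
    (hrange _).2 (by rw [map_mul, map_mul, hx, mul_one, ← map_mul, mul_inv_cancel, map_one])
  choose u hu using hconj
  set D := (Subgroup.centralizer ({x} : Set G)).map d
  have hle : D ≤ d.range := by
    rintro _ ⟨c, -, rfl⟩
    exact ⟨c, rfl⟩
  set R := D.subgroupOf d.range
  let cls : G → {C : ConjClasses N // ∃ u : N, ConjClasses.mk u = C ∧ IsConj x (j u)} := fun g =>
    ⟨ConjClasses.mk (u g), u g, rfl, isConj_iff.2 ⟨g, (hu g).symm⟩⟩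
  let cst : G → d.range ⧸ R := fun g => QuotientGroup.mk (d.rangeRestrict g)
  have hrel : ∀ g h : G, cls g = cls h ↔ cst g = cst h := by
    intro g h
    show _ ↔ (QuotientGroup.mk (d.rangeRestrict g) : d.range ⧸ R) = QuotientGroup.mk (d.rangeRestrict h)
    rw [QuotientGroup.eq, Subgroup.mem_subgroupOf, Subtype.ext_iff]
    show ConjClasses.mk (u g) = ConjClasses.mk (u h) ↔ (d g)⁻¹ * d h ∈ D
    rw [ConjClasses.mk_eq_mk_iff_isConj, isConj_iff]
    constructor
    · rintro ⟨k, hk⟩
      have hk' := congrArg j hk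
      rw [map_mul, map_mul, map_inv, hu, hu] at hk'
      refine ⟨(j k * g)⁻¹ * h, Subgroup.mem_centralizer_singleton_iff.2 ?_, ?_⟩
      · calc (j k * g)⁻¹ * h * x = (j k * g)⁻¹ * (h * x * h⁻¹) * h := by group
          _ = x * ((j k * g)⁻¹ * h) := by rw [← hk']; group
      · rw [map_mul, map_inv, map_mul, (hrange _).1 ⟨k, rfl⟩, one_mul]
    · rintro ⟨c, hc, hdc⟩
      obtain ⟨k, hk⟩ := (hrange (h * c⁻¹ * g⁻¹)).2 (by
        rw [map_mul, map_mul, map_inv, map_inv, hdc]; group)
      refine ⟨k, hj ?_⟩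
      rw [map_mul, map_mul, map_inv, hu, hu, hk]
      have hc' : c * x = x * c := Subgroup.mem_centralizer_singleton_iff.1 hc
      calc h * c⁻¹ * g⁻¹ * (g * x * g⁻¹) * (h * c⁻¹ * g⁻¹)⁻¹ = h * c⁻¹ * (x * c) * h⁻¹ := by group
        _ = h * x * h⁻¹ := by rw [← hc']; group
  have hsur : Function.Surjective cls := by
    rintro ⟨C, v, rfl, hv⟩
    obtain ⟨g, hg⟩ := isConj_iff.1 hv
    exact ⟨g, Subtype.ext (congrArg ConjClasses.mk (hj ((hu g).trans hg)))⟩
  have hsur' : Function.Surjective cst := fun q =>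
    QuotientGroup.induction_on q fun r => by
      obtain ⟨g, hg⟩ := r.2
      exact ⟨g, congrArg QuotientGroup.mk (Subtype.ext hg)⟩
  have e : {C : ConjClasses N // ∃ u : N, ConjClasses.mk u = C ∧ IsConj x (j u)} ≃ d.range ⧸ R :=
    Equiv.ofBijective (fun C => cst (Function.surjInv hsur C))
      ⟨fun C C' h => by
        rw [← Function.surjInv_eq hsur C, ← Function.surjInv_eq hsur C']
        exact (hrel _ _).2 h,
      fun q => by
        obtain ⟨g, rfl⟩ := hsur' q
        exact ⟨cls g, (hrel _ _).1 (Function.surjInv_eq hsur (cls g))⟩⟩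
  rw [Nat.card_congr e, ← Subgroup.index_eq_card,
    ← Nat.card_congr (Subgroup.subgroupOfEquivOfLe hle).toEquiv, mul_comm]
  exact Subgroup.card_mul_index R

end CfsgLib.Classical.ClassTheory
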