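import Mathlib

/-!
# A product of two classes of `PSL` in dimension at least three is not a single class
-/

set_option autoImplicit false

namespace CfsgLib.Classical.ClassTheory.ClassProduct

open Matrix

variable {F : Type*} [Field F] {n : Type*} [Fintype n] [DecidableEq n]

/-- A vector in the kernel of one covector on which another takes the value one. -/
theorem exists_two_values {ψ χ : n → F} (hψ : ψ ≠ 0) (hχ : ∀ c : F, χ ≠ c • ψ) : ∃ u, ψ ⬝ᵥ u = 0 ∧ χ ⬝ᵥ u = 1 := by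
  obtain ⟨i, hi⟩ := Function.ne_iff.1 hψ
  obtain ⟨j, hj⟩ := Function.ne_iff.1 (hχ (χ i / ψ i))
  simp only [Pi.smul_apply, smul_eq_mul] at hj
  simp only [Pi.zero_apply] at hi
  have hr : χ j * ψ i - χ i * ψ j ≠ 0 := fun h => hj (by field_simp; linear_combination h)
  refine ⟨(χ j * ψ i - χ i * ψ j)⁻¹ • (Pi.single j (ψ i) - Pi.single i (ψ j)), ?_, ?_⟩
  · simp [dotProduct_sub, mul_comm]
  · simp only [dotProduct_smul, dotProduct_sub, dotProduct_single, smul_eq_mul]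
    exact inv_mul_cancel₀ hr

/-- The transvection `1 + u ⊗ φ`. -/
def tv (u φ : n → F) (h : φ ⬝ᵥ u = 0) : Matrix.SpecialLinearGroup n F :=
  ⟨1 + vecMulVec u φ, by
    rw [vecMulVec_eq Unit, det_one_add_replicateCol_mul_replicateRow, h, add_zero]⟩

theorem tv_mul_neg (u φ : n → F) (h : φ ⬝ᵥ u = 0) :
    tv u φ h * tv (-u) φ (by rw [dotProduct_neg, h, neg_zero]) = 1 := by
  apply Subtype.ext
  show (1 + vecMulVec u φ) * (1 + vecMulVec (-u) φ) = 1
  rw [Matrix.mul_add, Matrix.mul_one, Matrix.add_mul, Matrix.one_mul, neg_vecMulVec, Matrix.mul_neg,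
    vecMulVec_mul_vecMulVec, h]
  simp

theorem coe_tv_inv (u φ : n → F) (h : φ ⬝ᵥ u = 0) :
    ((tv u φ h)⁻¹ : Matrix.SpecialLinearGroup n F).1 = 1 - vecMulVec u φ := by
  rw [inv_eq_of_mul_eq_one_right (tv_mul_neg u φ h)]
  show 1 + vecMulVec (-u) φ = _
  rw [neg_vecMulVec, sub_eq_add_neg]

variable {B : Matrix.SpecialLinearGroup n F}

/-- Conjugation by a transvection. -/
theorem tv_conj (X : Matrix.SpecialLinearGroup n F) (u φ : n → F) (h : φ ⬝ᵥ u = 0) :
    ((tv u φ h * X) * B * (tv u φ h * X)⁻¹).1 = (X * B * X⁻¹).1 + (vecMulVec u (φ ᵥ* (X * B * X⁻¹).1)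
      - vecMulVec ((X * B * X⁻¹).1 *ᵥ u) φ - (φ ⬝ᵥ (X * B * X⁻¹).1 *ᵥ u) • vecMulVec u φ) := by
  rw [_root_.mul_inv_rev, show tv u φ h * X * B * (X⁻¹ * (tv u φ h)⁻¹) = tv u φ h * (X * B * X⁻¹) * (tv u φ h)⁻¹ by
    simp only [mul_assoc]]
  rw [Matrix.SpecialLinearGroup.coe_mul, Matrix.SpecialLinearGroup.coe_mul (tv u φ h) (X * B * X⁻¹), coe_tv_inv]
  set Y := (X * B * X⁻¹).1
  show (1 + vecMulVec u φ) * Y * (1 - vecMulVec u φ) = _
  rw [Matrix.mul_sub, Matrix.mul_one, Matrix.add_mul, Matrix.one_mul, Matrix.add_mul, vecMulVec_mul,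
    vecMulVec_mul_vecMulVec, mul_vecMulVec, ← dotProduct_mulVec, vecMulVec_smul]
  abel

/-- A linear functional constant on a class of non-scalar elements kills the trace zero rank one maps. -/
theorem functional_vanish (hn : 3 ≤ Fintype.card n) (hB : ∀ c : F, B.1 ≠ c • 1) (ℓ : Matrix n n F →ₗ[F] F)
    (hℓ : ∀ X : Matrix.SpecialLinearGroup n F, ℓ (X * B * X⁻¹).1 = ℓ B.1) {w ψ : n → F} (hwψ : ψ ⬝ᵥ w = 0) :
    ℓ (vecMulVec w ψ) = 0 := by
  rcases eq_or_ne ψ 0 with rfl | hψ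
  · simp
  -- a conjugate not fixing the line of `ψ`
  obtain ⟨X, hX⟩ : ∃ X : Matrix.SpecialLinearGroup n F, ∀ c : F, ψ ᵥ* (X * B * X⁻¹).1 ≠ c • ψ := by
    by_cases h1 : ∀ c : F, ψ ᵥ* B.1 ≠ c • ψ
    · exact ⟨1, by simpa using h1⟩
    push Not at h1
    obtain ⟨c, hc⟩ := h1
    obtain ⟨χ, hχ⟩ : ∃ χ : n → F, ∀ c' : F, χ ᵥ* B.1 ≠ c' • χ := by
      by_contra hne
      push Not at hne
      refine hB c (Matrix.ext_of_single_vecMul fun i => ?_)
      rw [vecMul_smul, vecMul_one]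
      obtain ⟨a, ha⟩ := hne (Pi.single i 1)
      obtain ⟨b, hb⟩ := hne (Pi.single i 1 + ψ)
      rw [add_vecMul, ha, hc] at hb
      rw [ha]
      by_cases hind : ∀ r : F, Pi.single i 1 ≠ r • ψ
      · obtain ⟨v, hv1, hv2⟩ := exists_two_values hψ hind
        obtain ⟨i', hi'⟩ := Function.ne_iff.1 hψ
        have e1 := congrArg (· ⬝ᵥ v) hb
        simp only [add_dotProduct, smul_dotProduct, hv1, hv2, smul_eq_mul] at e1
        have hab : a = b := by simpa using e1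
        rw [hab, smul_add, add_left_cancel_iff] at hb
        rw [hab, ← sub_eq_zero, ← sub_smul]
        have e2 := congrFun hb i'
        simp only [Pi.smul_apply, smul_eq_mul] at e2
        rw [mul_right_cancel₀ hi' e2, sub_self, zero_smul]
      · push Not at hind
        obtain ⟨r, hr⟩ := hind
        rw [← ha, hr, smul_vecMul, hc, smul_comm]
    have hind : ∀ r : F, χ ≠ r • ψ := fun r h => hχ c (by rw [h, smul_vecMul, hc, smul_comm])
    have hind' : ∀ r : F, χ - ψ ≠ r • ψ := fun r h => hind (r + 1) (by rw [add_smul, one_smul, ← h, sub_add_cancel])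
    have hδ : χ - ψ ≠ 0 := fun h => hind' 0 (by rw [h, zero_smul])
    have hindψ : ∀ r : F, ψ ≠ r • (χ - ψ) := fun r h => by
      rcases eq_or_ne r 0 with rfl | hr
      · exact hψ (by rw [h, zero_smul])
      · exact hind' r⁻¹ ((eq_inv_smul_iff₀ hr).2 h.symm)
    obtain ⟨u, hu1, hu2⟩ := exists_two_values hδ hindψ
    refine ⟨tv u (χ - ψ) hu1, fun c' h => hχ c' ?_⟩
    have hψT : ψ ᵥ* (tv u (χ - ψ) hu1).1 = χ := by
      show ψ ᵥ* (1 + vecMulVec u (χ - ψ)) = χ
      rw [vecMul_add, vecMul_one, vecMul_vecMulVec, hu2, one_smul, add_sub_cancel]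
    have := congrArg (· ᵥ* (tv u (χ - ψ) hu1).1) h
    simp only [vecMul_vecMul, smul_vecMul, hψT] at this
    rw [← Matrix.SpecialLinearGroup.coe_mul, inv_mul_cancel_right, Matrix.SpecialLinearGroup.coe_mul,
      ← vecMul_vecMul, hψT] at this
    exact this
  -- the quadratic identity
  have hquad : ∀ (X : Matrix.SpecialLinearGroup n F) (a b : n → F), ψ ⬝ᵥ a = 0 → ψ ⬝ᵥ b = 0 →
      (ψ ⬝ᵥ (X * B * X⁻¹).1 *ᵥ a) * ℓ (vecMulVec b ψ) + (ψ ⬝ᵥ (X * B * X⁻¹).1 *ᵥ b) * ℓ (vecMulVec a ψ) = 0 := by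
    intro X a b ha hb
    set Y := (X * B * X⁻¹).1 with hY
    have key : ∀ u : n → F, ψ ⬝ᵥ u = 0 → ℓ (vecMulVec u (ψ ᵥ* Y)) - ℓ (vecMulVec (Y *ᵥ u) ψ)
        - (ψ ⬝ᵥ Y *ᵥ u) * ℓ (vecMulVec u ψ) = 0 := fun u hu => by
      have h := hℓ (tv u ψ hu * X)
      rw [tv_conj, map_add, hℓ X, add_eq_left, map_sub, map_sub, map_smul] at h
      exact h
    have e1 := key a ha
    have e2 := key b hb
    have e3 := key (a + b) (by rw [dotProduct_add, ha, hb, add_zero])
    simp only [add_vecMulVec, mulVec_add, dotProduct_add, map_add] at e3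
    linear_combination e1 + e2 - e3
  set Y := (X * B * X⁻¹).1 with hY
  obtain ⟨b, hb1, hb2⟩ := exists_two_values hψ hX
  rw [← dotProduct_mulVec] at hb2
  have hα : ∀ a, ψ ⬝ᵥ a = 0 → ℓ (vecMulVec a ψ) = -((ψ ⬝ᵥ Y *ᵥ a) * ℓ (vecMulVec b ψ)) := fun a ha => by
    have := hquad X a b ha hb1
    rw [← hY, hb2] at this
    linear_combination this
  obtain ⟨a₀, ha₀, ha₁, ha₂⟩ : ∃ a₀ : n → F, ψ ⬝ᵥ a₀ = 0 ∧ ψ ⬝ᵥ Y *ᵥ a₀ = 0 ∧ a₀ ≠ 0 := by
    let f : (n → F) →ₗ[F] F × F := ((dotProductBilin F F) ψ).prod (((dotProductBilin F F) ψ).comp Y.mulVecLin)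
    have h := LinearMap.finrank_range_add_finrank_ker f
    have h2 := Submodule.finrank_le (LinearMap.range f)
    rw [Module.finrank_prod, Module.finrank_self] at h2
    rw [Module.finrank_pi] at h
    obtain ⟨a, ha, ha0⟩ := Submodule.exists_mem_ne_zero_of_ne_bot (p := LinearMap.ker f) fun h0 => by
      rw [h0, finrank_bot] at h; omega
    rw [LinearMap.mem_ker] at ha
    exact ⟨a, congrArg Prod.fst ha, congrArg Prod.snd ha, ha0⟩
  have hindab : ∀ r : F, a₀ ≠ r • b := fun r h => by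
    rw [h, mulVec_smul, dotProduct_smul, hb2, smul_eq_mul, mul_one] at ha₁
    rw [ha₁, zero_smul] at h
    exact ha₂ h
  obtain ⟨χ, hχb, hχa⟩ := exists_two_values (show b ≠ 0 from fun h => by simp [h] at hb2) hindab
  rw [dotProduct_comm] at hχb hχa
  have hb3 := hα a₀ ha₀
  rw [ha₁, zero_mul, neg_zero] at hb3
  -- a second conjugate
  set T := tv b χ hχb with hT
  have h2 := hquad (T * X) a₀ b ha₀ hb1
  rw [tv_conj, ← hY, hb3] at h2
  have hℓb : ℓ (vecMulVec b ψ) = 0 := by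
    simp only [add_mulVec, sub_mulVec, smul_mulVec, vecMulVec_mulVec, op_smul_eq_smul, dotProduct_add, dotProduct_sub,
      dotProduct_smul, hb1, hb2, ha₁, hχa, smul_eq_mul, mul_zero, zero_add, add_zero, sub_zero, mul_one, zero_sub,
      zero_mul, one_mul] at h2
    simpa using h2
  rw [hα w hwψ, hℓb, mul_zero, neg_zero]

/-- The trace of `A` times a conjugate of `B` takes every value. -/
theorem exists_trace_eq (hn : 3 ≤ Fintype.card n) {A : Matrix n n F} (hA : ∀ c : F, A ≠ c • 1)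
    (hB : ∀ c : F, B.1 ≠ c • 1) (c : F) :
    ∃ X : Matrix.SpecialLinearGroup n F, (A * (X * B * X⁻¹).1).trace = c := by
  obtain ⟨u, hu⟩ : ∃ u : n → F, ∀ r : F, A *ᵥ u ≠ r • u := by
    by_contra hne
    push Not at hne
    obtain ⟨i⟩ : Nonempty n := Fintype.card_pos_iff.1 (by omega)
    obtain ⟨r, hr⟩ := hne (Pi.single i 1)
    refine hA r (Matrix.ext_of_mulVec_single fun j => ?_)
    rw [smul_mulVec, one_mulVec]
    obtain ⟨a, ha⟩ := hne (Pi.single j 1)
    rw [ha]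
    rcases eq_or_ne i j with rfl | hij
    · rw [← ha, hr]
    obtain ⟨b, hb⟩ := hne (Pi.single i 1 + Pi.single j 1)
    rw [mulVec_add, hr, ha] at hb
    have e1 := congrFun hb i
    have e2 := congrFun hb j
    simp [Pi.single_apply, hij, hij.symm] at e1 e2
    rw [e2, e1]
  have hu0 : u ≠ 0 := fun h => hu 0 (by simp [h])
  obtain ⟨φ, hφu, hφA, hφ0⟩ : ∃ φ : n → F, φ ⬝ᵥ u = 0 ∧ φ ⬝ᵥ A *ᵥ u = 0 ∧ φ ≠ 0 := by
    let f : (n → F) →ₗ[F] F × F := ((dotProductBilin F F) u).prod ((dotProductBilin F F) (A *ᵥ u))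
    have h := LinearMap.finrank_range_add_finrank_ker f
    have h2 := Submodule.finrank_le (LinearMap.range f)
    rw [Module.finrank_prod, Module.finrank_self] at h2
    rw [Module.finrank_pi] at h
    obtain ⟨a, ha, ha0⟩ := Submodule.exists_mem_ne_zero_of_ne_bot (p := LinearMap.ker f) fun h0 => by
      rw [h0, finrank_bot] at h; omega
    rw [LinearMap.mem_ker] at ha
    exact ⟨a, (dotProduct_comm _ _).trans (congrArg Prod.fst ha), (dotProduct_comm _ _).trans (congrArg Prod.snd ha), ha0⟩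
  let ℓ : Matrix n n F →ₗ[F] F :=
    { toFun := fun M => φ ⬝ᵥ (M *ᵥ (A *ᵥ u) - A *ᵥ (M *ᵥ u))
      map_add' := fun M N => by simp only [add_mulVec, mulVec_add, dotProduct_sub, dotProduct_add]; ring
      map_smul' := fun r M => by simp only [smul_mulVec, mulVec_smul, ← smul_sub, dotProduct_smul, RingHom.id_apply] }
  obtain ⟨X, hX⟩ : ∃ X : Matrix.SpecialLinearGroup n F, ℓ (X * B * X⁻¹).1 ≠ 0 := by
    by_contra hne
    push Not at hne
    obtain ⟨i, hi⟩ := Function.ne_iff.1 hφ0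
    simp only [Pi.zero_apply] at hi
    -- a vector off the plane and a covector on it
    let w : n → F := Pi.single i (φ i)⁻¹
    have hφw : φ ⬝ᵥ w = 1 := by simp [w, mul_inv_cancel₀ hi]
    let f : (n → F) →ₗ[F] F × F × F :=
      ((dotProductBilin F F) u).prod (((dotProductBilin F F) (A *ᵥ u)).prod ((dotProductBilin F F) w))
    have hf : Function.Surjective f := by
      rw [← LinearMap.range_eq_top, ← Submodule.dualAnnihilator_eq_bot_iff, Submodule.eq_bot_iff]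
      intro g hg
      rw [Submodule.mem_dualAnnihilator] at hg
      have hg' : ∀ χ : n → F, g (1, 0, 0) * (u ⬝ᵥ χ) + g (0, 1, 0) * (A *ᵥ u ⬝ᵥ χ) + g (0, 0, 1) * (w ⬝ᵥ χ) = 0 :=
        fun χ => by
        have := hg (f χ) ⟨χ, rfl⟩
        rw [show f χ = (u ⬝ᵥ χ) • ((1, 0, 0) : F × F × F) + (A *ᵥ u ⬝ᵥ χ) • (0, 1, 0) + (w ⬝ᵥ χ) • (0, 0, 1) by
          simp [f, dotProductBilin]] at this
        simp only [map_add, map_smul, smul_eq_mul] at this
        linear_combination this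
      have hz : g (1, 0, 0) • u + g (0, 1, 0) • (A *ᵥ u) + g (0, 0, 1) • w = 0 := dotProduct_eq_zero _ fun χ => by
        simp only [add_dotProduct, smul_dotProduct, smul_eq_mul]; exact hg' χ
      have e3 := congrArg (φ ⬝ᵥ ·) hz
      simp only [dotProduct_add, dotProduct_smul, hφu, hφA, hφw, smul_eq_mul, mul_zero, zero_add, mul_one,
        dotProduct_zero] at e3
      rw [e3, zero_smul, add_zero] at hz
      have e2 : g (0, 1, 0) = 0 := by
        by_contra h2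
        refine hu (-(g (0, 1, 0))⁻¹ * g (1, 0, 0)) ?_
        rw [neg_mul, neg_smul, ← smul_smul, eq_neg_iff_add_eq_zero]
        apply smul_right_injective (n → F) h2
        simp only [smul_add, smul_smul, mul_inv_cancel₀ h2, one_mul, ← mul_assoc, smul_zero]
        rw [add_comm]; exact hz
      rw [e2, zero_smul, add_zero, smul_eq_zero] at hz
      have e1 := hz.resolve_right hu0
      refine LinearMap.ext fun p => ?_
      rw [show p = p.1 • ((1, 0, 0) : F × F × F) + p.2.1 • (0, 1, 0) + p.2.2 • (0, 0, 1) by simp]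
      rw [map_add, map_add, map_smul, map_smul, map_smul, e1, e2, e3]
      simp
    obtain ⟨ψ, hψ⟩ := hf (0, 1, 0)
    have hψu : ψ ⬝ᵥ u = 0 := (dotProduct_comm _ _).trans (congrArg Prod.fst hψ)
    have hψA : ψ ⬝ᵥ A *ᵥ u = 1 := (dotProduct_comm _ _).trans (congrArg (fun p => p.2.1) hψ)
    have hψw : ψ ⬝ᵥ w = 0 := (dotProduct_comm _ _).trans (congrArg (fun p => p.2.2) hψ)
    have h0 := functional_vanish hn hB ℓ (fun Y => by rw [hne Y]; exact (by simpa using (hne 1).symm)) hψw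
    change φ ⬝ᵥ (vecMulVec w ψ *ᵥ (A *ᵥ u) - A *ᵥ (vecMulVec w ψ *ᵥ u)) = 0 at h0
    rw [vecMulVec_mulVec, vecMulVec_mulVec, op_smul_eq_smul, op_smul_eq_smul, hψA, hψu, one_smul, zero_smul,
      mulVec_zero, sub_zero, hφw] at h0
    exact one_ne_zero h0
  set Y := (X * B * X⁻¹).1 with hY
  let s := (c - (A * Y).trace) / ℓ Y
  have hs : φ ⬝ᵥ (s • u) = 0 := by rw [dotProduct_smul, hφu, smul_zero]
  refine ⟨tv (s • u) φ hs * X, ?_⟩
  rw [tv_conj, ← hY, Matrix.mul_add, Matrix.mul_sub, Matrix.mul_sub, Matrix.mul_smul, trace_add, trace_sub, trace_sub,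
    trace_smul, mul_vecMulVec, mul_vecMulVec, mul_vecMulVec, trace_vecMulVec, trace_vecMulVec, trace_vecMulVec,
    dotProduct_comm _ φ, dotProduct_comm _ (φ ᵥ* Y), ← dotProduct_mulVec]
  simp only [mulVec_smul, dotProduct_smul, hφA, smul_eq_mul, mul_zero, sub_zero]
  have : s * (φ ⬝ᵥ Y *ᵥ (A *ᵥ u)) - s * (φ ⬝ᵥ A *ᵥ (Y *ᵥ u)) = s * ℓ Y := by
    rw [← mul_sub, ← dotProduct_sub]; rfl
  rw [this, div_mul_cancel₀ _ hX, smul_dotProduct, dotProduct_comm (A *ᵥ u) φ, hφA]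
  simp

end CfsgLib.Classical.ClassTheory.ClassProduct
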