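import Cfsg.Agent.Lib.Classical.ClassTheory.SelfDual
import Cfsg.Agent.Lib.Known.SemisimplePrimeOrder

/-!
# Semisimple elements of prime order through multiplicities of cyclotomic factors
-/

set_option autoImplicit false

open Polynomial UniqueFactorizationMonoid

namespace CfsgLib.Classical.ClassTheory

open CfsgLib.Known

universe u

variable {F : Type u} [Field F] (r : ℕ)

/-- The monic irreducible factors of the `r`-th cyclotomic polynomial. -/
noncomputable def cycFactors (F : Type*) [Field F] (r : ℕ) : Finset F[X] := by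
  classical exact (normalizedFactors (cyclotomic r F)).toFinset

/-- The factors with multiplicity `a`, filled up by `X - 1`. -/
noncomputable def multFactors (n i : ℕ) (a : cycFactors F r → ℕ) : Multiset F[X] :=
  Multiset.replicate (n - i * ∑ j, a j) (X - C 1) + ∑ j : cycFactors F r, Multiset.replicate (a j) (j : F[X])

/-- The polynomial with multiplicities `a`. -/
noncomputable def multPoly (n i : ℕ) (a : cycFactors F r → ℕ) : F[X] := (multFactors r n i a).prod

theorem multPoly_eq (n i : ℕ) (a : cycFactors F r → ℕ) :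
    multPoly r n i a = (X - C 1) ^ (n - i * ∑ j, a j) * ∏ j : cycFactors F r, (j : F[X]) ^ a j := by
  classical
  rw [multPoly, multFactors, Multiset.prod_add, Multiset.prod_replicate]
  congr 1
  induction (Finset.univ : Finset (cycFactors F r)) using Finset.induction_on with
  | empty => simp
  | insert b s hb ih => rw [Finset.sum_insert hb, Finset.prod_insert hb, Multiset.prod_add, ih, Multiset.prod_replicate]

theorem multFactors_zero (n i : ℕ) :
    multPoly r n i (0 : cycFactors F r → ℕ) = (X - C 1) ^ n := by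
  simp [multPoly_eq]

section Members

variable {r} {f : F[X]} (hr : r.Prime) (hrF : (r : F) ≠ 0) (hf : f ∈ cycFactors F r)

include hf in
theorem mem_cycFactors_irreducible : Irreducible f ∧ f.Monic := by
  classical
  rw [cycFactors, Multiset.mem_toFinset] at hf
  refine ⟨irreducible_of_normalized_factor f hf, ?_⟩
  rw [← normalize_normalized_factor f hf]
  exact monic_normalize (irreducible_of_normalized_factor f hf).ne_zero

include hr hf in
theorem mem_cycFactors_dvd : f ∣ X ^ r - 1 := by
  classical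
  haveI : Fact r.Prime := ⟨hr⟩
  rw [cycFactors, Multiset.mem_toFinset] at hf
  exact (dvd_of_mem_normalizedFactors hf).trans ⟨X - 1, (cyclotomic_prime_mul_X_sub_one F r).symm⟩

include hr hf in
theorem mem_cycFactors_coeff_zero : f.coeff 0 ≠ 0 := by
  obtain ⟨c, hc⟩ := mem_cycFactors_dvd hr hf
  intro h0
  have := congrArg (fun g => g.coeff 0) hc
  simp [mul_coeff_zero, h0, hr.ne_zero.symm] at this

include hr hrF hf in
theorem mem_cycFactors_ne : f ≠ X - C 1 := by
  classical
  haveI : Fact r.Prime := ⟨hr⟩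
  rw [cycFactors, Multiset.mem_toFinset] at hf
  rintro rfl
  have hroot : (cyclotomic r F).IsRoot 1 := dvd_iff_isRoot.1 (dvd_of_mem_normalizedFactors hf)
  rw [IsRoot.def, eval_one_cyclotomic_prime] at hroot
  exact hrF hroot

include hr in
theorem eq_or_mem_cycFactors {g : F[X]} (hg : Irreducible g) (hgm : g.Monic) (hgd : g ∣ X ^ r - 1) :
    g = X - C 1 ∨ g ∈ cycFactors F r := by
  classical
  haveI : Fact r.Prime := ⟨hr⟩
  rw [← cyclotomic_prime_mul_X_sub_one F r] at hgd
  rcases hg.prime.dvd_mul.1 hgd with h | h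
  · obtain ⟨g', hg', hass⟩ := exists_mem_normalizedFactors_of_dvd (cyclotomic_ne_zero r F) hg h
    refine Or.inr ?_
    rw [cycFactors, Multiset.mem_toFinset]
    have hm : g'.Monic := (mem_cycFactors_irreducible (r := r) (by rw [cycFactors, Multiset.mem_toFinset]; exact hg')).2
    exact eq_of_monic_of_associated hgm hm hass ▸ hg'
  · refine Or.inl (eq_of_monic_of_associated hgm (monic_X_sub_C 1) (hg.associated_of_dvd (irreducible_X_sub_C 1) ?_))
    rwa [C_1]

end Members

variable {r} [Fintype F] {p : ℕ} [Fact p.Prime] [CharP F p] (hr : r.Prime) (hrp : r ≠ p) {i t : ℕ}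
  (hi : i = orderOf (Fintype.card F : ZMod r)) (ht : t * i = r - 1)

include hr hrp in
omit [Fintype F] in
theorem natCast_prime_ne_zero : (r : F) ≠ 0 := by
  rw [Ne, CharP.cast_eq_zero_iff F p]
  exact fun h => hrp ((Nat.prime_dvd_prime_iff_eq Fact.out hr).1 h).symm

include p hr hrp hi ht in
theorem cycFactors_facts :
    (∀ f ∈ cycFactors F r, f.natDegree = i) ∧ (cycFactors F r).card = t ∧ 0 < i := by
  classical
  haveI : Fact r.Prime := ⟨hr⟩
  obtain ⟨f₀, hf₀, hq⟩ := FiniteField.card F p
  have hcop : p.Coprime r := (Nat.coprime_primes Fact.out hr).2 (Ne.symm hrp)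
  have hord : orderOf (ZMod.unitOfCoprime _ (hcop.pow_left (f₀ : ℕ))) = i := by
    rw [← orderOf_units, ZMod.coe_unitOfCoprime, hi, hq]
  have hi0 : 0 < i := hord ▸ orderOf_pos _
  refine ⟨fun f hf => ?_, ?_, hi0⟩
  · rw [cycFactors, Multiset.mem_toFinset] at hf
    rw [natDegree_of_mem_normalizedFactors_cyclotomic hq hcop hf, hord]
  · rw [cycFactors, normalizedFactors_cyclotomic_card hq hcop, hord, Nat.totient_prime hr, ← ht,
      Nat.mul_div_cancel _ hi0]

include p hr hrp hi ht in
theorem multPoly_facts (n : ℕ) (a : cycFactors F r → ℕ) (ha : i * ∑ j, a j ≤ n) :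
    (multPoly r n i a).Monic ∧ (multPoly r n i a).natDegree = n ∧ (multPoly r n i a).coeff 0 ≠ 0 := by
  classical
  have hdeg := (cycFactors_facts hr hrp hi ht (p := p) (F := F)).1
  rw [multPoly_eq]
  have hm1 : ((X - C 1 : F[X]) ^ (n - i * ∑ j, a j)).Monic := (monic_X_sub_C 1).pow _
  have hm2 : (∏ j : cycFactors F r, (j : F[X]) ^ a j).Monic :=
    monic_prod_of_monic _ _ fun j _ => (mem_cycFactors_irreducible j.2).2.pow _
  refine ⟨hm1.mul hm2, ?_, ?_⟩
  · rw [hm1.natDegree_mul hm2, natDegree_pow, natDegree_X_sub_C, mul_one,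
      natDegree_prod_of_monic _ _ fun j _ => (mem_cycFactors_irreducible j.2).2.pow _]
    simp only [natDegree_pow, hdeg _ (Subtype.coe_prop _)]
    rw [← Finset.sum_mul, mul_comm _ i]
    omega
  · rw [mul_coeff_zero, coeff_zero_eq_eval_zero ((X - C 1 : F[X]) ^ _), eval_pow, eval_sub, eval_X, eval_C, zero_sub,
      coeff_zero_eq_eval_zero, eval_prod]
    refine mul_ne_zero (pow_ne_zero _ (neg_ne_zero.2 one_ne_zero)) (Finset.prod_ne_zero_iff.2 fun j _ => ?_)
    rw [eval_pow, ← coeff_zero_eq_eval_zero]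
    exact pow_ne_zero _ (mem_cycFactors_coeff_zero hr j.2)

include p hr hrp in
open scoped _root_.Classical in
theorem normalizedFactors_multPoly (n : ℕ) (a : cycFactors F r → ℕ) :
    normalizedFactors (multPoly r n i a) = multFactors r n i a ∧
      ∀ j : cycFactors F r, (multFactors r n i a).count (j : F[X]) = a j := by
  have hmem : ∀ f ∈ multFactors r n i a, Irreducible f ∧ f.Monic := by
    intro f hf
    rcases Multiset.mem_add.1 hf with h | h
    · rw [Multiset.eq_of_mem_replicate h]; exact ⟨irreducible_X_sub_C 1, monic_X_sub_C 1⟩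
    · obtain ⟨j, -, hj⟩ := Multiset.mem_sum.1 h
      exact Multiset.eq_of_mem_replicate hj ▸ mem_cycFactors_irreducible j.2
  refine ⟨?_, fun j => ?_⟩
  · rw [multPoly, normalizedFactors_prod_eq _ fun f hf => (hmem f hf).1]
    conv_rhs => rw [← Multiset.map_id (multFactors r n i a)]
    exact Multiset.map_congr rfl fun f hf => (hmem f hf).2.normalize_eq_self
  · rw [multFactors, Multiset.count_add, Multiset.count_sum', Multiset.count_replicate,
      if_neg (Ne.symm (mem_cycFactors_ne hr (natCast_prime_ne_zero (p := p) hr hrp) j.2)), zero_add,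
      Finset.sum_eq_single j]
    · rw [Multiset.count_replicate_self]
    · intro k _ hk
      rw [Multiset.count_replicate, if_neg fun h => hk (Subtype.ext h)]
    · simp

include p hr hrp in
theorem multPoly_injective (n i : ℕ) {a b : cycFactors F r → ℕ} (h : multPoly r n i a = multPoly r n i b) : a = b := by
  classical
  funext j
  rw [← (normalizedFactors_multPoly hr hrp (p := p) n a).2 j, ← (normalizedFactors_multPoly hr hrp (p := p) n a).1, h,
    (normalizedFactors_multPoly hr hrp (p := p) n b).1, (normalizedFactors_multPoly hr hrp (p := p) n b).2]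

include p hr hrp hi ht in
/-- Elements with `g ^ r = 1`. -/
theorem exists_mult_of_pow {n : ℕ} (g : GL (Fin n) F) (hg : g ^ r = 1) :
    ∃ a : cycFactors F r → ℕ, i * ∑ j, a j ≤ n ∧
      (g : Matrix (Fin n) (Fin n) F).charpoly = multPoly r n i a := by
  classical
  have hdegI := (cycFactors_facts hr hrp hi ht (p := p) (F := F)).1
  have hrF : (r : F) ≠ 0 := natCast_prime_ne_zero (p := p) hr hrp
  set χ := (g : Matrix (Fin n) (Fin n) F).charpoly
  have hχ : χ.Monic := Matrix.charpoly_monic _
  have hχd : χ.natDegree = n := by rw [Matrix.charpoly_natDegree_eq_dim, Fintype.card_fin]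
  have hmfac : ∀ f ∈ normalizedFactors χ, f = X - C 1 ∨ f ∈ cycFactors F r := by
    intro f hf
    have hirr := irreducible_of_normalized_factor f hf
    refine eq_or_mem_cycFactors hr hirr ?_ ?_
    · rw [← normalize_normalized_factor f hf]
      exact monic_normalize hirr.ne_zero
    · let A := Matrix.toLinAlgEquiv' (R := F) (n := Fin n)
      have hcp : (A (g : Matrix (Fin n) (Fin n) F)).charpoly = χ := Matrix.charpoly_toLin' _
      refine (SemisimpleClass.dvd_minpoly_of_dvd_charpoly (A (g : Matrix (Fin n) (Fin n) F)) hirr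
        (hcp ▸ dvd_of_mem_normalizedFactors hf)).trans (minpoly.dvd F _ ?_)
      rw [map_sub, map_pow, aeval_X, map_one, ← map_pow, ← Units.val_pow_eq_pow_val, hg, Units.val_one, map_one,
        sub_self]
  let a : cycFactors F r → ℕ := fun j => (normalizedFactors χ).count (j : F[X])
  have heq : normalizedFactors χ = Multiset.replicate ((normalizedFactors χ).count (X - C 1)) (X - C 1) +
      ∑ j : cycFactors F r, Multiset.replicate (a j) (j : F[X]) := by
    ext f
    rw [Multiset.count_add, Multiset.count_sum', Multiset.count_replicate]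
    by_cases hfL : f = X - C 1
    · subst hfL
      rw [if_pos rfl, Finset.sum_eq_zero, add_zero]
      intro j _
      rw [Multiset.count_replicate, if_neg fun h : (j : F[X]) = X - C 1 => mem_cycFactors_ne hr hrF j.2 h]
    rw [if_neg (Ne.symm hfL), zero_add]
    by_cases hfΦ : f ∈ cycFactors F r
    · rw [Finset.sum_eq_single (⟨f, hfΦ⟩ : cycFactors F r)]
      · rw [Multiset.count_replicate_self]
      · intro j _ hj
        rw [Multiset.count_replicate, if_neg fun h => hj (Subtype.ext h)]
      · simp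
    · rw [Multiset.count_eq_zero_of_notMem fun h => (hmfac f h).elim hfL hfΦ, Finset.sum_eq_zero]
      intro j _
      rw [Multiset.count_replicate, if_neg fun h : (j : F[X]) = f => hfΦ (h ▸ j.2)]
  have hprod : (normalizedFactors χ).prod = χ := by
    rw [prod_normalizedFactors_eq hχ.ne_zero, hχ.normalize_eq_self]
  have hd := congrArg natDegree hprod
  rw [hχd, heq, natDegree_multiset_prod_of_monic, Multiset.map_add, Multiset.sum_add, Multiset.map_replicate,
    Multiset.sum_replicate, natDegree_X_sub_C, smul_eq_mul, mul_one] at hd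
  · have hsum : ((∑ j : cycFactors F r, Multiset.replicate (a j) (j : F[X])).map natDegree).sum = i * ∑ j, a j := by
      rw [← Multiset.coe_mapAddMonoidHom, map_sum, Multiset.sum_sum]
      rw [Finset.mul_sum]
      refine Finset.sum_congr rfl fun j _ => ?_
      rw [Multiset.coe_mapAddMonoidHom, Multiset.map_replicate, Multiset.sum_replicate, smul_eq_mul,
        hdegI _ j.2, mul_comm]
    rw [hsum] at hd
    refine ⟨a, by omega, ?_⟩
    show χ = _
    rw [multPoly, multFactors, ← show (normalizedFactors χ).count (X - C 1) = n - i * ∑ j, a j by omega, ← heq,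
      hprod]
  · rw [← heq]
    intro f hf
    rcases hmfac f hf with rfl | h
    exacts [monic_X_sub_C 1, (mem_cycFactors_irreducible h).2]

include p hr hrp in
theorem pow_eq_one_of_mult {n : ℕ} (g : GL (Fin n) F) (hg : (orderOf g).Coprime p) {a : cycFactors F r → ℕ}
    (hga : (g : Matrix (Fin n) (Fin n) F).charpoly = multPoly r n i a) : g ^ r = 1 := by
  refine SemisimplePrimeOrder.pow_eq_one_of_factors (p := p) hr.pos g hg fun f hf => ?_
  rw [hga, (normalizedFactors_multPoly hr hrp (p := p) n a).1] at hf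
  rcases Multiset.mem_add.1 hf with h | h
  · haveI : Fact r.Prime := ⟨hr⟩
    rw [Multiset.eq_of_mem_replicate h, C_1, ← cyclotomic_prime_mul_X_sub_one F r]
    exact dvd_mul_left _ _
  · obtain ⟨j, -, hj⟩ := Multiset.mem_sum.1 h
    exact Multiset.eq_of_mem_replicate hj ▸ mem_cycFactors_dvd hr j.2

include p hr hrp hi ht in
/-- Classes of elements of order `r` in a linear group in which the characteristic polynomial determines
semisimple classes. -/
theorem card_prime_classes {G : Type*} [Group G] {n : ℕ} (ρ : G →* GL (Fin n) F) (hρ : Function.Injective ρ)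
    (hconj : ∀ g h : G, orderOf g = r → orderOf h = r →
      (ρ g : Matrix (Fin n) (Fin n) F).charpoly = (ρ h : Matrix (Fin n) (Fin n) F).charpoly → IsConj g h)
    (P : (cycFactors F r → ℕ) → Prop)
    (hP : ∀ a, i * ∑ j, a j ≤ n →
      ((∃ g : G, (orderOf g).Coprime p ∧ (ρ g : Matrix (Fin n) (Fin n) F).charpoly = multPoly r n i a) ↔ P a)) :
    Nat.card {C : ConjClasses G // ∃ g : G, ConjClasses.mk g = C ∧ orderOf g = r} =
      Nat.card {a : cycFactors F r → ℕ // i * ∑ j, a j ≤ n ∧ P a} - 1 := by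
  classical
  have hi0 := (cycFactors_facts hr hrp hi ht (p := p) (F := F)).2.2
  let T := {a : cycFactors F r → ℕ // i * ∑ j, a j ≤ n ∧ P a}
  have hcop' : ∀ g : G, orderOf g = r → (orderOf g).Coprime p := fun g h =>
    h ▸ (Nat.coprime_primes hr Fact.out).2 hrp
  have hone : ((1 : GL (Fin n) F) : Matrix (Fin n) (Fin n) F).charpoly = multPoly r n i 0 := by
    show Matrix.charpoly (1 : Matrix (Fin n) (Fin n) F) = _
    rw [Matrix.charpoly_one, Fintype.card_fin, multFactors_zero, C_1]
  have hz : i * ∑ _j : cycFactors F r, 0 ≤ n := by simp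
  let zero : T := ⟨0, hz, (hP 0 hz).1 ⟨1, by simp, by rw [map_one, hone]⟩⟩
  have hvec : ∀ g : G, g ^ r = 1 → ∃ a : T, (ρ g : Matrix (Fin n) (Fin n) F).charpoly = multPoly r n i a.1 := by
    intro g hg
    obtain ⟨a, ha, hga⟩ := exists_mult_of_pow hr hrp hi ht (p := p) (ρ g) (by rw [← map_pow, hg, map_one])
    refine ⟨⟨a, ha, (hP a ha).1 ⟨g, ?_, hga⟩⟩, hga⟩
    exact Nat.Coprime.coprime_dvd_left (orderOf_dvd_of_pow_eq_one hg) ((Nat.coprime_primes hr Fact.out).2 hrp)
  haveI : Finite T := Finite.of_injective (fun a : T => fun j => (⟨a.1 j, Nat.lt_succ_of_le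
    ((Finset.single_le_sum (f := a.1) (fun _ _ => Nat.zero_le _) (Finset.mem_univ j)).trans
      ((Nat.le_mul_of_pos_left _ hi0).trans a.2.1))⟩ : Fin (n + 1)))
    fun a b h => Subtype.ext (funext fun j => by simpa using congrFun h j)
  let S := {C : ConjClasses G // ∃ g : G, ConjClasses.mk g = C ∧ orderOf g = r}
  choose rep hrep hrepo using fun C : S => C.2
  choose vec hv using fun C : S => hvec (rep C) (orderOf_dvd_iff_pow_eq_one.1 (hrepo C ▸ dvd_rfl))
  let e : S ≃ {a : T // ¬ a = zero} := Equiv.ofBijective (fun C => ⟨vec C, fun h => by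
      have hc : ρ (rep C) = 1 := isConj_one_right.1 (SemisimpleClass.isConj_of_charpoly_eq (1 : GL (Fin n) F) (ρ (rep C))
        (by simp) (by rw [orderOf_injective ρ hρ]; exact hcop' _ (hrepo C)) (by rw [hone, hv C, h]))
      rw [← map_one ρ] at hc
      exact hr.ne_one ((hrepo C).symm.trans (by rw [hρ hc, orderOf_one]))⟩) ⟨fun C D h => by
      have h' : vec C = vec D := congrArg Subtype.val h
      apply Subtype.ext
      rw [← hrep C, ← hrep D]
      exact ConjClasses.mk_eq_mk_iff_isConj.2 (hconj _ _ (hrepo C) (hrepo D) (by rw [hv, hv, h'])), fun ⟨a, ha⟩ => by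
      obtain ⟨g, hgc, hga⟩ := (hP a.1 a.2.1).2 a.2.2
      have hgr : g ^ r = 1 := hρ (by
        rw [map_pow, map_one, pow_eq_one_of_mult hr hrp (p := p) (ρ g) (by rwa [orderOf_injective ρ hρ]) hga])
      have hgo : orderOf g = r := by
        haveI : Fact r.Prime := ⟨hr⟩
        refine orderOf_eq_prime hgr fun h1 => ha (Subtype.ext (multPoly_injective hr hrp (p := p) n i ?_))
        rw [← hga, h1, map_one, hone]
      let C : S := ⟨ConjClasses.mk g, g, rfl, hgo⟩
      refine ⟨C, Subtype.ext (Subtype.ext (multPoly_injective hr hrp (p := p) n i ?_))⟩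
      show multPoly r n i (vec C).1 = multPoly r n i a.1
      obtain ⟨k, hk⟩ := isConj_iff.1 ((ConjClasses.mk_eq_mk_iff_isConj.1 (hrep C)))
      rw [← hv C, ← hga, ← hk, map_mul, map_mul, map_inv, Units.val_mul, Units.val_mul, Matrix.charpoly_mul_comm,
        ← mul_assoc, Units.inv_mul, one_mul]⟩
  haveI := Fintype.ofFinite T
  rw [Nat.card_congr e, Nat.card_eq_fintype_card, Fintype.card_subtype_compl, Fintype.card_subtype_eq,
    Nat.card_eq_fintype_card]

section Dual

variable (σ : F →+* F) (hσ : ∀ a, σ (σ a) = a)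

/-- `dualPoly` as a monoid homomorphism. -/
noncomputable def dualHom : F[X] →* F[X] where
  toFun := dualPoly σ
  map_one' := dualPoly_one σ
  map_mul' := dualPoly_mul σ

omit [Fintype F] in
theorem dualPoly_X_sub_one : dualPoly σ (X - C 1 : F[X]) = X - C 1 := by
  have h0 : (X - C 1 : F[X]).coeff 0 ≠ 0 := by simp
  rw [(monic_dualPoly σ h0).eq_X_add_C (by rw [natDegree_dualPoly σ h0, natDegree_X_sub_C]),
    dualPoly_coeff_zero σ (monic_X_sub_C 1)]
  simp [sub_eq_add_neg]

include hr hrp hσ in
theorem dualPoly_mem_cycFactors {f : F[X]} (hf : f ∈ cycFactors F r) : dualPoly σ f ∈ cycFactors F r := by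
  obtain ⟨hirr, hfm⟩ := mem_cycFactors_irreducible hf
  have hf0 := mem_cycFactors_coeff_zero hr hf
  have hX : dualPoly σ (X ^ r - 1 : F[X]) = X ^ r - 1 := by
    have h0 : ((X ^ r - 1 : F[X])).coeff 0 = -1 := by simp [hr.ne_zero.symm]
    have hd : (X ^ r - 1 : F[X]).natDegree = r := by rw [← C_1, natDegree_X_pow_sub_C]
    ext k
    rw [coeff_dualPoly, h0, hd, map_neg, map_one, inv_neg_one]
    simp only [coeff_sub, coeff_X_pow, coeff_one]
    have hr0 : r ≠ 0 := hr.ne_zero
    rcases le_or_gt k r with h | h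
    · rw [revAt_le h]
      rcases Nat.eq_zero_or_pos k with rfl | hk
      · simp [hr0, Ne.symm hr0]
      rcases eq_or_lt_of_le h with rfl | h'
      · simp [hr0, Ne.symm hr0]
      · rw [if_neg (by omega), if_neg (by omega), if_neg (by omega), if_neg (by omega)]
        simp
    · rw [revAt_eq_self_of_lt h, if_neg (by omega), if_neg (by omega)]
      simp
  have hdvd : dualPoly σ f ∣ X ^ r - 1 := by
    obtain ⟨c, hc⟩ := mem_cycFactors_dvd hr hf
    rw [← hX, hc, dualPoly_mul]
    exact dvd_mul_right _ _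
  refine (eq_or_mem_cycFactors hr (irreducible_dualPoly σ hσ hfm hirr hf0) (monic_dualPoly σ hf0) hdvd).resolve_left
    fun h => mem_cycFactors_ne hr (natCast_prime_ne_zero (p := p) hr hrp) hf ?_
  rw [← dualPoly_dualPoly σ hσ hfm hf0, h, dualPoly_X_sub_one]

/-- The involution of the factors. -/
noncomputable def dualPerm : Equiv.Perm (cycFactors F r) where
  toFun j := ⟨dualPoly σ j, dualPoly_mem_cycFactors (p := p) hr hrp σ hσ j.2⟩
  invFun j := ⟨dualPoly σ j, dualPoly_mem_cycFactors (p := p) hr hrp σ hσ j.2⟩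
  left_inv j := Subtype.ext (dualPoly_dualPoly σ hσ (mem_cycFactors_irreducible j.2).2 (mem_cycFactors_coeff_zero hr j.2))
  right_inv j := Subtype.ext (dualPoly_dualPoly σ hσ (mem_cycFactors_irreducible j.2).2 (mem_cycFactors_coeff_zero hr j.2))

theorem dualPerm_invol (j : cycFactors F r) :
    dualPerm (p := p) hr hrp σ hσ (dualPerm (p := p) hr hrp σ hσ j) = j :=
  (dualPerm (p := p) hr hrp σ hσ).left_inv j

include hr hrp hσ in
theorem dualPoly_multPoly_iff (n i : ℕ) (a : cycFactors F r → ℕ) :
    dualPoly σ (multPoly r n i a) = multPoly r n i a ↔ a ∘ dualPerm (p := p) hr hrp σ hσ = a := by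
  set δ := dualPerm (p := p) hr hrp σ hσ
  have h : dualPoly σ (multPoly r n i a) = multPoly r n i (a ∘ δ) := by
    show dualHom σ (multPoly r n i a) = _
    rw [multPoly_eq, multPoly_eq, map_mul, map_pow, map_prod]
    congr 1
    · show dualPoly σ (X - C 1) ^ _ = _
      rw [dualPoly_X_sub_one]
      congr 2
      congr 1
      exact (Equiv.sum_comp δ a).symm
    · refine (Fintype.prod_equiv δ _ _ fun j => ?_)
      rw [map_pow, Function.comp_apply, dualPerm_invol]
      rfl
  rw [h]
  exact ⟨multPoly_injective hr hrp (p := p) n i, fun e => by rw [e]⟩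

include p hr hrp hσ in
/-- When a factor is self-dual. -/
theorem dualPoly_eq_self_iff {f : F[X]} (hf : f ∈ cycFactors F r) (s : ℕ)
    (hψ : ∀ (L : Type u) [Field L] [Algebra F L],
      ∃ ψ : L →+* L, (∀ a, ψ (algebraMap F L a) = algebraMap F L (σ a)) ∧ ∀ z, ψ z = z ^ s) :
    dualPoly σ f = f ↔ ∃ k : ℕ, (Fintype.card F : ZMod r) ^ k = -(s : ZMod r) := by
  classical
  obtain ⟨hirr, hfm⟩ := mem_cycFactors_irreducible hf
  have hf0 := mem_cycFactors_coeff_zero hr hf
  have hrF : (r : F) ≠ 0 := natCast_prime_ne_zero (p := p) hr hrp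
  haveI : Fact (Irreducible f) := ⟨hirr⟩
  haveI : FiniteDimensional F (AdjoinRoot f) := (AdjoinRoot.powerBasis hirr.ne_zero).finite
  haveI : Finite (AdjoinRoot f) := Module.finite_of_finite F
  haveI : Algebra.IsAlgebraic F (AdjoinRoot f) := Algebra.IsAlgebraic.of_finite F _
  obtain ⟨ψ, hψa, hψz⟩ := hψ (AdjoinRoot f)
  set x := AdjoinRoot.root f
  set am := algebraMap F (AdjoinRoot f)
  have hroot : f.eval₂ am x = 0 := by
    show f.eval₂ (algebraMap F (AdjoinRoot f)) x = 0
    rw [AdjoinRoot.algebraMap_eq]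
    exact AdjoinRoot.eval₂_root f
  have hxr : x ^ r = 1 := by
    obtain ⟨c, hc⟩ := mem_cycFactors_dvd hr hf
    have := congrArg (fun g : F[X] => g.eval₂ am x) hc
    simp only [eval₂_sub, eval₂_pow, eval₂_X, eval₂_one, eval₂_mul, hroot, zero_mul, sub_eq_zero] at this
    exact this
  have hx1 : x ≠ 1 := by
    intro h
    refine mem_cycFactors_ne hr hrF hf (eq_of_monic_of_associated hfm (monic_X_sub_C 1)
      ((irreducible_X_sub_C (1 : F)).associated_of_dvd hirr ?_).symm)
    rw [dvd_iff_isRoot, IsRoot.def]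
    refine am.injective ?_
    rw [map_zero, ← eval₂_at_apply, map_one, ← h]
    exact hroot
  have hord : orderOf x = r := by
    haveI : Fact r.Prime := ⟨hr⟩
    exact orderOf_eq_prime hxr hx1
  have hx0 : x ≠ 0 := fun h => by rw [h, zero_pow hr.ne_zero] at hxr; exact zero_ne_one hxr
  have hpow : ∀ a b : ℕ, x ^ a = x ^ b ↔ (a : ZMod r) = b := fun a b => by
    have hu : orderOf (Units.mk0 x hx0) = r := by rw [← orderOf_units]; exact hord
    have e : x ^ a = x ^ b ↔ Units.mk0 x hx0 ^ a = Units.mk0 x hx0 ^ b := by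
      rw [Units.ext_iff, Units.val_pow_eq_pow_val, Units.val_pow_eq_pow_val, Units.val_mk0]
    rw [e, pow_eq_pow_iff_modEq, hu, ZMod.natCast_eq_natCast_iff]
  -- `(x ^ s)⁻¹` is a root of the dual
  have hdroot : (dualPoly σ f).eval₂ am (x ^ s)⁻¹ = 0 := by
    haveI : Invertible (x ^ s) := invertibleOfNonzero (pow_ne_zero _ hx0)
    have h1 : (f.map σ).eval₂ am (x ^ s) = 0 := by
      rw [eval₂_map, ← hψz, ← show ψ.comp am = am.comp σ from RingHom.ext hψa, ← hom_eval₂, hroot, map_zero]
    rw [dualPoly, eval₂_mul, ← invOf_eq_inv (x ^ s), (eval₂_reverse_eq_zero_iff _ _ _).2 h1, mul_zero]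
  constructor
  · intro h
    have h2 : f.eval₂ (Algebra.ofId F (AdjoinRoot f)) (x ^ s)⁻¹ = 0 := by
      have := hdroot
      rw [h] at this
      exact this
    let φ : AdjoinRoot f →ₐ[F] AdjoinRoot f := AdjoinRoot.liftAlgHom f (Algebra.ofId F _) (x ^ s)⁻¹ h2
    have hφ : φ x = (x ^ s)⁻¹ := AdjoinRoot.lift_root (i := am) h2
    obtain ⟨k, hk⟩ := (FiniteField.bijective_frobeniusAlgHom_pow F (AdjoinRoot f)).2 φ
    refine ⟨k, ?_⟩
    have hk' : x ^ (Fintype.card F ^ (k : ℕ)) = (x ^ s)⁻¹ := by
      rw [← hφ, ← hk]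
      show _ = ((FiniteField.frobeniusAlgHom F (AdjoinRoot f)) ^ (k : ℕ)) x
      rw [AlgHom.coe_pow, FiniteField.coe_frobeniusAlgHom, pow_iterate]
    have h3 : x ^ (Fintype.card F ^ (k : ℕ) + s) = x ^ 0 := by
      rw [pow_add, hk', pow_zero, inv_mul_cancel₀ (pow_ne_zero _ hx0)]
    rw [hpow, Nat.cast_add, Nat.cast_pow, Nat.cast_zero] at h3
    exact eq_neg_of_add_eq_zero_left h3
  · rintro ⟨k, hk⟩
    have h3 : x ^ (Fintype.card F ^ k + s) = x ^ 0 := by
      rw [hpow, Nat.cast_add, Nat.cast_pow, Nat.cast_zero, hk, neg_add_cancel]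
    rw [pow_zero, pow_add] at h3
    have h4 : x ^ (Fintype.card F ^ k) = (x ^ s)⁻¹ := eq_inv_of_mul_eq_one_left h3
    have h5 : f.eval₂ am (x ^ s)⁻¹ = 0 := by
      have hk' : ((FiniteField.frobeniusAlgHom F (AdjoinRoot f)) ^ k) x = (x ^ s)⁻¹ := by
        rw [AlgHom.coe_pow, FiniteField.coe_frobeniusAlgHom, pow_iterate]
        exact h4
      rw [← hk']
      have := aeval_algHom_apply ((FiniteField.frobeniusAlgHom F (AdjoinRoot f)) ^ k) x f
      rw [aeval_def, aeval_def, hroot, map_zero] at this
      exact this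
    have e1 := minpoly.eq_of_irreducible_of_monic hirr (show aeval (x ^ s)⁻¹ f = 0 from h5) hfm
    have e2 := minpoly.eq_of_irreducible_of_monic (irreducible_dualPoly σ hσ hfm hirr hf0)
      (show aeval (x ^ s)⁻¹ (dualPoly σ f) = 0 from hdroot) (monic_dualPoly σ hf0)
    exact e2.trans e1.symm

end Dual

section Vectors

variable {I : Type*} [Fintype I] (δ : Equiv.Perm I) (hδ : ∀ j, δ (δ j) = j)

theorem card_mult_le {i : ℕ} (hi0 : 0 < i) (n : ℕ) :
    Nat.card {a : I → ℕ // i * ∑ j, a j ≤ n} = Nat.choose (n / i + Fintype.card I) (Fintype.card I) := by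
  rw [← SemisimplePrimeOrder.card_le_sum I (n / i)]
  refine Nat.card_congr (Equiv.subtypeEquivRight fun a => ?_)
  rw [Nat.le_div_iff_mul_le hi0, mul_comm]

include hδ in
theorem card_mult_fixed (hfree : ∀ j, δ j ≠ j) {i : ℕ} (hi0 : 0 < i) (n : ℕ) :
    Nat.card {a : I → ℕ // i * ∑ j, a j ≤ n ∧ a ∘ δ = a} =
      Nat.choose (n / (2 * i) + Fintype.card I / 2) (Fintype.card I / 2) := by
  classical
  let e := Fintype.equivFin I
  let J := {j : I // e j < e (δ j)}
  let g : J ⊕ J ≃ I :=
    { toFun := Sum.elim (fun j => (j : I)) (fun j => δ j)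
      invFun := fun j => if h : e j < e (δ j) then Sum.inl ⟨j, h⟩ else Sum.inr ⟨δ j, by
        rw [hδ]; exact lt_of_le_of_ne (not_lt.1 h) fun h' => hfree j (e.injective h')⟩
      left_inv := by
        rintro (⟨j, hj⟩ | ⟨j, hj⟩)
        · simp [hj]
        · have : ¬ e (δ j) < e (δ (δ j)) := by rw [hδ]; exact not_lt.2 hj.le
          simp [hδ, not_lt.2 hj.le]
      right_inv := fun j => by
        by_cases h : e j < e (δ j) <;> simp [h, hδ] }
  have hJ : Fintype.card J = Fintype.card I / 2 := by
    have := Fintype.card_congr g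
    rw [Fintype.card_sum] at this
    omega
  rw [← hJ, ← card_mult_le (I := J) (Nat.mul_pos two_pos hi0) n]
  let ext : (J → ℕ) → I → ℕ := fun b j => Sum.elim b b (g.symm j)
  have hsum : ∀ b : J → ℕ, ∑ j, ext b j = 2 * ∑ j, b j := fun b => by
    rw [← Equiv.sum_comp g, Fintype.sum_sum_type, two_mul]
    simp only [ext, Equiv.symm_apply_apply, Sum.elim_inl, Sum.elim_inr]
  have hres : ∀ a : I → ℕ, a ∘ δ = a → ext (fun j => a j) = a := fun a ha => funext fun j => by
    obtain ⟨s, rfl⟩ := g.surjective j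
    simp only [ext, Equiv.symm_apply_apply]
    rcases s with s | s
    · rfl
    · exact (congrFun ha (s : I)).symm
  refine Nat.card_congr ?_
  exact
    { toFun := fun a => ⟨fun j => a.1 j, by
        have h := a.2.1
        rw [← hres a.1 a.2.2, hsum] at h
        rw [mul_comm 2 i, mul_assoc]
        exact h⟩
      invFun := fun b => ⟨ext b.1, by rw [hsum, ← mul_assoc, mul_comm i 2]; exact b.2, funext fun j => by
        obtain ⟨s, rfl⟩ := g.surjective j
        rcases s with s | s
        · have h1 : δ (g (Sum.inl s)) = g (Sum.inr s) := rfl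
          simp only [Function.comp_apply, ext, h1, Equiv.symm_apply_apply, Sum.elim_inl, Sum.elim_inr]
        · have h1 : δ (g (Sum.inr s)) = g (Sum.inl s) := hδ _
          simp only [Function.comp_apply, ext, h1, Equiv.symm_apply_apply, Sum.elim_inl, Sum.elim_inr]⟩
      left_inv := fun a => Subtype.ext (hres a.1 a.2.2)
      right_inv := fun b => Subtype.ext (funext fun j => by
        show Sum.elim b.1 b.1 (g.symm (g (Sum.inl j))) = b.1 j
        rw [Equiv.symm_apply_apply]
        rfl) }

end Vectors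

end CfsgLib.Classical.ClassTheory
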