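import Cfsg.Agent.Lib.Classical.ClassTheory.Unitary

/-!
# Classes of elements of order `p` in `GU`
-/

set_option autoImplicit false

namespace CfsgLib.Classical.ClassTheory

open scoped Matrix
open CfsgLib.Classical.Herm

section Rank

variable {F : Type*} [Field F] [Finite F] {ι : Type*} [Fintype ι] [DecidableEq ι]

omit [DecidableEq ι] in
/-- A field endomorphism of a finite field keeps the rank. -/
theorem rank_map_ringHom (σ : F →+* F) (M : Matrix ι ι F) : (M.map σ).rank = M.rank := by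
  classical
  have hσ : Function.Bijective σ := ⟨σ.injective, Finite.surjective_of_injective σ.injective⟩
  have himg : ((LinearMap.range (M.map σ).mulVecLin : Submodule F (ι → F)) : Set (ι → F)) =
      (fun v : ι → F => σ ∘ v) '' (LinearMap.range M.mulVecLin : Set (ι → F)) := by
    ext w
    simp only [SetLike.mem_coe, LinearMap.mem_range, Set.mem_image, Matrix.mulVecLin_apply]
    constructor
    · rintro ⟨v, rfl⟩
      refine ⟨M *ᵥ fun i => Function.surjInv hσ.2 (v i), ⟨_, rfl⟩, funext fun i => ?_⟩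
      rw [Function.comp_apply, RingHom.map_mulVec]
      exact congrArg (fun w => ((M.map σ) *ᵥ w) i) (funext fun j => Function.surjInv_eq hσ.2 (v j))
    · rintro ⟨_, ⟨v, rfl⟩, rfl⟩
      exact ⟨σ ∘ v, funext fun i => (RingHom.map_mulVec σ M v i).symm⟩
  have hinj : Function.Injective (fun v : ι → F => σ ∘ v) := fun u v huv =>
    funext fun i => σ.injective (congrFun huv i)
  have hcard : Nat.card ↥(LinearMap.range (M.map σ).mulVecLin) = Nat.card ↥(LinearMap.range M.mulVecLin) :=
    (Nat.card_congr (Equiv.setCongr himg)).trans (Nat.card_image_of_injective hinj _)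
  haveI : Module.Finite F (LinearMap.range M.mulVecLin) := inferInstance
  rw [Module.natCard_eq_pow_finrank (K := F) (V := ↥(LinearMap.range (M.map σ).mulVecLin)),
    Module.natCard_eq_pow_finrank (K := F) (V := ↥(LinearMap.range M.mulVecLin))] at hcard
  exact Nat.pow_right_injective (Finite.one_lt_card : 1 < Nat.card F) hcard

end Rank

variable {K : Type*} [Field K] [Fintype K] {q n : ℕ} (hK : Fintype.card K = q ^ 2)

include hK in
/-- Every unipotent class of `GL` meets `GU`. -/
theorem exists_gu_of_unipotent (g : GL (Fin n) K) (hg : IsNilpotent ((g : Matrix (Fin n) (Fin n) K) - 1)) :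
    ∃ B : ↥(Cfsg.GU n K q), IsConj g (B : GL (Fin n) K) := by
  rw [exists_gu_conj_iff hK]
  set σ := powHom hK
  set M := (g : Matrix (Fin n) (Fin n) K) - 1
  set u := ustar σ g
  set S := (u : Matrix (Fin n) (Fin n) K)
  have hS : S - 1 = sstar σ M := by
    have e : sstar σ (g : Matrix (Fin n) (Fin n) K) = sstar σ M + sstar σ 1 := by
      rw [← sstar_add, sub_add_cancel]
    rw [sstar_one] at e
    exact sub_eq_iff_eq_add.2 e
  have hinv : ((u⁻¹ : GL (Fin n) K) : Matrix (Fin n) (Fin n) K) - 1 =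
      -((u⁻¹ : GL (Fin n) K) : Matrix (Fin n) (Fin n) K) * (S - 1) := by
    rw [neg_mul, mul_sub, Units.inv_mul, mul_one, neg_sub]
  have hcom : Commute (-((u⁻¹ : GL (Fin n) K) : Matrix (Fin n) (Fin n) K)) (S - 1) :=
    (Commute.sub_right (Units.inv_mul u |>.trans (Units.mul_inv u).symm) (Commute.one_right _)).neg_left
  have hpow : ∀ k, (((u⁻¹ : GL (Fin n) K) : Matrix (Fin n) (Fin n) K) - 1) ^ k =
      (-((u⁻¹ : GL (Fin n) K) : Matrix (Fin n) (Fin n) K)) ^ k * ((M.map σ) ^ k)ᵀ := fun k => by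
    rw [hinv, hcom.mul_pow, hS, Matrix.transpose_pow]
    rfl
  refine Known.UnipotentClasses.isConj_of_rank _ _ hg ?_ fun k => ?_
  · obtain ⟨k, hk⟩ := hg
    refine ⟨k, ?_⟩
    rw [hpow, ← RingHom.mapMatrix_apply, ← map_pow, hk, map_zero, Matrix.transpose_zero, mul_zero]
  · rw [hpow, Matrix.rank_mul_eq_right_of_isUnit_det, Matrix.rank_transpose, ← RingHom.mapMatrix_apply,
      ← map_pow, RingHom.mapMatrix_apply, rank_map_ringHom]
    exact (Matrix.isUnit_iff_isUnit_det _).1 (((u⁻¹).isUnit.neg).pow k)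

include hK in
/-- Classes of elements of order `p` of `GU` biject with those of `GL`. -/
theorem gu_order_p_class_count {p : ℕ} [Fact p.Prime] [CharP K p] :
    Nat.card {C : ConjClasses ↥(Cfsg.GU n K q) //
      ∃ g : ↥(Cfsg.GU n K q), ConjClasses.mk g = C ∧ orderOf g = p} =
      (Finset.univ.filter (fun μ : Nat.Partition n => ∀ a ∈ μ.parts, a ≤ p)).card - 1 := by
  classical
  rw [← Known.UnipotentClasses.gl_order_p_class_count (F := K)]
  refine Nat.card_congr (Equiv.ofBijective (fun C => ⟨ConjClasses.map (Cfsg.GU n K q).subtype C.1, ?_⟩)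
    ⟨fun C D h => ?_, fun D => ?_⟩)
  · obtain ⟨g, hg, ho⟩ := C.2
    exact ⟨(g : GL (Fin n) K), by rw [← hg]; rfl, by rw [Subgroup.orderOf_coe, ho]⟩
  · obtain ⟨g, hg, -⟩ := C.2
    obtain ⟨g', hg', -⟩ := D.2
    have h' := congrArg Subtype.val h
    simp only [← hg, ← hg'] at h'
    refine Subtype.ext ?_
    rw [← hg, ← hg', ConjClasses.mk_eq_mk_iff_isConj, gu_isConj_iff _ _ hK]
    exact ConjClasses.mk_eq_mk_iff_isConj.1 h'
  · obtain ⟨g, hg, ho⟩ := D.2
    obtain ⟨B, hB⟩ := exists_gu_of_unipotent hK g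
      ⟨p, ((Known.UnipotentClasses.gl_orderOf_eq_prime_iff g).1 ho).2⟩
    refine ⟨⟨ConjClasses.mk B, B, rfl, ?_⟩, Subtype.ext ?_⟩
    · rw [← Subgroup.orderOf_coe]
      obtain ⟨c, hc⟩ := isConj_iff.1 hB
      rw [← hc, ← MulAut.conj_apply, MulEquiv.orderOf_eq, ho]
    · rw [← hg]
      exact ConjClasses.mk_eq_mk_iff_isConj.2 hB.symm

end CfsgLib.Classical.ClassTheory
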