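import Cfsg.Agent.Lib.Known.UnipotentCentralizer

/-!
# The commutant of a regular nilpotent matrix
-/

set_option autoImplicit false

namespace CfsgLib.Classical.ClassTheory

open scoped Matrix
open CfsgLib.Known

variable {F : Type*} [Field F] {ι : Type*} [Fintype ι] [DecidableEq ι] (N : Matrix ι ι F) {n : ℕ}

/-- A polynomial in `N` of degree less than `n`. -/
def polyIn (c : Fin n → F) : Matrix ι ι F := ∑ i, c i • N ^ (i : ℕ)

theorem commute_polyIn {X : Matrix ι ι F} (h : Commute X N) (c : Fin n → F) : Commute X (polyIn N c) :=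
  Commute.sum_right _ _ _ fun i _ => (h.pow_right _).smul_right _

theorem exists_kernel_vector (hn : 0 < n) (hne : N ^ (n - 1) ≠ 0) (hN : N ^ n = 0) :
    ∃ v : ι → F, v ≠ 0 ∧ N *ᵥ v = 0 := by
  obtain ⟨w, hw⟩ : ∃ w, (N ^ (n - 1)) *ᵥ w ≠ 0 := by
    by_contra hcon
    push Not at hcon
    exact hne (Matrix.toLin'.injective (LinearMap.ext fun w => by
      rw [Matrix.toLin'_apply, hcon w, map_zero, LinearMap.zero_apply]))
  refine ⟨_, hw, ?_⟩
  rw [Matrix.mulVec_mulVec, ← pow_succ', Nat.sub_add_cancel hn, hN, Matrix.zero_mulVec]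

theorem polyIn_mulVec (hn : 0 < n) {v : ι → F} (hv : N *ᵥ v = 0) (c : Fin n → F) :
    polyIn N c *ᵥ v = c ⟨0, hn⟩ • v := by
  rw [polyIn, Matrix.sum_mulVec, Finset.sum_eq_single ⟨0, hn⟩]
  · simp [Matrix.smul_mulVec]
  · intro i _ hi
    obtain ⟨j, hj⟩ : ∃ j, (i : ℕ) = j + 1 := Nat.exists_eq_succ_of_ne_zero fun e => hi (Fin.ext e)
    rw [hj, Matrix.smul_mulVec, pow_succ, ← Matrix.mulVec_mulVec, hv, Matrix.mulVec_zero, smul_zero]
  · simp

theorem polyIn_scalar (hn : 0 < n) (a : F) :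
    polyIn N (fun i : Fin n => if i = ⟨0, hn⟩ then a else 0) = a • (1 : Matrix ι ι F) := by
  rw [polyIn, Finset.sum_eq_single ⟨0, hn⟩]
  · simp
  · intro i _ hi; simp [hi]
  · simp

theorem isNilpotent_polyIn_sub (hn : 0 < n) (hN : N ^ n = 0) (c : Fin n → F) :
    IsNilpotent (polyIn N c - c ⟨0, hn⟩ • (1 : Matrix ι ι F)) := by
  have e : polyIn N c - c ⟨0, hn⟩ • (1 : Matrix ι ι F) =
      ∑ i ∈ Finset.univ.erase (⟨0, hn⟩ : Fin n), c i • N ^ (i : ℕ) := by
    rw [polyIn, ← Finset.add_sum_erase _ _ (Finset.mem_univ (⟨0, hn⟩ : Fin n)), pow_zero, add_sub_cancel_left]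
  rw [e]
  have hN' : IsNilpotent N := ⟨n, hN⟩
  have key : ∀ s : Finset (Fin n), (∀ i ∈ s, (i : ℕ) ≠ 0) → IsNilpotent (∑ i ∈ s, c i • N ^ (i : ℕ)) ∧
      Commute N (∑ i ∈ s, c i • N ^ (i : ℕ)) := by
    intro s
    induction s using Finset.induction_on with
    | empty => intro _; exact ⟨by simp, by simp⟩
    | insert a s ha ih =>
      intro h
      obtain ⟨h1, h2⟩ := ih fun i hi => h i (Finset.mem_insert_of_mem hi)
      have hc : Commute (c a • N ^ (a : ℕ)) (∑ i ∈ s, c i • N ^ (i : ℕ)) := (h2.pow_left _).smul_left _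
      rw [Finset.sum_insert ha]
      exact ⟨hc.isNilpotent_add ((hN'.pow_of_pos (h a (Finset.mem_insert_self a s))).smul _) h1,
        ((Commute.self_pow N _).smul_right _).add_right h2⟩
  exact (key _ fun i hi e' => (Finset.mem_erase.1 hi).1 (Fin.ext e')).1

theorem isUnit_polyIn_iff (hn : 0 < n) (hne : N ^ (n - 1) ≠ 0) (hN : N ^ n = 0) (c : Fin n → F) :
    IsUnit (polyIn N c) ↔ c ⟨0, hn⟩ ≠ 0 := by
  constructor
  · intro hu h0
    obtain ⟨v, hv, hNv⟩ := exists_kernel_vector N hn hne hN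
    have h1 := polyIn_mulVec N hn hNv c
    rw [h0, zero_smul, ← Matrix.mulVec_zero (polyIn N c)] at h1
    exact hv (Matrix.mulVec_injective_of_isUnit hu h1)
  · intro h0
    have hu : IsUnit (c ⟨0, hn⟩ • (1 : Matrix ι ι F)) := (isUnit_one).smul (Units.mk0 _ h0)
    have := (isNilpotent_polyIn_sub N hn hN c).isUnit_add_right_of_commute hu
      ((Commute.one_right _).smul_right _)
    rwa [sub_add_cancel] at this

variable (hN : N ^ n = 0) (hne : N ^ (n - 1) ≠ 0) (hn : n = Fintype.card ι)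

include hN hne hn in
/-- Commuting matrices are polynomials, uniquely. -/
theorem polyIn_bijective :
    Function.Injective (polyIn N (n := n)) ∧ ∀ X, Commute X N → ∃ c : Fin n → F, polyIn N c = X := by
  classical
  let A := Matrix.toLinAlgEquiv' (R := F) (n := ι)
  set T := A N with hT
  have hTn : T ^ n = 0 := by rw [hT, ← map_pow, hN, map_zero]
  have hTne : T ^ (n - 1) ≠ 0 := by
    rw [hT, ← map_pow]
    exact fun h => hne (A.injective (h.trans (map_zero A).symm))
  obtain ⟨v, hv⟩ : ∃ v, (T ^ (n - 1)) v ≠ 0 := by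
    by_contra hcon
    push Not at hcon
    exact hTne (LinearMap.ext hcon)
  rcases Nat.eq_zero_or_pos n with h0 | h0
  · haveI : IsEmpty ι := Fintype.card_eq_zero_iff.1 (hn ▸ h0)
    exact absurd (Subsingleton.elim (T ^ (n - 1)) 0) hTne
  haveI : Nonempty (Fin n) := ⟨⟨0, h0⟩⟩
  have li := UnipotentCentralizer.linearIndependent_iterate T hTn hv
  let b : Module.Basis (Fin n) F (ι → F) := basisOfLinearIndependentOfCardEqFinrank li
    (by rw [Fintype.card_fin, Module.finrank_pi]; exact hn)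
  have hb : ∀ i : Fin n, b i = (T ^ (i : ℕ)) v := fun i => by simp [b]
  have hev : ∀ c : Fin n → F, A (polyIn N c) v = ∑ i, c i • b i := fun c => by
    simp only [polyIn, map_sum, map_smul, map_pow, LinearMap.sum_apply, LinearMap.smul_apply, hb, hT]
  refine ⟨fun c d h => funext fun i => ?_, fun X hX => ⟨fun i => b.repr (A X v) i, ?_⟩⟩
  · have h1 := congrArg (fun M => b.repr (A M v) i) h
    simpa only [hev, b.repr_sum_self] using h1
  · refine A.injective (b.ext fun i => ?_)
    have hc1 : Commute (A (polyIn N fun i => b.repr (A X v) i)) T :=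
      ((commute_polyIn N (Commute.refl N) _).symm.map A)
    have hc2 : Commute (A X) T := hX.map A
    rw [hb, ← Module.End.mul_apply (A (polyIn N fun i => b.repr (A X v) i)), (hc1.pow_right _).eq,
      ← Module.End.mul_apply (A X), (hc2.pow_right _).eq, Module.End.mul_apply, Module.End.mul_apply,
      hev, b.sum_repr]

include hN hne hn in
theorem commute_of_commute {X Y : Matrix ι ι F} (hX : Commute X N) (hY : Commute Y N) : Commute X Y := by
  obtain ⟨c, rfl⟩ := (polyIn_bijective N hN hne hn).2 Y hY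
  exact commute_polyIn N hX c

theorem card_ne_zero_head [Finite F] {m : ℕ} (hm : 0 < m) :
    Nat.card {c : Fin m → F // c ⟨0, hm⟩ ≠ 0} = (Nat.card F - 1) * Nat.card F ^ (m - 1) := by
  classical
  haveI : Fintype F := Fintype.ofFinite F
  obtain ⟨j, rfl⟩ : ∃ j, m = j + 1 := ⟨m - 1, by omega⟩
  let e : {c : Fin (j + 1) → F // c ⟨0, hm⟩ ≠ 0} ≃ {a : F // a ≠ 0} × (Fin j → F) :=
    { toFun := fun c => (⟨c.1 0, c.2⟩, Fin.tail c.1)
      invFun := fun x => ⟨Fin.cons x.1.1 x.2, by show (Fin.cons x.1.1 x.2 : Fin (j + 1) → F) 0 ≠ 0; simpa using x.1.2⟩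
      left_inv := fun c => Subtype.ext (Fin.cons_self_tail c.1)
      right_inv := fun x => by simp }
  rw [Nat.card_congr e, Nat.card_prod, Nat.card_fun, Nat.card_fin, Nat.add_sub_cancel,
    Nat.card_eq_fintype_card (α := {a : F // a ≠ 0}), Fintype.card_subtype_compl, Fintype.card_subtype_eq,
    ← Nat.card_eq_fintype_card (α := F)]

end CfsgLib.Classical.ClassTheory
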