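import Cfsg.Agent.Lib.Classical.ClassTheory.UnipotentModels
import Cfsg.Agent.Lib.Classical.ClassTheory.Semisimple

/-!
# Jordan types occurring in symplectic and orthogonal matrix groups
-/

set_option autoImplicit false

namespace CfsgLib.Classical.ClassTheory

open LinearMap (BilinForm)
open CfsgLib.Known
open scoped Matrix

variable {F : Type*} [Field F] [Fintype F]

section Profile

variable {ι : Type*} [Fintype ι] [DecidableEq ι]

omit [Fintype F] in
theorem rank_sub_one_pow (M : Matrix ι ι F) (k : ℕ) :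
    ((M - 1) ^ k).rank =
      Module.finrank F (LinearMap.range ((Matrix.toLinAlgEquiv' M - 1) ^ k)) := by
  rw [← map_one (Matrix.toLinAlgEquiv' (R := F) (n := ι)), ← map_sub, ← map_pow]
  rfl

omit [Fintype F] in
theorem rank_of_isConj {M N : Matrix ι ι F} (h : IsConj M N) (k : ℕ) :
    ((M - 1) ^ k).rank = ((N - 1) ^ k).rank := by
  obtain ⟨c, hc⟩ := h
  have h1 : SemiconjBy (c : Matrix ι ι F) (M - 1) (N - 1) := hc.sub_right (SemiconjBy.one_right _)
  have h2 := (h1.pow_right k).eq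
  have hu := (Matrix.isUnit_iff_isUnit_det _).1 c.isUnit
  rw [← Matrix.rank_mul_eq_right_of_isUnit_det (c : Matrix ι ι F) ((M - 1) ^ k) hu, h2,
    Matrix.rank_mul_eq_left_of_isUnit_det (c : Matrix ι ι F) _ hu]

omit [Fintype F] in
theorem isNilpotent_of_rank {M : Matrix ι ι F} {μ : Multiset ℕ}
    (h : ∀ k, ((M - 1) ^ k).rank = Jordan.prof μ k) : IsNilpotent (Matrix.toLinAlgEquiv' M - 1) := by
  refine ⟨μ.sum, LinearMap.range_eq_bot.1 (Submodule.finrank_eq_zero.1 ?_)⟩
  rw [← rank_sub_one_pow, h]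
  rw [Jordan.prof, Multiset.sum_eq_zero_iff]
  intro x hx
  obtain ⟨a, ha, rfl⟩ := Multiset.mem_map.1 hx
  have := Multiset.le_sum_of_mem ha
  omega

omit [Fintype F] in
theorem isConj_of_profile {M N : Matrix ι ι F} {μ : Multiset ℕ}
    (hM : ∀ k, ((M - 1) ^ k).rank = Jordan.prof μ k) (hN : ∀ k, ((N - 1) ^ k).rank = Jordan.prof μ k) :
    IsConj M N := by
  obtain ⟨e, he⟩ := Jordan.exists_conj (Module.finrank F (ι → F)) (Matrix.toLinAlgEquiv' M - 1)
    (Matrix.toLinAlgEquiv' N - 1) (isNilpotent_of_rank hM) (isNilpotent_of_rank hN) rfl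
    (fun k => by rw [← rank_sub_one_pow, ← rank_sub_one_pow, hM, hN])
  obtain ⟨c, hc⟩ := ((Module.End.isUnit_iff (e : (ι → F) →ₗ[F] (ι → F))).2 e.bijective).map
    (Matrix.toLinAlgEquiv' (R := F) (n := ι)).symm
  refine ⟨c, (Matrix.toLinAlgEquiv' (R := F) (n := ι)).injective (LinearMap.ext fun v => ?_)⟩
  rw [map_mul, map_mul, hc, AlgEquiv.apply_symm_apply]
  have h := he v
  simp only [LinearMap.sub_apply, Module.End.one_apply, map_sub] at h
  exact (sub_left_inj.1 h).symm

omit [Fintype F] in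
theorem rank_reindex_jordanType {t : ℕ} (d : Fin t → ℕ) (e : ((k : Fin t) × Fin (d k)) ≃ ι) (k : ℕ) :
    ((Matrix.reindex e e (Cfsg.jordanTypeMatrix d F) - 1) ^ k).rank = Jordan.prof (sizes d) k := by
  rw [← rank_jordanType_pow (F := F) d k]
  have h : (Matrix.reindex e e (Cfsg.jordanTypeMatrix d F) - 1) ^ k =
      Matrix.reindex e e ((Cfsg.jordanTypeMatrix d F - 1) ^ k) := by
    rw [← Matrix.coe_reindexAlgEquiv F F, map_pow, map_sub, map_one]
  rw [h, Matrix.rank_reindex]

end Profile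

theorem sizes_pos {t : ℕ} {d : Fin t → ℕ} (hd : ∀ k, 1 ≤ d k) : ∀ a ∈ sizes d, 0 < a := by
  intro a ha
  obtain ⟨k, -, rfl⟩ := Multiset.mem_map.1 ha
  exact hd k

/-- A Jordan type occurs in `Sp` iff odd sizes have even multiplicity. -/
theorem sp_type_iff {m t : ℕ} (d : Fin t → ℕ) (hd : ∀ k, 1 ≤ d k) (hsum : ∑ k, d k = 2 * m) :
    (∃ e : ((k : Fin t) × Fin (d k)) ≃ (Fin m ⊕ Fin m), ∃ A : Matrix.symplecticGroup (Fin m) F,
      IsConj (Matrix.reindex e e (Cfsg.jordanTypeMatrix d F)) (A : Matrix (Fin m ⊕ Fin m) (Fin m ⊕ Fin m) F)) ↔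
      ∀ j : ℕ, Odd j → Even (Finset.univ.filter (fun k : Fin t => d k = j)).card := by
  let S := Symp.symplecticEquiv m F
  have hA : ∀ (A : Matrix.symplecticGroup (Fin m) F) (k : ℕ),
      (((A : Matrix (Fin m ⊕ Fin m) (Fin m ⊕ Fin m) F) - 1) ^ k).rank =
        Module.finrank F (LinearMap.range (((((S A).1 : (Fin m ⊕ Fin m → F) ≃ₗ[F] (Fin m ⊕ Fin m → F)) :
          (Fin m ⊕ Fin m → F) →ₗ[F] (Fin m ⊕ Fin m → F)) - 1) ^ k)) :=
    fun A k => rank_sub_one_pow _ k
  constructor
  · rintro ⟨e, A, hconj⟩ j hj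
    rw [← count_sizes]
    refine even_count_of_parity hj.pos ?_
    obtain ⟨i, rfl⟩ := hj
    rw [← rank_reindex_jordanType (F := F) d e, ← rank_reindex_jordanType (F := F) d e, rank_of_isConj hconj,
      rank_of_isConj hconj, hA, hA, show 2 * i + 1 - 1 = 2 * i by omega, show 2 * i + 1 + 1 = 2 * (i + 1) by ring]
    exact (even_rank_alt _ (Symp.sympBil_nondegenerate m F) (Symp.sympBil_isAlt m F) (S A).2 i).add
      (even_rank_alt _ (Symp.sympBil_nondegenerate m F) (Symp.sympBil_isAlt m F) (S A).2 (i + 1))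
  · intro h
    obtain ⟨b, a, halt, hb, ha, htype⟩ := spModel_of_parity (F := F) (sizes d) (sizes_pos hd)
      (fun j hj => by rw [count_sizes]; exact h j hj)
    obtain ⟨f, hf⟩ := Symp.exists_isometry halt hb (Symp.sympBil_isAlt m F) (Symp.sympBil_nondegenerate m F)
      (by rw [Module.finrank_fin_fun, Symp.finrank_sympSpace, sizes_sum, hsum])
    let g : Symp.Sp (Symp.sympBil m F) := ⟨f.symm.trans (a.trans f), fun u v => by
      obtain ⟨x, rfl⟩ := f.surjective u
      obtain ⟨y, rfl⟩ := f.surjective v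
      simp [hf, ha]⟩
    let e : ((k : Fin t) × Fin (d k)) ≃ (Fin m ⊕ Fin m) := Fintype.equivOfCardEq (by simp [hsum, two_mul])
    refine ⟨e, S.symm g, isConj_of_profile (rank_reindex_jordanType d e) fun k => ?_⟩
    rw [hA, MulEquiv.apply_symm_apply]
    exact (htype.conj f).2 k

/-- A Jordan type occurs in some orthogonal group (odd characteristic) iff even sizes pair up. -/
theorem orth_type_iff_odd (h2 : (2 : F) ≠ 0) {n t : ℕ} (d : Fin t → ℕ) (hd : ∀ k, 1 ≤ d k) (hsum : ∑ k, d k = n) :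
    (∃ Q : QuadraticForm F (Fin n → F), (QuadraticMap.polarBilin Q).Nondegenerate ∧
      ∃ e : ((k : Fin t) × Fin (d k)) ≃ Fin n, ∃ A : ↥(Cfsg.isometryGroup F ⇑Q),
        IsConj (Matrix.reindex e e (Cfsg.jordanTypeMatrix d F))
          ((A : Matrix.GeneralLinearGroup (Fin n) F) : Matrix (Fin n) (Fin n) F)) ↔
      ∀ j : ℕ, Even j → 0 < j → Even (Finset.univ.filter (fun k : Fin t => d k = j)).card := by
  constructor
  · rintro ⟨Q, hQ, e, A, hconj⟩ j hj hj0
    rw [← count_sizes]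
    refine even_count_of_parity hj0 ?_
    obtain ⟨i, rfl⟩ : ∃ i, j = 2 * (i + 1) := by obtain ⟨c, rfl⟩ := hj; exact ⟨c - 1, by omega⟩
    set a := unitEquiv (A : GL (Fin n) F)
    have hrk : ∀ k, Jordan.prof (sizes d) k =
        Module.finrank F (LinearMap.range (((a : (Fin n → F) →ₗ[F] (Fin n → F)) - 1) ^ k)) := fun k => by
      rw [← rank_reindex_jordanType (F := F) d e, rank_of_isConj hconj]
      exact rank_sub_one_pow _ k
    have hnil : IsNilpotent ((a : (Fin n → F) →ₗ[F] (Fin n → F)) - 1) :=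
      isNilpotent_of_rank (M := ((A : GL (Fin n) F) : Matrix (Fin n) (Fin n) F)) (μ := sizes d) fun k => by
        rw [← rank_reindex_jordanType (F := F) d e, rank_of_isConj hconj]
    have ha : ∀ u v, QuadraticMap.polarBilin Q (a u) (a v) = QuadraticMap.polarBilin Q u v := fun u v => by
      have hQa : ∀ w, Q (a w) = Q w := fun w => A.2 w w
      simp only [QuadraticMap.polarBilin_apply_apply, QuadraticMap.polar, ← map_add, hQa]
    rw [hrk, hrk, show 2 * (i + 1) - 1 = 2 * i + 1 by omega]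
    exact (even_rank_symm a hQ (fun u v => QuadraticMap.polar_comm _ u v) h2 ha hnil i).add
      (even_rank_symm a hQ (fun u v => QuadraticMap.polar_comm _ u v) h2 ha hnil (i + 1))
  · intro h
    obtain ⟨Q, a, hQ, ha, htype⟩ := oModel_of_parity_odd h2 (sizes d) (sizes_pos hd)
      (fun j hj hj0 => by rw [count_sizes]; exact h j hj hj0)
    exact exists_orth_matrix d hsum Q a hQ ha htype
where
  exists_orth_matrix {n t : ℕ} (d : Fin t → ℕ) (hsum : ∑ k, d k = n)
      (Q : QuadraticForm F (Fin (sizes d).sum → F)) (a : (Fin (sizes d).sum → F) ≃ₗ[F] (Fin (sizes d).sum → F))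
      (hQ : (QuadraticMap.polarBilin Q).Nondegenerate) (ha : ∀ v, Q (a v) = Q v) (htype : HasType a (sizes d)) :
      ∃ Q : QuadraticForm F (Fin n → F), (QuadraticMap.polarBilin Q).Nondegenerate ∧
        ∃ e : ((k : Fin t) × Fin (d k)) ≃ Fin n, ∃ A : ↥(Cfsg.isometryGroup F ⇑Q),
          IsConj (Matrix.reindex e e (Cfsg.jordanTypeMatrix d F))
            ((A : Matrix.GeneralLinearGroup (Fin n) F) : Matrix (Fin n) (Fin n) F) := by
    obtain rfl : (sizes d).sum = n := hsum
    let g : GL (Fin ((sizes d).sum)) F := ⟨LinearMap.toMatrix' (a : _ →ₗ[F] _), LinearMap.toMatrix' (a.symm : _ →ₗ[F] _),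
      by rw [← LinearMap.toMatrix'_comp, LinearEquiv.comp_coe, a.symm_trans_self]; exact LinearMap.toMatrix'_id,
      by rw [← LinearMap.toMatrix'_comp, LinearEquiv.comp_coe, a.self_trans_symm]; exact LinearMap.toMatrix'_id⟩
    have hg : ∀ v, (g : Matrix (Fin ((sizes d).sum)) (Fin ((sizes d).sum)) F) *ᵥ v = a v := fun v =>
      LinearMap.toMatrix'_mulVec _ _
    let e : ((k : Fin t) × Fin (d k)) ≃ Fin ((sizes d).sum) := Fintype.equivFinOfCardEq (by simp [sizes_sum])
    refine ⟨Q, hQ, e, ⟨g, fun u v => ?_⟩, isConj_of_profile (rank_reindex_jordanType d e) fun k => ?_⟩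
    · show Q ((g : Matrix (Fin ((sizes d).sum)) (Fin ((sizes d).sum)) F) *ᵥ u) = Q u
      rw [hg, ha]
    · rw [rank_sub_one_pow, show Matrix.toLinAlgEquiv' (g : Matrix (Fin ((sizes d).sum)) (Fin ((sizes d).sum)) F) =
        (a : (Fin ((sizes d).sum) → F) →ₗ[F] (Fin ((sizes d).sum) → F)) from LinearMap.ext hg]
      exact htype.2 k

/-- The same in characteristic two, where the symplectic condition decides. -/
theorem orth_type_iff_two [CharP F 2] {n t : ℕ} (d : Fin t → ℕ) (hd : ∀ k, 1 ≤ d k) (hsum : ∑ k, d k = n) :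
    (∃ Q : QuadraticForm F (Fin n → F), (QuadraticMap.polarBilin Q).Nondegenerate ∧
      ∃ e : ((k : Fin t) × Fin (d k)) ≃ Fin n, ∃ A : ↥(Cfsg.isometryGroup F ⇑Q),
        IsConj (Matrix.reindex e e (Cfsg.jordanTypeMatrix d F))
          ((A : Matrix.GeneralLinearGroup (Fin n) F) : Matrix (Fin n) (Fin n) F)) ↔
      ∀ j : ℕ, Odd j → Even (Finset.univ.filter (fun k : Fin t => d k = j)).card := by
  constructor
  · rintro ⟨Q, hQ, e, A, hconj⟩ j hj
    rw [← count_sizes]
    refine even_count_of_parity hj.pos ?_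
    obtain ⟨i, rfl⟩ := hj
    set a := unitEquiv (A : GL (Fin n) F)
    have hrk : ∀ k, Jordan.prof (sizes d) k =
        Module.finrank F (LinearMap.range (((a : (Fin n → F) →ₗ[F] (Fin n → F)) - 1) ^ k)) := fun k => by
      rw [← rank_reindex_jordanType (F := F) d e, rank_of_isConj hconj]
      exact rank_sub_one_pow _ k
    have ha : ∀ u v, QuadraticMap.polarBilin Q (a u) (a v) = QuadraticMap.polarBilin Q u v := fun u v => by
      have hQa : ∀ w, Q (a w) = Q w := fun w => A.2 w w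
      simp only [QuadraticMap.polarBilin_apply_apply, QuadraticMap.polar, ← map_add, hQa]
    have halt : (QuadraticMap.polarBilin Q).IsAlt := fun u => by
      rw [QuadraticMap.polarBilin_apply_apply, QuadraticMap.polar_self, two_nsmul, CharTwo.add_self_eq_zero]
    rw [hrk, hrk, show 2 * i + 1 - 1 = 2 * i by omega, show 2 * i + 1 + 1 = 2 * (i + 1) by ring]
    exact (even_rank_alt a hQ halt ha i).add (even_rank_alt a hQ halt ha (i + 1))
  · intro h
    obtain ⟨Q, a, hQ, ha, htype⟩ := oModel_of_parity_two (F := F) (sizes d) (sizes_pos hd)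
      (fun j hj => by rw [count_sizes]; exact h j hj)
    exact orth_type_iff_odd.exists_orth_matrix d hsum Q a hQ ha htype

end CfsgLib.Classical.ClassTheory
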