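import Cfsg.Agent.Lib.Classical.ClassTheory.NormalClasses
import Cfsg.Agent.Lib.Classical.ClassTheory.GUClasses
import Cfsg.Agent.Lib.Classical.ClassTheory.RegularNilpotent
import Cfsg.Agent.Lib.Classical.ClassTheory.UnipotentIff
import Cfsg.Agent.Lib.Classical.Unitary.Matrix
import Cfsg.Agent.Lib.Known.ClassSplit

/-!
# Regular unipotent classes of `SU`
-/

set_option autoImplicit false

namespace CfsgLib.Classical.ClassTheory

open scoped Matrix
open CfsgLib.Classical.Herm
open CfsgLib.Known

section General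

variable {F : Type*} [Field F] {ι : Type*} [Fintype ι] [DecidableEq ι]

/-- A scalar plus a nilpotent. -/
theorem det_smul_one_add_nilpotent (a : F) {M : Matrix ι ι F} (hM : IsNilpotent M) :
    (a • (1 : Matrix ι ι F) + M).det = a ^ Fintype.card ι := by
  have h : (-M).charpoly = Polynomial.X ^ Fintype.card ι :=
    sub_eq_zero.1 (Matrix.isNilpotent_charpoly_sub_pow_of_isNilpotent hM.neg).eq_zero
  have e : (-M).charpoly.eval a = (Matrix.scalar ι a - -M).det := Matrix.eval_charpoly _ _
  rw [h, Polynomial.eval_pow, Polynomial.eval_X, sub_neg_eq_add] at e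
  rw [e, Matrix.scalar_apply, ← Matrix.smul_one_eq_diagonal]

theorem det_of_isNilpotent_sub_one {g : Matrix ι ι F} (hg : IsNilpotent (g - 1)) : g.det = 1 := by
  have := det_smul_one_add_nilpotent (1 : F) hg
  rwa [one_smul, add_sub_cancel, one_pow] at this

/-- Profile of a regular unipotent matrix. -/
theorem rank_pow_of_regular {M : Matrix ι ι F} {n : ℕ} (hn : 0 < n) (hcard : Fintype.card ι = n)
    (h1 : (M - 1) ^ n = 0) (h2 : (M - 1).rank = n - 1) (k : ℕ) :
    ((M - 1) ^ k).rank = Known.Jordan.prof ({n} : Multiset ℕ) k := by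
  obtain ⟨μ, hpos, hsum, hp⟩ := Known.Jordan.exists_blocks n (Matrix.toLinAlgEquiv' M - 1)
    ⟨n, by rw [← map_one (Matrix.toLinAlgEquiv' (R := F) (n := ι)), ← map_sub, ← map_pow, h1, map_zero]⟩
    (by rw [Module.finrank_pi]; exact hcard)
  rw [rank_sub_one_pow, hp]
  congr 1
  have e1 : Known.Jordan.prof μ 1 = n - 1 := by rw [← hp, ← rank_sub_one_pow, pow_one, h2]
  have e0 := Known.Jordan.prof_eq_succ_add μ 0
  rw [Known.Jordan.prof_zero_arg, hsum, zero_add, e1, Multiset.countP_eq_card.2 hpos] at e0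
  obtain ⟨a, rfl⟩ := Multiset.card_eq_one.1 (show Multiset.card μ = 1 by omega)
  rw [Multiset.sum_singleton] at hsum
  rw [hsum]

theorem regular_of_rank {M : Matrix ι ι F} {n : ℕ}
    (h : ∀ k, ((M - 1) ^ k).rank = Known.Jordan.prof ({n} : Multiset ℕ) k) :
    (M - 1) ^ n = 0 ∧ (M - 1).rank = n - 1 := by
  refine ⟨Matrix.toLin'.injective ?_, ?_⟩
  · rw [map_zero]
    refine LinearMap.range_eq_bot.1 (Submodule.finrank_eq_zero.1 ?_)
    exact (h n).trans (by simp [Known.Jordan.prof])
  · have := h 1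
    simpa [Known.Jordan.prof] using this

theorem exists_regular_unipotent (n : ℕ) (hn : 0 < n) :
    ∃ g : GL (Fin n) F, ∀ k, (((g : Matrix (Fin n) (Fin n) F) - 1) ^ k).rank =
      Known.Jordan.prof ({n} : Multiset ℕ) k := by
  classical
  let d : Fin 1 → ℕ := fun _ => n
  let e : ((k : Fin 1) × Fin (d k)) ≃ Fin n :=
    Fintype.equivFinOfCardEq (by simp [d])
  set M := Matrix.reindex e e (Cfsg.jordanTypeMatrix d F)
  have hprof : ∀ k, ((M - 1) ^ k).rank = Known.Jordan.prof ({n} : Multiset ℕ) k := fun k => by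
    rw [rank_reindex_jordanType, prof_sizes]
    simp [Known.Jordan.prof, d]
  have hu : IsUnit M := by
    have := (IsNilpotent.isUnit_add_one (r := M - 1) ⟨n, (regular_of_rank hprof).1⟩)
    rwa [sub_add_cancel] at this
  exact ⟨hu.unit, hprof⟩

end General

variable {K : Type*} [Field K] [Fintype K] {q n : ℕ} (hK : Fintype.card K = q ^ 2)

/-- `SU` inside `GU`. -/
def suGU (n : ℕ) (K : Type*) [Field K] [Fintype K] (q : ℕ) : ↥(Cfsg.SU n K q) →* ↥(Cfsg.GU n K q) :=
  MonoidHom.codRestrict (Matrix.SpecialLinearGroup.toGL.comp (Cfsg.SU n K q).subtype) _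
    fun g => toGL_mem_GU g

theorem suGU_injective : Function.Injective (suGU n K q) := fun a b h =>
  Subtype.ext (Subtype.ext (congrArg (fun g : ↥(Cfsg.GU n K q) => ((g : GL (Fin n) K) : Matrix (Fin n) (Fin n) K)) h))

/-- The determinant on `GU`. -/
noncomputable def guDet (n : ℕ) (K : Type*) [Field K] (q : ℕ) : ↥(Cfsg.GU n K q) →* Kˣ :=
  Matrix.GeneralLinearGroup.det.comp (Cfsg.GU n K q).subtype

theorem range_suGU (g : ↥(Cfsg.GU n K q)) : g ∈ Set.range (suGU n K q) ↔ guDet n K q g = 1 := by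
  constructor
  · rintro ⟨u, rfl⟩
    exact Units.ext (u : Matrix.SpecialLinearGroup (Fin n) K).det_coe
  · intro h
    exact ⟨⟨⟨((g : GL (Fin n) K) : Matrix (Fin n) (Fin n) K), congrArg Units.val h⟩, g.2⟩,
      Subtype.ext (Units.ext rfl)⟩

include hK in
theorem guDet_norm_one (g : ↥(Cfsg.GU n K q)) : guDet n K q g ^ (q + 1) = 1 := by
  have h := (hermStd_isHerm (n := n) hK).det_norm_one (guEquiv n hK g)
  rw [guEquiv_det, powHom_apply hK, ← pow_succ' ] at h
  exact Units.ext (by rw [Units.val_pow_eq_pow_val]; exact h)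

include hK in
theorem smul_one_mem_GU {a : Kˣ} (ha : a ^ (q + 1) = 1) :
    Units.map (algebraMap K (Matrix (Fin n) (Fin n) K)).toMonoidHom a ∈ Cfsg.GU n K q := by
  rw [mem_GU_iff hK, Units.ext_iff]
  show sstar (powHom hK) (algebraMap K (Matrix (Fin n) (Fin n) K) a) * algebraMap K (Matrix (Fin n) (Fin n) K) a = 1
  have ha' : (a : K) ^ (q + 1) = 1 := by rw [← Units.val_pow_eq_pow_val, ha, Units.val_one]
  change sstar (powHom hK) (Matrix.scalar (Fin n) (a : K)) * Matrix.scalar (Fin n) (a : K) = 1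
  rw [sstar_scalar, ← map_mul, powHom_apply, ← pow_succ, ha', map_one]

include hK in
theorem range_guDet (hn : 1 ≤ n) : (guDet n K q).range = (powMonoidHom (q + 1) : Kˣ →* Kˣ).ker := by
  refine le_antisymm ?_ ?_
  · rintro _ ⟨g, rfl⟩
    exact guDet_norm_one hK g
  · intro a ha
    have ha : a ^ (q + 1) = 1 := ha
    have ha' : (a : K) * powHom hK (a : K) = 1 := by
      rw [powHom_apply, ← pow_succ', ← Units.val_pow_eq_pow_val, ha, Units.val_one]
    obtain ⟨j⟩ : Nonempty (Fin n) := ⟨⟨0, hn⟩⟩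
    have hp : hermStd n hK (Pi.single j 1) (Pi.single j 1) ≠ 0 := by
      have hq : q ≠ 0 := by have := two_le_of_card_sq hK; omega
      rw [hermStd_apply, Cfsg.hermForm, Finset.sum_eq_single j (fun i _ hi => by simp [hi]) (by simp)]
      simp
    refine ⟨(guEquiv n hK).symm ((hermStd_isHerm hK).quasiIso _ hp a ha'), Units.ext ?_⟩
    show ((((guEquiv n hK).symm _ : ↥(Cfsg.GU n K q)) : GL (Fin n) K) : Matrix (Fin n) (Fin n) K).det = _
    rw [← guEquiv_det hK, MulEquiv.apply_symm_apply]
    exact congrArg Units.val ((hermStd_isHerm hK).det_quasiIso _ hp a ha')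

include hK in
/-- The determinants of the centralizer of a regular unipotent element. -/
theorem map_centralizer_regular (hn : 1 ≤ n) (x : ↥(Cfsg.GU n K q))
    (h1 : (((x : GL (Fin n) K) : Matrix (Fin n) (Fin n) K) - 1) ^ n = 0)
    (h2 : (((x : GL (Fin n) K) : Matrix (Fin n) (Fin n) K) - 1).rank = n - 1) :
    (Subgroup.centralizer ({x} : Set ↥(Cfsg.GU n K q))).map (guDet n K q) =
      (powMonoidHom (q + 1) : Kˣ →* Kˣ).ker.map (powMonoidHom n) := by
  set σ := powHom hK
  set X := ((x : GL (Fin n) K) : Matrix (Fin n) (Fin n) K)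
  refine le_antisymm ?_ ?_
  · rintro _ ⟨g, hg, rfl⟩
    set G := ((g : GL (Fin n) K) : Matrix (Fin n) (Fin n) K) with hG
    have hne : (X - 1) ^ (n - 1) ≠ 0 := by
      intro h0
      have := rank_pow_of_regular hn (Fintype.card_fin n) h1 h2 (n - 1)
      rw [h0, Matrix.rank_zero] at this
      simp [Known.Jordan.prof] at this
      omega
    have hgx : Commute G X := congrArg (fun g : ↥(Cfsg.GU n K q) => ((g : GL (Fin n) K) : Matrix (Fin n) (Fin n) K))
      (Subgroup.mem_centralizer_singleton_iff.1 hg)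
    obtain ⟨c, hc⟩ := (polyIn_bijective (X - 1) h1 hne (Fintype.card_fin n).symm).2 G
      (hgx.sub_right (Commute.one_right _))
    set a := c ⟨0, hn⟩
    have hM : IsNilpotent (G - a • 1) := hc ▸ isNilpotent_polyIn_sub (X - 1) hn h1 c
    have hdet : G.det = a ^ n := by
      have := det_smul_one_add_nilpotent a hM
      rwa [add_sub_cancel, Fintype.card_fin] at this
    have ha0 : a ≠ 0 := fun h0 => by
      have hu : G.det ≠ 0 := ((Matrix.isUnit_iff_isUnit_det G).1 (g : GL (Fin n) K).isUnit).ne_zero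
      rw [hdet, h0, zero_pow (by omega)] at hu
      exact hu rfl
    -- `a` has norm one
    have hgg : sstar σ G * G = 1 := congrArg Units.val ((mem_GU_iff hK _).1 g.2)
    have hgg' : G * sstar σ G = 1 := mul_eq_one_comm.1 hgg
    have hsm : sstar σ (a • (1 : Matrix (Fin n) (Fin n) K)) = σ a • 1 := by
      rw [Matrix.smul_one_eq_diagonal, Matrix.smul_one_eq_diagonal, ← Matrix.scalar_apply, ← Matrix.scalar_apply,
        sstar_scalar]
    have hMs : IsNilpotent (sstar σ G - σ a • 1) := by
      obtain ⟨k, hk⟩ := hM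
      refine ⟨k, ?_⟩
      have e : sstar σ G - σ a • 1 = sstar σ (G - a • 1) := by
        rw [eq_comm, eq_sub_iff_add_eq, ← hsm, ← sstar_add, sub_add_cancel]
      rw [e]
      show ((G - a • 1).map σ)ᵀ ^ k = 0
      rw [← Matrix.transpose_pow, ← RingHom.mapMatrix_apply, ← map_pow, hk, map_zero, Matrix.transpose_zero]
    have hc1 : Commute (sstar σ G) G := hgg.trans hgg'.symm
    have hnil : IsNilpotent ((1 - σ a * a) • (1 : Matrix (Fin n) (Fin n) K)) := by
      have e : (1 - σ a * a) • (1 : Matrix (Fin n) (Fin n) K) = (sstar σ G - σ a • 1) * G + σ a • (G - a • 1) := by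
        rw [sub_mul, hgg, smul_mul_assoc, one_mul, smul_sub, smul_smul, sub_smul, one_smul]; abel
      rw [e]
      have hc2 : Commute (sstar σ G - σ a • 1) G := hc1.sub_left ((Commute.one_left _).smul_left _)
      refine Commute.isNilpotent_add ?_ (hc2.isNilpotent_mul_right hMs) (hM.smul _)
      have hc3 : Commute (G - a • 1) ((sstar σ G - σ a • 1) * G) :=
        Commute.mul_right ((hc2.sub_right ((Commute.one_right _).smul_right _)).symm)
          ((Commute.refl G).sub_left ((Commute.one_left _).smul_left _))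
      exact (hc3.symm.smul_right _)
    have ha1 : σ a * a = 1 := by
      have : 1 - σ a * a = 0 := by
        obtain ⟨k, hk⟩ := hnil
        haveI : Nonempty (Fin n) := ⟨⟨0, hn⟩⟩
        rw [smul_pow, one_pow] at hk
        exact eq_zero_of_pow_eq_zero (by simpa using congrFun (congrFun hk ⟨0, hn⟩) ⟨0, hn⟩)
      exact (sub_eq_zero.1 this).symm
    refine ⟨Units.mk0 a ha0, Units.ext ?_, Units.ext ?_⟩
    · show ((Units.mk0 a ha0) ^ (q + 1) : Kˣ).val = 1
      rw [Units.val_pow_eq_pow_val, Units.val_mk0, pow_succ, ← powHom_apply hK, ha1]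
    · show ((Units.mk0 a ha0) ^ n : Kˣ).val = G.det
      rw [Units.val_pow_eq_pow_val, Units.val_mk0, hdet]
  · rintro _ ⟨a, ha, rfl⟩
    refine ⟨⟨_, smul_one_mem_GU hK ha⟩, Subgroup.mem_centralizer_singleton_iff.2 (Subtype.ext (Units.ext ?_)), Units.ext ?_⟩
    · exact Algebra.commutes (a : K) X
    · show (algebraMap K (Matrix (Fin n) (Fin n) K) a).det = ((a ^ n : Kˣ) : K)
      rw [Algebra.algebraMap_eq_smul_one, Matrix.det_smul, Matrix.det_one, mul_one, Fintype.card_fin,
        Units.val_pow_eq_pow_val]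

include hK in
/-- The number of classes of regular unipotent elements of `SU`. -/
theorem su_regular_class_count (hn : 1 ≤ n) :
    Nat.card {C : ConjClasses ↥(Cfsg.SU n K q) // ∃ u : ↥(Cfsg.SU n K q), ConjClasses.mk u = C ∧
      (((suGU n K q u : GL (Fin n) K) : Matrix (Fin n) (Fin n) K) - 1) ^ n = 0 ∧
      (((suGU n K q u : GL (Fin n) K) : Matrix (Fin n) (Fin n) K) - 1).rank = n - 1} = Nat.gcd n (q + 1) := by
  classical
  obtain ⟨g, hg⟩ := exists_regular_unipotent (F := K) n hn
  obtain ⟨x, hx⟩ := exists_gu_of_unipotent hK g ⟨n, (regular_of_rank hg).1⟩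
  have hxm : IsConj (g : Matrix (Fin n) (Fin n) K) ((x : GL (Fin n) K) : Matrix (Fin n) (Fin n) K) :=
    MonoidHom.map_isConj (Units.coeHom (Matrix (Fin n) (Fin n) K)) hx
  obtain ⟨hx1, hx2⟩ := regular_of_rank fun k => (rank_of_isConj hxm k).symm.trans (hg k)
  have hdx : guDet n K q x = 1 := Units.ext (det_of_isNilpotent_sub_one ⟨n, hx1⟩)
  have hiff : ∀ y : ↥(Cfsg.GU n K q),
      ((((y : GL (Fin n) K) : Matrix (Fin n) (Fin n) K) - 1) ^ n = 0 ∧
        (((y : GL (Fin n) K) : Matrix (Fin n) (Fin n) K) - 1).rank = n - 1) ↔ IsConj x y := by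
    intro y
    rw [gu_isConj_iff _ _ hK]
    constructor
    · rintro ⟨a, b⟩
      exact Known.UnipotentClasses.isConj_of_rank _ _ ⟨n, hx1⟩ ⟨n, a⟩ fun k =>
        (rank_pow_of_regular hn (Fintype.card_fin n) hx1 hx2 k).trans
          (rank_pow_of_regular hn (Fintype.card_fin n) a b k).symm
    · intro h
      have h' := MonoidHom.map_isConj (Units.coeHom (Matrix (Fin n) (Fin n) K)) h
      exact regular_of_rank fun k => (rank_of_isConj h' k).symm.trans
        (rank_pow_of_regular hn (Fintype.card_fin n) hx1 hx2 k)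
  have h := card_classes_kernel (guDet n K q) (suGU n K q) suGU_injective range_suGU x hdx
  rw [map_centralizer_regular hK hn x hx1 hx2, range_guDet hK hn] at h
  set H := (powMonoidHom (q + 1) : Kˣ →* Kˣ).ker
  have hHcard : Nat.card H = q + 1 := by
    rw [IsCyclic.card_powMonoidHom_ker, Nat.card_eq_fintype_card, Fintype.card_units, hK]
    refine Nat.gcd_eq_right ⟨q - 1, ?_⟩
    have := two_le_of_card_sq hK
    obtain ⟨r, rfl⟩ : ∃ r, q = r + 1 := ⟨q - 1, by omega⟩
    simp only [Nat.add_sub_cancel]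
    rw [show (r + 1) ^ 2 = (r + 1 + 1) * r + 1 by ring, Nat.add_sub_cancel]
  have hker : Nat.card (powMonoidHom n : H →* H).ker = Nat.gcd (q + 1) n := by
    rw [IsCyclic.card_powMonoidHom_ker, hHcard]
  have hrng : Nat.card (H.map (powMonoidHom n)) = Nat.card (powMonoidHom n : H →* H).range := by
    have e : H.map (powMonoidHom n) = (powMonoidHom n : H →* H).range.map H.subtype := by
      rw [MonoidHom.map_range,
        show H.subtype.comp (powMonoidHom n) = (powMonoidHom n).comp H.subtype from MonoidHom.ext fun _ => by simp,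
        ← MonoidHom.map_range, H.range_subtype]
    rw [e]
    exact Nat.card_congr (Subgroup.equivMapOfInjective _ H.subtype H.subtype_injective).symm.toEquiv
  have hk := (powMonoidHom n : H →* H).ker.card_mul_index
  rw [Subgroup.index_ker, hker, hHcard] at hk
  rw [hHcard, hrng] at h
  rw [Nat.gcd_comm, ← Nat.eq_of_mul_eq_mul_right Nat.card_pos (h.trans hk.symm)]
  exact Nat.card_congr (Equiv.subtypeEquivRight fun C => exists_congr fun u => and_congr_right fun _ => hiff _)

end CfsgLib.Classical.ClassTheory
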