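import Cfsg.Agent.Lib.Classical.ClassTheory.SelfDual
import Cfsg.Agent.Lib.Classical.ClassTheory.RegularSU
import Cfsg.Agent.Lib.Known.SemisimpleClass

/-!
# Semisimple classes of `GU` and `SU`
-/

set_option autoImplicit false

open Polynomial

namespace CfsgLib.Classical.ClassTheory

open CfsgLib.Classical.Herm

universe u

/-- A polynomial in `x` with prescribed determinant. -/
theorem exists_aeval_det {F : Type u} [Field F] [Finite F] {V : Type u} [AddCommGroup V] [Module F V]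
    [FiniteDimensional F V] (x : Module.End F V) {N : ℕ} (hN : x ^ N = 1) (hNF : (N : F) ≠ 0) {f h : F[X]}
    (hfm : f.Monic) (hf : Irreducible f) (hx : x.charpoly = f * h) (hfh : IsCoprime f h) (b : Fˣ) :
    ∃ p : F[X], LinearMap.det (aeval x p) = (b : F) := by
  classical
  haveI : Fact (Irreducible f) := ⟨hf⟩
  obtain ⟨W, x', e, -, -, hxe, hxc, -⟩ :=
    Known.SemisimpleClass.exists_split x hN hNF hfm hf ⟨h, hx⟩
  have hh : x'.charpoly = h := mul_left_cancel₀ hf.ne_zero (hxc.symm.trans hx)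
  haveI : FiniteDimensional F (AdjoinRoot f) := (AdjoinRoot.powerBasis hf.ne_zero).finite
  haveI : Finite (AdjoinRoot f) := Module.finite_of_finite F
  obtain ⟨y, hy⟩ := FiniteField.norm_surjective F (AdjoinRoot f) (b : F)
  obtain ⟨y₀, rfl⟩ := AdjoinRoot.mk_surjective y
  obtain ⟨s, t, hst⟩ := hfh
  set p := y₀ * (t * h) + s * f
  have hp1 : AdjoinRoot.mk f p = AdjoinRoot.mk f y₀ := by
    rw [AdjoinRoot.mk_eq_mk]
    exact ⟨s - y₀ * s, by linear_combination y₀ * hst⟩
  have hp2 : aeval x' p = 1 := by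
    have h0 : aeval x' h = 0 := hh ▸ x'.aeval_self_charpoly
    have h1 : aeval x' (s * f) = 1 := by
      rw [show s * f = 1 - t * h by linear_combination hst, map_sub, map_one, map_mul, h0, mul_zero, sub_zero]
    rw [map_add, map_mul, map_mul, h0, mul_zero, mul_zero, zero_add, h1]
  have hact : ∀ (r : F[X]) (z : AdjoinRoot f) (w : W),
      aeval x r (e (z, w)) = e (AdjoinRoot.mk f r * z, aeval x' r w) := by
    intro r
    induction r using Polynomial.induction_on with
    | C c =>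
      intro z w
      rw [aeval_C, aeval_C, Module.algebraMap_end_apply, Module.algebraMap_end_apply, ← map_smul,
        AdjoinRoot.mk_C, ← AdjoinRoot.algebraMap_eq, ← Algebra.smul_def]
      rfl
    | add a b ha hb =>
      intro z w
      simp only [map_add, LinearMap.add_apply, add_mul, ha, hb]
      rw [← map_add]
      rfl
    | monomial k c ih =>
      intro z w
      have hroot : x (e (z, w)) = e (AdjoinRoot.root f * z, x' w) := by
        conv_lhs => rw [hxe]
        simp [LinearEquiv.conj_apply_apply]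
      rw [pow_succ, ← mul_assoc, map_mul, Module.End.mul_apply, aeval_X, hroot, ih]
      simp only [map_mul, AdjoinRoot.mk_X, Module.End.mul_apply, aeval_X, mul_assoc]
  refine ⟨p, ?_⟩
  have e2 : aeval x p = e.conj (LinearMap.prodMap (Algebra.lmul F (AdjoinRoot f) (AdjoinRoot.mk f y₀)) 1) := by
    refine LinearMap.ext fun v => ?_
    obtain ⟨⟨z, w⟩, rfl⟩ := e.surjective v
    rw [hact, hp1, hp2, LinearEquiv.conj_apply_apply, e.symm_apply_apply]
    rfl
  rw [e2, LinearEquiv.conj_apply, LinearMap.comp_assoc, LinearMap.det_conj, LinearMap.det_prodMap, ← Algebra.norm_apply,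
    hy, map_one, mul_one]

theorem charpoly_toLinAlgEquiv' {R : Type*} [CommRing R] {ι : Type*} [Fintype ι] [DecidableEq ι] (M : Matrix ι ι R) :
    (Matrix.toLinAlgEquiv' M).charpoly = M.charpoly := Matrix.charpoly_toLin' M

theorem det_toLinAlgEquiv' {R : Type*} [CommRing R] {ι : Type*} [Fintype ι] [DecidableEq ι] (M : Matrix ι ι R) :
    LinearMap.det (Matrix.toLinAlgEquiv' M) = M.det := LinearMap.det_toLin' M

theorem commute_aeval {R A : Type*} [CommSemiring R] [Semiring A] [Algebra R A] {a b : A} (h : Commute a b)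
    (P : R[X]) : Commute a (aeval b P) := by
  induction P using Polynomial.induction_on with
  | C c => rw [aeval_C]; exact (Algebra.commutes c a).symm
  | add u v hu hv => rw [map_add]; exact hu.add_right hv
  | monomial k c ih =>
    rw [pow_succ, ← mul_assoc, map_mul (aeval b) (C c * X ^ k) X, aeval_X]
    exact ih.mul_right h

variable {K : Type u} [Field K] [Fintype K] {q n : ℕ} (hK : Fintype.card K = q ^ 2)

/-- `A ↦ (A⋆)⁻¹`. -/
noncomputable def unitaryDual : GL (Fin n) K →* GL (Fin n) K where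
  toFun A := (ustar (powHom hK) A)⁻¹
  map_one' := by
    rw [inv_eq_one]
    exact Units.ext (sstar_one _)
  map_mul' A B := by rw [ustar_mul, mul_inv_rev]

theorem unitaryDual_injective : Function.Injective (unitaryDual hK (n := n)) := fun A B h => by
  have h' := congrArg (ustar (powHom hK)) (inv_injective (a₁ := ustar (powHom hK) A) h)
  rwa [ustar_ustar _ (powHom_isInvol hK).invol, ustar_ustar _ (powHom_isInvol hK).invol] at h'

theorem unitaryDual_mem (g : GL (Fin n) K) : g ∈ Cfsg.GU n K q ↔ unitaryDual hK g = g := by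
  rw [mem_GU_iff hK]
  show _ ↔ (ustar (powHom hK) g)⁻¹ = g
  rw [inv_eq_iff_mul_eq_one]

theorem charpoly_unitaryDual (A : GL (Fin n) K) :
    (unitaryDual hK A : Matrix (Fin n) (Fin n) K).charpoly =
      dualPoly (powHom hK) (A : Matrix (Fin n) (Fin n) K).charpoly := by
  set σ := powHom hK
  set M := (((ustar σ A) : GL (Fin n) K) : Matrix (Fin n) (Fin n) K) with hM
  show (((ustar σ A)⁻¹ : GL (Fin n) K) : Matrix (Fin n) (Fin n) K).charpoly = _
  rw [Matrix.coe_units_inv, ← hM, Matrix.charpoly_inv M (ustar σ A).isUnit, Ring.inverse_eq_inv',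
    ← Matrix.reverse_charpoly]
  have hcp : M.charpoly = (A : Matrix (Fin n) (Fin n) K).charpoly.map σ := by
    show ((A : Matrix (Fin n) (Fin n) K).map σ).transpose.charpoly = _
    rw [Matrix.charpoly_transpose, Matrix.charpoly_map]
  rw [Matrix.det_eq_sign_charpoly_coeff, hcp, dualPoly, coeff_map, mul_inv, C_mul, Fintype.card_fin]
  rw [show ((-1 : K) ^ n)⁻¹ = (-1) ^ n by rw [← inv_pow, inv_neg_one]]
  rw [C_pow, C_neg, C_1, ← mul_assoc ((-1 : K[X]) ^ n), ← mul_pow, neg_one_mul, neg_neg, one_pow, one_mul]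

theorem dualPoly_charpoly_gu (g : ↥(Cfsg.GU n K q)) :
    dualPoly (powHom hK) ((g : GL (Fin n) K) : Matrix (Fin n) (Fin n) K).charpoly =
      ((g : GL (Fin n) K) : Matrix (Fin n) (Fin n) K).charpoly := by
  rw [← charpoly_unitaryDual hK, (unitaryDual_mem hK _).1 g.2]

variable {p : ℕ} [Fact p.Prime] [CharP K p]

include hK in
/-- Semisimple elements of `GU` with the same characteristic polynomial are conjugate. -/
theorem gu_isConj_of_charpoly (g h : ↥(Cfsg.GU n K q)) (hg : (orderOf g).Coprime p) (hh : (orderOf h).Coprime p)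
    (hc : ((g : GL (Fin n) K) : Matrix (Fin n) (Fin n) K).charpoly =
      ((h : GL (Fin n) K) : Matrix (Fin n) (Fin n) K).charpoly) : IsConj g h :=
  (gu_isConj_iff g h hK).2 (Known.SemisimpleClass.isConj_of_charpoly_eq (p := p) _ _
    (by rwa [Subgroup.orderOf_coe]) (by rwa [Subgroup.orderOf_coe]) hc)

omit [Fact p.Prime] [CharP K p] [Fintype K] in
theorem charpoly_eq_of_isConj {g h : GL (Fin n) K} (hc : IsConj g h) :
    (g : Matrix (Fin n) (Fin n) K).charpoly = (h : Matrix (Fin n) (Fin n) K).charpoly := by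
  obtain ⟨c, rfl⟩ := isConj_iff.1 hc
  rw [Units.val_mul, Units.val_mul, Matrix.charpoly_mul_comm, ← mul_assoc, Units.inv_mul, one_mul]

include hK in
/-- Every self-dual polynomial is the characteristic polynomial of a semisimple element of `GU`. -/
theorem exists_gu_semisimple {χ : K[X]} (hχ : χ.Monic) (hn : χ.natDegree = n) (h0 : χ.coeff 0 ≠ 0)
    (hd : dualPoly (powHom hK) χ = χ) :
    ∃ g : ↥(Cfsg.GU n K q), (orderOf g).Coprime p ∧
      ((g : GL (Fin n) K) : Matrix (Fin n) (Fin n) K).charpoly = χ := by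
  obtain ⟨A, hA, hAc⟩ := Known.SemisimpleClass.exists_semisimple (p := p) χ hχ hn h0
  obtain ⟨B, hB⟩ := (exists_gu_conj_iff hK A).2 (Known.SemisimpleClass.isConj_of_charpoly_eq (p := p) A
    (unitaryDual hK A) hA (by rwa [orderOf_injective _ (unitaryDual_injective hK)])
    (by rw [charpoly_unitaryDual, hAc, hd]))
  refine ⟨B, ?_, ?_⟩
  · obtain ⟨c, hc⟩ := isConj_iff.1 hB
    rw [← Subgroup.orderOf_coe, ← hc, ← MulAut.conj_apply, MulEquiv.orderOf_eq]
    exact hA
  · rw [← charpoly_eq_of_isConj hB, hAc]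

/-- Block sum of two elements. -/
noncomputable def blockHom (d m : ℕ) : GL (Fin d) K × GL (Fin m) K →* GL (Fin (d + m)) K :=
  (Units.map ((Matrix.reindexAlgEquiv K K finSumFinEquiv).toMonoidHom.comp
    { toFun := fun A : Matrix (Fin d) (Fin d) K × Matrix (Fin m) (Fin m) K => Matrix.fromBlocks A.1 0 0 A.2
      map_one' := Matrix.fromBlocks_one
      map_mul' := fun A B => by rw [Matrix.fromBlocks_multiply]; simp })).comp MulEquiv.prodUnits.symm.toMonoidHom

omit [Fintype K] [Fact p.Prime] [CharP K p] in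
theorem blockHom_val {d m : ℕ} (x : GL (Fin d) K × GL (Fin m) K) :
    (blockHom d m x : Matrix (Fin (d + m)) (Fin (d + m)) K) =
      Matrix.reindex finSumFinEquiv finSumFinEquiv
        (Matrix.fromBlocks (x.1 : Matrix (Fin d) (Fin d) K) 0 0 (x.2 : Matrix (Fin m) (Fin m) K)) := rfl

theorem ustar_blockHom {d m : ℕ} (x : GL (Fin d) K × GL (Fin m) K) :
    ustar (powHom hK) (blockHom d m x) = blockHom d m (ustar (powHom hK) x.1, ustar (powHom hK) x.2) := by
  refine Units.ext ?_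
  show sstar (powHom hK) (blockHom d m x : Matrix (Fin (d + m)) (Fin (d + m)) K) = _
  rw [blockHom_val, blockHom_val]
  show ((Matrix.reindex finSumFinEquiv finSumFinEquiv _).map (powHom hK)).transpose = Matrix.reindex _ _
    (Matrix.fromBlocks (sstar (powHom hK) (x.1 : Matrix (Fin d) (Fin d) K)) 0 0
      (sstar (powHom hK) (x.2 : Matrix (Fin m) (Fin m) K)))
  simp [sstar, Matrix.reindex_apply, ← Matrix.submatrix_map, Matrix.fromBlocks_map, Matrix.map_zero _ (map_zero (powHom hK)), Matrix.transpose_submatrix,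
    Matrix.fromBlocks_transpose]

include hK in
/-- The centralizer of a semisimple element of `GU` has every determinant. -/
theorem map_centralizer_semisimple (x : ↥(Cfsg.GU n K q)) (hx : (orderOf x).Coprime p) :
    (Subgroup.centralizer ({x} : Set ↥(Cfsg.GU n K q))).map (guDet n K q) = (guDet n K q).range := by
  classical
  refine le_antisymm (fun y => by rintro ⟨g, -, rfl⟩; exact ⟨g, rfl⟩) ?_
  rintro _ ⟨g₀, rfl⟩
  rcases Nat.eq_zero_or_pos n with rfl | hn
  · exact ⟨g₀, Subgroup.mem_centralizer_singleton_iff.2 (Subtype.ext (Units.ext (Subsingleton.elim _ _))), rfl⟩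
  set σ := powHom hK
  have hσ := (powHom_isInvol hK).invol
  set a := guDet n K q g₀
  set χ := ((x : GL (Fin n) K) : Matrix (Fin n) (Fin n) K).charpoly
  have hχdeg : χ.natDegree = n := by rw [Matrix.charpoly_natDegree_eq_dim, Fintype.card_fin]
  obtain ⟨f, h, rest, hfm, hf, hfh, hgm, hrm, hg0, hr0, hgd, hrd, hχ⟩ := exists_dual_factor σ hσ
    (Matrix.charpoly_monic _) (Known.SemisimpleClass.charpoly_coeff_zero_ne (x : GL (Fin n) K))
    (dualPoly_charpoly_gu hK x) (hχdeg.symm ▸ hn)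
  obtain ⟨d, hd⟩ : ∃ d, (f * h).natDegree = d := ⟨_, rfl⟩
  obtain ⟨m, hm⟩ : ∃ m, rest.natDegree = m := ⟨_, rfl⟩
  obtain rfl : n = d + m := by rw [← hd, ← hm, ← hχdeg, show χ = _ from hχ, hgm.natDegree_mul hrm]
  obtain ⟨x₁, hx₁, hc₁⟩ := exists_gu_semisimple hK (p := p) hgm hd hg0 hgd
  obtain ⟨x₂, hx₂, hc₂⟩ := exists_gu_semisimple hK (p := p) hrm hm hr0 hrd
  -- the model
  have hblock : ∀ (u : GL (Fin d) K) (v : GL (Fin m) K), u ∈ Cfsg.GU d K q → v ∈ Cfsg.GU m K q →
      blockHom d m (u, v) ∈ Cfsg.GU (d + m) K q := fun u v hu hv => by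
    rw [mem_GU_iff hK, ustar_blockHom, ← map_mul]
    show blockHom d m (ustar σ u * u, ustar σ v * v) = 1
    rw [(mem_GU_iff hK u).1 hu, (mem_GU_iff hK v).1 hv]
    exact map_one _
  obtain ⟨y, hy0⟩ : ∃ y : ↥(Cfsg.GU (d + m) K q),
      (y : GL (Fin (d + m)) K) = blockHom d m ((x₁ : GL (Fin d) K), (x₂ : GL (Fin m) K)) :=
    ⟨⟨_, hblock _ _ x₁.2 x₂.2⟩, rfl⟩
  have hy : (orderOf y).Coprime p := by
    rw [← Subgroup.orderOf_coe, hy0]
    refine Nat.Coprime.coprime_dvd_left (orderOf_map_dvd (blockHom d m) _) ?_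
    rw [Prod.orderOf]
    refine Nat.Coprime.coprime_dvd_left (Nat.lcm_dvd_mul _ _) (Nat.Coprime.mul_left ?_ ?_)
    · rwa [Subgroup.orderOf_coe]
    · rwa [Subgroup.orderOf_coe]
  have hxy : IsConj y x := by
    refine gu_isConj_of_charpoly hK (p := p) y x hy hx ?_
    rw [hy0, blockHom_val, Matrix.charpoly_reindex, Matrix.charpoly_fromBlocks_zero₁₂, hc₁, hc₂, hχ]
  -- the twist
  have ha : powHom hK (a : K) * (a : K) = 1 := by
    rw [powHom_apply, ← pow_succ, ← Units.val_pow_eq_pow_val, guDet_norm_one hK, Units.val_one]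
  obtain ⟨θ, hθ⟩ := (powHom_isInvol hK).exists_ne
  obtain ⟨b₀, hb₀, hab⟩ := exists_eq_div σ hσ (θ := θ)
    (isUnit_iff_ne_zero.2 (sub_ne_zero.2 (Ne.symm hθ))) ha
  obtain ⟨b, rfl⟩ := hb₀
  set X₁ := Matrix.toLinAlgEquiv' ((x₁ : GL (Fin d) K) : Matrix (Fin d) (Fin d) K) with hX₁
  obtain ⟨P, hP⟩ := exists_aeval_det X₁ (N := orderOf x₁) (h := h) (by
      rw [hX₁, ← map_pow, ← Units.val_pow_eq_pow_val, ← Subgroup.coe_pow, pow_orderOf_eq_one, Subgroup.coe_one,
        Units.val_one, map_one])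
    (natCast_ne_zero_of_coprime (p := p) hx₁) hfm hf
    (by rw [hX₁, charpoly_toLinAlgEquiv', hc₁]) hfh b
  set T₀ := aeval ((x₁ : GL (Fin d) K) : Matrix (Fin d) (Fin d) K) P with hT₀
  have hdetT : T₀.det = (b : K) := by
    rw [← det_toLinAlgEquiv', hT₀, ← hP, hX₁, ← aeval_algHom_apply]
  let T : GL (Fin d) K := Matrix.GeneralLinearGroup.mk'' T₀ (by rw [hdetT]; exact b.isUnit)
  have hTx : Commute T (x₁ : GL (Fin d) K) := Units.ext (by
    show T₀ * _ = _ * T₀
    have := ((Commute.all P X).map (aeval ((x₁ : GL (Fin d) K) : Matrix (Fin d) (Fin d) K))).eq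
    rwa [aeval_X] at this)
  have hSx : Commute (ustar σ T) (x₁ : GL (Fin d) K) := by
    have hs : ustar σ (x₁ : GL (Fin d) K) = (x₁ : GL (Fin d) K)⁻¹ :=
      eq_inv_of_mul_eq_one_left ((mem_GU_iff hK _).1 x₁.2)
    have := congrArg (ustar σ) hTx.eq
    rw [ustar_mul, ustar_mul, hs] at this
    have h2 : Commute (ustar σ T) (x₁ : GL (Fin d) K)⁻¹ := this.symm
    simpa using h2.inv_right
  have hST : Commute T (ustar σ T) := Units.ext (by
    show T₀ * _ = _ * T₀
    exact (commute_aeval (congrArg Units.val hSx.eq) P).symm.eq)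
  set U := T * (ustar σ T)⁻¹
  have hUmem : U ∈ Cfsg.GU d K q := by
    rw [mem_GU_iff hK, ustar_mul, ustar_inv, ustar_ustar σ hσ]
    calc T⁻¹ * ustar σ T * (T * (ustar σ T)⁻¹) = T⁻¹ * (ustar σ T * T) * (ustar σ T)⁻¹ := by group
      _ = T⁻¹ * (T * ustar σ T) * (ustar σ T)⁻¹ := by rw [hST.eq]
      _ = 1 := by group
  have hUx : Commute U (x₁ : GL (Fin d) K) := hTx.mul_left hSx.inv_left
  obtain ⟨k, hk0⟩ : ∃ k : ↥(Cfsg.GU (d + m) K q), (k : GL (Fin (d + m)) K) = blockHom d m (U, 1) :=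
    ⟨⟨_, hblock _ _ hUmem (Subgroup.one_mem _)⟩, rfl⟩
  obtain ⟨c, hc⟩ := isConj_iff.1 hxy
  refine ⟨c * k * c⁻¹, Subgroup.mem_centralizer_singleton_iff.2 ?_, ?_⟩
  · have hky : k * y = y * k := Subtype.ext (by
      rw [Subgroup.coe_mul, Subgroup.coe_mul, hy0, hk0]
      rw [← map_mul, ← map_mul, Prod.mk_mul_mk, Prod.mk_mul_mk, hUx.eq, one_mul, mul_one])
    rw [← hc]
    calc c * k * c⁻¹ * (c * y * c⁻¹) = c * (k * y) * c⁻¹ := by group
      _ = c * (y * k) * c⁻¹ := by rw [hky]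
      _ = c * y * c⁻¹ * (c * k * c⁻¹) := by group
  · rw [map_mul, map_mul, map_inv, mul_inv_cancel_comm]
    refine Units.ext ?_
    show ((k : GL (Fin (d + m)) K) : Matrix (Fin (d + m)) (Fin (d + m)) K).det = (a : K)
    rw [hk0, blockHom_val, Matrix.det_reindex_self, Matrix.det_fromBlocks_zero₁₂, Units.val_one, Matrix.det_one, mul_one]
    show ((Matrix.GeneralLinearGroup.det (T * (ustar σ T)⁻¹) : Kˣ) : K) = _
    rw [map_mul, map_inv, Units.val_mul, Units.val_inv_eq_inv_val]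
    show T₀.det * ((T₀.map σ).transpose.det)⁻¹ = _
    rw [Matrix.det_transpose, ← RingHom.mapMatrix_apply, ← RingHom.map_det, hdetT]
    have hb : σ (b : K) ≠ 0 := (map_ne_zero σ).2 b.ne_zero
    rw [mul_inv_eq_iff_eq_mul₀ hb]
    exact hab.symm

include hK in
/-- Semisimple elements of `SU` with the same characteristic polynomial are conjugate. -/
theorem su_isConj_of_charpoly (g h : ↥(Cfsg.SU n K q)) (hg : (orderOf g).Coprime p) (hh : (orderOf h).Coprime p)
    (hc : ((suGU n K q g : GL (Fin n) K) : Matrix (Fin n) (Fin n) K).charpoly =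
      ((suGU n K q h : GL (Fin n) K) : Matrix (Fin n) (Fin n) K).charpoly) : IsConj g h := by
  have ho : ∀ x, orderOf (suGU n K q x) = orderOf x := orderOf_injective _ suGU_injective
  obtain ⟨c, hc'⟩ := isConj_iff.1 (gu_isConj_of_charpoly hK (p := p) _ _ (by rwa [ho]) (by rwa [ho]) hc)
  obtain ⟨k, hk, hkd⟩ : (guDet n K q c)⁻¹ ∈ (Subgroup.centralizer ({suGU n K q g} : Set _)).map (guDet n K q) := by
    rw [map_centralizer_semisimple hK (p := p) _ (by rwa [ho])]
    exact ⟨c⁻¹, map_inv _ _⟩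
  obtain ⟨e, he⟩ := (range_suGU (c * k)).2 (by rw [map_mul, hkd, mul_inv_cancel])
  refine isConj_iff.2 ⟨e, suGU_injective ?_⟩
  rw [map_mul, map_mul, map_inv, he, ← hc']
  have hk' : k * suGU n K q g = suGU n K q g * k := Subgroup.mem_centralizer_singleton_iff.1 hk
  calc c * k * suGU n K q g * (c * k)⁻¹ = c * (k * suGU n K q g) * k⁻¹ * c⁻¹ := by group
    _ = c * suGU n K q g * c⁻¹ := by rw [hk']; group

include hK in
/-- The number of semisimple classes of `SU`. -/
theorem su_semisimple_count (hn : 1 ≤ n) :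
    Nat.card {c : ConjClasses ↥(Cfsg.SU n K q) // ∃ g : ↥(Cfsg.SU n K q), ConjClasses.mk g = c ∧
      (orderOf g).Coprime p} = q ^ (n - 1) := by
  classical
  obtain ⟨m, rfl⟩ : ∃ m, n = m + 1 := ⟨n - 1, by omega⟩
  obtain ⟨θ, hθ⟩ := (powHom_isInvol hK).exists_ne
  have hσ := (powHom_isInvol hK).invol
  have ha : ((-1 : K) ^ (m + 1)) * powHom hK ((-1 : K) ^ (m + 1)) = 1 := by
    rw [map_pow, map_neg, map_one, ← mul_pow, neg_one_mul, neg_neg, one_pow]
  rw [Nat.add_sub_cancel, ← card_dual (powHom hK) hσ hθ hK ha m]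
  let cp : ↥(Cfsg.SU (m + 1) K q) → K[X] := fun g =>
    ((suGU (m + 1) K q g : GL (Fin (m + 1)) K) : Matrix (Fin (m + 1)) (Fin (m + 1)) K).charpoly
  have hdet : ∀ g : ↥(Cfsg.GU (m + 1) K q),
      ((g : GL (Fin (m + 1)) K) : Matrix (Fin (m + 1)) (Fin (m + 1)) K).charpoly.coeff 0 = (-1) ^ (m + 1) ↔
        guDet (m + 1) K q g = 1 := by
    intro g
    rw [Units.ext_iff]
    show _ ↔ ((g : GL (Fin (m + 1)) K) : Matrix (Fin (m + 1)) (Fin (m + 1)) K).det = 1
    rw [Matrix.det_eq_sign_charpoly_coeff, Fintype.card_fin]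
    constructor
    · intro h; rw [h, ← mul_pow, neg_one_mul, neg_neg, one_pow]
    · intro h
      calc _ = (-1 : K) ^ (m + 1) * (((-1 : K) ^ (m + 1)) * _) := by
            rw [← mul_assoc, ← mul_pow, neg_one_mul, neg_neg, one_pow, one_mul]
        _ = _ := by rw [h, mul_one]
  choose r hr hrp using fun c : {c : ConjClasses ↥(Cfsg.SU (m + 1) K q) //
    ∃ g : ↥(Cfsg.SU (m + 1) K q), ConjClasses.mk g = c ∧ (orderOf g).Coprime p} => c.2
  refine Nat.card_congr (Equiv.ofBijective (fun c => ⟨cp (r c),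
    ⟨Matrix.charpoly_monic _, by rw [Matrix.charpoly_natDegree_eq_dim, Fintype.card_fin]⟩,
    (hdet _).2 ((range_suGU _).1 ⟨_, rfl⟩), dualPoly_charpoly_gu hK _⟩) ⟨fun c c' h => ?_, fun χ => ?_⟩)
  · apply Subtype.ext
    rw [← hr c, ← hr c']
    exact ConjClasses.mk_eq_mk_iff_isConj.2 (su_isConj_of_charpoly hK _ _ (hrp c) (hrp c') (congrArg Subtype.val h))
  · obtain ⟨B, hB, hBc⟩ := exists_gu_semisimple hK (p := p) χ.2.1.1 χ.2.1.2
      (by rw [χ.2.2.1]; exact pow_ne_zero _ (by simp)) χ.2.2.2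
    obtain ⟨g, rfl⟩ := (range_suGU B).2 ((hdet B).1 (by rw [hBc, χ.2.2.1]))
    rw [orderOf_injective _ suGU_injective] at hB
    refine ⟨⟨ConjClasses.mk g, g, rfl, hB⟩, Subtype.ext ?_⟩
    show cp (r _) = χ.1
    have hc := ConjClasses.mk_eq_mk_iff_isConj.1 (hr ⟨ConjClasses.mk g, g, rfl, hB⟩)
    rw [← hBc]
    exact charpoly_eq_of_isConj (MonoidHom.map_isConj ((Cfsg.GU (m + 1) K q).subtype.comp (suGU (m + 1) K q)) hc)

end CfsgLib.Classical.ClassTheory
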