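import Cfsg.Agent.Lib.Classical.ClassTheory.CyclotomicFactors
import Cfsg.Agent.Lib.Classical.ClassTheory.SpModels

/-!
# Classes of elements of odd prime order of `Sp`
-/

set_option autoImplicit false

open Polynomial

namespace CfsgLib.Classical.ClassTheory

universe u

variable {F : Type u} [Field F]

/-- `Sp` inside `GL` on `Fin (m + m)`. -/
noncomputable def spToGL (m : ℕ) (F : Type*) [Field F] : Matrix.symplecticGroup (Fin m) F →* GL (Fin (m + m)) F :=
  (Units.map (Matrix.reindexAlgEquiv F F (finSumFinEquiv (m := m) (n := m))).toMonoidHom).comp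
    (Matrix.symplecticGroup (Fin m) F).subtype.toHomUnits

theorem spToGL_injective (m : ℕ) : Function.Injective (spToGL m F) := fun x y h =>
  Subtype.ext ((Matrix.reindexAlgEquiv F F (finSumFinEquiv (m := m) (n := m))).injective (congrArg Units.val h))

theorem charpoly_spToGL {m : ℕ} (g : Matrix.symplecticGroup (Fin m) F) :
    (spToGL m F g : Matrix (Fin (m + m)) (Fin (m + m)) F).charpoly =
      (g : Matrix (Fin m ⊕ Fin m) (Fin m ⊕ Fin m) F).charpoly :=
  Matrix.charpoly_reindex (finSumFinEquiv (m := m) (n := m)) _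

section Residues

variable {r : ℕ} (hr : r.Prime) (hr2 : r ≠ 2)

include hr hr2 in
/-- `-1` is a power of `x` exactly when `x` has even order. -/
theorem exists_pow_eq_neg_one_iff (x : ZMod r) (hx : x ≠ 0) : (∃ k : ℕ, x ^ k = -1) ↔ Even (orderOf x) := by
  haveI : Fact r.Prime := ⟨hr⟩
  haveI : Fact (2 < r) := ⟨lt_of_le_of_ne hr.two_le (Ne.symm hr2)⟩
  have hne : (-1 : ZMod r) ≠ 1 := ZMod.neg_one_ne_one
  constructor
  · rintro ⟨k, hk⟩
    have h2 : orderOf (-1 : ZMod r) = 2 := orderOf_eq_prime (by rw [neg_one_sq]) hne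
    rw [even_iff_two_dvd, ← h2, ← hk]
    exact orderOf_pow_dvd k
  · rintro ⟨j, hj⟩
    have hu : orderOf (Units.mk0 x hx) = orderOf x := by rw [← orderOf_units]; rfl
    have h0 : 0 < j + j := hj ▸ hu ▸ orderOf_pos (Units.mk0 x hx)
    have h1 : x ^ j * x ^ j = 1 := by rw [← pow_add, ← hj, pow_orderOf_eq_one]
    have h2 : x ^ j ≠ 1 := pow_ne_one_of_lt_orderOf (by omega) (by omega)
    exact ⟨j, (mul_self_eq_one_iff.1 h1).resolve_left h2⟩

end Residues

variable [Fintype F] {p : ℕ} [Fact p.Prime] [CharP F p]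

theorem sp_prime_class_count {q : ℕ} (hF : Fintype.card F = q) (m r i t : ℕ) (hr : r.Prime) (hr2 : r ≠ 2)
    (hrp : r ≠ p) (hi : i = orderOf (q : ZMod r)) (ht : t * i = r - 1) :
    Nat.card {C : ConjClasses ↥(Matrix.symplecticGroup (Fin m) F) //
      ∃ g : Matrix.symplecticGroup (Fin m) F, ConjClasses.mk g = C ∧ orderOf g = r} =
      if Odd i then Nat.choose (m / i + t / 2) (t / 2) - 1 else Nat.choose (2 * m / i + t) t - 1 := by
  classical
  subst hF
  obtain ⟨hdeg, hcard, hi0⟩ := cycFactors_facts hr hrp hi ht (p := p) (F := F)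
  set δ := dualPerm (F := F) (p := p) hr hrp (RingHom.id F) (fun _ => rfl) with hδdef
  have hcopr : r.Coprime p := (Nat.coprime_primes hr Fact.out).2 hrp
  have key := card_prime_classes hr hrp hi ht (p := p) (spToGL m F) (spToGL_injective m)
    (fun g h hg hh hc => sp_isConj_of_charpoly g h (hg ▸ hcopr) (hh ▸ hcopr)
      (by rwa [charpoly_spToGL, charpoly_spToGL] at hc)) (fun a => a ∘ δ = a) fun a ha => ?_
  swap
  · obtain ⟨hm, hd, h0⟩ := multPoly_facts hr hrp hi ht (p := p) (m + m) a ha
    constructor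
    · rintro ⟨g, -, hg⟩
      refine (dualPoly_multPoly_iff hr hrp (RingHom.id F) (fun _ => rfl) (m + m) i a).1 ?_
      rw [← hg, charpoly_spToGL, dualPoly_charpoly_sp]
    · intro hfix
      have hdual := (dualPoly_multPoly_iff hr hrp (RingHom.id F) (fun _ => rfl) (m + m) i a).2 hfix
      set χ := multPoly r (m + m) i a
      -- the constant term
      have hc1 : χ.coeff 0 = 1 := by
        have h1 := dualPoly_coeff_zero (RingHom.id F) hm
        rw [hdual, RingHom.id_apply] at h1
        have h2 : χ.coeff 0 * χ.coeff 0 = 1 := by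
          conv_lhs => arg 1; rw [h1]
          exact inv_mul_cancel₀ h0
        obtain ⟨G, hG, hGc⟩ := Known.SemisimpleClass.exists_semisimple (p := p) χ hm hd h0
        have h3 := congrArg (fun M : GL (Fin (m + m)) F => (M : Matrix (Fin (m + m)) (Fin (m + m)) F).det)
          (pow_eq_one_of_mult hr hrp (p := p) G hG hGc)
        simp only [Units.val_pow_eq_pow_val, Matrix.det_pow, Units.val_one, Matrix.det_one] at h3
        rw [Matrix.det_eq_sign_charpoly_coeff, Fintype.card_fin, hGc,
          (show Even (m + m) from ⟨m, rfl⟩).neg_one_pow, one_mul] at h3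
        obtain ⟨k, hk⟩ := hr.odd_of_ne_two hr2
        rw [hk, pow_succ, pow_mul, pow_two, h2, one_pow, one_mul] at h3
        exact h3
      obtain ⟨m', A, hm', hA, hAc⟩ := (sympReal_of_dual (p := p) (m + m) χ hd ⟨m, rfl⟩ hm hc1 hdual).exists_symplectic
        (p := p)
      obtain rfl : m' = m := by omega
      exact ⟨A, hA, by rw [charpoly_spToGL, hAc]⟩
  rw [key]
  have hfix : ∀ j : cycFactors F r, δ j = j ↔ Even i := fun j => by
    rw [Subtype.ext_iff]
    show dualPoly (RingHom.id F) (j : F[X]) = j ↔ _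
    rw [dualPoly_eq_self_iff hr hrp (p := p) (RingHom.id F) (fun _ => rfl) j.2 1
      (fun L _ _ => ⟨RingHom.id L, fun _ => rfl, fun z => (pow_one z).symm⟩), Nat.cast_one, hi]
    refine exists_pow_eq_neg_one_iff hr hr2 _ fun h0 => ?_
    rw [h0] at hi
    haveI : Fact r.Prime := ⟨hr⟩
    rw [orderOf_eq_zero] at hi
    · omega
    · rintro hfin
      obtain ⟨k, hk, h1⟩ := isOfFinOrder_iff_pow_eq_one.1 hfin
      rw [zero_pow hk.ne'] at h1
      exact zero_ne_one h1
  split_ifs with hodd
  · congr 1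
    rw [card_mult_fixed δ (dualPerm_invol hr hrp (RingHom.id F) fun _ => rfl)
      (fun j hj => Nat.not_even_iff_odd.2 hodd ((hfix j).1 hj)) hi0, Fintype.card_coe, hcard, ← two_mul,
      Nat.mul_div_mul_left _ _ two_pos]
  · congr 1
    have hid : ∀ a : cycFactors F r → ℕ, a ∘ δ = a := fun a => funext fun j => by
      rw [Function.comp_apply, (hfix j).2 (Nat.not_odd_iff_even.1 hodd)]
    rw [show Nat.card {a : cycFactors F r → ℕ // i * ∑ j, a j ≤ m + m ∧ a ∘ δ = a} =
        Nat.card {a : cycFactors F r → ℕ // i * ∑ j, a j ≤ m + m} from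
      Nat.card_congr (Equiv.subtypeEquivRight fun a => and_iff_left (hid a)), card_mult_le hi0,
      Fintype.card_coe, hcard, two_mul]

end CfsgLib.Classical.ClassTheory
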