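import Cfsg.Agent.Lib.Classical.ClassTheory.CyclotomicFactors
import Cfsg.Agent.Lib.Classical.ClassTheory.GUSemisimple
import Cfsg.Agent.Lib.Classical.ClassTheory.SpPrime

/-!
# Classes of elements of odd prime order of `GU`
-/

set_option autoImplicit false

open Polynomial

namespace CfsgLib.Classical.ClassTheory

open CfsgLib.Classical.Herm

universe u

section Residues

variable {r : ℕ} (hr : r.Prime) (hr2 : r ≠ 2)

include hr hr2 in
/-- `-x` is a power of `x ^ 2` exactly when the order of `x` is `2` modulo `4`. -/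
theorem exists_sq_pow_eq_neg_iff (x : ZMod r) (hx : x ≠ 0) :
    (∃ k : ℕ, (x ^ 2) ^ k = -x) ↔ orderOf x % 4 = 2 := by
  haveI : Fact r.Prime := ⟨hr⟩
  set u := Units.mk0 x hx with hu
  have hord : orderOf u = orderOf x := by rw [← orderOf_units]; rfl
  have hpos : 0 < orderOf x := hord ▸ orderOf_pos u
  obtain ⟨M, hM⟩ : ∃ M, orderOf x = M + 1 := ⟨orderOf x - 1, by omega⟩
  constructor
  · rintro ⟨k, hk⟩
    have he : x ^ (2 * k + M) = -1 := by
      rw [pow_add, pow_mul, hk, neg_mul, ← pow_succ', ← hM, pow_orderOf_eq_one]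
    obtain ⟨j, hj⟩ := (exists_pow_eq_neg_one_iff hr hr2 x hx).1 ⟨_, he⟩
    have h2 : x ^ j ≠ 1 := pow_ne_one_of_lt_orderOf (by omega) (by omega)
    have h1 : x ^ j * x ^ j = 1 := by rw [← pow_add, ← hj, pow_orderOf_eq_one]
    have h3 : x ^ j = -1 := (mul_self_eq_one_iff.1 h1).resolve_left h2
    have h4 : u ^ (2 * k + M) = u ^ j := Units.ext (by
      rw [Units.val_pow_eq_pow_val, Units.val_pow_eq_pow_val]
      exact he.trans h3.symm)
    rw [pow_eq_pow_iff_modEq, hord, hj, Nat.ModEq] at h4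
    have h5 := congrArg (fun z => z % 2) h4
    simp only [Nat.mod_mod_of_dvd _ (show 2 ∣ j + j from ⟨j, by ring⟩)] at h5
    omega
  · intro h
    obtain ⟨j, hj⟩ : ∃ j, orderOf x = j + j := ⟨orderOf x / 2, by omega⟩
    have h2 : x ^ j ≠ 1 := pow_ne_one_of_lt_orderOf (by omega) (by omega)
    have h1 : x ^ j * x ^ j = 1 := by rw [← pow_add, ← hj, pow_orderOf_eq_one]
    refine ⟨(j + 1) / 2, ?_⟩
    rw [← pow_mul, show 2 * ((j + 1) / 2) = j + 1 by omega, pow_succ,
      (mul_self_eq_one_iff.1 h1).resolve_left h2, neg_one_mul]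

end Residues

variable {K : Type u} [Field K] [Fintype K] {p : ℕ} [Fact p.Prime] [CharP K p]

theorem gu_prime_class_count {q n r i b s : ℕ} (hK : Fintype.card K = q ^ 2) (hr : r.Prime) (hr2 : r ≠ 2)
    (hrp : r ≠ p) (hi : i = orderOf (q : ZMod r)) (hb : b = if Odd i then i else i / 2) (hs : s * b = r - 1) :
    Nat.card {C : ConjClasses ↥(Cfsg.GU n K q) // ∃ g : ↥(Cfsg.GU n K q), ConjClasses.mk g = C ∧ orderOf g = r} =
      if i % 4 = 2 then Nat.choose (2 * n / i + s) s - 1 else Nat.choose (n / (2 * b) + s / 2) (s / 2) - 1 := by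
  classical
  haveI : Fact r.Prime := ⟨hr⟩
  set σ := powHom hK
  have hσ := (powHom_isInvol hK).invol
  have hq0 : (q : ZMod r) ≠ 0 := by
    intro h0
    skip
    obtain ⟨f₀, -, hq⟩ := FiniteField.card K p
    have hdvd : r ∣ q ^ 2 := dvd_pow ((ZMod.natCast_eq_zero_iff _ _).1 h0) two_ne_zero
    rw [← hK, hq] at hdvd
    exact hrp ((Nat.prime_dvd_prime_iff_eq hr Fact.out).1 (hr.dvd_of_dvd_pow hdvd))
  have hib : b = orderOf (Fintype.card K : ZMod r) := by
    have hu : orderOf (Units.mk0 (q : ZMod r) hq0) = i := by rw [hi, ← orderOf_units]; rfl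
    have hcast : ((Fintype.card K : ℕ) : ZMod r) = ((Units.mk0 (q : ZMod r) hq0 ^ 2 : (ZMod r)ˣ) : ZMod r) := by
      rw [hK, Nat.cast_pow, Units.val_pow_eq_pow_val]
      rfl
    rw [hcast, orderOf_units, orderOf_pow, hu, hb]
    split_ifs with hodd
    · rw [show Nat.gcd i 2 = 1 from (Nat.coprime_two_right.2 hodd), Nat.div_one]
    · rw [Nat.gcd_eq_right (Nat.not_odd_iff_even.1 hodd).two_dvd]
  obtain ⟨hdeg, hcard, hb0⟩ := cycFactors_facts hr hrp hib hs (p := p) (F := K)
  set δ := dualPerm (F := K) (p := p) hr hrp σ hσ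
  have hcopr : r.Coprime p := (Nat.coprime_primes hr Fact.out).2 hrp
  have key := card_prime_classes hr hrp hib hs (p := p) (Cfsg.GU n K q).subtype Subtype.val_injective
    (fun g h hg hh hc => gu_isConj_of_charpoly hK (p := p) g h (hg ▸ hcopr) (hh ▸ hcopr) hc)
    (fun a => a ∘ δ = a) fun a ha => ?_
  swap
  · obtain ⟨hm, hd, h0⟩ := multPoly_facts hr hrp hib hs (p := p) n a ha
    constructor
    · rintro ⟨g, -, hg⟩
      refine (dualPoly_multPoly_iff hr hrp σ hσ n b a).1 ?_
      rw [← hg]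
      exact dualPoly_charpoly_gu hK g
    · intro hfix
      exact exists_gu_semisimple hK (p := p) hm hd h0 ((dualPoly_multPoly_iff hr hrp σ hσ n b a).2 hfix)
  rw [key]
  have hfix : ∀ j : cycFactors K r, δ j = j ↔ i % 4 = 2 := fun j => by
    rw [Subtype.ext_iff]
    show dualPoly σ (j : K[X]) = j ↔ _
    rw [dualPoly_eq_self_iff hr hrp (p := p) σ hσ j.2 q (fun L _ _ => ?_), hK, Nat.cast_pow, hi]
    · exact exists_sq_pow_eq_neg_iff hr hr2 _ hq0
    · haveI : CharP L p := charP_of_injective_algebraMap (algebraMap K L).injective p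
      haveI : ExpChar L p := ExpChar.prime Fact.out
      obtain ⟨f₀, -, hq⟩ := FiniteField.card K p
      obtain ⟨e, -, he⟩ := (Nat.dvd_prime_pow (Fact.out : p.Prime)).1 (show q ∣ p ^ (f₀ : ℕ) from hq ▸ hK ▸ dvd_pow_self q two_ne_zero)
      refine ⟨iterateFrobenius L p e, fun a => ?_, fun z => ?_⟩
      · rw [iterateFrobenius_def, ← he, powHom_apply, map_pow]
      · rw [iterateFrobenius_def, he]
  split_ifs with h4
  · congr 1
    have hid : ∀ a : cycFactors K r → ℕ, a ∘ δ = a := fun a => funext fun j => by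
      rw [Function.comp_apply, (hfix j).2 h4]
    rw [show Nat.card {a : cycFactors K r → ℕ // b * ∑ j, a j ≤ n ∧ a ∘ δ = a} =
        Nat.card {a : cycFactors K r → ℕ // b * ∑ j, a j ≤ n} from
      Nat.card_congr (Equiv.subtypeEquivRight fun a => and_iff_left (hid a)), card_mult_le hb0,
      Fintype.card_coe, hcard]
    have hb' : i = 2 * b := by
      rw [if_neg (by rw [Nat.odd_iff]; omega)] at hb
      omega
    rw [hb', Nat.mul_div_mul_left _ _ two_pos]
  · congr 1
    rw [card_mult_fixed δ (dualPerm_invol hr hrp σ hσ) (fun j hj => h4 ((hfix j).1 hj)) hb0, Fintype.card_coe, hcard]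

end CfsgLib.Classical.ClassTheory
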