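import Cfsg.Agent.Lib.Classical.ClassTheory.JordanCommutant
import Cfsg.Agent.Lib.Classical.ClassTheory.Unitary
import Cfsg.Agent.Lib.Known.UnipotentClasses

/-!
# Orders of centralizers of unipotent elements of `GL` and `GU`
-/

set_option autoImplicit false

namespace CfsgLib.Classical.ClassTheory

open Matrix CfsgLib.Classical.Herm

section General

variable {K : Type*} [Field K] {ι : Type*} [Fintype ι] [DecidableEq ι]

/-- Matrices with non-zero determinant are counted as units. -/
theorem card_det_ne_zero [Fintype K] (ι : Type*) [Fintype ι] [DecidableEq ι] :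
    Nat.card {M : Matrix ι ι K // M.det ≠ 0} =
      ∏ i : Fin (Fintype.card ι), (Fintype.card K ^ Fintype.card ι - Fintype.card K ^ (i : ℕ)) := by
  rw [← Matrix.card_GL_field]
  refine Nat.card_congr
    { toFun := fun M => Matrix.GeneralLinearGroup.mkOfDetNeZero (M.1.submatrix (Fintype.equivFin ι).symm
        (Fintype.equivFin ι).symm) (by rw [Matrix.det_submatrix_equiv_self]; exact M.2)
      invFun := fun g => ⟨(g : Matrix (Fin (Fintype.card ι)) (Fin (Fintype.card ι)) K).submatrix (Fintype.equivFin ι)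
        (Fintype.equivFin ι), by
          rw [Matrix.det_submatrix_equiv_self]
          exact ((Matrix.isUnit_iff_isUnit_det _).1 g.isUnit).ne_zero⟩
      left_inv := fun M => Subtype.ext (by ext i j; simp)
      right_inv := fun g => Units.ext (by ext i j; simp) }

variable [Finite K] (σ : K →+* K) (hσ : IsInvol σ)

include hσ in
/-- A centraliser in `GL` is covered by the centraliser in the unitary group and its Hermitian units. -/
theorem card_centralizer_norm (u : (Matrix ι ι K)ˣ) (hu : ustar σ u * u = 1) :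
    Nat.card {D : (Matrix ι ι K)ˣ // Commute D u} =
      Nat.card {D : (Matrix ι ι K)ˣ // Commute D u ∧ ustar σ D * D = 1} *
        Nat.card {h : (Matrix ι ι K)ˣ // Commute h u ∧ ustar σ h = h} := by
  rw [← Nat.card_prod]
  have hus : ustar σ u = u⁻¹ := eq_inv_of_mul_eq_one_left hu
  have hstar : ∀ D, Commute D u → Commute (ustar σ D) u := fun D hD => by
    have h := congrArg (ustar σ) hD.eq
    rw [ustar_mul, ustar_mul, hus] at h
    exact Commute.inv_right_iff.1 (show Commute (ustar σ D) u⁻¹ from h.symm)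
  choose R hR hRc using fun h : {h : (Matrix ι ι K)ˣ // Commute h u ∧ ustar σ h = h} =>
    exists_sstar_mul_self σ hσ h.1 h.2.2
  have hRu : ∀ h, Commute (R h) u := fun h => hRc h u h.2.1
  symm
  refine Nat.card_congr (Equiv.ofBijective (fun p => ⟨p.1.1 * R p.2, p.1.2.1.mul_left (hRu p.2)⟩) ⟨?_, ?_⟩)
  · intro p p' hpp
    have h1 : p.1.1 * R p.2 = p'.1.1 * R p'.2 := congrArg Subtype.val hpp
    have hn : ∀ x : {D : (Matrix ι ι K)ˣ // Commute D u ∧ ustar σ D * D = 1} ×
        {h : (Matrix ι ι K)ˣ // Commute h u ∧ ustar σ h = h},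
        ustar σ (x.1.1 * R x.2) * (x.1.1 * R x.2) = x.2.1 := fun x => by
      rw [ustar_mul, mul_assoc, ← mul_assoc (ustar σ x.1.1), x.1.2.2, one_mul, hR]
    have h12 : ustar σ (p.1.1 * R p.2) * (p.1.1 * R p.2) = ustar σ (p'.1.1 * R p'.2) * (p'.1.1 * R p'.2) := by rw [h1]
    have h2 : p.2 = p'.2 := Subtype.ext ((hn p).symm.trans (h12.trans (hn p')))
    refine Prod.ext (Subtype.ext ?_) h2
    rw [h2] at h1
    exact mul_right_cancel h1
  · rintro ⟨D, hD⟩
    let h : {h : (Matrix ι ι K)ˣ // Commute h u ∧ ustar σ h = h} :=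
      ⟨ustar σ D * D, (hstar D hD).mul_left hD, by rw [ustar_mul, ustar_ustar σ hσ.invol]⟩
    refine ⟨(⟨D * (R h)⁻¹, hD.mul_left (hRu h).inv_left, ?_⟩, h), Subtype.ext (inv_mul_cancel_right D (R h))⟩
    rw [ustar_mul, ustar_inv, mul_assoc, ← mul_assoc (ustar σ D), show ustar σ D * D = ustar σ (R h) * R h from (hR h).symm]
    group

omit [DecidableEq ι] [Fintype ι] in
include hσ in
/-- The fixed points of a semilinear involution of `ι → K`. -/
theorem card_semilinear_fixed [Finite ι] (τ : ι → ι) (hτ : ∀ x, τ (τ x) = x) :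
    Nat.card {f : ι → K // ∀ x, f (τ x) = σ (f x)} = Nat.card (fixedSub σ) ^ Nat.card ι := by
  obtain ⟨θ, hθ⟩ := hσ.exists_ne
  have hne : θ - σ θ ≠ 0 := sub_ne_zero.2 (Ne.symm hθ)
  let X := {f : ι → K // ∀ x, f (τ x) = σ (f x)}
  have hX : ∀ (f : X) x, σ (f.1 (τ x)) = f.1 x := fun f x => by rw [← f.2, hτ]
  have hcard : Nat.card (ι → K) = Nat.card X * Nat.card X := by
    rw [← Nat.card_prod]
    symm
    refine Nat.card_congr (Equiv.ofBijective (fun p : X × X => fun x => p.1.1 x + θ * p.2.1 x) ⟨?_, ?_⟩)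
    · intro p r h
      have key : ∀ x, p.2.1 x = r.2.1 x := fun x => by
        have h1 := congrFun h x
        have h2 := congrArg σ (congrFun h (τ x))
        simp only [map_add, map_mul, hX] at h1 h2
        refine mul_left_cancel₀ hne ?_
        linear_combination h1 - h2
      refine Prod.ext (Subtype.ext (funext fun x => ?_)) (Subtype.ext (funext key))
      have h1 := congrFun h x
      simp only [key x] at h1
      exact add_right_cancel h1
    · intro f
      let b : ι → K := fun x => (f x - σ (f (τ x))) / (θ - σ θ)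
      have hb : ∀ x, b (τ x) = σ (b x) := fun x => by
        simp only [b, hτ, map_div₀, map_sub, hσ.invol]
        rw [← neg_sub θ (σ θ), ← neg_sub (f (τ x)) (σ (f x)), neg_div_neg_eq]
      refine ⟨(⟨fun x => f x - θ * b x, fun x => ?_⟩, ⟨b, hb⟩), funext fun x => sub_add_cancel (f x) (θ * b x)⟩
      show f (τ x) - θ * b (τ x) = σ (f x - θ * b x)
      rw [map_sub, map_mul, ← hb x, ← sub_eq_zero]
      have h1 : b (τ x) * (θ - σ θ) = f (τ x) - σ (f x) := by
        simp only [b, hτ]; exact div_mul_cancel₀ _ hne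
      linear_combination -h1
  rw [Nat.card_fun, hσ.card_sq, ← pow_mul, mul_comm, pow_mul, ← pow_two] at hcard
  exact (Nat.pow_left_injective two_ne_zero hcard).symm

end General

section Count

variable {K : Type*} [Field K] [Fintype K] {t : ℕ} (d : Fin t → ℕ) (hd : ∀ k, 1 ≤ d k)

theorem card_JBlk (i : Fin (Finset.univ.sup d + 1)) :
    Fintype.card (JBlk d i) = (Finset.univ.filter (fun k : Fin t => d k = (i : ℕ))).card :=
  Fintype.card_subtype _

include hd in
/-- The number of invertible matrices commuting with the nilpotent matrix of type `d`. -/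
theorem card_units_commute_nilMat :
    Nat.card {X : Matrix ((k : Fin t) × Fin (d k)) ((k : Fin t) × Fin (d k)) K //
        IsUnit X ∧ X * nilMat d K = nilMat d K * X} =
      Fintype.card K ^ Nat.card (JFree d) *
        ∏ i : Fin (Finset.univ.sup d + 1), Nat.card {M : Matrix (JBlk d i) (JBlk d i) K // M.det ≠ 0} := by
  classical
  rw [← Nat.card_eq_fintype_card, ← Nat.card_fun, ← Nat.card_pi, ← Nat.card_prod]
  symm
  refine Nat.card_congr (Equiv.ofBijective (fun p => ⟨parMat d ((parSplit d hd).symm (fun i => (p.2 i).1, p.1)),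
    (isUnit_parMat d hd _).2 fun i => ?_, parMat_commute d _⟩) ⟨?_, ?_⟩)
  · have h := congrFun (congrArg Prod.fst ((parSplit d hd).apply_symm_apply (fun i => (p.2 i).1, p.1))) i
    change topBlk d _ i = (p.2 i).1 at h
    rw [h]
    exact (p.2 i).2
  · intro p r h
    have h1 := (parSplit d hd).symm.injective (parMat_injective d (congrArg Subtype.val h))
    exact Prod.ext (congrArg Prod.snd h1) (funext fun i => Subtype.ext (congrFun (congrArg Prod.fst h1) i))
  · rintro ⟨X, hu, hc⟩
    obtain ⟨c, rfl⟩ := exists_parMat d hc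
    refine ⟨((parSplit d hd c).2, fun i => ⟨(parSplit d hd c).1 i, (isUnit_parMat d hd c).1 hu i⟩), Subtype.ext ?_⟩
    show parMat d ((parSplit d hd).symm (parSplit d hd c)) = parMat d c
    rw [Equiv.symm_apply_apply]

include hd in
/-- The number of invertible Hermitian matrices for which the nilpotent matrix is self-adjoint. -/
theorem card_herm_nilMat (σ : K →+* K) (hσ : IsInvol σ) :
    Nat.card {H : Matrix ((k : Fin t) × Fin (d k)) ((k : Fin t) × Fin (d k)) K //
        IsUnit H ∧ sstar σ H = H ∧ H * nilMat d K = (nilMat d K)ᵀ * H} =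
      Nat.card (fixedSub σ) ^ Nat.card (JFree d) *
        ∏ i : Fin (Finset.univ.sup d + 1),
          Nat.card {M : Matrix (JBlk d i) (JBlk d i) K // M.det ≠ 0 ∧ sstar σ M = M} := by
  classical
  let τ : JFree d → JFree d := fun x => ⟨JPar.swap d x.1, fun h => x.2 ((JIsTop.swap_iff d x.1).1 h)⟩
  rw [← card_semilinear_fixed σ hσ τ fun x => rfl, ← Nat.card_pi, ← Nat.card_prod]
  have hblk : ∀ (c : JPar d → K) i, (parSplit d hd c).1 i = topBlk d c i := fun c i => rfl
  symm
  refine Nat.card_congr (Equiv.ofBijective (fun p =>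
    ⟨hankMat d ((parSplit d hd).symm (fun i => (p.2 i).1, p.1.1)), ?_, ?_, ?_⟩) ⟨?_, ?_⟩)
  · rw [hankMat_eq]
    refine (Matrix.isUnit_submatrix_equiv (e₁ := revIdx d) (e₂ := Equiv.refl _)).2 ((isUnit_parMat d hd _).2 fun i => ?_)
    rw [← hblk, Equiv.apply_symm_apply]
    exact (p.2 i).2.1
  · rw [sstar_hankMat_iff, swap_cond_iff d hd, Equiv.apply_symm_apply]
    exact ⟨fun i => (p.2 i).2.2, p.1.2⟩
  · rw [hankMat_eq]
    have h := congrArg (fun M => M.submatrix (revIdx d) id)
      (parMat_commute d ((parSplit d hd).symm (fun i => (p.2 i).1, p.1.1)))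
    have key : ∀ P : Matrix ((k : Fin t) × Fin (d k)) ((k : Fin t) × Fin (d k)) K,
        (P.submatrix (revIdx d) id).submatrix (revIdx d) id = P := fun P => by
      ext a b; simp [revIdx_revIdx]
    have h2 := congrArg (fun M => M.submatrix (revIdx d) id)
      (nilMat_transpose_mul d ((parMat d ((parSplit d hd).symm (fun i => (p.2 i).1, p.1.1))).submatrix (revIdx d) id))
    simp only [key] at h2
    rw [← h2, ← h]
    rfl
  · intro p r h
    have h0 : hankMat d _ = hankMat d _ := congrArg Subtype.val h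
    rw [hankMat_eq, hankMat_eq] at h0
    have h1 := (parSplit d hd).symm.injective (parMat_injective d (Matrix.ext fun a b => by
      simpa [revIdx_revIdx] using congrFun (congrFun h0 (revIdx d a)) b))
    exact Prod.ext (Subtype.ext (congrArg Prod.snd h1))
      (funext fun i => Subtype.ext (congrFun (congrArg Prod.fst h1) i))
  · rintro ⟨H, hu, hs, hc⟩
    have hH : (H.submatrix (revIdx d) id).submatrix (revIdx d) id = H := by ext a b; simp [revIdx_revIdx]
    obtain ⟨c, hcH⟩ := exists_parMat d (X := H.submatrix (revIdx d) id) (by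
      rw [nilMat_transpose_mul, ← hc]
      rfl)
    have hHc : hankMat d c = H := by rw [hankMat_eq, hcH, hH]
    subst hHc
    obtain ⟨hb, hf⟩ := (swap_cond_iff d hd σ c).1 ((sstar_hankMat_iff d σ c).1 hs)
    have hu' := (isUnit_parMat d hd c).1 (by
      rw [hankMat_eq] at hu
      exact (Matrix.isUnit_submatrix_equiv (e₁ := revIdx d) (e₂ := Equiv.refl _)).1 hu)
    refine ⟨(⟨(parSplit d hd c).2, hf⟩, fun i => ⟨(parSplit d hd c).1 i, hu' i, hb i⟩), Subtype.ext ?_⟩
    show hankMat d ((parSplit d hd).symm (parSplit d hd c)) = hankMat d c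
    rw [Equiv.symm_apply_apply]

include hd in
theorem card_centralizer_jordanType :
    Nat.card {g : GL ((k : Fin t) × Fin (d k)) K // (g : Matrix ((k : Fin t) × Fin (d k)) ((k : Fin t) × Fin (d k)) K) *
        Cfsg.jordanTypeMatrix d K = Cfsg.jordanTypeMatrix d K * g} =
      Fintype.card K ^ Nat.card (JFree d) *
        ∏ i : Fin (Finset.univ.sup d + 1), Nat.card {M : Matrix (JBlk d i) (JBlk d i) K // M.det ≠ 0} := by
  rw [← card_units_commute_nilMat d hd]
  have hJ : Cfsg.jordanTypeMatrix d K = 1 + nilMat d K := by rw [← jordanType_sub_one]; abel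
  have key : ∀ X : Matrix ((k : Fin t) × Fin (d k)) ((k : Fin t) × Fin (d k)) K,
      X * Cfsg.jordanTypeMatrix d K = Cfsg.jordanTypeMatrix d K * X ↔ X * nilMat d K = nilMat d K * X := fun X => by
    rw [hJ, mul_add, mul_one, add_mul, one_mul, add_right_inj]
  exact Nat.card_congr
    { toFun := fun g => ⟨g.1, g.1.isUnit, (key _).1 g.2⟩
      invFun := fun X => ⟨X.2.1.unit, by rw [IsUnit.unit_spec]; exact (key _).2 X.2.2⟩
      left_inv := fun g => Subtype.ext (Units.ext rfl)
      right_inv := fun X => Subtype.ext rfl }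

end Count

section Unitary

variable {K : Type*} [Field K] [Fintype K] {q : ℕ} (hK : Fintype.card K = q ^ 2)

include hK in
/-- Invertible Hermitian matrices times the unitary group count the general linear group. -/
theorem card_herm_units (ι : Type*) [Fintype ι] [DecidableEq ι] :
    Nat.card (Cfsg.GU (Fintype.card ι) K q) *
        Nat.card {M : Matrix ι ι K // M.det ≠ 0 ∧ sstar (powHom hK) M = M} =
      Nat.card {M : Matrix ι ι K // M.det ≠ 0} := by
  have h := card_centralizer_norm (powHom hK) (powHom_isInvol hK) (1 : (Matrix ι ι K)ˣ)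
    (by rw [mul_one]; exact Units.ext (sstar_one _))
  have e1 : Nat.card {D : (Matrix ι ι K)ˣ // Commute D 1} = Nat.card {M : Matrix ι ι K // M.det ≠ 0} :=
    Nat.card_congr
      { toFun := fun D => ⟨D.1, ((Matrix.isUnit_iff_isUnit_det _).1 D.1.isUnit).ne_zero⟩
        invFun := fun M => ⟨((Matrix.isUnit_iff_isUnit_det _).2 (isUnit_iff_ne_zero.2 M.2)).unit, Commute.one_right _⟩
        left_inv := fun D => Subtype.ext (Units.ext rfl)
        right_inv := fun M => Subtype.ext rfl }
  have e3 : Nat.card {h : (Matrix ι ι K)ˣ // Commute h 1 ∧ ustar (powHom hK) h = h} =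
      Nat.card {M : Matrix ι ι K // M.det ≠ 0 ∧ sstar (powHom hK) M = M} :=
    Nat.card_congr
      { toFun := fun D => ⟨D.1, ((Matrix.isUnit_iff_isUnit_det _).1 D.1.isUnit).ne_zero, congrArg Units.val D.2.2⟩
        invFun := fun M => ⟨((Matrix.isUnit_iff_isUnit_det _).2 (isUnit_iff_ne_zero.2 M.2.1)).unit,
          Commute.one_right _, Units.ext M.2.2⟩
        left_inv := fun D => Subtype.ext (Units.ext rfl)
        right_inv := fun M => Subtype.ext rfl }
  let f : Matrix ι ι K ≃* Matrix (Fin (Fintype.card ι)) (Fin (Fintype.card ι)) K :=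
    (Matrix.reindexAlgEquiv K K (Fintype.equivFin ι)).toMulEquiv
  let ψ : (Matrix ι ι K)ˣ ≃* GL (Fin (Fintype.card ι)) K := Units.mapEquiv f
  have hψ : ∀ D, ustar (powHom hK) (ψ D) = ψ (ustar (powHom hK) D) := fun D => Units.ext (by
    ext a b; simp [ψ, f, ustar, sstar])
  have e2 : Nat.card {D : (Matrix ι ι K)ˣ // Commute D 1 ∧ ustar (powHom hK) D * D = 1} =
      Nat.card (Cfsg.GU (Fintype.card ι) K q) :=
    Nat.card_congr (Equiv.subtypeEquiv ψ.toEquiv fun D => by
      rw [mem_GU_iff hK]
      show _ ↔ ustar (powHom hK) (ψ D) * ψ D = 1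
      rw [hψ, ← map_mul, map_eq_one_iff ψ ψ.injective]
      exact and_iff_right (Commute.one_right D))
  rw [e1, e2, e3] at h
  exact h.symm

include hK in
/-- The centraliser in `GU` of an element of Jordan type `d`. -/
theorem card_gu_centralizer {n t : ℕ} (d : Fin t → ℕ) (hd : ∀ k, 1 ≤ d k) (e : ((k : Fin t) × Fin (d k)) ≃ Fin n)
    (u : ↥(Cfsg.GU n K q))
    (hu : IsConj (Matrix.reindex e e (Cfsg.jordanTypeMatrix d K)) ((u : GL (Fin n) K) : Matrix (Fin n) (Fin n) K)) :
    Nat.card ↥(Subgroup.centralizer ({u} : Set ↥(Cfsg.GU n K q))) =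
      q ^ Nat.card (JFree d) *
        ∏ i : Fin (Finset.univ.sup d + 1), Nat.card (Cfsg.GU (Fintype.card (JBlk d i)) K q) := by
  classical
  set σ := powHom hK with hσdef
  have hσ := powHom_isInvol hK
  set U : GL (Fin n) K := (u : GL (Fin n) K) with hUdef
  have hUs : ustar σ U * U = 1 := (mem_GU_iff hK U).1 u.2
  have hUinv : ustar σ U = U⁻¹ := eq_inv_of_mul_eq_one_left hUs
  set φ := Matrix.reindexAlgEquiv K K e with hφ
  set Nn := φ (nilMat d K) with hNn
  have hJ : Matrix.reindex e e (Cfsg.jordanTypeMatrix d K) = 1 + Nn := by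
    show φ (Cfsg.jordanTypeMatrix d K) = _
    rw [hNn, ← map_one φ, ← map_add, ← jordanType_sub_one]
    congr 1
    abel
  obtain ⟨cu, hcu⟩ := hu
  rw [SemiconjBy, hJ, mul_add, mul_one] at hcu
  -- the unipotent part
  set Nu := (U : Matrix (Fin n) (Fin n) K) - 1 with hNu
  have hNuc : Nu = (cu : Matrix (Fin n) (Fin n) K) * Nn * ((cu⁻¹ : (Matrix (Fin n) (Fin n) K)ˣ) : Matrix (Fin n) (Fin n) K) := by
    rw [Units.eq_mul_inv_iff_mul_eq, hNu, sub_mul, one_mul, ← hcu, add_sub_cancel_left]
  have hNn_nil : IsNilpotent Nn := by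
    refine IsNilpotent.map ?_ φ
    refine ⟨Finset.univ.sup d + 1, ?_⟩
    have hpow : ∀ j (a b : (k : Fin t) × Fin (d k)), ((nilMat d K) ^ j) a b ≠ 0 → (b.2 : ℕ) + j ≤ a.2 := by
      intro j
      induction j with
      | zero =>
        intro a b h
        rw [pow_zero, Matrix.one_apply] at h
        split_ifs at h with hab
        · subst hab; omega
        · exact absurd rfl h
      | succ j ih =>
        intro a b h
        rw [pow_succ', nilMat_mul] at h
        split_ifs at h with h0
        · have := ih _ _ h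
          simp only at this
          omega
        · exact absurd rfl h
    ext a b
    by_contra h
    have := hpow _ a b h
    have := a.2.isLt
    have := d_lt_bound d a.1
    omega
  have hNu_nil : IsNilpotent Nu := by
    obtain ⟨j, hj⟩ := hNn_nil
    refine ⟨j, ?_⟩
    rw [hNuc, Units.conj_pow, hj, mul_zero, zero_mul]
  obtain ⟨θ, hθ⟩ := hσ.exists_ne
  let W : Matrix (Fin n) (Fin n) K := θ • 1 - σ θ • ((U⁻¹ : GL (Fin n) K) : Matrix (Fin n) (Fin n) K)
  set Mh := Nu * W with hMh
  have hcomU : Commute Nu ((U⁻¹ : GL (Fin n) K) : Matrix (Fin n) (Fin n) K) := by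
    show Nu * _ = _ * Nu
    rw [hNu, sub_mul, mul_sub, Units.mul_inv, Units.inv_mul, one_mul, mul_one]
  have hWc : Commute Nu W := ((Commute.one_right Nu).smul_right θ).sub_right (hcomU.smul_right (σ θ))
  have hWu : IsUnit W := by
    have e1 : W = (θ - σ θ) • (1 : Matrix (Fin n) (Fin n) K) + σ θ • (((U⁻¹ : GL (Fin n) K) : Matrix (Fin n) (Fin n) K) * Nu) := by
      have e2 : ((U⁻¹ : GL (Fin n) K) : Matrix (Fin n) (Fin n) K) * Nu = 1 - ((U⁻¹ : GL (Fin n) K) : Matrix (Fin n) (Fin n) K) := by
        rw [hNu, mul_sub, Units.inv_mul, mul_one]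
      rw [e2, smul_sub, sub_smul]
      simp only [W]
      abel
    rw [e1]
    refine IsNilpotent.isUnit_add_left_of_commute ((hcomU.symm.isNilpotent_mul_left hNu_nil).smul _)
      ((isUnit_one).smul (Units.mk0 _ (sub_ne_zero.2 (Ne.symm hθ)))) ?_
    exact (Commute.one_right _).smul_right _
  clear_value Mh
  have hMs : sstar σ Mh = Mh := by
    have hexp : Mh = θ • Nu + σ θ • (((U⁻¹ : GL (Fin n) K) : Matrix (Fin n) (Fin n) K) - 1) := by
      simp only [hMh, W, mul_sub, Matrix.mul_smul, mul_one]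
      rw [hNu, sub_mul (U : Matrix (Fin n) (Fin n) K), Units.mul_inv, one_mul]
      simp only [smul_sub]
      abel
    have hs : ∀ (c : K) (A : Matrix (Fin n) (Fin n) K), sstar σ (c • A) = σ c • sstar σ A := fun c A => by
      ext a b; simp [sstar]
    have hsub : ∀ A B : Matrix (Fin n) (Fin n) K, sstar σ (A - B) = sstar σ A - sstar σ B := fun A B => by
      ext a b; simp [sstar]
    have hU1 : sstar σ (U : Matrix (Fin n) (Fin n) K) = ((U⁻¹ : GL (Fin n) K) : Matrix (Fin n) (Fin n) K) :=
      congrArg Units.val hUinv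
    have hU2 : sstar σ ((U⁻¹ : GL (Fin n) K) : Matrix (Fin n) (Fin n) K) = (U : Matrix (Fin n) (Fin n) K) := by
      rw [← hU1, sstar_sstar σ hσ.invol]
    rw [hexp, sstar_add, hs, hs, hσ.invol, hNu, hsub, hsub, hU1, hU2, sstar_one, add_comm]
  have hMnil : IsNilpotent Mh := hMh ▸ hWc.isNilpotent_mul_right hNu_nil
  -- `Mh` is similar to `Nu`
  obtain ⟨cm, hcm⟩ := Known.UnipotentClasses.isConj_of_rank (hMnil.isUnit_one_add).unit U
    (by rw [IsUnit.unit_spec, add_sub_cancel_left]; exact hMnil) hNu_nil (fun j => by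
      rw [IsUnit.unit_spec, add_sub_cancel_left, ← hNu, hMh, hWc.mul_pow]
      exact Matrix.rank_mul_eq_left_of_isUnit_det (W ^ j) (Nu ^ j)
        ((Matrix.isUnit_iff_isUnit_det _).1 (hWu.pow j)))
  have hcm' : ((cm : GL (Fin n) K) : Matrix (Fin n) (Fin n) K) * Mh = Nu * (cm : GL (Fin n) K) := by
    have h := congrArg Units.val hcm.eq
    rw [Units.val_mul, Units.val_mul, IsUnit.unit_spec, mul_add, mul_one] at h
    rw [hNu, sub_mul, one_mul, ← h, add_sub_cancel_left]
  -- `Mh = c Nn c⁻¹`
  set c : GL (Fin n) K := (cm : GL (Fin n) K)⁻¹ * cu with hc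
  clear_value c
  have hcN : Mh * (c : Matrix (Fin n) (Fin n) K) = (c : Matrix (Fin n) (Fin n) K) * Nn := by
    rw [hc, Units.val_mul, ← mul_assoc]
    calc Mh * (((cm : GL (Fin n) K)⁻¹ : GL (Fin n) K) : Matrix (Fin n) (Fin n) K) * cu
        = (((cm : GL (Fin n) K)⁻¹ : GL (Fin n) K) : Matrix (Fin n) (Fin n) K) * Nu * cu := by
          congr 1
          rw [Units.eq_inv_mul_iff_mul_eq, ← mul_assoc, hcm', Units.mul_inv_cancel_right]
      _ = _ := by rw [mul_assoc, hNuc, Units.inv_mul_cancel_right, ← mul_assoc]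
  -- conjugation carries centralisers
  have hconjset : ∀ (g : GL (Fin n) K) (A B : Matrix (Fin n) (Fin n) K), A * g = g * B →
      ∀ X : GL (Fin n) K, (X : Matrix (Fin n) (Fin n) K) * A = A * X ↔
        ((g⁻¹ * X * g : GL (Fin n) K) : Matrix (Fin n) (Fin n) K) * B = B * (g⁻¹ * X * g : GL (Fin n) K) := by
    intro g A B h X
    have hB : B = ((g⁻¹ : GL (Fin n) K) : Matrix (Fin n) (Fin n) K) * A * g := by
      rw [mul_assoc, h, Units.inv_mul_cancel_left]
    rw [hB]
    simp only [Units.val_mul, mul_assoc, Units.mul_inv_cancel_left]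
    rw [(g⁻¹).isUnit.mul_right_inj, ← mul_assoc, ← mul_assoc A, g.isUnit.mul_left_inj]
  have hcent : ∀ (g : GL (Fin n) K) (A : Matrix (Fin n) (Fin n) K), A * g = g * Nn →
      Nat.card {X : GL (Fin n) K // (X : Matrix (Fin n) (Fin n) K) * A = A * X} =
        Nat.card {X : GL (Fin n) K // (X : Matrix (Fin n) (Fin n) K) * Nn = Nn * X} := fun g A h =>
    Nat.card_congr (Equiv.subtypeEquiv ((MulAut.conj g⁻¹).toEquiv) fun X => by
      rw [hconjset g A Nn h X]
      simp)
  have hNuU : ∀ X : GL (Fin n) K, (X : Matrix (Fin n) (Fin n) K) * Nu = Nu * X ↔ Commute X U := fun X => by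
    rw [hNu, mul_sub, mul_one, sub_mul, one_mul, sub_left_inj, Commute, SemiconjBy, Units.ext_iff, Units.val_mul,
      Units.val_mul]
  have hcuN : Nu * (cu : Matrix (Fin n) (Fin n) K) = (cu : Matrix (Fin n) (Fin n) K) * Nn := by
    rw [hNuc, Units.inv_mul_cancel_right]
  -- commuting with `U` and with `Mh` agree
  have hiff : ∀ X : GL (Fin n) K, Commute X U ↔ (X : Matrix (Fin n) (Fin n) K) * Mh = Mh * X := by
    have hsub : {X : GL (Fin n) K | Commute X U} ⊆ {X : GL (Fin n) K | (X : Matrix (Fin n) (Fin n) K) * Mh = Mh * X} := by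
      intro X hX
      have h1 : Commute (X : Matrix (Fin n) (Fin n) K) Nu := (hNuU X).2 hX
      have h2 : Commute (X : Matrix (Fin n) (Fin n) K) ((U⁻¹ : GL (Fin n) K) : Matrix (Fin n) (Fin n) K) :=
        (Units.ext_iff.1 hX.inv_right.eq)
      show (X : Matrix (Fin n) (Fin n) K) * Mh = Mh * X
      rw [hMh]
      exact h1.mul_right (((Commute.one_right _).smul_right θ).sub_right (h2.smul_right (σ θ)))
    have heq := Set.eq_of_subset_of_ncard_le hsub (by
      rw [← Nat.card_coe_set_eq, ← Nat.card_coe_set_eq]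
      refine le_of_eq ?_
      show Nat.card {X : GL (Fin n) K // (X : Matrix (Fin n) (Fin n) K) * Mh = Mh * X} =
        Nat.card {X : GL (Fin n) K // Commute X U}
      rw [hcent c Mh hcN, ← hcent cu Nu hcuN]
      exact Nat.card_congr (Equiv.subtypeEquivRight hNuU))
    exact fun X => Set.ext_iff.1 heq X
  have hφu : ∀ X : Matrix (Fin n) (Fin n) K, IsUnit (φ.symm X) ↔ IsUnit X := fun X => by
    refine ⟨fun h => ?_, fun h => h.map φ.symm⟩
    have h' := h.map φ
    rwa [AlgEquiv.apply_symm_apply] at h'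
  -- the Hermitian part
  have hherm : Nat.card {h : GL (Fin n) K // Commute h U ∧ ustar σ h = h} =
      Nat.card {H : Matrix ((k : Fin t) × Fin (d k)) ((k : Fin t) × Fin (d k)) K //
        IsUnit H ∧ sstar σ H = H ∧ H * nilMat d K = (nilMat d K)ᵀ * H} := by
    have hφt : ∀ A, φ Aᵀ = (φ A)ᵀ := fun A => rfl
    have hφs : ∀ A, φ (sstar σ A) = sstar σ (φ A) := fun A => rfl
    have hNs : sstar σ Nn = Nnᵀ := by
      have : (nilMat d K).map σ = nilMat d K := by
        ext a b; simp only [nilMat, Matrix.map_apply, Matrix.of_apply]; split_ifs <;> simp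
      rw [hNn, ← hφs, ← hφt, sstar, this]
    have hcs : (c : Matrix (Fin n) (Fin n) K) * Nn = Mh * c := hcN.symm
    have hcs' : Nnᵀ * sstar σ (c : Matrix (Fin n) (Fin n) K) = sstar σ (c : Matrix (Fin n) (Fin n) K) * Mh := by
      rw [← hNs, ← sstar_mul, hcs, sstar_mul, hMs]
    have hiff2 : ∀ h : GL (Fin n) K,
        ((h : Matrix (Fin n) (Fin n) K) * Mh = Mh * h ↔
          ((ustar σ c * h * c : GL (Fin n) K) : Matrix (Fin n) (Fin n) K) * Nn =
            Nnᵀ * (ustar σ c * h * c : GL (Fin n) K)) := by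
      intro h
      simp only [Units.val_mul]
      rw [mul_assoc _ (c : Matrix (Fin n) (Fin n) K) Nn, hcs, mul_assoc (((ustar σ c : GL (Fin n) K)) : Matrix (Fin n) (Fin n) K),
        ← mul_assoc Nnᵀ, ← mul_assoc Nnᵀ, show ((ustar σ c : GL (Fin n) K) : Matrix (Fin n) (Fin n) K) =
          sstar σ (c : Matrix (Fin n) (Fin n) K) from rfl, hcs']
      simp only [mul_assoc]
      rw [IsUnit.mul_right_inj (show IsUnit (sstar σ (c : Matrix (Fin n) (Fin n) K)) from (ustar σ c).isUnit),
        ← mul_assoc, ← mul_assoc Mh, c.isUnit.mul_left_inj]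
    have hstar2 : ∀ h : GL (Fin n) K, ustar σ h = h ↔ ustar σ (ustar σ c * h * c) = ustar σ c * h * c := fun h => by
      rw [ustar_mul, ustar_mul, ustar_ustar σ hσ.invol, ← mul_assoc, mul_left_inj, mul_right_inj]
    calc Nat.card {h : GL (Fin n) K // Commute h U ∧ ustar σ h = h}
        = Nat.card {H : GL (Fin n) K // sstar σ (H : Matrix (Fin n) (Fin n) K) = H ∧
            (H : Matrix (Fin n) (Fin n) K) * Nn = Nnᵀ * H} :=
          Nat.card_congr (Equiv.subtypeEquiv ((Equiv.mulLeft (ustar σ c)).trans (Equiv.mulRight c)) fun h => by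
            show _ ↔ sstar σ ((ustar σ c * h * c : GL (Fin n) K) : Matrix (Fin n) (Fin n) K) = _ ∧ _
            rw [hiff, hiff2, hstar2]
            exact ⟨fun ⟨a, b⟩ => ⟨congrArg Units.val b, a⟩, fun ⟨a, b⟩ => ⟨b, Units.ext a⟩⟩)
      _ = _ := Nat.card_congr
        { toFun := fun H => ⟨φ.symm H.1, (hφu _).2 H.1.isUnit, φ.injective (by
              rw [hφs, AlgEquiv.apply_symm_apply]; exact H.2.1), φ.injective (by
              rw [map_mul, map_mul, hφt, AlgEquiv.apply_symm_apply]; exact H.2.2)⟩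
          invFun := fun H => ⟨(H.2.1.map φ).unit, by rw [IsUnit.unit_spec, ← hφs, H.2.2.1], by
              rw [IsUnit.unit_spec, hNn, ← hφt, ← map_mul, ← map_mul, H.2.2.2]⟩
          left_inv := fun H => Subtype.ext (Units.ext (φ.apply_symm_apply _))
          right_inv := fun H => Subtype.ext (φ.symm_apply_apply _) }
  -- the whole centraliser
  have hgl : Nat.card {D : GL (Fin n) K // Commute D U} =
      Nat.card {X : Matrix ((k : Fin t) × Fin (d k)) ((k : Fin t) × Fin (d k)) K //
        IsUnit X ∧ X * nilMat d K = nilMat d K * X} := by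
    rw [← Nat.card_congr (Equiv.subtypeEquivRight hNuU), hcent cu Nu hcuN]
    exact Nat.card_congr
      { toFun := fun H => ⟨φ.symm H.1, (hφu _).2 H.1.isUnit, φ.injective (by
            rw [map_mul, map_mul, AlgEquiv.apply_symm_apply]; exact H.2)⟩
        invFun := fun H => ⟨(H.2.1.map φ).unit, by rw [IsUnit.unit_spec, hNn, ← map_mul, ← map_mul, H.2.2]⟩
        left_inv := fun H => Subtype.ext (Units.ext (φ.apply_symm_apply _))
        right_inv := fun H => Subtype.ext (φ.symm_apply_apply _) }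
  have hguc : Nat.card ↥(Subgroup.centralizer ({u} : Set ↥(Cfsg.GU n K q))) =
      Nat.card {D : GL (Fin n) K // Commute D U ∧ ustar σ D * D = 1} :=
    Nat.card_congr
      { toFun := fun g => ⟨(g.1 : GL (Fin n) K),
          congrArg Subtype.val (Subgroup.mem_centralizer_singleton_iff.1 g.2), (mem_GU_iff hK _).1 g.1.2⟩
        invFun := fun D => ⟨⟨D.1, (mem_GU_iff hK _).2 D.2.2⟩,
          Subgroup.mem_centralizer_singleton_iff.2 (Subtype.ext D.2.1.eq)⟩
        left_inv := fun g => rfl
        right_inv := fun D => rfl }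
  have hmain := card_centralizer_norm σ hσ U hUs
  rw [hgl, hherm, ← hguc, card_units_commute_nilMat d hd, card_herm_nilMat d hd σ hσ, hσdef, card_fixed_powHom hK,
    hK] at hmain
  simp only [← card_herm_units hK] at hmain
  rw [Finset.prod_mul_distrib] at hmain
  have hpos : 0 < q ^ Nat.card (JFree d) * ∏ i : Fin (Finset.univ.sup d + 1),
      Nat.card {M : Matrix (JBlk d i) (JBlk d i) K // M.det ≠ 0 ∧ sstar (powHom hK) M = M} := by
    refine Nat.mul_pos (Nat.pow_pos (by have := two_le_of_card_sq hK; omega)) (Finset.prod_pos fun i _ => ?_)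
    haveI : Nonempty {M : Matrix (JBlk d i) (JBlk d i) K // M.det ≠ 0 ∧ sstar (powHom hK) M = M} :=
      ⟨⟨1, by simp, sstar_one _⟩⟩
    exact Nat.card_pos
  refine Nat.eq_of_mul_eq_mul_right hpos ?_
  rw [← hmain]
  ring

end Unitary

end CfsgLib.Classical.ClassTheory
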