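import Cfsg.Agent.Lib.Classical.ClassTheory.Unitary
import Cfsg.Prelude.Def_JordanBlocks
import Mathlib.LinearAlgebra.Matrix.Block
import Mathlib.LinearAlgebra.Matrix.GeneralLinearGroup.Card

/-!
# The commutant of a Jordan type matrix and its Hermitian counterpart, in coordinates

A matrix commuting with the nilpotent matrix of type `d` is given by coefficients `c (k, l, u)` for
`u < min (d k) (d l)`; it is invertible iff the square blocks of top coefficients are. The Hankel
form of the same coefficients describes the Hermitian forms for which that matrix is self-adjoint.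
-/

set_option autoImplicit false

namespace CfsgLib.Classical.ClassTheory

open Matrix

variable {t : ℕ} (d : Fin t → ℕ)

/-- The coefficients of the commutant. -/
abbrev JPar : Type :=
  {x : (Fin t × Fin t) × Fin (Finset.univ.sup d + 1) // (x.2 : ℕ) < d x.1.1 ∧ (x.2 : ℕ) < d x.1.2}

/-- The top coefficient between blocks of equal size. -/
abbrev JIsTop (x : JPar d) : Prop := (x.1.2 : ℕ) + 1 = d x.1.1.1 ∧ (x.1.2 : ℕ) + 1 = d x.1.1.2

/-- The remaining coefficients. -/
abbrev JFree : Type := {x : JPar d // ¬ JIsTop d x}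

/-- The blocks of size `i`. -/
abbrev JBlk (i : Fin (Finset.univ.sup d + 1)) : Type := {k : Fin t // d k = (i : ℕ)}

theorem d_lt_bound (k : Fin t) : d k < Finset.univ.sup d + 1 :=
  Nat.lt_succ_of_le (Finset.le_sup (f := d) (Finset.mem_univ k))

/-- Interchange of the two blocks. -/
def JPar.swap (x : JPar d) : JPar d := ⟨((x.1.1.2, x.1.1.1), x.1.2), x.2.2, x.2.1⟩

theorem JPar.swap_swap (x : JPar d) : JPar.swap d (JPar.swap d x) = x := rfl

theorem JIsTop.swap_iff (x : JPar d) : JIsTop d (JPar.swap d x) ↔ JIsTop d x := and_comm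

variable {K : Type*} [Field K]

/-- The nilpotent matrix of type `d`. -/
def nilMat (K : Type*) [Field K] : Matrix ((k : Fin t) × Fin (d k)) ((k : Fin t) × Fin (d k)) K :=
  Matrix.of fun a b => if a.1 = b.1 ∧ (a.2 : ℕ) = (b.2 : ℕ) + 1 then 1 else 0

theorem jordanType_sub_one : Cfsg.jordanTypeMatrix d K - 1 = nilMat d K := by
  ext ⟨k, i⟩ ⟨l, j⟩
  by_cases hkl : k = l
  · subst hkl
    simp only [Matrix.sub_apply, Cfsg.jordanTypeMatrix, Matrix.blockDiagonal'_apply_eq, Cfsg.jordanBlock,
      Matrix.of_apply, nilMat, Matrix.one_apply, Sigma.mk.injEq, heq_eq_eq, true_and, Fin.ext_iff]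
    split_ifs <;> simp_all
  · simp [Cfsg.jordanTypeMatrix, Matrix.blockDiagonal'_apply_ne _ _ _ hkl, nilMat, hkl, Matrix.one_apply]

/-- Coefficients extended by zero. -/
def cExt (c : JPar d → K) (k l : Fin t) (u : ℕ) : K :=
  if h : u < d k ∧ u < d l then c ⟨((k, l), ⟨u, h.1.trans (d_lt_bound d k)⟩), h⟩ else 0

theorem cExt_self (c : JPar d → K) (x : JPar d) : cExt d c x.1.1.1 x.1.1.2 x.1.2 = c x := by
  rw [cExt, dif_pos x.2]

theorem cExt_eq_zero (c : JPar d → K) {k l : Fin t} {u : ℕ} (h : ¬ (u < d k ∧ u < d l)) : cExt d c k l u = 0 :=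
  dif_neg h

/-- The commutant element with given coefficients. -/
def parMat (c : JPar d → K) : Matrix ((k : Fin t) × Fin (d k)) ((k : Fin t) × Fin (d k)) K :=
  Matrix.of fun a b => if (b.2 : ℕ) ≤ a.2 then cExt d c a.1 b.1 (d a.1 - 1 - ((a.2 : ℕ) - b.2)) else 0

/-- Reversal inside the blocks. -/
def revIdx : ((k : Fin t) × Fin (d k)) ≃ ((k : Fin t) × Fin (d k)) :=
  Equiv.sigmaCongrRight fun _ => Fin.revPerm

/-- The Hankel matrix with given coefficients. -/
def hankMat (c : JPar d → K) : Matrix ((k : Fin t) × Fin (d k)) ((k : Fin t) × Fin (d k)) K :=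
  Matrix.of fun a b => cExt d c a.1 b.1 ((a.2 : ℕ) + b.2)

theorem hankMat_eq (c : JPar d → K) : hankMat d c = (parMat d c).submatrix (revIdx d) id := by
  ext ⟨k, a⟩ ⟨l, b⟩
  simp only [hankMat, parMat, revIdx, Matrix.submatrix_apply, Matrix.of_apply, Equiv.sigmaCongrRight_apply,
    Fin.revPerm_apply, id, Fin.val_rev]
  have ha := a.2
  split_ifs with h
  · congr 1; omega
  · exact cExt_eq_zero d c fun h' => h (by omega)

theorem revIdx_revIdx (a : (k : Fin t) × Fin (d k)) : revIdx d (revIdx d a) = a := by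
  obtain ⟨k, a⟩ := a
  simp [revIdx]

theorem nilMat_mul (M : Matrix ((k : Fin t) × Fin (d k)) ((k : Fin t) × Fin (d k)) K)
    (a b : (k : Fin t) × Fin (d k)) :
    (nilMat d K * M) a b = if h : 0 < (a.2 : ℕ) then M ⟨a.1, ⟨(a.2 : ℕ) - 1, by omega⟩⟩ b else 0 := by
  rw [Matrix.mul_apply]
  obtain ⟨k, i⟩ := a
  split_ifs with h
  · rw [Finset.sum_eq_single ⟨k, ⟨(i : ℕ) - 1, by omega⟩⟩]
    · simp only [nilMat, Matrix.of_apply]
      rw [if_pos ⟨trivial, by simp only at h ⊢; omega⟩, one_mul]
    · rintro ⟨l, j⟩ _ hne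
      simp only [nilMat, Matrix.of_apply]
      rw [if_neg, zero_mul]
      rintro ⟨rfl, hij⟩
      exact hne (by congr 1; exact Fin.ext (by simp only; omega))
    · simp
  · refine Finset.sum_eq_zero ?_
    rintro ⟨l, j⟩ _
    simp only [nilMat, Matrix.of_apply]
    simp only at h
    rw [if_neg fun e => by omega, zero_mul]

theorem mul_nilMat (M : Matrix ((k : Fin t) × Fin (d k)) ((k : Fin t) × Fin (d k)) K)
    (a b : (k : Fin t) × Fin (d k)) :
    (M * nilMat d K) a b = if h : (b.2 : ℕ) + 1 < d b.1 then M a ⟨b.1, ⟨(b.2 : ℕ) + 1, h⟩⟩ else 0 := by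
  rw [Matrix.mul_apply]
  obtain ⟨k, i⟩ := b
  split_ifs with h
  · rw [Finset.sum_eq_single ⟨k, ⟨(i : ℕ) + 1, h⟩⟩]
    · simp [nilMat]
    · rintro ⟨l, j⟩ _ hne
      simp only [nilMat, Matrix.of_apply]
      rw [if_neg, mul_zero]
      rintro ⟨rfl, hij⟩
      exact hne (by congr 1; exact Fin.ext (by simp only; omega))
    · simp
  · refine Finset.sum_eq_zero ?_
    rintro ⟨l, j⟩ _
    simp only [nilMat, Matrix.of_apply]
    simp only at h
    rw [if_neg, mul_zero]
    rintro ⟨rfl, hij⟩
    have := j.2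
    omega

theorem nilMat_transpose_mul (M : Matrix ((k : Fin t) × Fin (d k)) ((k : Fin t) × Fin (d k)) K) :
    nilMat d K * M.submatrix (revIdx d) id = ((nilMat d K)ᵀ * M).submatrix (revIdx d) id := by
  have key : (nilMat d K).submatrix id (revIdx d) = (nilMat d K)ᵀ.submatrix (revIdx d) id := by
    ext ⟨k, i⟩ ⟨l, j⟩
    simp only [nilMat, revIdx, Matrix.submatrix_apply, Matrix.transpose_apply, Matrix.of_apply,
      Equiv.sigmaCongrRight_apply, Fin.revPerm_apply, id, Fin.val_rev]
    by_cases hkl : k = l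
    · subst hkl
      have := i.2
      have := j.2
      exact if_congr ⟨fun h => ⟨rfl, by omega⟩, fun h => ⟨rfl, by omega⟩⟩ rfl rfl
    · simp [hkl, Ne.symm hkl]
  ext a b
  rw [Matrix.submatrix_apply, Matrix.mul_apply, Matrix.mul_apply, ← Equiv.sum_comp (revIdx d)]
  refine Finset.sum_congr rfl fun x _ => ?_
  simp only [Matrix.submatrix_apply, revIdx_revIdx, id]
  congr 1
  exact congrFun (congrFun key a) x

theorem parMat_commute (c : JPar d → K) : parMat d c * nilMat d K = nilMat d K * parMat d c := by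
  ext ⟨k, a⟩ ⟨l, b⟩
  rw [mul_nilMat, nilMat_mul]
  have ha := a.2
  have hb := b.2
  simp only [parMat, Matrix.of_apply]
  split_ifs with h1 h2 h3 h4 h5 h6 h7
  all_goals first
    | rfl
    | (congr 1; omega)
    | (exfalso; omega)
    | (exact cExt_eq_zero d c fun h' => by omega)
    | (exact (cExt_eq_zero d c fun h' => by omega).symm)

theorem exists_parMat {X : Matrix ((k : Fin t) × Fin (d k)) ((k : Fin t) × Fin (d k)) K}
    (hX : X * nilMat d K = nilMat d K * X) : ∃ c, parMat d c = X := by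
  have shift : ∀ (j : ℕ) (k : Fin t) (a : Fin (d k)) (l : Fin t) (hj : j < d l),
      X ⟨k, a⟩ ⟨l, ⟨j, hj⟩⟩ = if j ≤ (a : ℕ) then X ⟨k, ⟨(a : ℕ) - j, by omega⟩⟩ ⟨l, ⟨0, by omega⟩⟩ else 0 := by
    intro j
    induction j with
    | zero => intro k a l hj; simp
    | succ j ih =>
      intro k a l hj
      have h := congrFun (congrFun hX ⟨k, a⟩) ⟨l, ⟨j, by omega⟩⟩
      rw [mul_nilMat, nilMat_mul, dif_pos (show j + 1 < d l from hj)] at h
      simp only at h
      rw [h]
      split_ifs with h1 h2 h2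
      · rw [ih, if_pos (by simp only; omega)]
        congr 3
        simp only
        omega
      · rw [ih, if_neg (by simp only; omega)]
      · exfalso; omega
      · rfl
  refine ⟨fun x => X ⟨x.1.1.1, ⟨d x.1.1.1 - 1 - (x.1.2 : ℕ), by have := x.2.1; omega⟩⟩
    ⟨x.1.1.2, ⟨0, Nat.lt_of_le_of_lt (Nat.zero_le _) x.2.2⟩⟩, Matrix.ext ?_⟩
  rintro ⟨k, a⟩ ⟨l, ⟨b, hb⟩⟩
  rw [shift b k a l hb]
  have ha := a.2
  simp only [parMat, Matrix.of_apply]
  split_ifs with h
  · rw [cExt]
    split_ifs with h'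
    · simp only
      congr 3
      omega
    · have hu : (a : ℕ) - b + d l < d k := by omega
      have h0 := congrFun (congrFun hX ⟨k, ⟨(a : ℕ) - b + d l, hu⟩⟩) ⟨l, ⟨d l - 1, by omega⟩⟩
      rw [mul_nilMat, nilMat_mul, dif_neg (by simp only; omega), dif_pos (by simp only; omega)] at h0
      simp only at h0
      rw [shift, if_pos (by simp only; omega)] at h0
      rw [h0]
      congr 3
      simp only
      omega
  · rfl

theorem parMat_injective : Function.Injective (parMat d (K := K)) := by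
  intro c c' h
  funext x
  obtain ⟨⟨⟨k, l⟩, u⟩, hk, hl⟩ := x
  simp only at hk hl
  have h1 := congrFun (congrFun h ⟨k, ⟨d k - 1 - (u : ℕ), by omega⟩⟩) ⟨l, ⟨0, by omega⟩⟩
  simp only [parMat, Matrix.of_apply, Nat.zero_le, if_true, Nat.sub_zero] at h1
  rw [show d k - 1 - (d k - 1 - (u : ℕ)) = u by omega] at h1
  rw [← cExt_self d c ⟨((k, l), u), hk, hl⟩, ← cExt_self d c' ⟨((k, l), u), hk, hl⟩]
  exact h1

/-- The square block of top coefficients for size `i`. -/
def topBlk (c : JPar d → K) (i : Fin (Finset.univ.sup d + 1)) : Matrix (JBlk d i) (JBlk d i) K :=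
  Matrix.of fun k l => cExt d c k.1 l.1 ((i : ℕ) - 1)

theorem isUnit_parMat (hd : ∀ k, 1 ≤ d k) (c : JPar d → K) :
    IsUnit (parMat d c) ↔ ∀ i, (topBlk d c i).det ≠ 0 := by
  classical
  let b : ((k : Fin t) × Fin (d k)) → ℕᵒᵈ ×ₗ ℕ := fun a => toLex (OrderDual.toDual (a.2 : ℕ), d a.1)
  have htri : (parMat d c).BlockTriangular b := by
    rintro ⟨k, a⟩ ⟨l, x⟩ hlt
    rcases Prod.Lex.toLex_lt_toLex.1 hlt with h | ⟨h1, h2⟩
    · have h' : (a : ℕ) < x := OrderDual.toDual_lt_toDual.1 h
      simp only [parMat, Matrix.of_apply]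
      rw [if_neg (by omega)]
    · have h1' : (x : ℕ) = a := OrderDual.toDual.injective h1
      simp only at h2
      simp only [parMat, Matrix.of_apply]
      rw [if_pos (le_of_eq h1')]
      exact cExt_eq_zero d c fun h' => by omega
  have hblk : ∀ x : (k : Fin t) × Fin (d k),
      ((parMat d c).toSquareBlock b (b x)).det = (topBlk d c ⟨d x.1, d_lt_bound d x.1⟩).det := by
    intro x
    let e : {y // b y = b x} ≃ JBlk d ⟨d x.1, d_lt_bound d x.1⟩ :=
      { toFun := fun y => ⟨y.1.1, congrArg (fun p => (ofLex p).2) y.2⟩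
        invFun := fun k => ⟨⟨k.1, ⟨x.2, by have := k.2; simp only at this; omega⟩⟩,
          congrArg toLex (Prod.ext rfl k.2)⟩
        left_inv := fun y => by
          obtain ⟨⟨k, a⟩, hy⟩ := y
          have h1 : (a : ℕ) = x.2 := OrderDual.toDual.injective (congrArg (fun p => (ofLex p).1) hy)
          refine Subtype.ext ?_
          show (⟨k, ⟨x.2, _⟩⟩ : (k : Fin t) × Fin (d k)) = ⟨k, a⟩
          congr 1
          exact Fin.ext h1.symm
        right_inv := fun k => rfl }
    rw [← Matrix.det_submatrix_equiv_self e.symm]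
    congr 1
    ext k l
    simp only [Matrix.submatrix_apply, Matrix.toSquareBlock_def, Matrix.of_apply, parMat, topBlk]
    show (if (x.2 : ℕ) ≤ x.2 then cExt d c k.1 l.1 (d k.1 - 1 - ((x.2 : ℕ) - x.2)) else 0) = _
    rw [if_pos le_rfl]
    have hk : d k.1 = d x.1 := k.2
    congr 1
    omega
  rw [Matrix.isUnit_iff_isUnit_det, isUnit_iff_ne_zero, htri.det, Finset.prod_ne_zero_iff]
  constructor
  · intro h i
    rcases isEmpty_or_nonempty (JBlk d i) with he | ⟨⟨k, hk⟩⟩
    · rw [Matrix.det_isEmpty]; exact one_ne_zero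
    · let x : (k : Fin t) × Fin (d k) := ⟨k, ⟨0, hd k⟩⟩
      obtain rfl : i = ⟨d x.1, d_lt_bound d x.1⟩ := Fin.ext hk.symm
      rw [← hblk]
      exact h _ (Finset.mem_image_of_mem b (Finset.mem_univ x))
  · intro h a ha
    obtain ⟨x, -, rfl⟩ := Finset.mem_image.1 ha
    rw [hblk]
    exact h _

/-- Coefficients as top blocks and free coefficients. -/
def parSplit (hd : ∀ k, 1 ≤ d k) :
    (JPar d → K) ≃ ((i : Fin (Finset.univ.sup d + 1)) → Matrix (JBlk d i) (JBlk d i) K) × (JFree d → K) where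
  toFun c := (topBlk d c, fun x => c x.1)
  invFun p x := if h : JIsTop d x then
      p.1 ⟨d x.1.1.1, d_lt_bound d x.1.1.1⟩ ⟨x.1.1.1, rfl⟩ ⟨x.1.1.2, h.2.symm.trans h.1⟩
    else p.2 ⟨x, h⟩
  left_inv c := funext fun x => by
    dsimp only
    split_ifs with h
    · show cExt d c x.1.1.1 x.1.1.2 (d x.1.1.1 - 1) = c x
      rw [← h.1, Nat.add_sub_cancel, cExt_self]
    · rfl
  right_inv p := by
    refine Prod.ext (funext fun i => Matrix.ext ?_) (funext fun x => dif_neg x.2)
    rintro ⟨k, hk⟩ ⟨l, hl⟩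
    have hi : 1 ≤ (i : ℕ) := hk ▸ hd k
    simp only [topBlk, Matrix.of_apply, cExt]
    rw [dif_pos ⟨by omega, by omega⟩, dif_pos ⟨by simp only; omega, by simp only; omega⟩]
    obtain rfl : i = ⟨d k, d_lt_bound d k⟩ := Fin.ext hk.symm
    rfl

theorem cExt_swap (σ : K →+* K) {c : JPar d → K} (h : ∀ x, c (JPar.swap d x) = σ (c x)) (k l : Fin t) (u : ℕ) :
    cExt d c l k u = σ (cExt d c k l u) := by
  by_cases hu : u < d k ∧ u < d l
  · rw [cExt, cExt, dif_pos hu.symm, dif_pos hu, ← h]
    rfl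
  · rw [cExt_eq_zero d c hu, cExt_eq_zero d c fun h' => hu h'.symm, map_zero]

theorem sstar_hankMat_iff (σ : K →+* K) (c : JPar d → K) :
    sstar σ (hankMat d c) = hankMat d c ↔ ∀ x, c (JPar.swap d x) = σ (c x) := by
  constructor
  · intro h x
    obtain ⟨⟨⟨k, l⟩, u⟩, hk, hl⟩ := x
    simp only at hk hl
    have h1 := congrFun (congrFun h ⟨l, ⟨u, hl⟩⟩) ⟨k, ⟨0, Nat.lt_of_le_of_lt (Nat.zero_le _) hk⟩⟩
    simp only [sstar, hankMat, Matrix.transpose_apply, Matrix.map_apply, Matrix.of_apply, Nat.add_zero,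
      Nat.zero_add] at h1
    rw [← cExt_self d c ⟨((k, l), u), hk, hl⟩, ← cExt_self d c (JPar.swap d ⟨((k, l), u), hk, hl⟩)]
    exact h1.symm
  · intro h
    ext a b
    simp only [sstar, hankMat, Matrix.transpose_apply, Matrix.map_apply, Matrix.of_apply]
    rw [← cExt_swap d σ h, add_comm (b.2 : ℕ)]

theorem swap_cond_iff (hd : ∀ k, 1 ≤ d k) (σ : K →+* K) (c : JPar d → K) :
    (∀ x, c (JPar.swap d x) = σ (c x)) ↔ (∀ i, sstar σ ((parSplit d hd c).1 i) = (parSplit d hd c).1 i) ∧
      ∀ x : JFree d, (parSplit d hd c).2 ⟨JPar.swap d x.1, fun h => x.2 ((JIsTop.swap_iff d x.1).1 h)⟩ =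
        σ ((parSplit d hd c).2 x) := by
  refine ⟨fun h => ⟨fun i => Matrix.ext fun k l => ?_, fun x => h x.1⟩, fun h x => ?_⟩
  · simp only [parSplit, Equiv.coe_fn_mk, sstar, topBlk, Matrix.transpose_apply, Matrix.map_apply, Matrix.of_apply]
    exact (cExt_swap d σ h l.1 k.1 _).symm
  · by_cases hx : JIsTop d x
    · obtain ⟨⟨⟨k, l⟩, u⟩, hk, hl⟩ := x
      simp only [JIsTop] at hx
      have h1 := congrFun (congrFun (h.1 ⟨d k, d_lt_bound d k⟩) ⟨l, hx.2.symm.trans hx.1⟩) ⟨k, rfl⟩
      simp only [parSplit, Equiv.coe_fn_mk, sstar, topBlk, Matrix.transpose_apply, Matrix.map_apply,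
        Matrix.of_apply] at h1
      rw [show d k - 1 = (u : ℕ) by omega] at h1
      rw [← cExt_self d c (JPar.swap d ⟨((k, l), u), hk, hl⟩), ← cExt_self d c ⟨((k, l), u), hk, hl⟩]
      exact h1.symm
    · exact h.2 ⟨x, hx⟩

/-- The number of free coefficients is the exponent `γ`. -/
theorem card_jFree (hd : ∀ k, 1 ≤ d k) :
    Nat.card (JFree d) = 2 * (∑ i ∈ Finset.range (Finset.univ.sup d + 1), ∑ j ∈ Finset.range (Finset.univ.sup d + 1),
      if i < j then i * (Finset.univ.filter (fun k : Fin t => d k = i)).card *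
        (Finset.univ.filter (fun k : Fin t => d k = j)).card else 0) +
      ∑ i ∈ Finset.range (Finset.univ.sup d + 1), (i - 1) * (Finset.univ.filter (fun k : Fin t => d k = i)).card ^ 2 := by
  classical
  set M := Finset.univ.sup d + 1 with hM
  set a : ℕ → ℕ := fun i => (Finset.univ.filter (fun k : Fin t => d k = i)).card with ha
  have hfib : ∀ f : ℕ → ℕ, ∑ k : Fin t, f (d k) = ∑ i ∈ Finset.range M, a i * f i := fun f => by
    rw [← Finset.sum_fiberwise_of_maps_to (s := Finset.univ) (t := Finset.range M) (g := d)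
      (fun k _ => Finset.mem_range.2 (d_lt_bound d k))]
    refine Finset.sum_congr rfl fun i _ => ?_
    rw [Finset.sum_congr rfl (fun k hk => by rw [(Finset.mem_filter.1 hk).2]), Finset.sum_const, smul_eq_mul]
  have hPar : Fintype.card (JPar d) = ∑ i ∈ Finset.range M, ∑ j ∈ Finset.range M, a i * a j * min i j := by
    have e : JPar d ≃ (p : Fin t × Fin t) × Fin (min (d p.1) (d p.2)) :=
      { toFun := fun x => ⟨x.1.1, ⟨x.1.2, lt_min x.2.1 x.2.2⟩⟩
        invFun := fun y => ⟨(y.1, ⟨y.2, (y.2.2.trans_le (min_le_left _ _)).trans (d_lt_bound d _)⟩),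
          y.2.2.trans_le (min_le_left _ _), y.2.2.trans_le (min_le_right _ _)⟩
        left_inv := fun x => rfl
        right_inv := fun y => rfl }
    rw [Fintype.card_congr e, Fintype.card_sigma, Fintype.sum_prod_type]
    simp only [Fintype.card_fin]
    rw [hfib fun i => ∑ l : Fin t, min i (d l)]
    refine Finset.sum_congr rfl fun i _ => ?_
    rw [hfib fun j => min i j, Finset.mul_sum]
    simp [mul_assoc]
  have hTop : Fintype.card {x : JPar d // JIsTop d x} = ∑ i ∈ Finset.range M, a i * a i := by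
    have e : {x : JPar d // JIsTop d x} ≃ {p : Fin t × Fin t // d p.1 = d p.2} :=
      { toFun := fun x => ⟨x.1.1.1, x.2.1.symm.trans x.2.2⟩
        invFun := fun p => ⟨⟨(p.1, ⟨d p.1.1 - 1, lt_of_le_of_lt (Nat.sub_le _ _) (d_lt_bound d _)⟩), by
            have := hd p.1.1; simp only; omega, by have := hd p.1.1; have := p.2; simp only; omega⟩, by
            have := hd p.1.1; simp only; omega, by have := hd p.1.1; have := p.2; simp only; omega⟩
        left_inv := fun x => by
          refine Subtype.ext (Subtype.ext (Prod.ext rfl (Fin.ext ?_)))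
          have := x.2.1
          simp only
          omega
        right_inv := fun p => rfl }
    rw [Fintype.card_congr e, Fintype.card_subtype, Finset.card_filter, Fintype.sum_prod_type,
      ← hfib fun i => a i]
    refine Finset.sum_congr rfl fun k _ => ?_
    rw [← Finset.card_filter]
    simp [ha, eq_comm]
  have hsplit : Fintype.card (JPar d) = Nat.card (JFree d) + Fintype.card {x : JPar d // JIsTop d x} := by
    rw [Nat.card_eq_fintype_card, Fintype.card_subtype_compl,
      Nat.sub_add_cancel (Fintype.card_subtype_le _)]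
  rw [hPar, hTop] at hsplit
  have key : ∑ i ∈ Finset.range M, ∑ j ∈ Finset.range M, a i * a j * min i j =
      2 * (∑ i ∈ Finset.range M, ∑ j ∈ Finset.range M, if i < j then i * a i * a j else 0) +
      (∑ i ∈ Finset.range M, (i - 1) * a i ^ 2) + ∑ i ∈ Finset.range M, a i * a i := by
    have h0 : ∀ i j, a i * a j * min i j = (if i < j then i * a i * a j else 0) +
        (if j < i then j * a j * a i else 0) + (if i = j then i * a i * a i else 0) := fun i j => by
      rcases lt_trichotomy i j with h | h | h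
      · rw [min_eq_left h.le, if_pos h, if_neg (by omega), if_neg (by omega)]; ring
      · subst h; simp; ring
      · rw [min_eq_right h.le, if_neg (by omega), if_pos h, if_neg (by omega)]; ring
    simp only [h0, Finset.sum_add_distrib]
    rw [Finset.sum_comm (f := fun i j => if j < i then j * a j * a i else 0), two_mul,
      add_assoc (_ + _) (∑ i ∈ Finset.range M, (i - 1) * a i ^ 2)]
    congr 1
    rw [← Finset.sum_add_distrib]
    refine Finset.sum_congr rfl fun i hi => ?_
    rw [Finset.sum_ite_eq, if_pos hi]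
    rcases Nat.eq_zero_or_pos i with h | h
    · have : a i = 0 := by
        rw [ha, Finset.card_eq_zero, Finset.filter_eq_empty_iff]
        intro k _; have := hd k; omega
      simp [this]
    · obtain ⟨i', rfl⟩ := Nat.exists_eq_add_of_le h
      simp only [Nat.add_sub_cancel_left]
      ring
  simp only [ha] at key hsplit ⊢
  omega

end CfsgLib.Classical.ClassTheory
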