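import Cfsg.Prelude.Def_JordanBlocks
import Cfsg.Agent.Lib.Known.Jordan
import Cfsg.Agent.Lib.Classical.Symplectic.Geometry

/-!
# Rank profiles of Jordan type matrices; unipotent types
-/

set_option autoImplicit false

namespace CfsgLib.Classical.ClassTheory

open LinearMap (BilinForm)
open CfsgLib.Known

variable {F : Type*} [Field F]

/-- The multiset of block sizes. -/
def sizes {t : ℕ} (d : Fin t → ℕ) : Multiset ℕ := Finset.univ.val.map d

theorem sizes_sum {t : ℕ} (d : Fin t → ℕ) : (sizes d).sum = ∑ k, d k := rfl

theorem count_sizes {t : ℕ} (d : Fin t → ℕ) (j : ℕ) :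
    (sizes d).count j = (Finset.univ.filter fun k : Fin t => d k = j).card := by
  rw [sizes, Multiset.count_map, ← Finset.filter_val, Finset.card_val]
  congr 1
  ext k
  simp [eq_comm]

theorem prof_sizes {t : ℕ} (d : Fin t → ℕ) (k : ℕ) :
    Jordan.prof (sizes d) k = ∑ l, (d l - k) := by
  rw [Jordan.prof, sizes, Multiset.map_map]
  rfl

/-- A unipotent map with the given block sizes. -/
def HasType {V : Type*} [AddCommGroup V] [Module F V] (a : V ≃ₗ[F] V) (μ : Multiset ℕ) : Prop :=
  IsNilpotent ((a : V →ₗ[F] V) - 1) ∧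
    ∀ k, Module.finrank F (LinearMap.range (((a : V →ₗ[F] V) - 1) ^ k)) = Jordan.prof μ k

theorem even_count_of_parity {μ : Multiset ℕ} {j : ℕ} (hj : 0 < j)
    (h : Even (Jordan.prof μ (j - 1) + Jordan.prof μ (j + 1))) : Even (μ.count j) := by
  have key : ∀ ρ : Multiset ℕ, ρ.countP (fun b => j - 1 < b) = ρ.countP (fun b => j < b) + ρ.count j := by
    intro ρ
    induction ρ using Multiset.induction_on with
    | empty => simp
    | cons b ρ ih =>
      rw [Multiset.countP_cons, Multiset.countP_cons, Multiset.count_cons, ih]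
      split_ifs <;> omega
  have h1 := Jordan.prof_eq_succ_add μ (j - 1)
  rw [Nat.sub_add_cancel hj, key] at h1
  have h2 := Jordan.prof_eq_succ_add μ j
  rw [Nat.even_iff] at h ⊢
  omega

/-- The rank of an alternating form is even. -/
theorem even_finrank_range_of_alt {V : Type*} [AddCommGroup V] [Module F V] [FiniteDimensional F V]
    {b : BilinForm F V} (hb : b.Nondegenerate) (M : Module.End F V) (h : ∀ u, b u (M u) = 0) :
    Even (Module.finrank F (LinearMap.range M)) := by
  classical
  let g : BilinForm F V := b.compRight M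
  have hg : ∀ u v, g u v = b u (M v) := fun u v => rfl
  have hA : g.IsAlt := fun u => h u
  obtain ⟨m, k, w, h1, h2, h3, h4⟩ := Symp.exists_basis_with_radical hA
  have hker : LinearMap.ker M = Submodule.span F (Set.range fun j => w (Sum.inr j)) := by
    apply le_antisymm
    · intro v hv
      have hzero : ∀ u, g u v = 0 := fun u => by rw [hg, LinearMap.mem_ker.1 hv, map_zero]
      rw [← w.sum_repr v]
      refine Submodule.sum_mem _ fun i _ => ?_
      rcases i with (i | i) | j
      · -- the coefficient is `± g (f_i) v`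
        have e : g (w (Sum.inl (Sum.inr i))) v = - w.repr v (Sum.inl (Sum.inl i)) := by
          conv_lhs => rw [← w.sum_repr v]
          simp only [Fintype.sum_sum_type, map_add, map_sum, map_smul, smul_eq_mul]
          have hswap : ∀ a b : V, g a b = - g b a := fun a b => (LinearMap.IsAlt.neg hA b a).symm
          simp only [h3, hswap (w (Sum.inl (Sum.inr i))) (w (Sum.inl (Sum.inl _))), h1,
            hswap (w (Sum.inl (Sum.inr i))) (w (Sum.inr _)), h4, neg_zero, mul_zero,
            Finset.sum_const_zero, add_zero, mul_neg, mul_ite, mul_one, Finset.sum_neg_distrib,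
            Finset.sum_ite_eq', Finset.mem_univ, if_true]
        rw [hzero, zero_eq_neg] at e
        rw [e, zero_smul]
        exact Submodule.zero_mem _
      · have e : g (w (Sum.inl (Sum.inl i))) v = w.repr v (Sum.inl (Sum.inr i)) := by
          conv_lhs => rw [← w.sum_repr v]
          simp only [Fintype.sum_sum_type, map_add, map_sum, map_smul, smul_eq_mul]
          have hswap : ∀ a b : V, g a b = - g b a := fun a b => (LinearMap.IsAlt.neg hA b a).symm
          simp only [h1, h2, hswap (w (Sum.inl (Sum.inl i))) (w (Sum.inr _)), h4, neg_zero, mul_zero,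
            Finset.sum_const_zero, add_zero, zero_add, mul_ite, mul_one, Finset.sum_ite_eq, Finset.mem_univ,
            if_true]
        rw [hzero] at e
        rw [← e, zero_smul]
        exact Submodule.zero_mem _
      · exact Submodule.smul_mem _ _ (Submodule.subset_span ⟨j, rfl⟩)
    · rw [Submodule.span_le]
      rintro _ ⟨j, rfl⟩
      refine hb.2 _ fun u => ?_
      have := h4 j u
      rw [← LinearMap.IsAlt.neg hA u (w (Sum.inr j)), hg, neg_eq_zero] at this
      exact this
  have hk : Module.finrank F (LinearMap.ker M) = k := by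
    rw [hker]
    refine (finrank_span_eq_card (w.linearIndependent.comp _ Sum.inr_injective)).trans ?_
    exact Fintype.card_fin k
  have h0 := LinearMap.finrank_range_add_finrank_ker M
  rw [hk, Module.finrank_eq_card_basis w] at h0
  simp at h0
  exact ⟨m, by omega⟩

/-- The profile of a Jordan type matrix. -/
theorem rank_jordanType_pow {t : ℕ} (d : Fin t → ℕ) (k : ℕ) :
    ((Cfsg.jordanTypeMatrix d F - 1) ^ k).rank = Jordan.prof (sizes d) k := by
  classical
  let N : (l : Fin t) → Module.End F (Fin (d l) → F) := fun l => Matrix.toLinAlgEquiv' (Cfsg.jordanBlock (d l) F - 1)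
  have hblock : ∀ l, Module.finrank F (LinearMap.range (N l ^ k)) = d l - k := fun l => by
    rw [Jordan.range_pow_of_equiv (N l) (Jordan.shift F (d l)) (LinearEquiv.funCongrLeft F F Fin.revPerm) ?_ k,
      Jordan.finrank_range_shift]
    intro z
    funext i
    show ((Cfsg.jordanBlock (d l) F - 1).mulVec fun j => z (Fin.rev j)) i = Jordan.shift F (d l) z (Fin.rev i)
    rw [Jordan.shift_apply, Matrix.mulVec, dotProduct]
    by_cases h : 0 < (i : ℕ)
    · rw [Finset.sum_eq_single ⟨(i : ℕ) - 1, by omega⟩, dif_pos (by rw [Fin.val_rev]; omega)]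
      · have e1 : (Cfsg.jordanBlock (d l) F - 1) i ⟨(i : ℕ) - 1, by omega⟩ = 1 := by
          simp only [Matrix.sub_apply, Cfsg.jordanBlock, Matrix.of_apply, Matrix.one_apply, Fin.ext_iff]
          rw [if_neg (by omega), if_pos (by omega), if_neg (by omega), sub_zero]
        rw [e1, one_mul]
        congr 1
        exact Fin.ext (by simp only [Fin.val_rev]; omega)
      · intro j _ hj
        have e1 : (Cfsg.jordanBlock (d l) F - 1) i j = 0 := by
          simp only [Matrix.sub_apply, Cfsg.jordanBlock, Matrix.of_apply, Matrix.one_apply, Fin.ext_iff]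
          rcases eq_or_ne (i : ℕ) j with e | e
          · rw [if_pos e, if_pos e, sub_self]
          · rw [if_neg e, if_neg e, sub_zero, if_neg]
            intro e'
            exact hj (Fin.ext (show (j : ℕ) = (i : ℕ) - 1 by omega))
        rw [e1, zero_mul]
      · simp
    · rw [dif_neg (by rw [Fin.val_rev]; omega)]
      refine Finset.sum_eq_zero fun j _ => ?_
      have e1 : (Cfsg.jordanBlock (d l) F - 1) i j = 0 := by
        simp only [Matrix.sub_apply, Cfsg.jordanBlock, Matrix.of_apply, Matrix.one_apply, Fin.ext_iff]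
        rcases eq_or_ne (i : ℕ) j with e | e
        · rw [if_pos e, if_pos e, sub_self]
        · rw [if_neg e, if_neg e, sub_zero, if_neg (by omega)]
      rw [e1, zero_mul]
  have hM : (Cfsg.jordanTypeMatrix d F - 1) ^ k =
      Matrix.blockDiagonal' fun l => (Cfsg.jordanBlock (d l) F - 1) ^ k := by
    rw [Cfsg.jordanTypeMatrix, ← Matrix.blockDiagonal'_one, ← Matrix.blockDiagonal'_sub]
    exact (map_pow (Matrix.blockDiagonal'RingHom (fun l : Fin t => Fin (d l)) F) _ k).symm
  let emb : ((l : Fin t) → LinearMap.range (N l ^ k)) →ₗ[F] (((l : Fin t) × Fin (d l)) → F) :=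
    { toFun := fun f x => (f x.1 : Fin (d x.1) → F) x.2
      map_add' := fun f g => rfl
      map_smul' := fun c f => rfl }
  have hemb : Function.Injective emb := fun f g h =>
    funext fun l => Subtype.ext (funext fun i => congrFun h ⟨l, i⟩)
  have happ : ∀ (v : ((l : Fin t) × Fin (d l)) → F) (l : Fin t) (i : Fin (d l)),
      ((Cfsg.jordanTypeMatrix d F - 1) ^ k).mulVec v ⟨l, i⟩ = (N l ^ k) (fun j => v ⟨l, j⟩) i := by
    intro v l i
    rw [hM, ← map_pow, Matrix.toLinAlgEquiv'_apply]
    simp only [Matrix.mulVec, dotProduct, Fintype.sum_sigma]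
    rw [Finset.sum_eq_single l]
    · simp only [Matrix.blockDiagonal'_apply_eq]
    · intro b _ hb
      refine Finset.sum_eq_zero fun j _ => ?_
      rw [Matrix.blockDiagonal'_apply_ne _ _ _ (Ne.symm hb), zero_mul]
    · simp
  have hrange : LinearMap.range ((Cfsg.jordanTypeMatrix d F - 1) ^ k).mulVecLin = LinearMap.range emb := by
    apply le_antisymm
    · rintro _ ⟨v, rfl⟩
      exact ⟨fun l => ⟨_, LinearMap.mem_range_self _ (fun j => v ⟨l, j⟩)⟩,
        funext fun x => (happ v x.1 x.2).symm⟩
    · rintro _ ⟨f, rfl⟩
      choose z hz using fun l => (f l).2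
      refine ⟨fun x => z x.1 x.2, funext fun x => ?_⟩
      rw [Matrix.mulVecLin_apply, happ]
      exact congrFun (hz x.1) x.2
  rw [Matrix.rank, hrange, LinearMap.finrank_range_of_inj hemb, Module.finrank_pi_fintype, prof_sizes]
  exact Finset.sum_congr rfl fun l _ => hblock l

end CfsgLib.Classical.ClassTheory
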