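import Mathlib

/-!
# Norms in finite commutative rings with an involution

If `θ - ι θ` is a unit then every fixed unit is a norm `ι d * d`, and every element of norm one is a
quotient `y / ι y`. The second half moves this to commuting subsets of a ring with an anti-endomorphism.
-/

set_option autoImplicit false

namespace CfsgLib.Classical.ClassTheory

section Comm

variable {S : Type*} [CommRing S] [Finite S] (ι : S →+* S) (hι : ∀ x, ι (ι x) = x) {θ : S}
  (hθ : IsUnit (θ - ι θ))

include hι hθ

theorem exists_unit_combination (x : S) (hx : IsUnit x) : ∃ z, IsUnit (z + x * ι z) := by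
  classical
  haveI : Finite (MaximalSpectrum S) :=
    Finite.of_injective (fun m => (m.asIdeal : Set S)) fun a b h =>
      MaximalSpectrum.ext (SetLike.coe_injective h)
  obtain ⟨k, ⟨e⟩⟩ := Finite.exists_equiv_fin (MaximalSpectrum S)
  let conj : MaximalSpectrum S → MaximalSpectrum S := fun m =>
    ⟨m.asIdeal.comap ι, by
      haveI := m.isMaximal
      exact Ideal.comap_isMaximal_of_surjective ι (Function.Involutive.surjective hι)⟩
  have hmem : ∀ (m : MaximalSpectrum S) (a : S), a ∈ (conj m).asIdeal ↔ ι a ∈ m.asIdeal :=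
    fun m a => Ideal.mem_comap
  have hcc : ∀ m, conj (conj m) = m := fun m =>
    MaximalSpectrum.ext (Ideal.ext fun a => by rw [hmem, hmem, hι])
  -- a local value at a fixed maximal ideal
  have hloc : ∀ m : MaximalSpectrum S, ∃ z, z + x * ι z ∉ m.asIdeal := by
    intro m
    by_contra hc
    push Not at hc
    have h1 := hc 1
    rw [map_one, mul_one] at h1
    have h2 : θ - ι θ ∈ m.asIdeal := by
      have e0 : θ - ι θ = (θ + x * ι θ) - (1 + x) * ι θ := by ring
      rw [e0]
      exact m.asIdeal.sub_mem (hc θ) (m.asIdeal.mul_mem_right _ h1)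
    exact m.isMaximal.ne_top (Ideal.eq_top_of_isUnit_mem _ h2 hθ)
  choose w hw using hloc
  let target : MaximalSpectrum S → S := fun m =>
    if e m < e (conj m) then 1 else if e (conj m) < e m then 0 else w m
  obtain ⟨z, hz⟩ := Ideal.exists_forall_sub_mem_ideal (I := fun m : MaximalSpectrum S => m.asIdeal)
    (fun a b hab => Ideal.isCoprime_iff_sup_eq.2
      (a.isMaximal.coprime_of_ne b.isMaximal fun h => hab (MaximalSpectrum.ext h))) target
  refine ⟨z, ?_⟩
  by_contra hu
  obtain ⟨M, hM, hle⟩ := Ideal.exists_le_maximal _ (fun h => hu (Ideal.span_singleton_eq_top.1 h))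
  let m : MaximalSpectrum S := ⟨M, hM⟩
  have hm : z + x * ι z ∈ m.asIdeal := hle (Ideal.subset_span rfl)
  have h1 : z - target m ∈ m.asIdeal := hz m
  have h2 : ι (z - target (conj m)) ∈ m.asIdeal := (hmem m _).1 (hz (conj m))
  have key : target m + x * ι (target (conj m)) ∈ m.asIdeal := by
    have e0 : target m + x * ι (target (conj m)) =
        (z + x * ι z) - ((z - target m) + x * ι (z - target (conj m))) := by
      rw [map_sub]; ring
    rw [e0]
    exact m.asIdeal.sub_mem hm (m.asIdeal.add_mem h1 (m.asIdeal.mul_mem_left x h2))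
  have hne := hM.ne_top
  rcases lt_trichotomy (e m) (e (conj m)) with h | h | h
  · have t1 : target m = 1 := if_pos h
    have t2 : target (conj m) = 0 := by
      simp only [target, hcc, if_neg h.not_gt, if_pos h]
    rw [t1, t2, map_zero, mul_zero, add_zero] at key
    exact hne ((Ideal.eq_top_iff_one _).2 key)
  · have hfix : conj m = m := (e.injective h).symm
    have t : target m = w m := by
      simp only [target, hfix, lt_irrefl, if_false]
    rw [hfix, t] at key
    exact hw m key
  · have t1 : target m = 0 := by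
      simp only [target, if_neg h.not_gt, if_pos h]
    have t2 : target (conj m) = 1 := by
      simp only [target, hcc, if_pos h]
    rw [t1, t2, zero_add, map_one, mul_one] at key
    exact hne (Ideal.eq_top_of_isUnit_mem _ key hx)

/-- An element of norm one is a quotient `y / ι y`. -/
theorem exists_eq_div {x : S} (hx : ι x * x = 1) : ∃ y, IsUnit y ∧ x * ι y = y := by
  obtain ⟨z, hz⟩ := exists_unit_combination ι hι hθ x (IsUnit.of_mul_eq_one_right (ι x) hx)
  refine ⟨z + x * ι z, hz, ?_⟩
  rw [map_add, map_mul, hι]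
  linear_combination z * hx

/-- Every fixed unit is a norm. -/
theorem exists_norm_eq {c : S} (hc : ι c = c) (hcu : IsUnit c) : ∃ d, IsUnit d ∧ ι d * d = c := by
  classical
  let ιu : Sˣ →* Sˣ := Units.map ι.toMonoidHom
  have hιu : ∀ u : Sˣ, ((ιu u : Sˣ) : S) = ι u := fun u => rfl
  let φ : Sˣ →* Sˣ := ιu * MonoidHom.id _
  let ψ : Sˣ →* Sˣ := MonoidHom.id _ / ιu
  have hψ : ∀ u : Sˣ, ψ u = 1 ↔ ιu u = u := fun u => by
    rw [show ψ u = u / ιu u from rfl, div_eq_one, eq_comm]
  have hle : φ.range ≤ ψ.ker := by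
    rintro _ ⟨u, rfl⟩
    rw [MonoidHom.mem_ker, hψ]
    refine Units.ext ?_
    show ι (ι (u : S) * (u : S)) = ι (u : S) * (u : S)
    rw [map_mul, hι, mul_comm]
  have hker : φ.ker = ψ.range := by
    refine le_antisymm (fun u hu => ?_) ?_
    · obtain ⟨y, hy, hxy⟩ := exists_eq_div ι hι hθ (x := (u : S)) (congrArg Units.val hu)
      obtain ⟨y, rfl⟩ := hy
      refine ⟨y, ?_⟩
      show y / ιu y = u
      rw [div_eq_iff_eq_mul]
      exact Units.ext hxy.symm
    · rintro _ ⟨u, rfl⟩
      rw [MonoidHom.mem_ker]
      show ιu (u / ιu u) * (u / ιu u) = 1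
      rw [map_div, show ιu (ιu u) = u from Units.ext (hι u)]
      exact div_mul_div_cancel (ιu u) u (ιu u) |>.trans (div_self' _)
  have h1 := φ.ker.card_mul_index
  rw [Subgroup.index_ker, hker] at h1
  have h2 := ψ.ker.card_mul_index
  rw [Subgroup.index_ker, ← h1, mul_comm] at h2
  have heq : φ.range = ψ.ker := Subgroup.eq_of_le_of_card_ge hle
    (Nat.eq_of_mul_eq_mul_left Nat.card_pos h2).le
  obtain ⟨d, hd⟩ : hcu.unit ∈ φ.range := heq ▸ (hψ _).2 (Units.ext hc)
  exact ⟨d, d.isUnit, congrArg Units.val hd⟩

end Comm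

section Twisted

variable {R : Type*} [Ring R] [Finite R] (ι : R → R) (hadd : ∀ a b, ι (a + b) = ι a + ι b)
  (hmul : ∀ a b, ι (a * b) = ι b * ι a) (hone : ι 1 = 1) (hinj : Function.Injective ι) {T : Set R}
  (hT : ∀ a ∈ T, ∀ b ∈ T, Commute a b)
  (hstab : ∀ a ∈ T, ι a ∈ Subring.centralizer (Subring.centralizer T : Set R))
  (hinvol : ∀ z ∈ Subring.centralizer (Subring.centralizer T : Set R), ι (ι z) = z)

omit [Finite R] in
theorem subset_double_centralizer : T ⊆ Subring.centralizer (Subring.centralizer T : Set R) :=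
  fun a ha => Subring.mem_centralizer_iff.2 fun y hy => (Subring.mem_centralizer_iff.1 hy a ha).symm

omit [Finite R] in
include hT in
theorem double_centralizer_commute {a b : R} (ha : a ∈ Subring.centralizer (Subring.centralizer T : Set R))
    (hb : b ∈ Subring.centralizer (Subring.centralizer T : Set R)) : a * b = b * a := by
  have hb' : b ∈ Subring.centralizer T := Subring.mem_centralizer_iff.2 fun t ht =>
    Subring.mem_centralizer_iff.1 hb t (Subring.mem_centralizer_iff.2 fun s hs => hT s hs t ht)
  exact (Subring.mem_centralizer_iff.1 ha b hb').symm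

include hmul hinj hstab hinvol in
theorem double_centralizer_stable {a : R}
    (ha : a ∈ Subring.centralizer (Subring.centralizer T : Set R)) :
    ι a ∈ Subring.centralizer (Subring.centralizer T : Set R) := by
  have hmaps : ∀ y : R, y ∈ Subring.centralizer T → ι y ∈ Subring.centralizer T := fun y hy => by
    refine Subring.mem_centralizer_iff.2 fun t ht => ?_
    have h := congrArg ι (Subring.mem_centralizer_iff.1 (hstab t ht) y hy)
    rwa [hmul, hmul, hinvol t (subset_double_centralizer ht)] at h
  refine Subring.mem_centralizer_iff.2 fun y hy => ?_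
  let g : Subring.centralizer T → Subring.centralizer T := fun u => ⟨ι u, hmaps u u.2⟩
  have hg : Function.Injective g := fun u v huv => Subtype.ext (hinj (congrArg Subtype.val huv))
  obtain ⟨⟨y', hy'⟩, hyy⟩ := Finite.injective_iff_surjective.1 hg ⟨y, hy⟩
  have hyv : ι y' = y := congrArg Subtype.val hyy
  rw [← hyv, ← hmul, ← hmul, Subring.mem_centralizer_iff.1 ha y' hy']

include hadd hmul hone hinj hT hstab hinvol in
/-- The commutative ring with involution spanned by the commuting set. -/
theorem exists_comm_model {θ : R} (hθT : θ ∈ T) (hθ : IsUnit (θ - ι θ)) :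
    (∀ c ∈ Subring.centralizer (Subring.centralizer T : Set R), ι c = c → IsUnit c →
      ∃ d ∈ Subring.centralizer (Subring.centralizer T : Set R), IsUnit d ∧ ι d * d = c) ∧
    (∀ x ∈ Subring.centralizer (Subring.centralizer T : Set R), ι x * x = 1 →
      ∃ y ∈ Subring.centralizer (Subring.centralizer T : Set R), IsUnit y ∧ x * ι y = y) := by
  set Z := Subring.centralizer (Subring.centralizer T : Set R) with hZ
  letI : CommRing Z := { (inferInstance : Ring Z) with
    mul_comm := fun a b => Subtype.ext (double_centralizer_commute hT a.2 b.2) }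
  let j : Z →+* Z :=
    { toFun := fun z => ⟨ι z, double_centralizer_stable ι hmul hinj hstab hinvol z.2⟩
      map_one' := Subtype.ext hone
      map_mul' := fun a b => Subtype.ext ((hmul a b).trans (double_centralizer_commute hT
        (double_centralizer_stable ι hmul hinj hstab hinvol b.2)
        (double_centralizer_stable ι hmul hinj hstab hinvol a.2)))
      map_zero' := Subtype.ext (left_eq_add.1 ((congrArg ι (add_zero (0 : R))).symm.trans (hadd 0 0)))
      map_add' := fun a b => Subtype.ext (hadd a b) }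
  have hj : ∀ z, j (j z) = z := fun z => Subtype.ext (hinvol z z.2)
  have hunit : ∀ z : Z, IsUnit (z : R) → IsUnit z := fun z hz => by
    obtain ⟨u, hu⟩ := hz
    refine IsUnit.of_mul_eq_one ⟨((u⁻¹ : Rˣ) : R), Subring.mem_centralizer_iff.2 fun y hy => ?_⟩
      (Subtype.ext (by show (z : R) * _ = 1; rw [← hu, Units.mul_inv]))
    have : Commute (u : R) y := hu.symm ▸ (Subring.mem_centralizer_iff.1 z.2 y hy).symm
    exact this.units_inv_left.symm
  have hθ' : IsUnit ((⟨θ, subset_double_centralizer hθT⟩ : Z) - j ⟨θ, subset_double_centralizer hθT⟩) :=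
    hunit _ hθ
  refine ⟨fun c hc hcc hcu => ?_, fun x hx hxx => ?_⟩
  · obtain ⟨d, hd, hdc⟩ := exists_norm_eq j hj hθ' (c := ⟨c, hc⟩) (Subtype.ext hcc) (hunit _ hcu)
    exact ⟨d, d.2, hd.map Z.subtype, congrArg Subtype.val hdc⟩
  · obtain ⟨y, hy, hxy⟩ := exists_eq_div j hj hθ' (x := ⟨x, hx⟩) (Subtype.ext hxx)
    exact ⟨y, y.2, hy.map Z.subtype, congrArg Subtype.val hxy⟩

omit [Finite R] in
theorem commute_of_mem_double_centralizer {d y : R}
    (hd : d ∈ Subring.centralizer (Subring.centralizer T : Set R)) (hy : ∀ t ∈ T, Commute t y) :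
    Commute d y :=
  (Subring.mem_centralizer_iff.1 hd y (Subring.mem_centralizer_iff.2 fun t ht => (hy t ht).eq)).symm

include hadd hmul hone in
/-- For a genuine involution and a commuting stable set the norm is onto fixed units. -/
theorem exists_star_mul_self (hι : ∀ a, ι (ι a) = a) {c θ : R} (hc : ι c = c) (hcu : IsUnit c)
    (hcθ : Commute c θ) (hθθ : Commute θ (ι θ)) (hθ : IsUnit (θ - ι θ)) :
    ∃ d, IsUnit d ∧ ι d * d = c ∧ ∀ y, Commute c y → Commute θ y → Commute (ι θ) y → Commute d y := by
  have hcθ' : Commute c (ι θ) := by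
    have h := congrArg ι hcθ.eq
    rw [hmul, hmul, hc] at h
    exact h.symm
  have hTc : ∀ a ∈ ({c, θ, ι θ} : Set R), ∀ b ∈ ({c, θ, ι θ} : Set R), Commute a b := by
    rintro a (rfl | rfl | rfl) b (rfl | rfl | rfl)
    exacts [Commute.refl _, hcθ, hcθ', hcθ.symm, Commute.refl _, hθθ, hcθ'.symm, hθθ.symm, Commute.refl _]
  obtain ⟨d, hd, hdu, hdc⟩ := (exists_comm_model ι hadd hmul hone (fun a b h => by rw [← hι a, h, hι])
    hTc (T := {c, θ, ι θ}) (by
      rintro a (rfl | rfl | rfl) <;> refine subset_double_centralizer ?_ <;> simp [hc, hι])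
    (fun z _ => hι z) (θ := θ) (by simp) hθ).1 c (subset_double_centralizer (by simp)) hc hcu
  exact ⟨d, hdu, hdc, fun y h1 h2 h3 => commute_of_mem_double_centralizer hd (by
    rintro t (rfl | rfl | rfl) <;> assumption)⟩

end Twisted

end CfsgLib.Classical.ClassTheory
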