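import Cfsg.Agent.Lib.Classical.ClassTheory.OmegaRoots

/-!
# When a subgroup with a cyclic element and one root is all of `Ω`
-/

set_option autoImplicit false

namespace CfsgLib.Classical.ClassTheory.OmegaGen

open CfsgLib.Classical.Quad
open QuadraticMap (polar polarBilin)
open Fin.CommRing

/-- A product on a cycle of indices. -/
theorem prod_range_add {M : Type*} [CommMonoid M] {m : ℕ} [NeZero m] (φ : Fin m → M) (i : Fin m) :
    ∏ t ∈ Finset.range m, φ (i + (t : Fin m)) = ∏ j, φ j := by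
  rw [← Fin.prod_univ_eq_prod_range (fun t : ℕ => φ (i + (t : Fin m))) m]
  simp only [Fin.cast_val_eq_self]
  exact Fintype.prod_equiv (Equiv.addLeft i) _ _ fun j => rfl

theorem prod_range_sub {M : Type*} [CommMonoid M] {m : ℕ} [NeZero m] (φ : Fin m → M) (i : Fin m) :
    ∏ t ∈ Finset.range m, φ (i - (t : Fin m)) = ∏ j, φ j := by
  rw [← Fin.prod_univ_eq_prod_range (fun t : ℕ => φ (i - (t : Fin m))) m]
  simp only [Fin.cast_val_eq_self]
  exact Fintype.prod_equiv (Equiv.subLeft i) _ _ fun j => rfl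

theorem natCast_ne_zero_fin {m k : ℕ} [NeZero m] (h0 : 0 < k) (hk : k < m) : ((k : ℕ) : Fin m) ≠ 0 := fun h => by
  have := congrArg Fin.val h
  rw [Fin.val_natCast, Nat.mod_eq_of_lt hk] at this
  simp at this
  omega

/-- A transitive relation containing all steps. -/
theorem chain_all {m : ℕ} [NeZero m] (R : Fin m → Fin m → Prop)
    (comp : ∀ i j k, i ≠ j → j ≠ k → i ≠ k → R i j → R j k → R i k) (step : ∀ i, R i (i + 1))
    {i j : Fin m} (hij : i ≠ j) : R i j := by
  have key : ∀ k : ℕ, 0 < k → k < m → R i (i + (k : Fin m)) := by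
    intro k
    induction k with
    | zero => omega
    | succ k ih =>
      intro _ hk
      rcases Nat.eq_zero_or_pos k with rfl | hk0
      · simpa using step i
      have h1 : (1 : Fin m) ≠ 0 := by simpa using natCast_ne_zero_fin (m := m) Nat.one_pos (by omega)
      rw [Nat.cast_succ, ← add_assoc]
      refine comp _ _ _ (fun h => natCast_ne_zero_fin hk0 (by omega : k < m) (left_eq_add.1 h))
        (fun h => h1 (left_eq_add.1 h)) (fun h => natCast_ne_zero_fin (Nat.succ_pos k) hk ?_) (ih hk0 (by omega))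
        (step _)
      rw [Nat.cast_succ]
      exact left_eq_add.1 (h.trans (add_assoc _ _ _))
  have := key (j - i).val (Nat.pos_of_ne_zero fun h => hij (sub_eq_zero.1 (Fin.ext h)).symm) (j - i).isLt
  rwa [Fin.cast_val_eq_self, add_sub_cancel] at this

/-- An additive subgroup closed under a ring generator is everything. -/
theorem mem_of_closure_eq_top {K : Type*} [Field K] (A : AddSubgroup K) {a : K} (ha : a ≠ 0) (haA : a ∈ A) {μ : K}
    (hμ : ∀ x ∈ A, μ * x ∈ A) (h : Subring.closure {μ} = ⊤) (x : K) : x ∈ A := by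
  let R : Subring K :=
    { carrier := {r | ∀ y ∈ A, r * y ∈ A}
      mul_mem' := fun {r r'} hr hr' y hy => by rw [mul_assoc]; exact hr _ (hr' _ hy)
      one_mem' := fun y hy => by rwa [one_mul]
      add_mem' := fun {r r'} hr hr' y hy => by rw [add_mul]; exact A.add_mem (hr _ hy) (hr' _ hy)
      zero_mem' := fun y _ => by rw [zero_mul]; exact A.zero_mem
      neg_mem' := fun {r} hr y hy => by rw [neg_mul]; exact A.neg_mem (hr _ hy) }
  have hR : Subring.closure {μ} ≤ R := by
    rw [Subring.closure_le]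
    rintro _ rfl
    exact hμ
  have := hR (h ▸ Subring.mem_top (x / a)) a haA
  rwa [div_mul_cancel₀ _ ha] at this

variable {F : Type*} [Field F] {V : Type*} [AddCommGroup V] [Module F V] [FiniteDimensional F V]
  {Q : QuadraticForm F V} {hQ : (polarBilin Q).Nondegenerate} {H : Subgroup (OQ Q)} {m : ℕ}

/-- A family of pairwise orthogonal hyperbolic pairs. -/
structure HypFrame (Q : QuadraticForm F V) (e f : Fin m → V) : Prop where
  qe : ∀ i, Q (e i) = 0
  qf : ∀ i, Q (f i) = 0
  ee : ∀ i j, polar Q (e i) (e j) = 0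
  ff : ∀ i j, polar Q (f i) (f j) = 0
  ef : ∀ i j, i ≠ j → polar Q (e i) (f j) = 0
  pair : ∀ i, polar Q (e i) (f i) = 1

/-- Orthogonal to the frame. -/
def Perp (Q : QuadraticForm F V) (e f : Fin m → V) (z : V) : Prop :=
  ∀ i, polar Q z (e i) = 0 ∧ polar Q z (f i) = 0

variable {e f : Fin m → V} (hS : HypFrame Q e f)

theorem HypFrame.fe {i j : Fin m} (hS : HypFrame Q e f) (h : i ≠ j) : polar Q (f i) (e j) = 0 := by
  rw [QuadraticMap.polar_comm]; exact hS.ef _ _ (Ne.symm h)

theorem HypFrame.pair' (hS : HypFrame Q e f) (i : Fin m) : polar Q (f i) (e i) = 1 := by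
  rw [QuadraticMap.polar_comm]; exact hS.pair i

include hS

theorem comp_ef {i j k : Fin m} (hij : i ≠ j) (hjk : j ≠ k) (hik : i ≠ k) {c d : F}
    (h₁ : InR hQ H (e i) (c • f j)) (h₂ : InR hQ H (e j) (d • f k)) : InR hQ H (e i) ((c * d) • f k) := by
  have h2 := (h₂.smul_right (hS.qe j) (hS.ef _ _ hjk)).swap (hS.qf k)
  have h := h₁.comm h2 (hS.fe hik.symm) (by rw [QuadraticMap.polar_neg_left, polar_smul_left', hS.ee, mul_zero, neg_zero])
    (by rw [polar_smul_right', hS.ff, mul_zero])
  rw [QuadraticMap.polar_neg_left, polar_smul_left', polar_smul_right', hS.pair, mul_one] at h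
  have h' := (h.swap (by rw [apply_smul, hS.qe, mul_zero])).smul_left (hS.qe i)
    (by rw [QuadraticMap.polar_neg_right, hS.ef _ _ hik, neg_zero])
  exact h'.of_eq rfl (by module)

theorem comp_ee {i j k : Fin m} (hkj : k ≠ j) {c d : F}
    (h₁ : InR hQ H (e i) (c • f j)) (h₂ : InR hQ H (e k) (d • e j)) : InR hQ H (e k) ((d * c) • e i) := by
  have h := h₁.comm h₂ (hS.ee _ _) (by rw [polar_smul_left', hS.ee, mul_zero])
    (by rw [polar_smul_right', hS.ef _ _ hkj, mul_zero])
  exact h.of_eq rfl (by rw [polar_smul_left', polar_smul_right', hS.pair, mul_one])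

/-- From all Levi roots and one further root, everything. -/
theorem commutator_le_of_levi [Finite F] [NeZero m] (hm : 3 ≤ m) (hn : 5 ≤ Module.finrank F V)
    {o t : Fin m} (ho : o ≠ 0) (ht : t ≠ 0) (hot : o ≠ t)
    (hD : ∀ i j, i ≠ j → FullR hQ H (e i) (f j)) (h20 : FullR hQ H (e t) (e 0)) {s : OQ Q} (hs : s ∈ H)
    (hse : (s : V ≃ₗ[F] V) (e 0) = f o) (hsf : (s : V ≃ₗ[F] V) (f t) = f t) {S : Set V}
    (hSp : ∀ w ∈ S, Perp Q e f w) (hSR : ∀ w ∈ S, InR hQ H (e t) w)
    (hspan : ∀ z, Perp Q e f z → z ∈ Submodule.span F S) : commutator (OQ Q) ≤ H := by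
  classical
  have hE2 : FullR hQ H (e 0) (e t) := h20.swap (hS.qe 0) (hS.qe t) (hS.ee _ _)
  have hE : ∀ j, j ≠ 0 → FullR hQ H (e 0) (e j) := fun j hj => by
    rcases eq_or_ne j t with rfl | hjt
    · exact hE2
    refine InR.commFull (hD j t hjt) ((hE2 1).of_eq rfl (one_smul _ _)) (hS.ee _ _) (hS.ee _ _) (hS.ef _ _ ht.symm) ?_
    rw [hS.pair]; exact one_ne_zero
  have hot' : FullR hQ H (f t) (f o) := by
    have h := (hD 0 t ht.symm).conj hs
    rw [hse, hsf] at h
    exact h.swap (hS.qf t) (hS.qf o) (hS.ff _ _)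
  have hF2 : FullR hQ H (f 0) (f t) := by
    refine FullR.swap ?_ (hS.qf 0) (hS.qf t) (hS.ff _ _)
    refine InR.commFull ((hD o 0 ho).swap (hS.qf 0) (hS.qe o) (hS.ef _ _ ho)) ((hot' 1).of_eq rfl (one_smul _ _))
      (hS.ff _ _) (hS.ff _ _) (hS.fe hot.symm) ?_
    rw [hS.pair']; exact one_ne_zero
  have hFj : ∀ j, j ≠ 0 → FullR hQ H (f 0) (f j) := fun j hj => by
    rcases eq_or_ne j t with rfl | hjt
    · exact hF2
    refine InR.commFull ((hD t j hjt.symm).swap (hS.qf j) (hS.qe t) (hS.ef _ _ hjt.symm))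
      ((hF2 1).of_eq rfl (one_smul _ _)) (hS.ff _ _) (hS.ff _ _) (hS.fe ht.symm) ?_
    rw [hS.pair']; exact one_ne_zero
  have hW : ∀ (y : V), (y = e 0 ∨ y = f 0) → ∀ z, Perp Q e f z → FullR hQ H y z := by
    intro y hy z hz
    have hqy : Q y = 0 := by rcases hy with rfl | rfl; exacts [hS.qe 0, hS.qf 0]
    have hyz : ∀ w, Perp Q e f w → polar Q y w = 0 := fun w hw => by
      rw [QuadraticMap.polar_comm]; rcases hy with rfl | rfl; exacts [(hw 0).1, (hw 0).2]
    have hxy : FullR hQ H (e t) y := by rcases hy with rfl | rfl; exacts [h20, hD t 0 ht]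
    have hya : FullR hQ H y (f t) := by rcases hy with rfl | rfl; exacts [hD 0 t ht.symm, hF2]
    have hyft : polar Q y (f t) = 0 := by
      rcases hy with rfl | rfl; exacts [hS.ef _ _ ht.symm, hS.ff _ _]
    let M : Submodule F V :=
      { carrier := {z | FullR hQ H y z}
        add_mem' := fun ha hb => FullR.add ha hb
        zero_mem' := fun c => by rw [smul_zero]; exact inR_zero hqy
        smul_mem' := fun c _ ha => FullR.smul ha c }
    have hle : Submodule.span F S ≤ M := by
      rw [Submodule.span_le]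
      intro w hw c
      have h1 := InR.transfer (y := c • y) (a := f t) (hSR w hw) (hxy.smul c) (by rw [apply_smul, hqy, mul_zero])
        (by rw [polar_smul_left', hyz w (hSp w hw), mul_zero]) ((hya c).smul_right hqy hyft) (hS.pair t)
        ((hSp w hw) t).2
      exact InR.smul_left hqy (hyz w (hSp w hw)) h1
    exact hle (hspan z hz)
  have hall : ∀ (y : V), (y = e 0 ∨ y = f 0) → (∀ j, j ≠ 0 → FullR hQ H y (e j)) →
      (∀ j, j ≠ 0 → FullR hQ H y (f j)) → ∀ z, polar Q z (e 0) = 0 → polar Q z (f 0) = 0 → InR hQ H y z := by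
    intro y hy he' hf' z h1 h2
    have hqy : Q y = 0 := by rcases hy with rfl | rfl; exacts [hS.qe 0, hS.qf 0]
    set d := ∑ i, (polar Q z (f i) • e i + polar Q z (e i) • f i) with hd
    have hr : Perp Q e f (z - d) := fun j => by
      constructor
      · show polarBilin Q (z - d) (e j) = 0
        rw [hd, map_sub, map_sum, LinearMap.sub_apply, LinearMap.sum_apply, Finset.sum_eq_single j]
        · simp [hS.ee, hS.pair', polar_smul_left']
        · intro i _ hij
          simp [hS.ee, hS.fe hij, polar_smul_left']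
        · simp
      · show polarBilin Q (z - d) (f j) = 0
        rw [hd, map_sub, map_sum, LinearMap.sub_apply, LinearMap.sum_apply, Finset.sum_eq_single j]
        · simp [hS.ff, hS.pair, polar_smul_left']
        · intro i _ hij
          simp [hS.ff, hS.ef _ _ hij, polar_smul_left']
        · simp
    have hdR : InR hQ H y d := by
      refine Finset.sum_induction _ (InR hQ H y) (fun a b ha hb => ha.add hb) (inR_zero hqy) fun i _ => ?_
      rcases eq_or_ne i 0 with rfl | hi
      · rw [h1, h2, zero_smul, zero_smul, add_zero]; exact inR_zero hqy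
      · exact (he' i hi _).add (hf' i hi _)
    exact (hdR.add ((hW y hy _ hr) 1)).of_eq rfl (by module)
  refine commutator_le_of_pair hn (hS.qe 0) (hS.qf 0) (hS.pair 0) (hall _ (Or.inl rfl) hE fun j hj => hD 0 j hj.symm)
    (hall _ (Or.inr rfl) (fun j hj => (hD j 0 hj).swap (hS.qf 0) (hS.qe j) (hS.ef _ _ hj)) hFj)

section cyclic

variable [NeZero m] {b : OQ Q} (hb : b ∈ H) {κ : Fin m → F} (hκ : ∀ i, κ i ≠ 0)
  (hbe : ∀ i, (b : V ≃ₗ[F] V) (e i) = κ i • e (i - 1))
include hbe

omit hS in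
theorem pow_e (k : ℕ) (i : Fin m) :
    ((b ^ k : OQ Q) : V ≃ₗ[F] V) (e i) = (∏ t ∈ Finset.range k, κ (i - (t : Fin m))) • e (i - (k : Fin m)) := by
  induction k with
  | zero => simp
  | succ k ih =>
    rw [pow_succ', Subgroup.coe_mul, LinearEquiv.mul_apply, ih, map_smul, hbe, smul_smul, Finset.prod_range_succ,
      Nat.cast_succ, sub_add_eq_sub_sub]

omit hS in
theorem pow_m_e (i : Fin m) : ((b ^ m : OQ Q) : V ≃ₗ[F] V) (e i) = (∏ j, κ j) • e i := by
  rw [pow_e hbe, prod_range_sub, Fin.natCast_self, sub_zero]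

variable (hbf : ∀ i, (b : V ≃ₗ[F] V) (f i) = (κ i)⁻¹ • f (i - 1))
include hbf hb hκ

theorem shift_ef {i j : Fin m} (hij : i ≠ j) (h : FullR hQ H (e i) (f j)) : FullR hQ H (e (i - 1)) (f (j - 1)) := by
  have h' := h.conj hb
  rw [hbe, hbf] at h'
  have hne : i - 1 ≠ j - 1 := fun h => hij (sub_left_inj.1 h)
  exact (FullR.of_smul_left (hκ i) (hS.qe _) (by rw [polar_smul_right', hS.ef _ _ hne, mul_zero]) h').of_smul
    (inv_ne_zero (hκ j))

/-- All Levi roots from one adjacent root line. -/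
theorem levi_of_adjacent {o : Fin m} (ho : o + 1 ≠ o) (h : FullR hQ H (e (o + 1)) (f o)) :
    ∀ i j, i ≠ j → FullR hQ H (e i) (f j) := by
  have h1 : (1 : Fin m) ≠ 0 := fun h => ho (by rw [h, add_zero])
  have hne : ∀ i : Fin m, i + 1 ≠ i := fun i h => h1 (add_eq_left.1 h)
  have hk : ∀ k : ℕ, FullR hQ H (e (o + 1 - (k : Fin m))) (f (o - (k : Fin m))) := by
    intro k
    induction k with
    | zero => simpa using h
    | succ k ih =>
      have := shift_ef hS hb hκ hbe hbf (fun h => ho (sub_left_inj.1 h)) ih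
      rw [Nat.cast_succ, sub_add_eq_sub_sub, sub_add_eq_sub_sub]
      exact this
  have hstep : ∀ i, FullR hQ H (e (i + 1)) (f i) := fun i => by
    have := hk (o - i).val
    rwa [Fin.cast_val_eq_self, show o + 1 - (o - i) = i + 1 by abel, sub_sub_cancel] at this
  intro i j hij
  exact chain_all (fun a c => FullR hQ H (e c) (f a))
    (fun a c d hac hcd had hR hR' x => (comp_ef hS hcd.symm hac.symm had.symm (hR' x) (hR 1)).of_eq rfl (by rw [mul_one]))
    hstep hij.symm

variable [Finite F] (hm : 3 ≤ m) (hn : 5 ≤ Module.finrank F V) {o t : Fin m} (ho : o = 1) (ht : t = o + 1)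
  {s : OQ Q} (hs : s ∈ H) (hse : (s : V ≃ₗ[F] V) (e 0) = f o) (hse2 : (s : V ≃ₗ[F] V) (e t) = e t)
  (hsf : (s : V ≃ₗ[F] V) (f t) = f t)
include hm hn ho ht hs hse hse2 hsf

/-- No anisotropic part. -/
theorem eq_top_of_split (hbase : InR hQ H (e t) (f (t + 1))) (hκb : κ (t + 1) = -1)
    (hμ : Subring.closure {∏ i, -κ i} = ⊤) (hperp : ∀ z, Perp Q e f z → z = 0) : commutator (OQ Q) ≤ H := by
  classical
  have h1 : (1 : Fin m) ≠ 0 := by simpa using natCast_ne_zero_fin (m := m) Nat.one_pos (by omega)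
  have h2 : (2 : Fin m) ≠ 0 := by simpa using natCast_ne_zero_fin (m := m) (k := 2) (by omega) (by omega)
  have ho0 : o ≠ 0 := ho ▸ h1
  have ht2 : t = 2 := by rw [ht, ho, one_add_one_eq_two]
  have ht0 : t ≠ 0 := ht2 ▸ h2
  have hto : t ≠ o := fun h => h1 (add_eq_left.1 (ht.symm.trans h))
  have hne : ∀ i : Fin m, i ≠ i + 1 := fun i h => h1 (left_eq_add.1 h)
  -- the edges
  have hedge0 : ∀ k : ℕ, InR hQ H (e (t - (k : Fin m))) (-κ (t - (k : Fin m) + 1) • f (t - (k : Fin m) + 1)) := by
    intro k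
    induction k with
    | zero => simpa [hκb] using hbase
    | succ k ih =>
      set i := t - (k : Fin m) with hi
      have h := ih.conj hb
      rw [hbe, map_smul, hbf, add_sub_cancel_right, smul_smul,
        show -κ (i + 1) * (κ (i + 1))⁻¹ = -1 by rw [neg_mul, mul_inv_cancel₀ (hκ _)]] at h
      have hne' : i - 1 ≠ i := fun h => hne (i - 1) (by rw [sub_add_cancel]; exact h)
      have h' := h.smul_left (hS.qe _) (by rw [polar_smul_right', hS.ef _ _ hne', mul_zero])
      rw [show t - ((k + 1 : ℕ) : Fin m) = i - 1 by rw [hi, Nat.cast_succ]; abel, sub_add_cancel]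
      exact h'.of_eq rfl (by module)
  have hedge : ∀ i, InR hQ H (e i) (-κ (i + 1) • f (i + 1)) := fun i => by
    have := hedge0 (t - i).val
    rwa [Fin.cast_val_eq_self, sub_sub_cancel] at this
  have hpath : ∀ (i : Fin m) (k : ℕ), 0 < k → k < m →
      InR hQ H (e i) ((∏ a ∈ Finset.range k, -κ (i + 1 + (a : Fin m))) • f (i + (k : Fin m))) := by
    intro i k
    induction k with
    | zero => omega
    | succ k ih =>
      intro _ hk
      rcases Nat.eq_zero_or_pos k with rfl | hk0
      · simpa using hedge i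
      rw [Finset.prod_range_succ, Nat.cast_succ, ← add_assoc, add_right_comm i 1 (k : Fin m)]
      refine comp_ef hS (fun h => natCast_ne_zero_fin hk0 (by omega : k < m) (left_eq_add.1 h)) (hne _) (fun h => ?_)
        (ih hk0 (by omega)) (hedge _)
      refine natCast_ne_zero_fin (Nat.succ_pos k) hk ?_
      rw [Nat.cast_succ]; exact left_eq_add.1 (h.trans (add_assoc _ _ _))
  have hnz : ∀ i j, i ≠ j → ∃ c : F, c ≠ 0 ∧ InR hQ H (e i) (c • f j) := fun i j hij => by
    refine ⟨_, ?_, by
      have := hpath i (j - i).val (Nat.pos_of_ne_zero fun h => hij (sub_eq_zero.1 (Fin.ext h)).symm) (j - i).isLt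
      rwa [Fin.cast_val_eq_self, add_sub_cancel] at this⟩
    exact Finset.prod_ne_zero_iff.2 fun a _ => neg_ne_zero.2 (hκ _)
  have h20 : FullR hQ H (e t) (f 0) := by
    let A : AddSubgroup F :=
      { carrier := {c | InR hQ H (e t) (c • f 0)}
        add_mem' := fun {x y} hx hy => (hx.add hy).of_eq rfl (add_smul x y _).symm
        zero_mem' := (inR_zero (hS.qe t)).of_eq rfl (zero_smul F _).symm
        neg_mem' := fun {x} hx => hx.neg.of_eq rfl (neg_smul x _).symm }
    obtain ⟨c, hc0, hc⟩ := hnz t 0 ht0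
    refine fun d => mem_of_closure_eq_top A hc0 (show c ∈ A from hc) (fun x hx => ?_) hμ d
    show InR hQ H (e t) (_ • f 0)
    have hx1 := comp_ef hS ht0 ho0.symm hto (c := x) hx ((hedge 0).of_eq rfl (by rw [zero_add, ← ho]))
    have hback := hpath o (m - 1) (by omega) (by omega)
    have hm1 : o + ((m - 1 : ℕ) : Fin m) = 0 := by
      rw [ho, Nat.cast_sub (by omega), Fin.natCast_self, Nat.cast_one]; abel
    rw [hm1] at hback
    have hx2 := comp_ef hS hto ho0 ht0 hx1 hback
    refine hx2.of_eq rfl ?_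
    congr 1
    rw [mul_assoc, mul_comm]
    congr 1
    rw [← prod_range_add (fun j => -κ j) o]
    conv_rhs => rw [show Finset.range m = Finset.range ((m - 1) + 1) by rw [Nat.sub_add_cancel (by omega : 1 ≤ m)], Finset.prod_range_succ']
    simp only [Nat.cast_succ, Nat.cast_zero, add_zero]
    rw [mul_comm]
    congr 1
    refine Finset.prod_congr rfl fun a _ => ?_
    congr 2
    abel
  have hright : ∀ a c d, a ≠ c → c ≠ d → a ≠ d → FullR hQ H (e a) (f c) → FullR hQ H (e a) (f d) :=
    fun a c d hac hcd had h x => by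
      obtain ⟨y, hy, hy'⟩ := hnz c d hcd
      exact (comp_ef hS hac hcd had (h (x / y)) hy').of_eq rfl (by rw [div_mul_cancel₀ _ hy])
  have hleft : ∀ a c d, a ≠ c → c ≠ d → a ≠ d → FullR hQ H (e c) (f d) → FullR hQ H (e a) (f d) :=
    fun a c d hac hcd had h x => by
      obtain ⟨y, hy, hy'⟩ := hnz a c hac
      exact (comp_ef hS hac hcd had hy' (h (x / y))).of_eq rfl (by rw [mul_div_cancel₀ _ hy])
  have hrow : ∀ k, t ≠ k → FullR hQ H (e t) (f k) := fun k hk => by
    rcases eq_or_ne k 0 with rfl | hk0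
    · exact h20
    · exact hright _ _ _ ht0 hk0.symm hk h20
  have hD : ∀ i j, i ≠ j → FullR hQ H (e i) (f j) := fun i j hij => by
    rcases eq_or_ne j t with rfl | hjt
    · obtain ⟨c, hci, hcj⟩ : ∃ c, c ≠ i ∧ c ≠ j := by
        rcases eq_or_ne i 0 with rfl | hi
        · exact ⟨o, ho0, hto.symm⟩
        · exact ⟨0, hi.symm, ht0.symm⟩
      exact hright i c j hci.symm hcj hij (hleft i j c hij hcj.symm hci.symm (hrow c hcj.symm))
    · rcases eq_or_ne i t with rfl | hit
      · exact hrow j hij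
      · exact hleft i t j hit hjt.symm hij (hrow j hjt.symm)
  refine commutator_le_of_levi hS hm hn ho0 ht0 hto.symm hD ?_ hs hse hsf (S := ∅) (by simp) (by simp)
    (fun z hz => by rw [hperp z hz]; exact zero_mem _)
  have h := (hD t o hto).conj (H.inv_mem hs)
  have e1 : ∀ x y : V, (s : V ≃ₗ[F] V) x = y → ((s⁻¹ : OQ Q) : V ≃ₗ[F] V) y = x := fun x y hxy => by
    rw [← hxy]; exact (s : V ≃ₗ[F] V).symm_apply_apply x
  rwa [e1 _ _ hse2, e1 _ _ hse] at h

/-- With an anisotropic part. -/
theorem eq_top_of_short {w : V} (hw : Perp Q e f w) (hbase : InR hQ H (e t) w)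
    (hβ₁ : polar Q w ((b : V ≃ₗ[F] V) w) ≠ 0) (hβ₂ : polar Q w ((b : V ≃ₗ[F] V) ((b : V ≃ₗ[F] V) w)) ≠ 0)
    (hμ : ((b : V ≃ₗ[F] V) w = w ∧ Subring.closure {∏ i, κ i} = ⊤) ∨ Subring.closure {(∏ i, κ i) ^ 2} = ⊤)
    (c₀ : F) (hw' : Perp Q e f ((s : V ≃ₗ[F] V) (e o) + f 0 - c₀ • e 0))
    (hspan : ∀ z, Perp Q e f z → z ∈ Submodule.span F
      ({w, (b : V ≃ₗ[F] V) w, (s : V ≃ₗ[F] V) (e o) + f 0 - c₀ • e 0} : Set V)) : commutator (OQ Q) ≤ H := by
  classical
  have h1 : (1 : Fin m) ≠ 0 := by simpa using natCast_ne_zero_fin (m := m) Nat.one_pos (by omega)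
  have h2 : (2 : Fin m) ≠ 0 := by simpa using natCast_ne_zero_fin (m := m) (k := 2) (by omega) (by omega)
  have ho0 : o ≠ 0 := ho ▸ h1
  have ht2 : t = 2 := by rw [ht, ho, one_add_one_eq_two]
  have ht0 : t ≠ 0 := ht2 ▸ h2
  have hto : t ≠ o := fun h => h1 (add_eq_left.1 (ht.symm.trans h))
  have hto1 : t - 1 = o := by rw [ht, add_sub_cancel_right]
  have ho01 : o - 1 = 0 := by rw [ho, sub_self]
  set bw := (b : V ≃ₗ[F] V) w with hbw
  set bbw := (b : V ≃ₗ[F] V) bw with hbbw
  have hperp : ∀ v, Perp Q e f v → Perp Q e f ((b : V ≃ₗ[F] V) v) := fun v hv i => by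
    have he := OQ.map_polar b v (e (i + 1))
    have hf := OQ.map_polar b v (f (i + 1))
    rw [hbe, add_sub_cancel_right, polar_smul_right', (hv _).1] at he
    rw [hbf, add_sub_cancel_right, polar_smul_right', (hv _).2] at hf
    exact ⟨(mul_eq_zero.1 he).resolve_left (hκ _), (mul_eq_zero.1 hf).resolve_left (inv_ne_zero (hκ _))⟩
  have hbwp := hperp w hw
  have hbbwp := hperp bw hbwp
  have hsh : ∀ i v, Perp Q e f v → InR hQ H (e i) v → InR hQ H (e (i - 1)) (κ i • (b : V ≃ₗ[F] V) v) :=
    fun i v hv h => by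
      have h' := h.conj hb
      rw [hbe] at h'
      exact h'.smul_left (hS.qe _) (by rw [QuadraticMap.polar_comm]; exact (hperp v hv _).1)
  have hs1 : InR hQ H (e o) (κ t • bw) := hto1 ▸ hsh t w hw hbase
  have hs0 : InR hQ H (e 0) ((κ o * κ t) • bbw) := by
    have hp : Perp Q e f (κ t • bw) := fun i =>
      ⟨by rw [polar_smul_left', (hbwp i).1, mul_zero], by rw [polar_smul_left', (hbwp i).2, mul_zero]⟩
    have := hsh o _ hp hs1
    rw [map_smul, smul_smul, ho01] at this
    exact this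
  have hin : ∀ i, polar Q (e i) w = 0 := fun i => by rw [QuadraticMap.polar_comm]; exact (hw i).1
  -- the two lines at `e t`
  have hplus : FullR hQ H (e t) (e o) ∧ FullR hQ H (e t) (e 0) := by
    have hn1 : InR hQ H (e t) ((κ t * polar Q w bw) • e o) :=
      (hs1.comm hbase (hS.ee _ _) (hw o).1 (by rw [polar_smul_right', QuadraticMap.polar_comm, (hbwp t).1, mul_zero])).of_eq
        rfl (by rw [polar_smul_right'])
    have hn0 : InR hQ H (e t) ((κ o * κ t * polar Q w bbw) • e 0) :=
      (hs0.comm hbase (hS.ee _ _) (hw 0).1 (by rw [polar_smul_right', QuadraticMap.polar_comm, (hbbwp t).1, mul_zero])).of_eq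
        rfl (by rw [polar_smul_right'])
    have hbm : b ^ m ∈ H := H.pow_mem hb m
    rcases hμ with ⟨hfix, hμ⟩ | hμ
    · let A : AddSubgroup F :=
        { carrier := {c | InR hQ H (e t) (c • w)}
          add_mem' := fun {x y} hx hy => (hx.add hy).of_eq rfl (add_smul x y _).symm
          zero_mem' := (inR_zero (hS.qe t)).of_eq rfl (zero_smul F _).symm
          neg_mem' := fun {x} hx => hx.neg.of_eq rfl (neg_smul x _).symm }
      have hpow : ∀ k : ℕ, ((b ^ k : OQ Q) : V ≃ₗ[F] V) w = w := fun k => by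
        induction k with
        | zero => rfl
        | succ k ih => rw [pow_succ, Subgroup.coe_mul, LinearEquiv.mul_apply, ← hbw, hfix, ih]
      have hfull : FullR hQ H (e t) w := by
        refine fun c => mem_of_closure_eq_top A one_ne_zero (hbase.of_eq rfl (one_smul _ _).symm) (fun x hx => ?_) hμ c
        have h := (show InR hQ H (e t) (x • w) from hx).conj hbm
        rw [pow_m_e hbe, map_smul, hpow] at h
        exact (h.smul_left (hS.qe t) (by rw [polar_smul_right', hin, mul_zero])).of_eq rfl (smul_smul _ _ _)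
      have hfo : FullR hQ H (e o) w := by
        have h := hfull.conj hb
        rw [hbe, hto1, ← hbw, hfix] at h
        exact FullR.of_smul_left (hκ t) (hS.qe o) (hin o) h
      have hf0 : FullR hQ H (e 0) w := by
        have h := hfo.conj hb
        rw [hbe, ho01, ← hbw, hfix] at h
        exact FullR.of_smul_left (hκ o) (hS.qe 0) (hin 0) h
      have hne : polar Q w w ≠ 0 := by rwa [hfix] at hβ₁
      exact ⟨InR.commFull hfo hbase (hS.ee _ _) (hw o).1 (hin t) hne,
        InR.commFull hf0 hbase (hS.ee _ _) (hw 0).1 (hin t) hne⟩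
    · have hgen : ∀ j, (∃ c : F, c ≠ 0 ∧ InR hQ H (e t) (c • e j)) → FullR hQ H (e t) (e j) := by
        rintro j ⟨c, hc0, hc⟩
        let A : AddSubgroup F :=
          { carrier := {c | InR hQ H (e t) (c • e j)}
            add_mem' := fun {x y} hx hy => (hx.add hy).of_eq rfl (add_smul x y _).symm
            zero_mem' := (inR_zero (hS.qe t)).of_eq rfl (zero_smul F _).symm
            neg_mem' := fun {x} hx => hx.neg.of_eq rfl (neg_smul x _).symm }
        refine fun d => mem_of_closure_eq_top A hc0 (show c ∈ A from hc) (fun x hx => ?_) hμ d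
        have h := (show InR hQ H (e t) (x • e j) from hx).conj hbm
        rw [pow_m_e hbe, map_smul, pow_m_e hbe] at h
        exact (h.smul_left (hS.qe t) (by simp only [polar_smul_right', hS.ee, mul_zero])).of_eq rfl
          (by rw [smul_smul, smul_smul]; ring_nf)
      exact ⟨hgen o ⟨_, mul_ne_zero (hκ _) hβ₁, hn1⟩, hgen 0 ⟨_, mul_ne_zero (mul_ne_zero (hκ _) (hκ _)) hβ₂, hn0⟩⟩
  obtain ⟨hto', ht0'⟩ := hplus
  have htof : FullR hQ H (e t) (f o) := by
    have h := ht0'.conj hs
    rwa [hse2, hse] at h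
  have hD := levi_of_adjacent hS hb hκ hbe hbf (o := o) (fun h => h1 (add_eq_left.1 h)) (ht ▸ htof)
  refine commutator_le_of_levi hS hm hn ho0 ht0 hto.symm hD ht0' hs hse hsf
    (S := ({w, bw, (s : V ≃ₗ[F] V) (e o) + f 0 - c₀ • e 0} : Set V)) ?_ ?_ hspan
  · rintro _ (rfl | rfl | rfl)
    exacts [hw, hbwp, hw']
  · rintro _ (rfl | rfl | rfl)
    · exact hbase
    · have hy : polar Q ((κ t)⁻¹ • e t) (κ t • bw) = 0 := by
        rw [polar_smul_left', polar_smul_right', QuadraticMap.polar_comm, (hbwp t).1]; ring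
      have h := InR.transfer (y := (κ t)⁻¹ • e t) (a := f o) hs1
        ((hto'.swap (hS.qe o) (hS.qe t) (hS.ee _ _)).smul _) (by rw [apply_smul, hS.qe, mul_zero]) hy
        ((hD t o hto (κ t)⁻¹).smul_right (hS.qe t) (hS.ef _ _ hto)) (hS.pair o)
        (by rw [polar_smul_left', (hbwp o).2, mul_zero])
      refine (h.smul_left (hS.qe t) ?_).of_eq rfl (inv_smul_smul₀ (hκ t) _)
      rw [polar_smul_right', QuadraticMap.polar_comm, (hbwp t).1, mul_zero]
    · have h := ((hto'.conj hs) 1)
      rw [hse2, one_smul] at h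
      exact ((h.add ((hD t 0 ht0 1).of_eq rfl (one_smul _ _))).sub (ht0' c₀))

end cyclic

end CfsgLib.Classical.ClassTheory.OmegaGen
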