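import Cfsg.Agent.Lib.Classical.Symplectic.MatrixStructure

/-!
# The symplectic group is generated by two elements

One generator is diagonal, the other is a monomial element times two root elements.
-/

set_option autoImplicit false

namespace CfsgLib.Classical.ClassTheory.SpTwoGenerated

open CfsgLib.Classical.Symp

variable {F : Type*} [Field F] {m : ℕ}

/-- The isometry group of the standard form. -/
abbrev G (m : ℕ) (F : Type*) [Field F] := ↥(Sp (F := F) (V := Fin m ⊕ Fin m → F) (sympBil m F))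

/-- `e i`. -/
def e (i : Fin m) : Fin m ⊕ Fin m → F := Pi.single (Sum.inl i) 1

/-- `f i`. -/
def f (i : Fin m) : Fin m ⊕ Fin m → F := Pi.single (Sum.inr i) 1

theorem B_e (x : Fin m ⊕ Fin m → F) (i : Fin m) : sympBil m F x (e i) = x (.inr i) := by
  rw [sympBil_apply, sympForm_expand, Finset.sum_eq_single i]
  · simp [e]
  · intro j _ hj; simp [e, hj]
  · simp

theorem B_f (x : Fin m ⊕ Fin m → F) (i : Fin m) : sympBil m F x (f i) = -x (.inl i) := by
  rw [sympBil_apply, sympForm_expand, Finset.sum_eq_single i]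
  · simp [f]
  · intro j _ hj; simp [f, hj]
  · simp

/-- The short root element `x ↦ x + c (B(x,u) v + B(x,v) u)`. -/
noncomputable def sh (u v : Fin m ⊕ Fin m → F) (c : F) : G m F :=
  tr (sympBil_isAlt m F) (u + v) c * tr (sympBil_isAlt m F) u (-c) * tr (sympBil_isAlt m F) v (-c)

/-- The long root element. -/
noncomputable def lo (v : Fin m ⊕ Fin m → F) (c : F) : G m F := tr (sympBil_isAlt m F) v c

theorem ext_G {g h : G m F} (H : ∀ x, g.1 x = h.1 x) : g = h :=
  Subtype.ext (LinearEquiv.ext H)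

theorem lo_apply (v : Fin m ⊕ Fin m → F) (c : F) (x : Fin m ⊕ Fin m → F) :
    (lo v c).1 x = x + (c * sympBil m F x v) • v := tr_apply _ v c x

theorem sh_apply {u v : Fin m ⊕ Fin m → F} (huv : sympBil m F u v = 0) (c : F) (x : Fin m ⊕ Fin m → F) :
    (sh u v c).1 x =
      x + (c * sympBil m F x u) • v + (c * sympBil m F x v) • u := by
  have hA := sympBil_isAlt m F
  have hvu : sympBil m F v u = 0 := by rw [swap hA u v, huv, neg_zero]
  simp only [sh, Subgroup.coe_mul, LinearEquiv.mul_apply, tr_apply, map_add, LinearMap.map_smul, LinearMap.add_apply,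
    LinearMap.smul_apply, smul_eq_mul, hA u, hA v, huv, hvu, mul_zero, add_zero]
  module

theorem conj_lo (g : G m F) (v : Fin m ⊕ Fin m → F) (c : F) :
    g * lo v c * g⁻¹ = lo ((g).1 v) c := conj_tr _ g v c

theorem conj_sh (g : G m F) (u v : Fin m ⊕ Fin m → F) (c : F) :
    g * sh u v c * g⁻¹ = sh ((g).1 u) ((g).1 v) c := by
  simp only [sh, ← map_add, ← conj_tr]
  group

theorem lo_smul (a : F) (v : Fin m ⊕ Fin m → F) (c : F) : lo (a • v) c = lo v (a ^ 2 * c) := tr_smul_vec _ a v c

theorem lo_mul (v : Fin m ⊕ Fin m → F) (c d : F) : lo v c * lo v d = lo v (c + d) := tr_mul _ v c d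

theorem lo_zero (v : Fin m ⊕ Fin m → F) : lo v (0 : F) = 1 := tr_zero _ v

theorem sh_mul {u v : Fin m ⊕ Fin m → F} (huv : sympBil m F u v = 0) (c d : F) :
    sh u v c * sh u v d = sh u v (c + d) := ext_G fun x => by
  have hA := sympBil_isAlt m F
  have hvu : sympBil m F v u = 0 := by rw [swap hA u v, huv, neg_zero]
  rw [Subgroup.coe_mul, LinearEquiv.mul_apply]
  simp only [sh_apply huv, map_add, LinearMap.map_smul, LinearMap.add_apply,
    LinearMap.smul_apply, smul_eq_mul, hA u, hA v, huv, hvu, mul_zero, add_zero]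
  module

theorem sh_zero {u v : Fin m ⊕ Fin m → F} (huv : sympBil m F u v = 0) : sh u v (0 : F) = 1 :=
  ext_G fun x => by simp [sh_apply huv]

theorem sh_comm {u v : Fin m ⊕ Fin m → F} (huv : sympBil m F u v = 0) (c : F) : sh u v c = sh v u c :=
  ext_G fun x => by
    rw [sh_apply huv, sh_apply (by rw [swap (sympBil_isAlt m F) u v, huv, neg_zero])]
    module

theorem sh_smul_left {u v : Fin m ⊕ Fin m → F} (huv : sympBil m F u v = 0) (a c : F) :
    sh (a • u) v c = sh u v (a * c) := ext_G fun x => by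
  rw [sh_apply huv, sh_apply (by simp [huv])]
  simp only [LinearMap.map_smul, smul_eq_mul]
  module

theorem sh_smul_right {u v : Fin m ⊕ Fin m → F} (huv : sympBil m F u v = 0) (a c : F) :
    sh u (a • v) c = sh u v (a * c) := ext_G fun x => by
  rw [sh_apply huv, sh_apply (by simp [huv])]
  simp only [LinearMap.map_smul, smul_eq_mul]
  module

theorem sh_mul_sh {u v w : Fin m ⊕ Fin m → F} (hv : sympBil m F u v = 0) (hw : sympBil m F u w = 0) (c : F) :
    sh u v c * sh u w c = sh u (v + w) c * lo u (c ^ 2 * sympBil m F w v) := ext_G fun x => by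
  have hA := sympBil_isAlt m F
  have hwu : sympBil m F w u = 0 := by rw [swap hA u w, hw, neg_zero]
  simp only [Subgroup.coe_mul, LinearEquiv.mul_apply, sh_apply hv, sh_apply hw,
    sh_apply (show sympBil m F u (v + w) = 0 by simp [hv, hw]), lo_apply,
    map_add, LinearMap.map_smul, LinearMap.add_apply, LinearMap.smul_apply, smul_eq_mul, hA u, hwu, hv, hw, mul_zero,
    add_zero]
  module

theorem B_ee (i j : Fin m) : sympBil m F (e i) (e j) = 0 := by rw [B_e]; simp [e]

theorem B_ef {i j : Fin m} (h : i ≠ j) : sympBil m F (e i) (f j) = 0 := by rw [B_f]; simp [e, h.symm]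

theorem B_ef_self (i : Fin m) : sympBil m F (e i) (f i) = -1 := by rw [B_f]; simp [e]

theorem B_fe {i j : Fin m} (h : i ≠ j) : sympBil m F (f i) (e j) = 0 := by rw [B_e]; simp [f, h.symm]

theorem B_fe_self (i : Fin m) : sympBil m F (f i) (e i) = 1 := by rw [B_e]; simp [f]

theorem B_ff (i j : Fin m) : sympBil m F (f i) (f j) = 0 := by rw [B_f]; simp [f]

section orbit

variable (H : Subgroup (G m F)) (hA : ∀ i j : Fin m, i ≠ j → ∀ c : F, sh (e i) (f j) c ∈ H)
  (hE : ∀ (i : Fin m) (c : F), lo (e i) c ∈ H) (hF : ∀ (i : Fin m) (c : F), lo (f i) c ∈ H) (i₀ : Fin m)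
include hA hE hF

theorem exists_move {v : Fin m ⊕ Fin m → F} (hv : v ≠ 0) :
    ∃ h ∈ H, ∃ a : F, (h).1 v = a • e i₀ := by
  classical
  -- coordinates of the images
  have sA : ∀ (i j : Fin m), i ≠ j → ∀ (c : F) (x : Fin m ⊕ Fin m → F),
      (sh (e i) (f j) c).1 x = x + (c * x (.inr i)) • f j + (c * -x (.inl j)) • e i :=
    fun i j hij c x => by rw [sh_apply (B_ef hij), B_e, B_f]
  obtain ⟨h₁, hh₁, hx₁⟩ : ∃ h ∈ H, (h).1 v (.inl i₀) ≠ 0 := by
    have key : ∀ w : Fin m ⊕ Fin m → F, ∀ i, w (.inl i) ≠ 0 → ∃ h ∈ H, (h).1 w (.inl i₀) ≠ 0 := by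
      intro w i hi
      by_cases h0 : w (.inl i₀) ≠ 0
      · exact ⟨1, H.one_mem, h0⟩
      push Not at h0
      have hne : i₀ ≠ i := fun h => hi (h ▸ h0)
      exact ⟨_, hA i₀ i hne 1, by rw [sA i₀ i hne]; simp [e, f, h0, hi]⟩
    by_cases hx : ∃ i, v (.inl i) ≠ 0
    · obtain ⟨i, hi⟩ := hx
      exact key v i hi
    push Not at hx
    obtain ⟨i, hi⟩ : ∃ i, v (.inr i) ≠ 0 := by
      by_contra hne
      push Not at hne
      exact hv (funext fun x => x.rec hx hne)
    obtain ⟨h, hh, hh'⟩ := key ((lo (e i) (1 : F)).1 v) i (by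
      rw [lo_apply, B_e]; simp [e, hx i, hi])
    exact ⟨h * lo (e i) 1, H.mul_mem hh (hE i 1), by rw [Subgroup.coe_mul, LinearEquiv.mul_apply]; exact hh'⟩
  set v₁ := (h₁).1 v
  obtain ⟨h₂, hh₂, hx₂, hx₂'⟩ : ∃ h ∈ H, (h).1 v₁ (.inl i₀) ≠ 0 ∧
      ∀ i, i ≠ i₀ → (h).1 v₁ (.inl i) = 0 := by
    suffices ∀ S : Finset (Fin m), i₀ ∉ S → ∃ h ∈ H, (h).1 v₁ (.inl i₀) ≠ 0 ∧
        ∀ i ∈ S, (h).1 v₁ (.inl i) = 0 by
      obtain ⟨h, hh, h1, h2⟩ := this (Finset.univ.erase i₀) (by simp)
      exact ⟨h, hh, h1, fun i hi => h2 i (by simp [hi])⟩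
    intro S
    induction S using Finset.induction_on with
    | empty => exact fun _ => ⟨1, H.one_mem, hx₁, by simp⟩
    | insert j S hjS ih =>
      intro hi
      obtain ⟨h, hh, h1, h2⟩ := ih fun h => hi (Finset.mem_insert_of_mem h)
      have hne : j ≠ i₀ := fun h => hi (h ▸ Finset.mem_insert_self j S)
      generalize hw : (h).1 v₁ = w at h1 h2
      refine ⟨sh (e j) (f i₀) (w (.inl j) / w (.inl i₀)) * h, H.mul_mem (hA j i₀ hne _) hh, ?_, fun i hi' => ?_⟩
      · rw [Subgroup.coe_mul, LinearEquiv.mul_apply, sA j i₀ hne, hw]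
        simpa [e, f, hne.symm] using h1
      · rw [Subgroup.coe_mul, LinearEquiv.mul_apply, sA j i₀ hne, hw]
        rcases Finset.mem_insert.1 hi' with rfl | hiS
        · show (w + _ + _) (Sum.inl i) = 0
          simp [e, f, div_mul_cancel₀ _ h1]
        · have : i ≠ j := fun h => hjS (h ▸ hiS)
          show (w + _ + _) (Sum.inl i) = 0
          simp [e, f, this, h2 i hiS]
  set v₂ := (h₂).1 v₁
  set a := v₂ (.inl i₀)
  -- normalize the partner coordinate and clear the others
  let h₃ := lo (f i₀) ((v₂ (.inr i₀) - 1) / a)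
  set v₃ := (h₃).1 v₂
  have e3 : (∀ i, v₃ (.inl i) = v₂ (.inl i)) ∧ v₃ (.inr i₀) = 1 := by
    refine ⟨fun i => ?_, ?_⟩
    · show ((h₃).1 v₂) _ = _
      rw [lo_apply, B_f]; simp [f]
    · show ((h₃).1 v₂) _ = _
      rw [lo_apply, B_f]
      simp [f]
      rw [div_mul_cancel₀ _ hx₂]
      ring
  obtain ⟨h₄, hh₄, h40, h4x, h4y⟩ : ∃ h ∈ H, (h).1 v₃ (.inr i₀) = 1 ∧
      (∀ i, (h).1 v₃ (.inl i) = v₃ (.inl i)) ∧
      ∀ i, i ≠ i₀ → (h).1 v₃ (.inr i) = 0 := by
    suffices ∀ S : Finset (Fin m), i₀ ∉ S → ∃ h ∈ H, (h).1 v₃ (.inr i₀) = 1 ∧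
        (∀ i, (h).1 v₃ (.inl i) = v₃ (.inl i)) ∧
        ∀ i ∈ S, (h).1 v₃ (.inr i) = 0 by
      obtain ⟨h, hh, g1, g2, g3⟩ := this (Finset.univ.erase i₀) (by simp)
      exact ⟨h, hh, g1, g2, fun i hi => g3 i (by simp [hi])⟩
    intro S
    induction S using Finset.induction_on with
    | empty => exact fun _ => ⟨1, H.one_mem, e3.2, fun _ => rfl, by simp⟩
    | insert j S hjS ih =>
      intro hi
      obtain ⟨h, hh, g1, g2, g3⟩ := ih fun h => hi (Finset.mem_insert_of_mem h)
      have hne : i₀ ≠ j := fun h => hi (h ▸ Finset.mem_insert_self j S)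
      generalize hw : (h).1 v₃ = w at g1 g2 g3
      have hwj : w (.inl j) = 0 := by rw [g2, e3.1]; exact hx₂' j hne.symm
      refine ⟨sh (e i₀) (f j) (-w (.inr j)) * h, H.mul_mem (hA i₀ j hne _) hh, ?_, fun i => ?_, fun i hi' => ?_⟩
      · rw [Subgroup.coe_mul, LinearEquiv.mul_apply, sA i₀ j hne, hw]
        show (w + _ + _) (Sum.inr i₀) = 1
        simp [e, f, hne, g1]
      · rw [Subgroup.coe_mul, LinearEquiv.mul_apply, sA i₀ j hne, hw]
        show (w + _ + _) (Sum.inl i) = _
        simp [e, f, hwj]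
        exact g2 i
      · rw [Subgroup.coe_mul, LinearEquiv.mul_apply, sA i₀ j hne, hw]
        rcases Finset.mem_insert.1 hi' with rfl | hiS
        · show (w + _ + _) (Sum.inr i) = 0
          simp [e, f, g1]
        · have : i ≠ j := fun h => hjS (h ▸ hiS)
          show (w + _ + _) (Sum.inr i) = 0
          simp [e, f, this]
          exact g3 i hiS
  set v₄ := (h₄).1 v₃
  refine ⟨lo (f i₀) (1 / a) * (h₄ * (h₃ * (h₂ * h₁))),
    H.mul_mem (hF _ _) (H.mul_mem hh₄ (H.mul_mem (hF _ _) (H.mul_mem hh₂ hh₁))), a, ?_⟩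
  simp only [Subgroup.coe_mul, LinearEquiv.mul_apply]
  show (lo (f i₀) (1 / a)).1 v₄ = a • e i₀
  rw [lo_apply, B_f]
  funext x
  rcases x with i | i
  · rcases eq_or_ne i i₀ with rfl | hi
    · simp [e, f, h4x, e3.1, a]
    · simp [e, f, hi, h4x, e3.1, hx₂' i hi]
  · rcases eq_or_ne i i₀ with rfl | hi
    · simp [e, f, h4x, e3.1, h40, a]
      rw [inv_mul_cancel₀ hx₂]
      ring
    · simp [e, f, hi, h4y i hi]

/-- The root elements generate. -/
theorem eq_top : H = ⊤ := by
  rw [eq_top_iff, ← trGroup_eq_top (sympBil_isAlt m F) (sympBil_nondegenerate m F), trGroup, Subgroup.closure_le]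
  rintro _ ⟨v, -, c, rfl⟩
  show lo v c ∈ H
  rcases Nat.eq_zero_or_pos m with rfl | hm
  · rw [show lo v c = 1 from ext_G fun x => Subsingleton.elim _ _]
    exact H.one_mem
  rcases eq_or_ne v 0 with rfl | hv
  · rw [show lo (0 : Fin m ⊕ Fin m → F) c = 1 from ext_G fun x => by simp [lo_apply]]
    exact H.one_mem
  obtain ⟨h, hh, a, ha⟩ := exists_move H hA hE hF ⟨0, hm⟩ hv
  have key : lo v c = h⁻¹ * lo (e ⟨0, hm⟩) (a ^ 2 * c) * h := by
    rw [← lo_smul, ← ha, ← conj_lo]
    group
  rw [key]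
  exact H.mul_mem (H.mul_mem (H.inv_mem hh) (hE _ _)) hh

end orbit

/-! ### The monomial and diagonal elements -/

variable [NeZero m]

/-- The signed cycle on coordinates. -/
def wMap : (Fin m ⊕ Fin m → F) →ₗ[F] (Fin m ⊕ Fin m → F) where
  toFun v := Sum.elim (fun i => if i = 0 then -v (.inr (i - 1)) else v (.inl (i - 1)))
    (fun i => if i = 0 then v (.inl (i - 1)) else v (.inr (i - 1)))
  map_add' v w := by
    funext x; rcases x with i | i <;> simp only [Sum.elim_inl, Sum.elim_inr, Pi.add_apply] <;> split_ifs <;> ring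
  map_smul' c v := by
    funext x; rcases x with i | i <;> simp only [Sum.elim_inl, Sum.elim_inr, Pi.smul_apply, smul_eq_mul,
      RingHom.id_apply] <;> split_ifs <;> ring

theorem exists_cycle : ∃ w : G m F, ∀ v, (w).1 v = wMap v := by
  have hiso : ∀ u v : Fin m ⊕ Fin m → F, sympBil m F (wMap u) (wMap v) = sympBil m F u v := by
    intro u v
    rw [sympBil_apply, sympBil_apply, sympForm_expand, sympForm_expand]
    refine Fintype.sum_equiv (Equiv.subRight (1 : Fin m)) _ _ fun i => ?_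
    simp only [wMap, LinearMap.coe_mk, AddHom.coe_mk, Sum.elim_inl, Sum.elim_inr, Equiv.subRight_apply]
    split_ifs <;> ring
  have hinj : Function.Injective (wMap (F := F) (m := m)) := by
    rw [injective_iff_map_eq_zero]
    intro v hv
    refine (sympBil_nondegenerate m F).1 v fun y => ?_
    rw [← hiso, hv]
    simp
  exact ⟨⟨LinearEquiv.ofInjectiveEndo wMap hinj, hiso⟩, fun v => rfl⟩

/-- The cycle. -/
noncomputable def cyc : G m F := exists_cycle.choose

theorem cyc_apply (v : Fin m ⊕ Fin m → F) : (cyc : G m F).1 v = wMap v := exists_cycle.choose_spec v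

theorem succ_eq {i j : Fin m} (h : i.val + 1 = j.val) : j - 1 = i ∧ j ≠ 0 ∧ ∀ k : Fin m, k - 1 = i → k = j := by
  have hj : j = i + 1 := Fin.ext (by
    rw [Fin.val_add, Fin.val_one']
    have := j.2
    rw [Nat.add_mod_mod, Nat.mod_eq_of_lt (by omega)]
    omega)
  refine ⟨by rw [hj, add_sub_cancel_right], fun h0 => ?_, fun k hk => by rw [hj, ← hk, sub_add_cancel]⟩
  rw [h0] at h; simp at h

theorem cyc_e {i j : Fin m} (h : i.val + 1 = j.val) : (cyc : G m F).1 (e i) = e j := by
  obtain ⟨h1, h2, h3⟩ := succ_eq h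
  rw [cyc_apply]
  funext x
  rcases x with k | k <;> simp only [wMap, e, LinearMap.coe_mk, AddHom.coe_mk, Sum.elim_inl, Sum.elim_inr]
  · rcases eq_or_ne k j with rfl | hk
    · simp [h1, h2]
    · have : k - 1 ≠ i := fun e => hk (h3 k e)
      simp [hk, this]
  · split_ifs with hk
    · have : k - 1 ≠ i := fun e => h2 (h3 k e ▸ hk)
      simp [this]
    · simp

theorem cyc_f {i j : Fin m} (h : i.val + 1 = j.val) : (cyc : G m F).1 (f i) = f j := by
  obtain ⟨h1, h2, h3⟩ := succ_eq h
  rw [cyc_apply]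
  funext x
  rcases x with k | k <;> simp only [wMap, f, LinearMap.coe_mk, AddHom.coe_mk, Sum.elim_inl, Sum.elim_inr]
  · split_ifs with hk
    · have : k - 1 ≠ i := fun e => h2 (h3 k e ▸ hk)
      simp [this]
    · simp
  · rcases eq_or_ne k j with rfl | hk
    · simp [h1, h2]
    · have : k - 1 ≠ i := fun e => hk (h3 k e)
      simp [hk, this]

theorem last_eq {l : Fin m} (h : l.val + 1 = m) : (0 : Fin m) - 1 = l ∧ ∀ k : Fin m, k - 1 = l → k = 0 := by
  have hl : l + 1 = 0 := Fin.ext (by rw [Fin.val_add, Fin.val_one', Nat.add_mod_mod, h, Nat.mod_self]; rfl)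
  refine ⟨by rw [← hl, add_sub_cancel_right], fun k hk => ?_⟩
  rw [← hl, ← hk, sub_add_cancel]

theorem cyc_e_last {l : Fin m} (h : l.val + 1 = m) : (cyc : G m F).1 (e l) = f 0 := by
  obtain ⟨h1, h3⟩ := last_eq h
  rw [cyc_apply]
  funext x
  rcases x with k | k <;> simp only [wMap, e, f, LinearMap.coe_mk, AddHom.coe_mk, Sum.elim_inl, Sum.elim_inr]
  · rcases eq_or_ne k 0 with rfl | hk
    · simp
    · have : k - 1 ≠ l := fun e => hk (h3 k e)
      simp [hk, this]
  · rcases eq_or_ne k 0 with rfl | hk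
    · simp [h1]
    · simp [hk]

theorem cyc_f_last {l : Fin m} (h : l.val + 1 = m) : (cyc : G m F).1 (f l) = -e 0 := by
  obtain ⟨h1, h3⟩ := last_eq h
  rw [cyc_apply]
  funext x
  rcases x with k | k <;> simp only [wMap, e, f, LinearMap.coe_mk, AddHom.coe_mk, Sum.elim_inl, Sum.elim_inr, Pi.neg_apply]
  · rcases eq_or_ne k 0 with rfl | hk
    · simp [h1]
    · simp [hk]
  · rcases eq_or_ne k 0 with rfl | hk
    · simp
    · have : k - 1 ≠ l := fun e => hk (h3 k e)
      simp [hk, this]

/-! ### Consequences of containing the cycle and the first root group -/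

section gen

variable (H : Subgroup (G m F)) (hm : 2 ≤ m)
  (hcyc : ∀ (i : Fin m) (c : F), ∀ j : Fin m, i.val + 1 = j.val → sh (e i) (f j) c ∈ H)
include hcyc hm

omit hm in
/-- Composition of two roots of the Levi factor. -/
theorem compose {i j k : Fin m} (hij : i ≠ j) (hjk : j ≠ k) (hik : i ≠ k)
    (h1 : ∀ c : F, sh (e i) (f j) c ∈ H) (h2 : ∀ c : F, sh (e j) (f k) c ∈ H) (c : F) : sh (e i) (f k) c ∈ H := by
  have hg := h1 1
  set g := sh (e i) (f j) (1 : F)
  have ge : (g).1 (e j) = e j + (-1 : F) • e i := by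
    rw [sh_apply (B_ef hij), B_ee, B_ef_self]; simp
  have gf : (g).1 (f k) = f k := by
    rw [sh_apply (B_ef hij), B_fe hik.symm, B_ff]; simp
  have h := H.mul_mem (H.mul_mem hg (h2 (-c))) (H.inv_mem hg)
  rw [conj_sh, ge, gf, sh_comm (by simp [B_ef hjk, B_ef hik]),
    ← mul_inv_eq_of_eq_mul (sh_mul_sh (u := f k) (v := e j) (w := (-1 : F) • e i) (B_fe hjk.symm)
      (by simp [B_fe hik.symm]) (-c))] at h
  have hz : lo (f k) ((-c) ^ 2 * sympBil m F ((-1 : F) • e i) (e j)) = 1 := by simp [B_ee, lo_zero]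
  rw [hz, inv_one, mul_one, sh_smul_right (B_fe hik.symm), neg_mul_neg, one_mul, sh_comm (B_fe hik.symm) c] at h
  have h' := h2 (-c)
  rw [sh_comm (B_ef hjk)] at h'
  exact (Subgroup.mul_mem_cancel_left _ h').1 h

omit hm in
/-- All roots `i < j`. -/
theorem mem_upper {i j : Fin m} (h : i.val < j.val) (c : F) : sh (e i) (f j) c ∈ H := by
  obtain ⟨d, hd⟩ : ∃ d, i.val + (d + 1) = j.val := ⟨j.val - i.val - 1, by omega⟩
  induction d generalizing j c with
  | zero => exact hcyc i c j hd
  | succ d ih =>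
    have hlt : i.val + (d + 1) < m := by have := j.2; omega
    refine compose H hcyc (j := ⟨i.val + (d + 1), hlt⟩) (fun e => ?_) (fun e => ?_) (fun e => ?_)
      (fun c' => ih (by simp only; omega) c' (by simp only)) (fun c' => hcyc _ c' j (by simp only; omega)) c
    · have := congrArg Fin.val e; simp only at this; omega
    · have := congrArg Fin.val e; simp only at this; omega
    · have := congrArg Fin.val e; omega

/-- All the roots `e i + e 0`. -/
theorem mem_sum (hw : ∀ (i j : Fin m) (c : F), i.val + 2 = m → j.val + 1 = m → sh (e j) (e 0) c ∈ H)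
    {i : Fin m} (hi : i ≠ 0) (c : F) : sh (e i) (e 0) c ∈ H := by
  let l : Fin m := ⟨m - 1, by omega⟩
  let p : Fin m := ⟨m - 2, by omega⟩
  have hl := hw p l c (by simp only [p]; omega) (by simp only [l]; omega)
  rcases eq_or_ne i l with rfl | hil
  · exact hl
  have hlt : i.val < l.val := by
    have := i.2
    have h' : i.val ≠ l.val := fun e => hil (Fin.ext e)
    simp only [l] at h' ⊢
    omega
  have h0l : l ≠ 0 := fun e => by
    have := congrArg Fin.val e
    simp [l] at this; omega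
  have hg := mem_upper H hcyc hlt (-1)
  set g := sh (e i) (f l) (-1 : F)
  have ge : (g).1 (e l) = e l + e i := by
    rw [sh_apply (B_ef hil), B_ee, B_ef_self]; simp
  have g0 : (g).1 (e 0) = e 0 := by
    rw [sh_apply (B_ef hil), B_ee, B_ef (Ne.symm h0l)]; simp
  have h := H.mul_mem (H.mul_mem hg hl) (H.inv_mem hg)
  rw [conj_sh, ge, g0, sh_comm (by simp [B_ee]),
    ← mul_inv_eq_of_eq_mul (sh_mul_sh (u := e 0) (v := e l) (w := e i) (B_ee _ _) (B_ee _ _) c)] at h
  have hz : lo (e (0 : Fin m)) (c ^ 2 * sympBil m F (e i) (e l)) = 1 := by simp [B_ee, lo_zero]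
  rw [hz, inv_one, mul_one, sh_comm (B_ee 0 i) c] at h
  rw [sh_comm (B_ee l 0) c] at hl
  exact (Subgroup.mul_mem_cancel_left _ hl).1 h

omit hm in
theorem shift {x : G m F} (hx : x ∈ H) {i j k l : Fin m} (hij : i.val + 1 = j.val) (hkl : k.val + 1 = l.val)
    (hfix : x.1 (e j) = e j ∧ x.1 (f l) = f l) (hxw : x * cyc ∈ H) {c : F} (h : sh (e i) (f k) c ∈ H) :
    sh (e j) (f l) c ∈ H := by
  have h' := H.mul_mem (H.mul_mem hxw h) (H.inv_mem hxw)
  rw [conj_sh, Subgroup.coe_mul, LinearEquiv.mul_apply, LinearEquiv.mul_apply, cyc_e hij, cyc_f hkl, hfix.1, hfix.2] at h'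
  exact h'

/-- A subgroup containing the cycle, the first root groups and the first long root group is everything. -/
theorem eq_top_of_cycle (hw : (cyc : G m F) ∈ H) (hlong : ∀ c : F, lo (e 0) c ∈ H) : H = ⊤ := by
  have hconj : ∀ (u v : Fin m ⊕ Fin m → F) (c : F), sh u v c ∈ H →
      sh ((cyc : G m F).1 u) ((cyc : G m F).1 v) c ∈ H := fun u v c h => by
    rw [← conj_sh]; exact H.mul_mem (H.mul_mem hw h) (H.inv_mem hw)
  have hE : ∀ (i : Fin m) (c : F), lo (e i) c ∈ H := by
    intro i c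
    obtain ⟨d, hd⟩ : ∃ d, d = i.val := ⟨_, rfl⟩
    induction d generalizing i c with
    | zero => rw [show i = 0 from Fin.ext (by simp [← hd])]; exact hlong c
    | succ d ih =>
      have := H.mul_mem (H.mul_mem hw (ih ⟨d, by have := i.2; omega⟩ c rfl)) (H.inv_mem hw)
      rwa [conj_lo, cyc_e (i := ⟨d, by have := i.2; omega⟩) (j := i) hd] at this
  have hF : ∀ (i : Fin m) (c : F), lo (f i) c ∈ H := by
    intro i c
    obtain ⟨d, hd⟩ : ∃ d, d = i.val := ⟨_, rfl⟩
    induction d generalizing i c with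
    | zero =>
      have := H.mul_mem (H.mul_mem hw (hE ⟨m - 1, by omega⟩ c)) (H.inv_mem hw)
      rwa [conj_lo, cyc_e_last (by simp only; omega), ← show i = 0 from Fin.ext (by simp [← hd])] at this
    | succ d ih =>
      have := H.mul_mem (H.mul_mem hw (ih ⟨d, by have := i.2; omega⟩ c rfl)) (H.inv_mem hw)
      rwa [conj_lo, cyc_f (i := ⟨d, by have := i.2; omega⟩) (j := i) hd] at this
  -- the downward roots
  let z : Fin m := 0
  let o : Fin m := ⟨1, by omega⟩
  let l : Fin m := ⟨m - 1, by omega⟩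
  let p : Fin m := ⟨m - 2, by omega⟩
  have hdown : ∀ (i j : Fin m) (c : F), i.val + 1 = j.val → sh (e j) (f i) c ∈ H := by
    intro i
    obtain ⟨d, hd⟩ : ∃ d, d = i.val := ⟨_, rfl⟩
    induction d generalizing i with
    | zero =>
      intro j c hij
      have hi : i = 0 := Fin.ext (by simp [← hd])
      have hj : z.val + 1 = j.val := by simp only [z, Fin.val_zero]; omega
      have h1 := hconj _ _ _ (hcyc p (-c) l (by simp only [p, l]; omega))
      rw [cyc_e (i := p) (j := l) (by simp only [p, l]; omega), cyc_f_last (by simp only [l]; omega),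
        ← neg_one_smul F (e (0 : Fin m)), sh_smul_right (B_ee _ _), neg_mul_neg, one_mul] at h1
      have h2 := hconj _ _ _ h1
      rw [cyc_e_last (by simp only [l]; omega), cyc_e (i := z) (j := j) hj,
        sh_comm (B_fe (fun e => by rw [← e] at hj; simp [z] at hj))] at h2
      rw [hi]
      exact h2
    | succ d ih =>
      intro j c hij
      have h1 := hconj _ _ _ (ih ⟨d, by have := i.2; omega⟩ rfl ⟨d + 1, by have := i.2; omega⟩ c rfl)
      rwa [cyc_e (i := ⟨d + 1, by have := i.2; omega⟩) (j := j) (by simp only; omega),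
        cyc_f (i := ⟨d, by have := i.2; omega⟩) (j := i) hd] at h1
  refine eq_top H (fun i j hij c => ?_) hE hF
  rcases Nat.lt_or_ge i.val j.val with h | h
  · exact mem_upper H hcyc h c
  obtain ⟨d, hd⟩ : ∃ d, j.val + (d + 1) = i.val := ⟨i.val - j.val - 1, by
    have : i.val ≠ j.val := fun e => hij (Fin.ext e)
    omega⟩
  clear h hij
  induction d generalizing i c with
  | zero => exact hdown j i c hd
  | succ d ih =>
    have hlt : j.val + (d + 1) < m := by have := i.2; omega
    refine compose H hcyc (j := ⟨j.val + (d + 1), hlt⟩) (fun e => ?_) (fun e => ?_) (fun e => ?_)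
      (fun c' => hdown _ i c' (by simp only; omega)) (fun c' => ih _ c' rfl) c
    · have := congrArg Fin.val e; simp only at this; omega
    · have := congrArg Fin.val e; simp only at this; omega
    · have := congrArg Fin.val e; omega

end gen

/-! ### Diagonal elements -/

/-- Scaling of the `i`-th hyperbolic pair. -/
def torMap (i : Fin m) (ξ : Fˣ) : (Fin m ⊕ Fin m → F) ≃ₗ[F] (Fin m ⊕ Fin m → F) :=
  LinearEquiv.piCongrRight fun x => LinearEquiv.smulOfUnit
    (Sum.elim (fun k => if k = i then ξ else 1) (fun k => if k = i then ξ⁻¹ else 1) x)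

theorem torMap_apply (i : Fin m) (ξ : Fˣ) (v : Fin m ⊕ Fin m → F) (x : Fin m ⊕ Fin m) :
    torMap i ξ v x = ((Sum.elim (fun k => if k = i then ξ else 1) (fun k => if k = i then ξ⁻¹ else 1) x : Fˣ) : F) * v x :=
  rfl

/-- The diagonal element. -/
noncomputable def tor (i : Fin m) (ξ : Fˣ) : G m F :=
  ⟨torMap i ξ, fun u v => by
    show sympBil m F (torMap i ξ u) (torMap i ξ v) = sympBil m F u v
    rw [sympBil_apply, sympBil_apply, sympForm_expand, sympForm_expand]
    refine Finset.sum_congr rfl fun k _ => ?_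
    simp only [torMap_apply, Sum.elim_inl, Sum.elim_inr]
    by_cases hk : k = i
    · simp only [if_pos hk, Units.val_inv_eq_inv_val]
      field_simp
    · simp [hk]⟩

theorem tor_e (i k : Fin m) (ξ : Fˣ) :
    (tor i ξ).1 (e k) = (if k = i then (ξ : F) else 1) • (e k : Fin m ⊕ Fin m → F) := by
  funext x
  show torMap i ξ (e k) x = _
  simp only [torMap_apply, e, Pi.smul_apply,
    Units.smul_def, smul_eq_mul]
  rcases eq_or_ne x (Sum.inl k) with rfl | hx
  · by_cases hk : k = i <;> simp [hk]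
  · simp [hx]

theorem tor_f (i k : Fin m) (ξ : Fˣ) :
    (tor i ξ).1 (f k) = (if k = i then ((ξ : F))⁻¹ else 1) • (f k : Fin m ⊕ Fin m → F) := by
  funext x
  show torMap i ξ (f k) x = _
  simp only [torMap_apply, f, Pi.smul_apply,
    Units.smul_def, smul_eq_mul]
  rcases eq_or_ne x (Sum.inr k) with rfl | hx
  · by_cases hk : k = i <;> simp [hk]
  · simp [hx]

theorem cyc_conj_tor {i j : Fin m} (h : i.val + 1 = j.val) (ξ : Fˣ) : cyc * tor i ξ * cyc⁻¹ = tor j ξ := by
  obtain ⟨h1, h2, h3⟩ := succ_eq h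
  rw [mul_inv_eq_iff_eq_mul]
  refine ext_G fun v => ?_
  rw [Subgroup.coe_mul, Subgroup.coe_mul, LinearEquiv.mul_apply, LinearEquiv.mul_apply, cyc_apply, cyc_apply]
  funext x
  show wMap (torMap i ξ v) x = torMap j ξ (wMap v) x
  rcases x with k | k
  all_goals
    simp only [wMap, torMap_apply, LinearMap.coe_mk, AddHom.coe_mk, Sum.elim_inl, Sum.elim_inr]
    by_cases hk : k = j
    · subst hk; simp [h1, h2]
    · have hk' : k - 1 ≠ i := fun e => hk (h3 k e)
      by_cases hk0 : k = 0
      · subst hk0; simp [hk, show (-1 : Fin m) ≠ i by simpa using hk']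
      · simp [hk, hk', hk0]

theorem cyc_conj_tor_last {l : Fin m} (h : l.val + 1 = m) (ξ : Fˣ) : cyc * tor l ξ * cyc⁻¹ = tor 0 ξ⁻¹ := by
  obtain ⟨h1, h3⟩ := last_eq h
  rw [mul_inv_eq_iff_eq_mul]
  refine ext_G fun v => ?_
  rw [Subgroup.coe_mul, Subgroup.coe_mul, LinearEquiv.mul_apply, LinearEquiv.mul_apply, cyc_apply, cyc_apply]
  funext x
  show wMap (torMap l ξ v) x = torMap 0 ξ⁻¹ (wMap v) x
  rcases x with k | k
  all_goals
    simp only [wMap, torMap_apply, LinearMap.coe_mk, AddHom.coe_mk, Sum.elim_inl, Sum.elim_inr]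
    by_cases hk : k = 0
    · subst hk; simp [h1]
    · have hk' : k - 1 ≠ l := fun e => hk (h3 k e)
      simp [hk, hk']

theorem forall_of_generator [Finite F] {S : F → Prop} (ξ : Fˣ) (hgen : ∀ u : Fˣ, u ∈ Subgroup.zpowers ξ)
    (h0 : S 0) (hmul : ∀ c, S c → S ((ξ : F) * c)) {d : F} (hd0 : d ≠ 0) (hd : S d) (x : F) : S x := by
  rcases eq_or_ne x 0 with rfl | hx
  · exact h0
  obtain ⟨k, hk⟩ := (mem_powers_iff_mem_zpowers (x := ξ)).2 (hgen (Units.mk0 (x / d) (div_ne_zero hx hd0)))
  have key : ∀ k : ℕ, S ((ξ : F) ^ k * d) := fun k => by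
    induction k with
    | zero => simpa using hd
    | succ k ih => rw [pow_succ', mul_assoc]; exact hmul _ ih
  have e' : (ξ : F) ^ k = x / d := by
    have := congrArg Units.val hk
    simpa using this
  have := key k
  rwa [e', div_mul_cancel₀ _ hd0] at this

/-- Two generators over a field with more than two elements. -/
theorem exists_pair_of_three [Fintype F] (hm : 2 ≤ m) (hq : 3 ≤ Fintype.card F) :
    ∃ a b : G m F, Subgroup.closure ({a, b} : Set (G m F)) = ⊤ := by
  classical
  obtain ⟨ξ, hgen⟩ := IsCyclic.exists_generator (α := Fˣ)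
  let z : Fin m := 0
  let o : Fin m := ⟨1, by omega⟩
  have hzo : z ≠ o := fun h => by
    have := congrArg Fin.val h
    simp [z, o] at this
  have hzo1 : z.val + 1 = o.val := by simp [z, o]
  have hξ : (ξ : F) ≠ 1 := fun h => by
    have h1 : ∀ u : Fˣ, u = 1 := fun u => by
      obtain ⟨k, hk⟩ := hgen u
      rw [← hk, show ξ = 1 from Units.ext h]
      simp
    have h2 : Fintype.card Fˣ = 1 := Fintype.card_eq_one_iff.2 ⟨1, h1⟩
    rw [Fintype.card_units] at h2
    omega
  let t : G m F := sh (e z) (f o) 1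
  let L : G m F := lo (e z) 1
  refine ⟨tor z ξ, t * L * cyc, ?_⟩
  set H := Subgroup.closure ({tor z ξ, t * L * cyc} : Set (G m F))
  have ha : tor z ξ ∈ H := Subgroup.subset_closure (by simp)
  have hb : t * L * cyc ∈ H := Subgroup.subset_closure (by simp)
  -- a conjugate
  have hfix : ∀ j : Fin m, j ≠ z → L * tor j ξ * L⁻¹ = tor j ξ := fun j hj => by
    have h := conj_lo (tor j ξ) (e z) 1
    rw [tor_e, if_neg (Ne.symm hj), one_smul, mul_inv_eq_iff_eq_mul] at h
    rw [mul_inv_eq_iff_eq_mul]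
    exact h.symm
  have hc1 : sh (e z) (f o) (1 - (ξ : F)⁻¹) * tor o ξ ∈ H := by
    have h := H.mul_mem (H.mul_mem hb ha) (H.inv_mem hb)
    have e1 : t * L * cyc * tor z ξ * (t * L * cyc)⁻¹ = sh (e z) (f o) (1 - (ξ : F)⁻¹) * tor o ξ := by
      calc t * L * cyc * tor z ξ * (t * L * cyc)⁻¹ = t * (L * (cyc * tor z ξ * cyc⁻¹) * L⁻¹) * t⁻¹ := by group
        _ = t * (tor o ξ * sh (e z) (f o) (-1) * (tor o ξ)⁻¹) * tor o ξ := by
            rw [cyc_conj_tor hzo1, hfix o hzo.symm, show t⁻¹ = sh (e z) (f o) (-1) from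
              inv_eq_of_mul_eq_one_right (by rw [sh_mul (B_ef hzo), add_neg_cancel, sh_zero (B_ef hzo)])]
            group
        _ = _ := by
            rw [conj_sh, tor_e, tor_f, if_neg hzo, if_pos rfl, one_smul, sh_smul_right (B_ef hzo), sh_mul (B_ef hzo)]
            congr 2
            ring
    rwa [e1] at h
  have hcomm : ∀ j : Fin m, tor z ξ * tor j ξ * (tor z ξ)⁻¹ = tor j ξ := fun j => by
    rw [mul_inv_eq_iff_eq_mul]
    refine ext_G fun v => funext fun x => ?_
    show torMap z ξ (torMap j ξ v) x = torMap j ξ (torMap z ξ v) x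
    simp only [torMap_apply, Units.smul_def, smul_smul,
      smul_eq_mul]
    ring
  have hscale : ∀ c, tor z ξ * sh (e z) (f o) c * (tor z ξ)⁻¹ = sh (e z) (f o) ((ξ : F) * c) := fun c => by
    rw [conj_sh, tor_e, tor_f, if_pos rfl, if_neg hzo.symm, one_smul, sh_smul_left (B_ef hzo)]
  have hd : sh (e z) (f o) (((ξ : F) - 1) * (1 - (ξ : F)⁻¹)) ∈ H := by
    have h := H.mul_mem (H.mul_mem (H.mul_mem ha hc1) (H.inv_mem ha)) (H.inv_mem hc1)
    have e2 : tor z ξ * (sh (e z) (f o) (1 - (ξ : F)⁻¹) * tor o ξ) * (tor z ξ)⁻¹ *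
        (sh (e z) (f o) (1 - (ξ : F)⁻¹) * tor o ξ)⁻¹ = sh (e z) (f o) (((ξ : F) - 1) * (1 - (ξ : F)⁻¹)) := by
      calc _ = (tor z ξ * sh (e z) (f o) (1 - (ξ : F)⁻¹) * (tor z ξ)⁻¹) * (tor z ξ * tor o ξ * (tor z ξ)⁻¹) *
            (tor o ξ)⁻¹ * (sh (e z) (f o) (1 - (ξ : F)⁻¹))⁻¹ := by group
        _ = _ := by
            rw [hcomm, hscale, mul_inv_cancel_right,
              inv_eq_of_mul_eq_one_right (b := sh (e z) (f o) (-(1 - (ξ : F)⁻¹)))
                (by rw [sh_mul (B_ef hzo), add_neg_cancel, sh_zero (B_ef hzo)]), sh_mul (B_ef hzo)]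
            congr 1
            ring
    rwa [e2] at h
  have hA0 : ∀ c, sh (e z) (f o) c ∈ H := fun c => by
    refine forall_of_generator (S := fun c => sh (e z) (f o) c ∈ H) ξ hgen (by rw [sh_zero (B_ef hzo)]; exact H.one_mem)
      (fun c hc => by rw [← hscale]; exact H.mul_mem (H.mul_mem ha hc) (H.inv_mem ha))
      (mul_ne_zero (sub_ne_zero.2 hξ) (sub_ne_zero.2 fun h => hξ ?_)) hd c
    rw [← inv_inv (ξ : F), ← h, inv_one]
  have hLw : L * cyc ∈ H := by
    have := H.mul_mem (H.inv_mem (hA0 1)) hb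
    rwa [show (sh (e z) (f o) 1)⁻¹ * (t * L * cyc) = L * cyc by simp only [t]; group] at this
  have hLfix : ∀ j : Fin m, L.1 (e j) = e j ∧ (j ≠ z → L.1 (f j) = f j) := fun j => by
    refine ⟨?_, fun hj => ?_⟩
    · rw [lo_apply, B_ee]; simp
    · rw [lo_apply, B_fe hj]; simp
  have hcyc : ∀ (i : Fin m) (c : F), ∀ j : Fin m, i.val + 1 = j.val → sh (e i) (f j) c ∈ H := by
    intro i
    obtain ⟨d, hd'⟩ : ∃ d, d = i.val := ⟨_, rfl⟩
    induction d generalizing i with
    | zero =>
      intro c j hij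
      rw [show i = z from Fin.ext (by simp [z, ← hd']), show j = o from Fin.ext (by simp only [o]; omega)]
      exact hA0 c
    | succ d ih =>
      intro c j hij
      have h' := H.mul_mem (H.mul_mem hLw (ih ⟨d, by have := i.2; omega⟩ rfl c ⟨d + 1, by have := i.2; omega⟩ rfl))
        (H.inv_mem hLw)
      rw [conj_sh, Subgroup.coe_mul, LinearEquiv.mul_apply, LinearEquiv.mul_apply,
        cyc_e (i := ⟨d, by have := i.2; omega⟩) (j := i) hd',
        cyc_f (i := ⟨d + 1, by have := i.2; omega⟩) (j := j) (by simp only; omega),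
        (hLfix i).1, (hLfix j).2 (fun h => by rw [h] at hij; simp [z] at hij)] at h'
      exact h'
  let l : Fin m := ⟨m - 1, by omega⟩
  let p : Fin m := ⟨m - 2, by omega⟩
  have hlong : ∀ c : F, lo (e z) c ∈ H := by
    by_cases h2 : (2 : F) = 0
    · -- even characteristic
      have h1 : tor o ξ ∈ H := by
        have := H.mul_mem (H.inv_mem (hA0 (1 - (ξ : F)⁻¹))) hc1
        rwa [inv_mul_cancel_left] at this
      have hstep : ∀ i j : Fin m, i.val + 1 = j.val → tor i ξ ∈ H → tor j ξ ∈ H := fun i j hij h => by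
        have h' := H.mul_mem (H.mul_mem hLw h) (H.inv_mem hLw)
        rwa [show L * cyc * tor i ξ * (L * cyc)⁻¹ = L * (cyc * tor i ξ * cyc⁻¹) * L⁻¹ by group, cyc_conj_tor hij,
          hfix j (fun h => by rw [h] at hij; simp [z] at hij)] at h'
      have hall : ∀ d (hd : d < m), tor (⟨d, hd⟩ : Fin m) ξ ∈ H := by
        intro d
        induction d with
        | zero => intro hd'; exact ha
        | succ d ih => intro hd'; exact hstep ⟨d, by omega⟩ _ rfl (ih (by omega))
      have h' := H.mul_mem (H.mul_mem hLw (hall (m - 1) (by omega))) (H.inv_mem hLw)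
      rw [show L * cyc * tor l ξ * (L * cyc)⁻¹ = L * (cyc * tor l ξ * cyc⁻¹) * L⁻¹ by group,
        cyc_conj_tor_last (by simp only [l]; omega)] at h'
      have e3 : L * tor 0 ξ⁻¹ * L⁻¹ = lo (e z) (1 - ((ξ : F)⁻¹) ^ 2) * tor 0 ξ⁻¹ := by
        calc L * tor 0 ξ⁻¹ * L⁻¹ = L * (tor 0 ξ⁻¹ * lo (e z) (-1) * (tor 0 ξ⁻¹)⁻¹) * tor 0 ξ⁻¹ := by
              rw [show L⁻¹ = lo (e z) (-1) from
                inv_eq_of_mul_eq_one_right (by rw [lo_mul, add_neg_cancel, lo_zero])]
              group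
          _ = _ := by
              rw [conj_lo, tor_e, if_pos rfl, lo_smul, lo_mul]
              congr 2
              rw [Units.val_inv_eq_inv_val]; ring
      rw [e3] at h'
      have hti : tor 0 ξ⁻¹ = (tor z ξ)⁻¹ := by
        refine eq_inv_of_mul_eq_one_left (ext_G fun v => funext fun x => ?_)
        show torMap 0 ξ⁻¹ (torMap z ξ v) x = v x
        simp only [torMap_apply, Units.smul_def, smul_eq_mul]
        rcases x with k | k <;> by_cases hk : k = 0 <;> simp [z, hk]
      have hd2 := H.mul_mem h' ha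
      rw [hti, inv_mul_cancel_right] at hd2
      have hsq : ∀ c, lo (e z) c ∈ H → lo (e z) (((ξ ^ 2 : Fˣ) : F) * c) ∈ H := fun c hc => by
        have := H.mul_mem (H.mul_mem ha hc) (H.inv_mem ha)
        rwa [conj_lo, tor_e, if_pos rfl, lo_smul, ← Units.val_pow_eq_pow_val] at this
      have hgen2 : ∀ u : Fˣ, u ∈ Subgroup.zpowers (ξ ^ 2) := by
        have : CharP F 2 := CharTwo.of_one_ne_zero_of_two_eq_zero one_ne_zero h2
        have hinj : Function.Injective fun u : Fˣ => u ^ 2 := fun u v huv => by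
          have h1 := congrArg Units.val huv
          simp only [Units.val_pow_eq_pow_val] at h1
          exact Units.ext (frobenius_inj F 2 h1)
        intro u
        obtain ⟨w, hw⟩ := (Finite.injective_iff_surjective.1 hinj) u
        obtain ⟨k, hk⟩ := hgen w
        exact ⟨k, by
          show (ξ ^ 2) ^ k = u
          simp only at hw hk
          rw [← hw, ← hk, ← zpow_natCast, ← zpow_natCast, ← zpow_mul, ← zpow_mul, mul_comm]⟩
      intro c
      refine forall_of_generator (S := fun c => lo (e z) c ∈ H) (ξ ^ 2) hgen2 (by rw [lo_zero]; exact H.one_mem) hsq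
        (sub_ne_zero.2 fun h => hξ ?_) hd2 c
      have : CharP F 2 := CharTwo.of_one_ne_zero_of_two_eq_zero one_ne_zero h2
      have h1 : ((ξ : F)⁻¹) ^ 2 = 1 ^ 2 := by rw [one_pow, ← h]
      rw [← inv_inv (ξ : F), frobenius_inj F 2 h1, inv_one]
    · -- odd characteristic
      intro c
      have hC : sh (e l) (e z) 1 ∈ H := by
        have h' := H.mul_mem (H.mul_mem hLw (hcyc p (-1) l (by simp only [p, l]; omega))) (H.inv_mem hLw)
        rw [conj_sh, Subgroup.coe_mul, LinearEquiv.mul_apply, LinearEquiv.mul_apply,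
          cyc_e (i := p) (j := l) (by simp only [p, l]; omega), cyc_f_last (by simp only [l]; omega),
          ← neg_one_smul F (e (0 : Fin m)), LinearEquiv.map_smul, (hLfix l).1, (hLfix 0).1,
          sh_smul_right (B_ee _ _), neg_mul_neg, one_mul] at h'
        exact h'
      have hzl : z ≠ l := fun h => by
        have := congrArg Fin.val h
        simp [z, l] at this
        omega
      have hA1 : ∀ d, sh (e z) (f l) d ∈ H := fun d => mem_upper H hcyc (by simp [z, l]; omega) d
      set s := -c / 2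
      have hv : sympBil m F (e z) (s • f l) = 0 := by simp [B_ef hzl]
      have h1 : sh (e z) (s • f l) 1 ∈ H := by rw [sh_smul_right (B_ef hzl)]; exact hA1 _
      have h2' : sh (e z) (e l) 1 ∈ H := by rw [sh_comm (B_ee _ _)]; exact hC
      have h3 := H.mul_mem (H.mul_mem h1 h2') (H.inv_mem (H.mul_mem h2' h1))
      rw [sh_mul_sh hv (B_ee _ _), sh_mul_sh (B_ee _ _) hv, add_comm (e l) (s • f l)] at h3
      have h4 : sh (e z) (s • f l + e l) 1 * lo (e z) (1 ^ 2 * sympBil m F (e l) (s • f l)) *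
          (sh (e z) (s • f l + e l) 1 * lo (e z) (1 ^ 2 * sympBil m F (s • f l) (e l)))⁻¹ =
          sh (e z) (s • f l + e l) 1 * lo (e z) c * (sh (e z) (s • f l + e l) 1)⁻¹ := by
        have e4 : lo (e z) (1 ^ 2 * sympBil m F (e l) (s • f l)) *
            (lo (e z) (1 ^ 2 * sympBil m F (s • f l) (e l)))⁻¹ = lo (e z) c := by
          rw [mul_inv_eq_iff_eq_mul, lo_mul]
          congr 1
          simp [B_ef_self, B_fe_self, s]
          field_simp
          ring
        rw [← e4]; group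
      rw [h4, conj_lo] at h3
      rwa [sh_apply (show sympBil m F (e z) (s • f l + e l) = 0 by simp [B_ef hzl, B_ee]),
        (sympBil_isAlt m F) (e z), show sympBil m F (e z) (s • f l + e l) = 0 by simp [B_ef hzl, B_ee],
        mul_zero, zero_smul, zero_smul, add_zero, add_zero] at h3
  refine eq_top_of_cycle H hm hcyc ?_ hlong
  have := H.mul_mem (H.inv_mem (hlong 1)) hLw
  rwa [inv_mul_cancel_left] at this

/-- Two generators over the field with two elements. -/
theorem exists_pair_of_two [Fintype F] (hm : 3 ≤ m) (hq : Fintype.card F = 2) :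
    ∃ a b : G m F, Subgroup.closure ({a, b} : Set (G m F)) = ⊤ := by
  classical
  have htwo : (2 : F) = 0 := by
    have := Nat.cast_card_eq_zero F
    rw [hq] at this; exact_mod_cast this
  have hc01 : ∀ c : F, c = 0 ∨ c = 1 := fun c => by
    by_contra h
    push Not at h
    have h1 : ({0, 1, c} : Finset F).card = 3 :=
      Finset.card_eq_three.2 ⟨0, 1, c, zero_ne_one, h.1.symm, h.2.symm, rfl⟩
    have h2 := Finset.card_le_univ ({0, 1, c} : Finset F)
    omega
  let z : Fin m := 0
  let o : Fin m := ⟨1, by omega⟩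
  let r : Fin m := ⟨2, by omega⟩
  have hzo : z ≠ o := fun h => by have := congrArg Fin.val h; simp [z, o] at this
  have hzr : z ≠ r := fun h => by have := congrArg Fin.val h; simp [z, r] at this
  have hor : o ≠ r := fun h => by have := congrArg Fin.val h; simp [o, r] at this
  let t : G m F := sh (e z) (f o) 1
  -- an element of order three in the third plane
  let s : G m F := lo (e r) 1 * lo (f r) 1
  have hsx : ∀ x : Fin m ⊕ Fin m → F, s.1 x = x + (x (.inr r) + x (.inl r)) • e r + x (.inl r) • f r := fun x => by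
    show (lo (e r) (1 : F)).1 ((lo (f r) (1 : F)).1 x) = _
    rw [lo_apply, lo_apply, B_f, B_e]
    simp [f]
    have hneg : ∀ a : F, -a = a := fun a => by linear_combination -a * htwo
    have hneg' : ∀ v : Fin m ⊕ Fin m → F, -v = v := fun v => funext fun k => hneg _
    simp only [hneg, hneg', neg_smul]
    module
  have hs : ∀ k, k ≠ r → s.1 (e k) = e k ∧ s.1 (f k) = f k := fun k hk => by
    refine ⟨?_, ?_⟩ <;> rw [hsx] <;> simp [e, f, hk.symm]
  have hsf : s.1 (f r) = e r + f r := by rw [hsx]; simp [e, f]; abel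
  have hse : s.1 (e r) = f r := by
    rw [hsx]; simp [e, f]
    funext x
    simp
    linear_combination (Pi.single (Sum.inl r) (1 : F) : Fin m ⊕ Fin m → F) x * htwo
  have hco : ∀ x, (s.1 x) (.inl r) = x (.inr r) ∧ (s.1 x) (.inr r) = x (.inr r) + x (.inl r) := fun x => by
    refine ⟨?_, ?_⟩ <;> rw [hsx] <;> simp [e, f]
    linear_combination x (.inl r) * htwo
  have hs3 : s * s * s = 1 := ext_G fun x => by
    show s.1 (s.1 (s.1 x)) = x
    rw [hsx (s.1 (s.1 x))]
    simp only [fun y => (hco y).1, fun y => (hco y).2]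
    rw [hsx (s.1 x)]
    simp only [fun y => (hco y).1, fun y => (hco y).2]
    rw [hsx x]
    funext k
    simp only [Pi.add_apply, Pi.smul_apply, smul_eq_mul]
    linear_combination ((3 * x (.inr r) + 2 * x (.inl r)) * (e r : Fin m ⊕ Fin m → F) k +
      (x (.inr r) + x (.inl r)) * (f r : Fin m ⊕ Fin m → F) k) * htwo
  refine ⟨t * s, cyc, ?_⟩
  set H := Subgroup.closure ({t * s, cyc} : Set (G m F))
  have ha : t * s ∈ H := Subgroup.subset_closure (by simp)
  have hw : cyc ∈ H := Subgroup.subset_closure (by simp)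
  have hts : t * s = s * t := by
    have h := conj_sh s (e z) (f o) 1
    rw [(hs z hzr).1, (hs o hor).2, mul_inv_eq_iff_eq_mul] at h
    exact h.symm
  have htt : t * t = 1 := by
    rw [sh_mul (B_ef hzo), ← two_mul, mul_one, htwo, sh_zero (B_ef hzo)]
  have ht : t ∈ H := by
    have := H.mul_mem (H.mul_mem ha ha) ha
    have hc : Commute t s := hts
    rw [show t * s * (t * s) * (t * s) = (t * s) ^ 3 by rw [pow_succ, pow_two], hc.mul_pow,
      show s ^ 3 = 1 by rw [pow_succ, pow_two]; exact hs3, mul_one, show t ^ 3 = t * t * t by rw [pow_succ, pow_two], htt, one_mul] at this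
    exact this
  have hsH : s ∈ H := by
    have := H.mul_mem (H.inv_mem ht) ha
    rwa [inv_mul_cancel_left] at this
  have hA0 : ∀ c : F, sh (e z) (f o) c ∈ H := fun c => by
    rcases hc01 c with rfl | rfl
    · rw [sh_zero (B_ef hzo)]; exact H.one_mem
    · exact ht
  have hcyc : ∀ (i : Fin m) (c : F), ∀ j : Fin m, i.val + 1 = j.val → sh (e i) (f j) c ∈ H := by
    intro i
    obtain ⟨d, hd'⟩ : ∃ d, d = i.val := ⟨_, rfl⟩
    induction d generalizing i with
    | zero =>
      intro c j hij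
      rw [show i = z from Fin.ext (by simp [z, ← hd']), show j = o from Fin.ext (by simp only [o]; omega)]
      exact hA0 c
    | succ d ih =>
      intro c j hij
      have h' := H.mul_mem (H.mul_mem hw (ih ⟨d, by have := i.2; omega⟩ rfl c ⟨d + 1, by have := i.2; omega⟩ rfl))
        (H.inv_mem hw)
      rw [conj_sh, cyc_e (i := ⟨d, by have := i.2; omega⟩) (j := i) hd',
        cyc_f (i := ⟨d + 1, by have := i.2; omega⟩) (j := j) (by simp only; omega)] at h'
      exact h'
  have hsum : ∀ (i j : Fin m) (c : F), i.val + 2 = m → j.val + 1 = m → sh (e j) (e 0) c ∈ H := by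
    intro i j c hi hj
    have h' := H.mul_mem (H.mul_mem hw (hcyc i (-c) j (by omega))) (H.inv_mem hw)
    rw [conj_sh, cyc_e (i := i) (j := j) (by omega), cyc_f_last hj,
      ← neg_one_smul F (e (0 : Fin m)), sh_smul_right (B_ee _ _), neg_mul_neg, one_mul] at h'
    exact h'
  have hzr' : z.val < r.val := by simp [z, r]
  have h1 : sh (e z) (f r) 1 ∈ H := mem_upper H hcyc hzr' 1
  have h2 : sh (e z) (e r) 1 ∈ H := by
    rw [sh_comm (B_ee _ _)]
    exact mem_sum H (by omega) hcyc hsum hzr.symm 1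
  have h12 : sh (e z) (e r + f r) 1 ∈ H := by
    have := H.mul_mem (H.mul_mem hsH h1) (H.inv_mem hsH)
    rwa [conj_sh, (hs z hzr).1, hsf] at this
  have hL : lo (e z) 1 ∈ H := by
    have h := H.mul_mem (H.inv_mem h12) (H.mul_mem h2 h1)
    rwa [sh_mul_sh (B_ee _ _) (B_ef hzr), inv_mul_cancel_left, B_fe_self, one_pow, mul_one] at h
  refine eq_top_of_cycle H (by omega) hcyc hw fun c => ?_
  rcases hc01 c with rfl | rfl
  · rw [lo_zero]; exact H.one_mem
  · exact hL

omit [NeZero m] in
/-- The projective symplectic group is generated by two elements. -/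
theorem exists_pair_psp [Fintype F] (m : ℕ) (hm : 2 ≤ m) (hF : m = 2 → 2 < Fintype.card F) :
    ∃ a b : Cfsg.PSp m F, Subgroup.closure ({a, b} : Set (Cfsg.PSp m F)) = ⊤ := by
  have : NeZero m := ⟨by omega⟩
  obtain ⟨a, b, hab⟩ : ∃ a b : G m F, Subgroup.closure ({a, b} : Set (G m F)) = ⊤ := by
    rcases Nat.lt_or_ge (Fintype.card F) 3 with h | h
    · have h1 : 1 < Fintype.card F := Fintype.one_lt_card
      exact exists_pair_of_two (by by_contra h'; have := hF (by omega); omega) (by omega)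
    · exact exists_pair_of_three hm h
  let φ : G m F →* Cfsg.PSp m F :=
    (QuotientGroup.mk' _).comp (symplecticEquiv m F).symm.toMonoidHom
  refine ⟨φ a, φ b, ?_⟩
  rw [← Set.image_pair φ a b, ← MonoidHom.map_closure, hab]
  exact Subgroup.map_top_of_surjective _ ((QuotientGroup.mk'_surjective _).comp (symplecticEquiv m F).symm.surjective)

end CfsgLib.Classical.ClassTheory.SpTwoGenerated
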