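import Cfsg.Agent.Lib.Classical.ClassTheory.OmegaPair
import Cfsg.Agent.Lib.Classical.ClassTheory.SpTwoGenerated
import Cfsg.Agent.Lib.Classical.Quad.POmega
import Cfsg.Agent.Lib.Classical.SmallOrtho.SympFive

/-!
# The orthogonal groups `PΩ` are generated by two elements
-/

set_option autoImplicit false

namespace CfsgLib.Classical.ClassTheory.OmegaGen

open CfsgLib.Classical.Quad
open QuadraticMap (polar polarBilin)

/-! ### Fields -/

section field

variable {F : Type*} [Field F] [Finite F] {ξ : Fˣ} (hgen : ∀ u : Fˣ, u ∈ Subgroup.zpowers ξ)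
include hgen

theorem exists_pow_eq {x : F} (hx : x ≠ 0) : ∃ k : ℕ, (ξ : F) ^ k = x := by
  obtain ⟨k, hk⟩ := (mem_powers_iff_mem_zpowers (x := ξ)).2 (hgen (Units.mk0 x hx))
  exact ⟨k, by simpa using congrArg Units.val hk⟩

theorem closure_sq_eq_top : Subring.closure ({(ξ : F) ^ 2} : Set F) = ⊤ := by
  have hsq : ∀ y : F, y ^ 2 ∈ Subring.closure ({(ξ : F) ^ 2} : Set F) := fun y => by
    rcases eq_or_ne y 0 with rfl | hy
    · simp
    obtain ⟨k, hk⟩ := exists_pow_eq hgen hy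
    rw [← hk, ← pow_mul, mul_comm, pow_mul]
    refine pow_mem ?_ k
    exact Subring.subset_closure (Set.mem_singleton _)
  refine eq_top_iff.2 fun x _ => ?_
  by_cases h2 : (2 : F) = 0
  · have : CharP F 2 := CharTwo.of_one_ne_zero_of_two_eq_zero one_ne_zero h2
    obtain ⟨c, rfl⟩ := FiniteField.isSquare_of_char_two (ringChar.eq_iff.2 this) x
    rw [← sq]; exact hsq c
  · obtain ⟨a, b, hab⟩ := exists_sum_two_squares h2 one_ne_zero one_ne_zero x
    rw [← hab, one_mul, one_mul]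
    exact add_mem (hsq a) (hsq b)

theorem closure_fourth_eq_top (h2 : (2 : F) = 0) : Subring.closure ({((ξ : F) ^ 2) ^ 2} : Set F) = ⊤ := by
  have : CharP F 2 := CharTwo.of_one_ne_zero_of_two_eq_zero one_ne_zero h2
  refine eq_top_iff.2 fun x _ => ?_
  obtain ⟨c, rfl⟩ := FiniteField.isSquare_of_char_two (ringChar.eq_iff.2 this) x
  obtain ⟨d, rfl⟩ := FiniteField.isSquare_of_char_two (ringChar.eq_iff.2 this) c
  rcases eq_or_ne d 0 with rfl | hd
  · simp
  obtain ⟨k, hk⟩ := exists_pow_eq hgen hd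
  rw [show d * d * (d * d) = (((ξ : F) ^ 2) ^ 2) ^ k by rw [← hk]; ring]
  refine pow_mem ?_ k
  exact Subring.subset_closure (Set.mem_singleton _)

end field

theorem closure_neg_singleton {R : Type*} [Ring R] (x : R) :
    Subring.closure ({-x} : Set R) = Subring.closure ({x} : Set R) := by
  refine le_antisymm ?_ ?_ <;> rw [Subring.closure_le, Set.singleton_subset_iff, SetLike.mem_coe]
  · exact neg_mem (Subring.subset_closure rfl)
  · simpa using neg_mem (Subring.subset_closure (s := ({-x} : Set R)) rfl)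

theorem closure_sign_singleton {R : Type*} [Ring R] (x : R) (k : ℕ) :
    Subring.closure ({(-1) ^ k * x} : Set R) = Subring.closure ({x} : Set R) := by
  rcases neg_one_pow_eq_or R k with h | h <;> rw [h]
  · rw [one_mul]
  · rw [neg_one_mul, closure_neg_singleton]

/-- Two commuting elements of coprime exponent lie in the group generated by their product. -/
theorem mem_zpowers_mul {G : Type*} [Group G] {x y : G} (h : Commute x y) {m n : ℕ} (hx : x ^ m = 1) (hy : y ^ n = 1)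
    (hc : m.Coprime n) : x ∈ Subgroup.zpowers (x * y) ∧ y ∈ Subgroup.zpowers (x * y) := by
  have key : x ∈ Subgroup.zpowers (x * y) := by
    refine ⟨(n : ℤ) * Nat.gcdB m n, ?_⟩
    show (x * y) ^ ((n : ℤ) * Nat.gcdB m n) = x
    have e : (n : ℤ) * Nat.gcdB m n = 1 + (m : ℤ) * -Nat.gcdA m n := by
      have := Nat.gcd_eq_gcd_ab m n
      rw [hc.gcd_eq_one] at this
      push_cast at this
      linarith
    rw [h.mul_zpow]
    conv_lhs => rw [e, zpow_add, zpow_one, zpow_mul x, zpow_natCast, hx, one_zpow, mul_one]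
    rw [← e, zpow_mul y, zpow_natCast, hy, one_zpow, mul_one]
  refine ⟨key, ?_⟩
  have := mul_mem (inv_mem key) (Subgroup.mem_zpowers (x * y))
  rwa [inv_mul_cancel_left] at this

/-! ### The two elements -/

open Fin.CommRing

variable {F : Type*} [Field F] {V : Type*} [AddCommGroup V] [Module F V] [FiniteDimensional F V]
  {Q : QuadraticForm F V} (hQ : (polarBilin Q).Nondegenerate) {m : ℕ} {e f : Fin m → V}

theorem eich_pow {w a : V} (hw : Q w = 0) (ha : polar Q w a = 0) (k : ℕ) :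
    eich hQ hw ha ^ k = eich hQ hw (a := (k : F) • a) (by rw [polar_smul_right', ha, mul_zero]) := by
  induction k with
  | zero =>
    rw [pow_zero]
    exact ((eich_congr hQ rfl (by simp)).trans (eich_zero_right hQ hw)).symm
  | succ k ih =>
    rw [pow_succ, ih, eich_mul]
    exact eich_congr hQ rfl (by push_cast; module)

theorem eich_pow_char (p : ℕ) [CharP F p] {w a : V} (hw : Q w = 0) (ha : polar Q w a = 0) :
    eich hQ hw ha ^ p = 1 := by
  rw [eich_pow]
  exact (eich_congr hQ rfl (by rw [CharP.cast_eq_zero, zero_smul])).trans (eich_zero_right hQ hw)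

theorem sq_mem_commutator [Finite F] (hn : 5 ≤ Module.finrank F V) (hQ : (polarBilin Q).Nondegenerate) (g : OQ Q) :
    g * g ∈ commutator (OQ Q) := by
  have hR : reflGroup Q = ⊤ := reflGroup_eq_top hQ (Or.inr (by omega))
  rw [← ker_invHom_eq_commutator hQ hR (by omega), MonoidHom.mem_ker, map_mul]
  refine Prod.ext ?_ (sqClass_mul_self _)
  show (invHom hQ hR g).1 * (invHom hQ hR g).1 = 1
  generalize (invHom hQ hR g).1 = x
  revert x
  decide

theorem cross_mem [Finite F] (hn : 5 ≤ Module.finrank F V) {x₀ y₀ x₁ y₁ : V} (h : Quad4 Q x₀ y₀ x₁ y₁) :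
    cross hQ h ∈ commutator (OQ Q) ∧ cross₂ hQ h ∈ commutator (OQ Q) := by
  have hu : upper hQ h ∈ commutator (OQ Q) := eich_mem_commutator hQ hn _ _
  have hl : lower hQ h ∈ commutator (OQ Q) := eich_mem_commutator hQ hn _ _
  exact ⟨mul_mem (mul_mem hu hl) hu, mul_mem hu hl⟩

theorem quad_ef (hS : HypFrame Q e f) {i j : Fin m} (h : i ≠ j) : Quad4 Q (e i) (f i) (f j) (e j) where
  qx₀ := hS.qe i
  qy₀ := hS.qf i
  qx₁ := hS.qf j
  qy₁ := hS.qe j
  p₀ := hS.pair i
  p₁ := hS.pair' j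
  xx := hS.ef _ _ h
  xy := hS.ee _ _
  yx := hS.ff _ _
  yy := hS.fe h

theorem quad_ee (hS : HypFrame Q e f) {i j : Fin m} (h : i ≠ j) : Quad4 Q (e i) (f i) (e j) (f j) where
  qx₀ := hS.qe i
  qy₀ := hS.qf i
  qx₁ := hS.qe j
  qy₁ := hS.qf j
  p₀ := hS.pair i
  p₁ := hS.pair j
  xx := hS.ee _ _
  xy := hS.ef _ _ h
  yx := hS.fe h
  yy := hS.ff _ _

include hQ in
theorem exists_perm [Finite F] [NeZero m] (hn : 5 ≤ Module.finrank F V) (hS : HypFrame Q e f) :
    ∀ k : Fin m, ∃ P ∈ commutator (OQ Q),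
      (∀ i, (P : V ≃ₗ[F] V) (e i) = if i = 0 then e k else if i ≤ k then -e (i - 1) else e i) ∧
      (∀ i, (P : V ≃ₗ[F] V) (f i) = if i = 0 then f k else if i ≤ k then -f (i - 1) else f i) ∧
      ∀ z, Perp Q e f z → (P : V ≃ₗ[F] V) z = z := by
  classical
  rintro ⟨k, hk⟩
  induction k with
  | zero =>
    refine ⟨1, one_mem _, fun i => ?_, fun i => ?_, fun z _ => rfl⟩ <;>
    · split_ifs with h1 h2
      · subst h1; rfl
      · exact absurd (Fin.ext (Nat.le_zero.1 (Fin.le_def.1 h2))) h1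
      · rfl
  | succ k ih =>
    obtain ⟨P, hP, hPe, hPf, hPz⟩ := ih (by omega)
    set u : Fin m := ⟨k, by omega⟩
    set v : Fin m := ⟨k + 1, hk⟩
    have huv : u ≠ v := fun h => by have := congrArg Fin.val h; simp [u, v] at this
    have hval : ∀ i : Fin m, i ≠ 0 → (i - 1).val = i.val - 1 := fun i hi => Fin.val_sub_one_of_ne_zero hi
    set n := cross hQ (quad_ef hS huv)
    have nu : ∀ i, i ≠ u → i ≠ v → (n : V ≃ₗ[F] V) (e i) = e i ∧ (n : V ≃ₗ[F] V) (f i) = f i := fun i h1 h2 => by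
      refine ⟨?_, ?_⟩ <;> simp only [n, cross_apply, hS.ee, hS.ff, hS.ef _ _ h1, hS.ef _ _ h2, hS.fe h1, hS.fe h2] <;>
        module
    have neu : (n : V ≃ₗ[F] V) (e u) = e v := by
      simp only [n, cross_apply, hS.ee, hS.pair, hS.ef _ _ huv]; module
    have nev : (n : V ≃ₗ[F] V) (e v) = -e u := by
      simp only [n, cross_apply, hS.ee, hS.pair, hS.ef _ _ huv.symm]; module
    have nfu : (n : V ≃ₗ[F] V) (f u) = f v := by
      simp only [n, cross_apply, hS.ff, hS.pair', hS.fe huv]; module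
    have nfv : (n : V ≃ₗ[F] V) (f v) = -f u := by
      simp only [n, cross_apply, hS.ff, hS.pair', hS.fe huv.symm]; module
    have hcase : ∀ i : Fin m, i ≠ 0 → (i ≤ u → i - 1 ≠ u ∧ i - 1 ≠ v ∧ i ≤ v) ∧
        (¬ i ≤ u → i ≠ u ∧ (i = v → i - 1 = u ∧ i ≤ v) ∧ (i ≠ v → ¬ i ≤ v)) := fun i hi => by
      have := hval i hi
      have : i.val ≠ 0 := fun h => hi (Fin.ext h)
      simp only [u, v, Fin.le_def, ne_eq, Fin.ext_iff]
      omega
    refine ⟨n * P, mul_mem (cross_mem hQ hn _).1 hP, fun i => ?_, fun i => ?_, fun z hz => ?_⟩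
    · rw [Subgroup.coe_mul, LinearEquiv.mul_apply, hPe i]
      by_cases h0 : i = 0
      · rw [if_pos h0, if_pos h0, neu]
      obtain ⟨c1, c2⟩ := hcase i h0
      by_cases hiu : i ≤ u
      · obtain ⟨d1, d2, d3⟩ := c1 hiu
        rw [if_neg h0, if_pos hiu, if_neg h0, if_pos d3, map_neg, (nu _ d1 d2).1]
      · obtain ⟨d1, d2, d3⟩ := c2 hiu
        rw [if_neg h0, if_neg hiu, if_neg h0]
        by_cases hiv : i = v
        · rw [if_pos (d2 hiv).2, (d2 hiv).1, hiv, nev]
        · rw [if_neg (d3 hiv), (nu _ d1 hiv).1]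
    · rw [Subgroup.coe_mul, LinearEquiv.mul_apply, hPf i]
      by_cases h0 : i = 0
      · rw [if_pos h0, if_pos h0, nfu]
      obtain ⟨c1, c2⟩ := hcase i h0
      by_cases hiu : i ≤ u
      · obtain ⟨d1, d2, d3⟩ := c1 hiu
        rw [if_neg h0, if_pos hiu, if_neg h0, if_pos d3, map_neg, (nu _ d1 d2).2]
      · obtain ⟨d1, d2, d3⟩ := c2 hiu
        rw [if_neg h0, if_neg hiu, if_neg h0]
        by_cases hiv : i = v
        · rw [if_pos (d2 hiv).2, (d2 hiv).1, hiv, nfv]
        · rw [if_neg (d3 hiv), (nu _ d1 hiv).2]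
    · rw [Subgroup.coe_mul, LinearEquiv.mul_apply, hPz z hz, cross_apply, (hz u).1, (hz u).2, (hz v).1, (hz v).2]
      module

/-- The coefficients of the cyclic element. -/
def kap [NeZero m] (t : Fin m) (l : F) (i : Fin m) : F := if i = 0 then 1 else if i = t then -l else -1

theorem prod_neg_kap [NeZero m] {t : Fin m} (ht : t ≠ 0) (l : F) : ∏ i, -kap t l i = -l := by
  rw [Finset.prod_eq_mul (0 : Fin m) t ht.symm (fun i _ hi => by simp [kap, hi.1, hi.2]) (by simp) (by simp)]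
  simp [kap, ht]

theorem prod_kap [NeZero m] {t : Fin m} (ht : t ≠ 0) (l : F) : ∏ i, kap t l i = (-1) ^ m * -l := by
  rw [← prod_neg_kap ht l, Finset.prod_neg, Finset.card_univ, Fintype.card_fin, ← mul_assoc, ← mul_pow]
  simp

include hQ in
theorem exists_cyclic [Finite F] [NeZero m] (hn : 5 ≤ Module.finrank F V) (hS : HypFrame Q e f) {t : Fin m} (ht : t ≠ 0)
    {c : F} (hc : c ≠ 0) {g : OQ Q} (hg : g ∈ commutator (OQ Q))
    (hge : ∀ i, (g : V ≃ₗ[F] V) (e i) = e i ∧ (g : V ≃ₗ[F] V) (f i) = f i) :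
    ∃ b ∈ commutator (OQ Q), (∀ i, (b : V ≃ₗ[F] V) (e i) = kap t (c ^ 2) i • e (i - 1)) ∧
      (∀ i, (b : V ≃ₗ[F] V) (f i) = (kap t (c ^ 2) i)⁻¹ • f (i - 1)) ∧
      ∀ z, Perp Q e f z → (b : V ≃ₗ[F] V) z = (g : V ≃ₗ[F] V) z := by
  classical
  obtain ⟨P, hP, hPe, hPf, hPz⟩ := exists_perm hQ hn hS ((0 : Fin m) - 1)
  obtain ⟨T, hT⟩ := exists_dilation hQ (hS.qe t) (hS.qf t) (hS.pair t) hc
  have hlast : ∀ i : Fin m, i ≤ 0 - 1 := fun i => by
    have := i.isLt
    rw [Fin.le_def, Fin.val_sub, Fin.val_zero, Fin.val_one']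
    rcases Nat.lt_or_ge 1 m with h | h
    · rw [Nat.mod_eq_of_lt h, Nat.add_zero, Nat.mod_eq_of_lt (by omega)]
      omega
    · omega
  have hTe : ∀ i, (T : V ≃ₗ[F] V) (e i) = (if i = t then c else 1) • e i ∧
      (T : V ≃ₗ[F] V) (f i) = (if i = t then c⁻¹ else 1) • f i := fun i => by
    rw [hT, hT]
    by_cases h : i = t
    · subst h
      rw [hS.ee, hS.ff, hS.pair, hS.pair', if_pos rfl, if_pos rfl]
      refine ⟨?_, ?_⟩ <;> module
    · rw [hS.ee, hS.ff, hS.ef _ _ h, hS.fe h, if_neg h, if_neg h]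
      refine ⟨?_, ?_⟩ <;> module
  have hTz : ∀ z, Perp Q e f z → (T : V ≃ₗ[F] V) z = z := fun z hz => by
    rw [hT, (hz t).1, (hz t).2]; module
  have hgz : ∀ z, Perp Q e f z → Perp Q e f ((g : V ≃ₗ[F] V) z) := fun z hz i => by
    refine ⟨?_, ?_⟩
    · rw [← (hge i).1, OQ.map_polar, (hz i).1]
    · rw [← (hge i).2, OQ.map_polar, (hz i).2]
  refine ⟨P * (T * T) * g, mul_mem (mul_mem hP (sq_mem_commutator hn hQ T)) hg, fun i => ?_, fun i => ?_, fun z hz => ?_⟩
  · simp only [Subgroup.coe_mul, LinearEquiv.mul_apply]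
    rw [(hge i).1, (hTe i).1, map_smul, (hTe i).1, smul_smul, map_smul, hPe i]
    by_cases h0 : i = 0
    · subst h0; simp [kap, ht.symm]
    · rw [if_neg h0, if_pos (hlast i)]
      by_cases h : i = t <;> simp [kap, h0, h, ht, sq]
  · simp only [Subgroup.coe_mul, LinearEquiv.mul_apply]
    rw [(hge i).2, (hTe i).2, map_smul, (hTe i).2, smul_smul, map_smul, hPf i]
    by_cases h0 : i = 0
    · subst h0; simp [kap, ht.symm]
    · rw [if_neg h0, if_pos (hlast i)]
      by_cases h : i = t <;> simp [kap, h0, h, ht, sq, inv_neg]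
  · simp only [Subgroup.coe_mul, LinearEquiv.mul_apply]
    rw [hTz _ (hgz z hz), hTz _ (hgz z hz), hPz _ (hgz z hz)]

theorem kap_ne_zero [NeZero m] (t : Fin m) {l : F} (hl : l ≠ 0) (i : Fin m) : kap t l i ≠ 0 := by
  unfold kap
  split_ifs <;> simp [hl]

include hQ in
theorem exists_finite_order [Finite F] (hn : 5 ≤ Module.finrank F V) (p : ℕ) [CharP F p] (hp : p.Prime)
    {x₀ y₀ x₁ y₁ : V} (h : Quad4 Q x₀ y₀ x₁ y₁) :
    ∃ s ∈ commutator (OQ Q), ∃ N : ℕ, s ^ N = 1 ∧ p.Coprime N ∧ (s : V ≃ₗ[F] V) x₀ = y₁ ∧ (s : V ≃ₗ[F] V) x₁ = -y₀ ∧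
      ∀ z, polar Q z x₀ = 0 → polar Q z y₀ = 0 → polar Q z x₁ = 0 → polar Q z y₁ = 0 → (s : V ≃ₗ[F] V) z = z := by
  by_cases h2 : (2 : F) = 0
  · have h2' : CharP F 2 := CharTwo.of_one_ne_zero_of_two_eq_zero one_ne_zero h2
    obtain rfl : p = 2 := CharP.eq F ‹CharP F p› h2'
    refine ⟨cross₂ hQ h, (cross_mem hQ hn h).2, 3, cross₂_pow_three h h2, by decide, ?_, ?_, fun z a b c d => ?_⟩
    · rw [cross₂_apply, polar_self', h.qx₀, h.p₀, h.xx, h.xy]; module
    · rw [cross₂_apply, polar_self', h.qx₁, h.p₁, QuadraticMap.polar_comm (⇑Q) x₁ x₀, h.xx,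
        QuadraticMap.polar_comm (⇑Q) x₁ y₀, h.yx]
      module
    · rw [cross₂_apply, a, b, c, d]; module
  · refine ⟨cross hQ h, (cross_mem hQ hn h).1, 4, cross_pow_four h, ?_, ?_, ?_, fun z a b c d => ?_⟩
    · refine (hp.coprime_iff_not_dvd).2 fun hd => h2 ?_
      have : p = 2 := (Nat.prime_dvd_prime_iff_eq hp Nat.prime_two).1 (hp.dvd_of_dvd_pow (show p ∣ 2 ^ 2 by simpa using hd))
      subst this
      exact_mod_cast CharP.cast_eq_zero F 2
    · rw [cross_apply, polar_self', h.qx₀, h.p₀, h.xx, h.xy]; module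
    · rw [cross_apply, polar_self', h.qx₁, h.p₁, QuadraticMap.polar_comm (⇑Q) x₁ x₀, h.xx,
        QuadraticMap.polar_comm (⇑Q) x₁ y₀, h.yx]
      module
    · rw [cross_apply, a, b, c, d]; module

include hQ in
theorem exists_pair_split [Fintype F] (hm : 4 ≤ m) (hn : 5 ≤ Module.finrank F V) (hS : HypFrame Q e f)
    (hperp : ∀ z, Perp Q e f z → z = 0) : ∃ a b : OQ Q, Subgroup.closure {a, b} = commutator (OQ Q) := by
  classical
  have : NeZero m := ⟨by omega⟩
  obtain ⟨p, _⟩ := CharP.exists F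
  have hp : p.Prime := CharP.char_prime_of_ne_zero F (CharP.char_ne_zero_of_finite F p)
  obtain ⟨ξ, hgen⟩ := IsCyclic.exists_generator (α := Fˣ)
  let o : Fin m := 1
  let t : Fin m := o + 1
  have h1 : (1 : Fin m) ≠ 0 := by simpa using natCast_ne_zero_fin (m := m) Nat.one_pos (by omega)
  have h2 : (2 : Fin m) ≠ 0 := by simpa using natCast_ne_zero_fin (m := m) (k := 2) (by omega) (by omega)
  have h3 : (3 : Fin m) ≠ 0 := by simpa using natCast_ne_zero_fin (m := m) (k := 3) (by omega) (by omega)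
  have ht0 : t ≠ 0 := by simp only [t, o, one_add_one_eq_two]; exact h2
  have hto : t ≠ o := fun h => h1 (add_eq_left.1 h)
  have ht10 : t + 1 ≠ 0 := by simp only [t, o, one_add_one_eq_two, two_add_one_eq_three]; exact h3
  have ht1o : t + 1 ≠ o := fun h => h2 (by
    have : o + (1 + 1) = o := by rw [← add_assoc]; exact h
    rw [← one_add_one_eq_two]; exact add_eq_left.1 this)
  have ht1t : t + 1 ≠ t := fun h => h1 (add_eq_left.1 h)
  obtain ⟨s, hsC, N, hsN, hpN, hse, -, hsz⟩ := exists_finite_order hQ hn p hp (quad_ee hS (show (0 : Fin m) ≠ o from h1.symm))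
  have hfix : ∀ i, i ≠ 0 → i ≠ o → (s : V ≃ₗ[F] V) (e i) = e i ∧ (s : V ≃ₗ[F] V) (f i) = f i := fun i hi hi' =>
    ⟨hsz _ (hS.ee _ _) (hS.ef _ _ hi) (hS.ee _ _) (hS.ef _ _ hi'), hsz _ (hS.fe hi) (hS.ff _ _) (hS.fe hi') (hS.ff _ _)⟩
  have hef : polar Q (e t) (f (t + 1)) = 0 := hS.ef _ _ ht1t.symm
  set Z := eich hQ (hS.qe t) hef
  obtain ⟨b, hbC, hbe, hbf, -⟩ := exists_cyclic hQ hn hS ht0 (c := (ξ : F)) ξ.ne_zero (one_mem _) fun i => ⟨rfl, rfl⟩
  refine ⟨Z * s, b, le_antisymm ?_ ?_⟩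
  · rw [Subgroup.closure_le]
    rintro _ (rfl | rfl)
    exacts [mul_mem (eich_mem_commutator hQ hn _ _) hsC, hbC]
  set H := Subgroup.closure ({Z * s, b} : Set (OQ Q))
  have ha : Z * s ∈ H := Subgroup.subset_closure (Or.inl rfl)
  have hb : b ∈ H := Subgroup.subset_closure (Or.inr rfl)
  have hcomm : Commute Z s := by
    have h := eich_conj hQ s (hS.qe t) hef
    rw [mul_inv_eq_iff_eq_mul] at h
    refine (h.trans ?_).symm
    congr 1
    exact eich_congr hQ (hfix t ht0 hto).1 (hfix _ ht10 ht1o).2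
  obtain ⟨hZ, hsH⟩ := mem_zpowers_mul hcomm (eich_pow_char hQ p _ _) hsN hpN
  have hle := Subgroup.zpowers_le.2 ha
  refine eq_top_of_split hS hb (kap_ne_zero t (pow_ne_zero 2 ξ.ne_zero)) hbe hbf (by omega) hn (o := o) rfl (t := t) rfl
    (hle hsH) hse (hfix t ht0 hto).1 (hfix t ht0 hto).2 (InR.mk (hle hZ)) ?_ ?_ hperp
  · simp [kap, ht10, ht1t]
  · rw [prod_neg_kap ht0, closure_neg_singleton, closure_sq_eq_top hgen]

include hQ in
theorem exists_pair_short [Fintype F] (hm : 3 ≤ m) (hn : 5 ≤ Module.finrank F V) (hS : HypFrame Q e f)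
    {w w₁ : V} (hw : Perp Q e f w) (hw₁ : Perp Q e f w₁) (hww₁ : polar Q w w₁ = 0)
    {g : OQ Q} (hg : g ∈ commutator (OQ Q)) (hge : ∀ i, (g : V ≃ₗ[F] V) (e i) = e i ∧ (g : V ≃ₗ[F] V) (f i) = f i)
    (hβ₁ : polar Q w ((g : V ≃ₗ[F] V) w) ≠ 0)
    (hβ₂ : polar Q w ((g : V ≃ₗ[F] V) ((g : V ≃ₗ[F] V) w)) ≠ 0)
    (hcase : (g : V ≃ₗ[F] V) w = w ∨ (2 : F) = 0)
    (hspan : ∀ z, Perp Q e f z → z ∈ Submodule.span F ({w, (g : V ≃ₗ[F] V) w, w₁} : Set V)) :
    ∃ a b : OQ Q, Subgroup.closure {a, b} = commutator (OQ Q) := by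
  classical
  have : NeZero m := ⟨by omega⟩
  obtain ⟨p, _⟩ := CharP.exists F
  have hp : p.Prime := CharP.char_prime_of_ne_zero F (CharP.char_ne_zero_of_finite F p)
  obtain ⟨ξ, hgen⟩ := IsCyclic.exists_generator (α := Fˣ)
  let o : Fin m := 1
  let t : Fin m := o + 1
  have h1 : (1 : Fin m) ≠ 0 := by simpa using natCast_ne_zero_fin (m := m) Nat.one_pos (by omega)
  have h2 : (2 : Fin m) ≠ 0 := by simpa using natCast_ne_zero_fin (m := m) (k := 2) (by omega) (by omega)
  have ho0 : (0 : Fin m) ≠ o := h1.symm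
  have ht0 : t ≠ 0 := by simp only [t, o, one_add_one_eq_two]; exact h2
  have hto : t ≠ o := fun h => h1 (add_eq_left.1 h)
  obtain ⟨s₀, hsC, N, hsN, hpN, hse, hse1, hsz⟩ := exists_finite_order hQ hn p hp (quad_ee hS ho0)
  have he0w : polar Q (e 0) w₁ = 0 := by rw [QuadraticMap.polar_comm]; exact (hw₁ 0).1
  set k := eich hQ (hS.qe 0) he0w
  have hkfix : ∀ z, polar Q z w₁ = 0 → polar Q z (e 0) = 0 → (k : V ≃ₗ[F] V) z = z := fun z h h' => by
    rw [eich_apply, h, h']; module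
  have hew : ∀ i, polar Q (e i) w₁ = 0 ∧ polar Q (f i) w₁ = 0 := fun i =>
    ⟨by rw [QuadraticMap.polar_comm]; exact (hw₁ i).1, by rw [QuadraticMap.polar_comm]; exact (hw₁ i).2⟩
  set s := k * s₀ * k⁻¹ with hs
  have hsap : ∀ z, polar Q z w₁ = 0 → polar Q z (e 0) = 0 →
      (s : V ≃ₗ[F] V) z = (k : V ≃ₗ[F] V) ((s₀ : V ≃ₗ[F] V) z) := fun z h h' => by
    simp only [hs, Subgroup.coe_mul, LinearEquiv.mul_apply]
    congr 2
    have := hkfix z h h'
    conv_lhs => rw [← this]
    exact (k : V ≃ₗ[F] V).symm_apply_apply z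
  have hsfix : ∀ z, polar Q z w₁ = 0 → polar Q z (e 0) = 0 → polar Q z (f 0) = 0 → polar Q z (e o) = 0 →
      polar Q z (f o) = 0 → (s : V ≃ₗ[F] V) z = z := fun z h h' a b c => by
    rw [hsap z h h', hsz z h' a b c, hkfix z h h']
  have hse0 : (s : V ≃ₗ[F] V) (e 0) = f o := by
    rw [hsap _ (hew 0).1 (hS.ee _ _), hse, hkfix _ (hew o).2 (hS.fe ho0.symm)]
  have hse_o : (s : V ≃ₗ[F] V) (e o) + f 0 - Q w₁ • e 0 = w₁ := by
    rw [hsap _ (hew o).1 (hS.ee _ _), hse1, map_neg, eich_apply, (hew 0).2, hS.pair']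
    module
  have hst : (s : V ≃ₗ[F] V) (e t) = e t ∧ (s : V ≃ₗ[F] V) (f t) = f t :=
    ⟨hsfix _ (hew t).1 (hS.ee _ _) (hS.ef _ _ ht0) (hS.ee _ _) (hS.ef _ _ hto),
      hsfix _ (hew t).2 (hS.fe ht0) (hS.ff _ _) (hS.fe hto) (hS.ff _ _)⟩
  have hsw : (s : V ≃ₗ[F] V) w = w := hsfix _ hww₁ (hw 0).1 (hw 0).2 (hw o).1 (hw o).2
  have htw : polar Q (e t) w = 0 := by rw [QuadraticMap.polar_comm]; exact (hw t).1
  set Z := eich hQ (hS.qe t) htw
  obtain ⟨b, hbC, hbe, hbf, hbz⟩ := exists_cyclic hQ hn hS ht0 (c := (ξ : F)) ξ.ne_zero hg hge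
  have hsC' : s ∈ commutator (OQ Q) :=
    mul_mem (mul_mem (eich_mem_commutator hQ hn _ _) hsC) (inv_mem (eich_mem_commutator hQ hn _ _))
  have hgw : Perp Q e f ((g : V ≃ₗ[F] V) w) := fun i => by
    refine ⟨?_, ?_⟩
    · rw [← (hge i).1, OQ.map_polar, (hw i).1]
    · rw [← (hge i).2, OQ.map_polar, (hw i).2]
  refine ⟨Z * s, b, le_antisymm ?_ ?_⟩
  · rw [Subgroup.closure_le]
    rintro _ (rfl | rfl)
    exacts [mul_mem (eich_mem_commutator hQ hn _ _) hsC', hbC]
  set H := Subgroup.closure ({Z * s, b} : Set (OQ Q))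
  have ha : Z * s ∈ H := Subgroup.subset_closure (Or.inl rfl)
  have hb : b ∈ H := Subgroup.subset_closure (Or.inr rfl)
  have hcomm : Commute Z s := by
    have h := eich_conj hQ s (hS.qe t) htw
    rw [mul_inv_eq_iff_eq_mul] at h
    refine (h.trans ?_).symm
    congr 1
    exact eich_congr hQ hst.1 hsw
  have hsN' : s ^ N = 1 := by rw [hs, conj_pow, hsN, mul_one, mul_inv_cancel]
  obtain ⟨hZ, hsH⟩ := mem_zpowers_mul hcomm (eich_pow_char hQ p _ _) hsN' hpN
  have hle := Subgroup.zpowers_le.2 ha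
  refine eq_top_of_short hS hb (kap_ne_zero t (pow_ne_zero 2 ξ.ne_zero)) hbe hbf hm hn (o := o) rfl (t := t) rfl
    (hle hsH) hse0 hst.1 hst.2 hw (InR.mk (hle hZ)) ?_ ?_ ?_ (Q w₁) ?_ ?_
  · rw [hbz w hw]; exact hβ₁
  · rw [hbz w hw, hbz _ hgw]; exact hβ₂
  · rw [prod_kap ht0]
    rcases hcase with h | h
    · exact Or.inl ⟨by rw [hbz w hw, h],
        by rw [closure_sign_singleton, closure_neg_singleton, closure_sq_eq_top hgen]⟩
    · right
      rw [mul_pow, ← pow_mul, mul_comm m 2, pow_mul, neg_one_sq, one_pow, one_mul, neg_sq,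
        closure_fourth_eq_top hgen h]
  · rw [hse_o]; exact hw₁
  · rw [hse_o, hbz w hw]; exact hspan

/-! ### The standard forms -/

/-- Pass to the projective group. -/
theorem exists_pair_pomega {ι : Type} [Fintype ι] [DecidableEq ι] {K : Type*} [Field K] (Q : QuadraticForm K (ι → K))
    (h : ∃ a b : OQ Q, Subgroup.closure {a, b} = commutator (OQ Q)) :
    ∃ a b : Cfsg.POmega K (⇑Q), Subgroup.closure ({a, b} : Set (Cfsg.POmega K (⇑Q))) = ⊤ := by
  obtain ⟨a, b, hab⟩ := h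
  let a' : commutator (OQ Q) := ⟨a, hab ▸ Subgroup.subset_closure (Or.inl rfl)⟩
  let b' : commutator (OQ Q) := ⟨b, hab ▸ Subgroup.subset_closure (Or.inr rfl)⟩
  have h' : Subgroup.closure ({a', b'} : Set (commutator (OQ Q))) = ⊤ := by
    apply Subgroup.map_injective (commutator (OQ Q)).subtype_injective
    rw [MonoidHom.map_closure, Set.image_pair, ← MonoidHom.range_eq_map, Subgroup.range_subtype]
    exact hab
  let φ : commutator (OQ Q) →* Cfsg.POmega K (⇑Q) :=
    (pOmegaEquiv Q).symm.toMonoidHom.comp (QuotientGroup.mk' _)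
  refine ⟨φ a', φ b', ?_⟩
  rw [← Set.image_pair φ a' b', ← MonoidHom.map_closure, h']
  exact Subgroup.map_top_of_surjective _ ((pOmegaEquiv Q).symm.surjective.comp (QuotientGroup.mk'_surjective _))

/-- `PΩ⁺` is generated by two elements. -/
theorem exists_pair_plus {K : Type*} [Field K] [Fintype K] (m : ℕ) (hm : 4 ≤ m) :
    ∃ a b : Cfsg.POmega K (Cfsg.quadFormPlus m K),
      Subgroup.closure ({a, b} : Set (Cfsg.POmega K (Cfsg.quadFormPlus m K))) = ⊤ := by
  classical
  rw [← coe_qPlus]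
  let e : Fin m → Fin m ⊕ Fin m → K := fun i => Pi.single (Sum.inl i) 1
  let f : Fin m → Fin m ⊕ Fin m → K := fun i => Pi.single (Sum.inr i) 1
  have hS : HypFrame (qPlus m K) e f :=
    { qe := fun i => by simp [coe_qPlus, Cfsg.quadFormPlus, e]
      qf := fun i => by simp [coe_qPlus, Cfsg.quadFormPlus, f]
      ee := fun i j => by simp [polar_qPlus, e]
      ff := fun i j => by simp [polar_qPlus, f]
      ef := fun i j h => by simp [polar_qPlus, e, f, Pi.single_apply, h.symm]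
      pair := fun i => by simp [polar_qPlus, e, f, Pi.single_apply] }
  refine exists_pair_pomega _ (exists_pair_split (qPlus_nondeg m) hm (by simp; omega) hS fun z hz => funext fun x => ?_)
  rcases x with i | i
  · simpa [polar_qPlus, f, Pi.single_apply] using (hz i).2
  · simpa [polar_qPlus, e, Pi.single_apply] using (hz i).1

/-- `PΩ` in odd dimension is generated by two elements. -/
theorem exists_pair_odd {K : Type*} [Field K] [Fintype K] (hodd : Odd (Fintype.card K)) (m : ℕ) (hm : 2 ≤ m) :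
    ∃ a b : Cfsg.POmega K (Cfsg.quadFormOdd m K),
      Subgroup.closure ({a, b} : Set (Cfsg.POmega K (Cfsg.quadFormOdd m K))) = ⊤ := by
  classical
  rcases eq_or_lt_of_le hm with rfl | hm3
  · obtain ⟨φ⟩ := CfsgLib.Classical.SmallOrtho.nonempty_pomega_five (F := K) hodd
    obtain ⟨a, b, hab⟩ := CfsgLib.Classical.ClassTheory.SpTwoGenerated.exists_pair_psp (F := K) 2 le_rfl fun _ => by
      have := Fintype.one_lt_card (α := K)
      rcases hodd with ⟨k, hk⟩
      omega
    refine ⟨φ.symm a, φ.symm b, ?_⟩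
    rw [← Set.image_pair φ.symm a b, show (φ.symm : Cfsg.PSp 2 K → _) = φ.symm.toMonoidHom from rfl,
      ← MonoidHom.map_closure, hab, Subgroup.map_top_of_surjective _ φ.symm.surjective]
  have h2 := two_ne_zero_of_odd (F := K) rfl hodd
  rw [← coe_qOdd]
  let e : Fin m → Unit ⊕ (Fin m ⊕ Fin m) → K := fun i => Pi.single (Sum.inr (Sum.inl i)) 1
  let f : Fin m → Unit ⊕ (Fin m ⊕ Fin m) → K := fun i => Pi.single (Sum.inr (Sum.inr i)) 1
  have hS : HypFrame (qOdd m K) e f :=
    { qe := fun i => by simp [coe_qOdd, Cfsg.quadFormOdd, e]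
      qf := fun i => by simp [coe_qOdd, Cfsg.quadFormOdd, f]
      ee := fun i j => by simp [polar_qOdd, polar_qPlus, e]
      ff := fun i j => by simp [polar_qOdd, polar_qPlus, f]
      ef := fun i j h => by simp [polar_qOdd, polar_qPlus, e, f, Pi.single_apply, h.symm]
      pair := fun i => by simp [polar_qOdd, polar_qPlus, e, f, Pi.single_apply] }
  let w : Unit ⊕ (Fin m ⊕ Fin m) → K := Pi.single (Sum.inl ()) 1
  have hw : Perp (qOdd m K) e f w := fun i => by simp [polar_qOdd, polar_qPlus, e, f, w]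
  have hww : polar (qOdd m K) w w ≠ 0 := by rw [polar_self']; simp [coe_qOdd, Cfsg.quadFormOdd, w, h2]
  refine exists_pair_pomega _ (exists_pair_short (qOdd_nondeg h2 m) hm3 (by simp; omega) hS hw (w₁ := 0)
    (fun i => ⟨QuadraticMap.polar_zero_left _ _, QuadraticMap.polar_zero_left _ _⟩)
    (QuadraticMap.polar_zero_right _ _) (one_mem _) (fun i => ⟨rfl, rfl⟩) hww hww (Or.inl rfl) fun z hz => ?_)
  have hz' : z = z (Sum.inl ()) • w := by
    funext x
    rcases x with u | i | i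
    · simp [w]
    · simpa [polar_qOdd, polar_qPlus, f, w, Pi.single_apply] using (hz i).2
    · simpa [polar_qOdd, polar_qPlus, e, w, Pi.single_apply] using (hz i).1
  rw [hz']
  exact Submodule.smul_mem _ _ (Submodule.subset_span (Or.inl rfl))

/-- `PΩ⁻` is generated by two elements. -/
theorem exists_pair_minus {K : Type*} [Field K] [Fintype K] (k : ℕ) (hk : 3 ≤ k) (a b : K)
    (hab : ∀ z₁ z₂ : K, z₁ ^ 2 + a * z₁ * z₂ + b * z₂ ^ 2 = 0 → z₁ = 0 ∧ z₂ = 0) :
    ∃ g h : Cfsg.POmega K (Cfsg.quadFormMinus k K a b),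
      Subgroup.closure ({g, h} : Set (Cfsg.POmega K (Cfsg.quadFormMinus k K a b))) = ⊤ := by
  classical
  rw [← coe_qMinus]
  have hQ := qMinus_nondeg hab k
  let e : Fin k → (Fin k ⊕ Fin k) ⊕ Fin 2 → K := fun i => Pi.single (Sum.inl (Sum.inl i)) 1
  let f : Fin k → (Fin k ⊕ Fin k) ⊕ Fin 2 → K := fun i => Pi.single (Sum.inl (Sum.inr i)) 1
  have hS : HypFrame (qMinus k K a b) e f :=
    { qe := fun i => by simp [coe_qMinus, Cfsg.quadFormMinus, e]
      qf := fun i => by simp [coe_qMinus, Cfsg.quadFormMinus, f]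
      ee := fun i j => by simp [polar_qMinus, polar_qPlus, polar_qBin, e]
      ff := fun i j => by simp [polar_qMinus, polar_qPlus, polar_qBin, f]
      ef := fun i j h => by simp [polar_qMinus, polar_qPlus, polar_qBin, e, f, Pi.single_apply, h.symm]
      pair := fun i => by simp [polar_qMinus, polar_qPlus, polar_qBin, e, f, Pi.single_apply] }
  have hn : 5 ≤ Module.finrank K ((Fin k ⊕ Fin k) ⊕ Fin 2 → K) := by simp; omega
  have hperp : ∀ z, Perp (qMinus k K a b) e f z → z = Sum.elim (0 : Fin k ⊕ Fin k → K) (z ∘ Sum.inr) := fun z hz => by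
    funext x
    rcases x with (i | i) | i
    · simpa [polar_qMinus, polar_qPlus, polar_qBin, f, Pi.single_apply] using (hz i).2
    · simpa [polar_qMinus, polar_qPlus, polar_qBin, e, Pi.single_apply] using (hz i).1
    · rfl
  have hin : ∀ u : Fin 2 → K, Perp (qMinus k K a b) e f (Sum.elim 0 u) := fun u i => by
    simp [polar_qMinus, polar_qPlus, polar_qBin, e, f]
  have hpol : ∀ u v : Fin 2 → K, polar (qMinus k K a b) (Sum.elim 0 u) (Sum.elim 0 v) =
      2 * u 0 * v 0 + a * (u 0 * v 1 + v 0 * u 1) + 2 * b * u 1 * v 1 := fun u v => by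
    simp [polar_qMinus, polar_qPlus, polar_qBin]
  let w : (Fin k ⊕ Fin k) ⊕ Fin 2 → K := Sum.elim 0 ![1, 0]
  by_cases h2 : (2 : K) = 0
  · -- a rotation of the anisotropic plane
    obtain ⟨c, hc, hc1⟩ : ∃ c : Fin 2 → K, qBin a b c = 1 ∧ c 1 ≠ 0 := by
      by_contra hne
      push Not at hne
      have : CharP K 2 := CharTwo.of_one_ne_zero_of_two_eq_zero one_ne_zero h2
      have hcard := card_qBin_one (q := Fintype.card K) rfl hab
      have hsub : Subsingleton {z : Fin 2 → K // qBin a b z = 1} := ⟨fun x y => by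
        have key : ∀ z : {z : Fin 2 → K // qBin a b z = 1}, z.1 = ![1, 0] := fun z => by
          have h1 := hne z.1 z.2
          have h0 := z.2
          rw [qBin_apply, h1] at h0
          have h0' : (z.1 0) ^ 2 = 1 := by linear_combination h0
          funext i
          fin_cases i
          · rcases sq_eq_one_iff.1 h0' with h | h
            · simpa using h
            · simpa [CharTwo.neg_eq] using h
          · simpa using h1
        exact Subtype.ext ((key x).trans (key y).symm)⟩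
      have := Finite.card_le_one_iff_subsingleton.2 hsub
      have := Fintype.one_lt_card (α := K)
      omega
    rw [qBin_apply] at hc
    have ha : a ≠ 0 := fun h => discr_ne_zero hab (by rw [h]; linear_combination (2 * b) * h2)
    let L : ((Fin k ⊕ Fin k) ⊕ Fin 2 → K) →ₗ[K] ((Fin k ⊕ Fin k) ⊕ Fin 2 → K) :=
      { toFun := fun v => Sum.elim (v ∘ Sum.inl) ![c 0 * v (Sum.inr 0) - b * c 1 * v (Sum.inr 1),
          c 0 * v (Sum.inr 1) + c 1 * v (Sum.inr 0) + a * c 1 * v (Sum.inr 1)]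
        map_add' := fun v v' => by
          funext x; rcases x with i | i
          · simp
          · fin_cases i <;> simp <;> ring
        map_smul' := fun d v => by
          funext x; rcases x with i | i
          · simp
          · fin_cases i <;> simp <;> ring }
    have hL : ∀ z, qMinus k K a b (L z) = qMinus k K a b z := fun z => by
      simp [coe_qMinus, Cfsg.quadFormMinus, L]
      linear_combination (z (Sum.inr 0) ^ 2 + a * z (Sum.inr 0) * z (Sum.inr 1) + b * z (Sum.inr 1) ^ 2) * hc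
    let r := ofPreserves hQ L hL
    let g := r * r
    have hrf : ∀ i, L (e i) = e i ∧ L (f i) = f i := fun i => by
      refine ⟨?_, ?_⟩ <;> funext x <;> rcases x with x | x
      · simp [L, e]
      · fin_cases x <;> simp [L, e]
      · simp [L, f]
      · fin_cases x <;> simp [L, f]
    have hgap : ∀ v, g.1 v = L (L v) := fun v => by
      simp [g, r, Subgroup.coe_mul, LinearEquiv.mul_apply]
    have hgw : g.1 w = Sum.elim (0 : Fin k ⊕ Fin k → K) ![c 0 * c 0 - b * c 1 * c 1, a * c 1 * c 1] := by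
      rw [hgap]
      funext x
      rcases x with x | x
      · simp [L, w]
      · fin_cases x
        · simp [L, w]
        · simp [L, w]
          linear_combination (c 0 * c 1) * h2
    refine exists_pair_pomega _ (exists_pair_short hQ hk hn hS (w := w) (hin _) (w₁ := 0)
      (fun i => ⟨QuadraticMap.polar_zero_left _ _, QuadraticMap.polar_zero_left _ _⟩)
      (QuadraticMap.polar_zero_right _ _) (sq_mem_commutator hn hQ r)
      (fun i => ⟨by rw [hgap, (hrf i).1, (hrf i).1], by rw [hgap, (hrf i).2, (hrf i).2]⟩) ?_ ?_ (Or.inr h2) fun z hz => ?_)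
    · rw [hgw, hpol]
      simp [h2, ha, hc1]
    · have e2 : g.1 (g.1 w) (Sum.inr 1) = a ^ 3 * c 1 ^ 4 := by
        rw [hgw, hgap]
        simp [L]
        linear_combination (c 0 * c 1 * (c 0 * c 0 - b * c 1 * c 1) - b * a * c 1 ^ 4 + a * c 0 ^ 2 * c 1 ^ 2 +
          a ^ 2 * c 0 * c 1 ^ 3) * h2
      rw [show g.1 (g.1 w) = Sum.elim (0 : Fin k ⊕ Fin k → K) ((g.1 (g.1 w)) ∘ Sum.inr) from ?_, hpol]
      · simp [h2, e2, ha, hc1]
      · refine hperp _ fun i => ?_
        have hfe : ∀ i, g.1 (e i) = e i ∧ g.1 (f i) = f i := fun i =>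
          ⟨by rw [hgap, (hrf i).1, (hrf i).1], by rw [hgap, (hrf i).2, (hrf i).2]⟩
        constructor
        · rw [← (hfe i).1, OQ.map_polar, ← (hfe i).1, OQ.map_polar]; exact (hin _ i).1
        · rw [← (hfe i).2, OQ.map_polar, ← (hfe i).2, OQ.map_polar]; exact (hin _ i).2
    · have hd : a * c 1 * c 1 ≠ 0 := mul_ne_zero (mul_ne_zero ha hc1) hc1
      have hz' : z = (z (Sum.inr 0) - z (Sum.inr 1) / (a * c 1 * c 1) * (c 0 * c 0 - b * c 1 * c 1)) • w +
          (z (Sum.inr 1) / (a * c 1 * c 1)) • g.1 w := by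
        rw [hgw]
        conv_lhs => rw [hperp z hz]
        funext x
        rcases x with x | x
        · simp [w]
        · fin_cases x
          · simp [w]
          · simp [w, div_mul_cancel₀ _ hd]
      rw [hz']
      exact Submodule.add_mem _ (Submodule.smul_mem _ _ (Submodule.subset_span (Or.inl rfl)))
        (Submodule.smul_mem _ _ (Submodule.subset_span (Or.inr (Or.inl rfl))))
  · let w₁ : (Fin k ⊕ Fin k) ⊕ Fin 2 → K := Sum.elim 0 ![-a, 2]
    have hww : polar (qMinus k K a b) w w ≠ 0 := by simp only [w, hpol]; simp [h2]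
    refine exists_pair_pomega _ (exists_pair_short hQ hk hn hS (w := w) (hin _) (w₁ := w₁) (hin _)
      (by simp only [w, w₁, hpol]; simp; ring) (one_mem _) (fun i => ⟨rfl, rfl⟩) hww hww (Or.inl rfl) fun z hz => ?_)
    have hz' : z = (z (Sum.inr 0) + a * z (Sum.inr 1) / 2) • w + (z (Sum.inr 1) / 2) • w₁ := by
      conv_lhs => rw [hperp z hz]
      funext x
      rcases x with x | x
      · simp [w, w₁]
      · fin_cases x
        · simp [w, w₁]; ring
        · simp [w, w₁, div_mul_cancel₀ _ h2]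
    rw [hz']
    exact Submodule.add_mem _ (Submodule.smul_mem _ _ (Submodule.subset_span (Or.inl rfl)))
      (Submodule.smul_mem _ _ (Submodule.subset_span (Or.inr (Or.inr rfl))))

end CfsgLib.Classical.ClassTheory.OmegaGen
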