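import Cfsg.Agent.Lib.Classical.Quad.PlusMinusType
import Cfsg.Agent.Lib.Known.QuadClassify

/-!
# Embeddings between the standard quadratic spaces
-/

set_option autoImplicit false

namespace CfsgLib.Classical.ClassTheory

open Cfsg

variable {F : Type*} [Field F] {k m : ℕ}

/-- Extension by zero to more coordinates. -/
noncomputable def padVec (h : k ≤ m) : (Fin k → F) →ₗ[F] (Fin m → F) :=
  Function.ExtendByZero.linearMap F (Fin.castLE h)

theorem padVec_cast (h : k ≤ m) (x : Fin k → F) (i : Fin k) : padVec h x (Fin.castLE h i) = x i := by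
  show Function.extend (Fin.castLE h) x 0 (Fin.castLE h i) = x i
  exact (Fin.castLE_injective h).extend_apply _ _ _

theorem padVec_other (h : k ≤ m) (x : Fin k → F) {i : Fin m} (hi : ∀ j, Fin.castLE h j ≠ i) :
    padVec h x i = 0 := by
  show Function.extend (Fin.castLE h) x 0 i = 0
  rw [Function.extend_apply' _ _ _ (by rintro ⟨j, hj⟩; exact hi j hj)]
  rfl

theorem sum_padVec (h : k ≤ m) (x y : Fin k → F) : ∑ i, padVec h x i * padVec h y i = ∑ i, x i * y i := by
  classical
  rw [← Finset.sum_subset (Finset.subset_univ (Finset.univ.map ⟨Fin.castLE h, Fin.castLE_injective h⟩))]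
  · rw [Finset.sum_map]
    refine Finset.sum_congr rfl fun i _ => ?_
    rw [Function.Embedding.coeFn_mk, padVec_cast, padVec_cast]
  · intro i _ hi
    rw [padVec_other h x (fun j hj => hi (Finset.mem_map.2 ⟨j, Finset.mem_univ _, hj⟩)), zero_mul]

/-- `plus k` into `plus m`. -/
theorem exists_plus_plus (h : k ≤ m) :
    ∃ j : (Fin k ⊕ Fin k → F) →ₗ[F] (Fin m ⊕ Fin m → F), ∀ v, quadFormPlus m F (j v) = quadFormPlus k F v := by
  refine ⟨{ toFun := fun v => Sum.elim (padVec h (v ∘ Sum.inl)) (padVec h (v ∘ Sum.inr))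
            map_add' := fun u v => ?_
            map_smul' := fun c v => ?_ }, fun v => ?_⟩
  · funext x
    rcases x with x | x <;> simp [Pi.add_comp, map_add]
  · funext x
    rcases x with x | x <;> simp [Pi.smul_comp, map_smul]
  · show quadFormPlus m F (Sum.elim (padVec h (v ∘ Sum.inl)) (padVec h (v ∘ Sum.inr))) = _
    simp only [quadFormPlus, Sum.elim_inl, Sum.elim_inr]
    exact sum_padVec h (v ∘ Sum.inl) (v ∘ Sum.inr)

/-- `plus k` into `minus m`. -/
theorem exists_plus_minus (h : k ≤ m) (a c : F) :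
    ∃ j : (Fin k ⊕ Fin k → F) →ₗ[F] ((Fin m ⊕ Fin m) ⊕ Fin 2 → F),
      ∀ v, quadFormMinus m F a c (j v) = quadFormPlus k F v := by
  obtain ⟨j, hj⟩ := exists_plus_plus (F := F) h
  refine ⟨{ toFun := fun v => Sum.elim (j v) 0
            map_add' := fun u v => by funext x; rcases x with x | x <;> simp
            map_smul' := fun c v => by funext x; rcases x with x | x <;> simp }, fun v => ?_⟩
  rw [← hj]
  show quadFormMinus m F a c (Sum.elim (j v) 0) = _
  simp [quadFormMinus, quadFormPlus]

/-- `plus k` into the odd-dimensional form. -/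
theorem exists_plus_odd (h : k ≤ m) :
    ∃ j : (Fin k ⊕ Fin k → F) →ₗ[F] (Unit ⊕ (Fin m ⊕ Fin m) → F), ∀ v, quadFormOdd m F (j v) = quadFormPlus k F v := by
  obtain ⟨j, hj⟩ := exists_plus_plus (F := F) h
  refine ⟨{ toFun := fun v => Sum.elim 0 (j v)
            map_add' := fun u v => by funext x; rcases x with x | x <;> simp
            map_smul' := fun c v => by funext x; rcases x with x | x <;> simp }, fun v => ?_⟩
  rw [← hj]
  show quadFormOdd m F (Sum.elim 0 (j v)) = _
  simp [quadFormOdd, quadFormPlus]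

/-- `minus k` into `minus m`. -/
theorem exists_minus_minus (h : k ≤ m) (a c : F) :
    ∃ j : ((Fin k ⊕ Fin k) ⊕ Fin 2 → F) →ₗ[F] ((Fin m ⊕ Fin m) ⊕ Fin 2 → F),
      ∀ v, quadFormMinus m F a c (j v) = quadFormMinus k F a c v := by
  obtain ⟨j, hj⟩ := exists_plus_plus (F := F) h
  refine ⟨{ toFun := fun v => Sum.elim (j (v ∘ Sum.inl)) (v ∘ Sum.inr)
            map_add' := fun u v => by funext x; rcases x with x | x <;> simp [Pi.add_comp]
            map_smul' := fun c v => by funext x; rcases x with x | x <;> simp [Pi.smul_comp] }, fun v => ?_⟩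
  show quadFormMinus m F a c (Sum.elim (j (v ∘ Sum.inl)) (v ∘ Sum.inr)) = _
  have e := hj (v ∘ Sum.inl)
  simp only [quadFormPlus] at e
  simp [quadFormMinus, e]

/-- An anisotropic plane lies in two hyperbolic planes. -/
theorem exists_minus_plus (h : k + 2 ≤ m) (c : F) :
    ∃ j : ((Fin k ⊕ Fin k) ⊕ Fin 2 → F) →ₗ[F] (Fin m ⊕ Fin m → F),
      ∀ v, quadFormPlus m F (j v) = quadFormMinus k F 1 c v := by
  obtain ⟨j, hj⟩ := exists_plus_plus (F := F) h
  let φ : ((Fin k ⊕ Fin k) ⊕ Fin 2 → F) →ₗ[F] (Fin (k + 2) ⊕ Fin (k + 2) → F) :=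
    { toFun := fun v => Sum.elim
        (Fin.append (fun i => v (.inl (.inl i))) ![v (.inr 0), v (.inr 1)])
        (Fin.append (fun i => v (.inl (.inr i))) ![v (.inr 0) + v (.inr 1), c * v (.inr 1)])
      map_add' := fun u v => by
        funext x
        rcases x with x | x <;> refine Fin.addCases (fun i => ?_) (fun i => ?_) x <;>
          simp [Fin.append_left, Fin.append_right] <;> fin_cases i <;> simp <;> ring
      map_smul' := fun c v => by
        funext x
        rcases x with x | x <;> refine Fin.addCases (fun i => ?_) (fun i => ?_) x <;>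
          simp [Fin.append_left, Fin.append_right] <;> fin_cases i <;> simp <;> ring }
  refine ⟨j ∘ₗ φ, fun v => ?_⟩
  rw [LinearMap.comp_apply, hj]
  show quadFormPlus (k + 2) F (Sum.elim (Fin.append _ _) (Fin.append _ _)) = _
  simp only [quadFormPlus, Sum.elim_inl, Sum.elim_inr, Fin.sum_univ_add, Fin.append_left, Fin.append_right,
    Fin.sum_univ_two, quadFormMinus]
  simp only [Matrix.cons_val_zero, Matrix.cons_val_one]
  ring

/-- An anisotropic plane lies in a parabolic space of dimension three. -/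
theorem exists_minus_odd (h2 : (2 : F) ≠ 0) (h : k + 1 ≤ m) (c : F) :
    ∃ j : ((Fin k ⊕ Fin k) ⊕ Fin 2 → F) →ₗ[F] (Unit ⊕ (Fin m ⊕ Fin m) → F),
      ∀ v, quadFormOdd m F (j v) = quadFormMinus k F 1 c v := by
  obtain ⟨j, hj⟩ := exists_plus_plus (F := F) h
  let φ : ((Fin k ⊕ Fin k) ⊕ Fin 2 → F) →ₗ[F] (Fin (k + 1) ⊕ Fin (k + 1) → F) :=
    { toFun := fun v => Sum.elim
        (Fin.snoc (fun i => v (.inl (.inl i))) (v (.inr 1)))
        (Fin.snoc (fun i => v (.inl (.inr i))) ((c - (2 * 2 : F)⁻¹) * v (.inr 1)))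
      map_add' := fun u v => by
        funext x
        rcases x with x | x <;> refine Fin.lastCases ?_ (fun i => ?_) x <;> simp [mul_add]
      map_smul' := fun c v => by
        funext x
        rcases x with x | x <;> refine Fin.lastCases ?_ (fun i => ?_) x <;> simp [mul_left_comm] }
  refine ⟨{ toFun := fun v => Sum.elim (fun _ => v (.inr 0) + 2⁻¹ * v (.inr 1)) (j (φ v))
            map_add' := fun u v => by funext x; rcases x with x | x <;> simp <;> ring
            map_smul' := fun c v => by funext x; rcases x with x | x <;> simp <;> ring }, fun v => ?_⟩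
  show quadFormOdd m F (Sum.elim (fun _ => v (.inr 0) + 2⁻¹ * v (.inr 1)) (j (φ v))) = _
  have e := hj (φ v)
  simp only [quadFormPlus] at e
  simp only [quadFormOdd, Sum.elim_inl, Sum.elim_inr, e]
  simp only [φ, LinearMap.coe_mk, AddHom.coe_mk, Sum.elim_inl, Sum.elim_inr]
  rw [Fin.sum_univ_castSucc]
  simp only [Fin.snoc_castSucc, Fin.snoc_last, quadFormMinus]
  field_simp
  ring

end CfsgLib.Classical.ClassTheory
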