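import Cfsg.Agent.Lib.Classical.ClassTheory.SpModels
import Cfsg.Agent.Lib.Classical.Quad.PlusMinusType

/-!
# Semisimple isometries of quadratic forms with given characteristic polynomial
-/

set_option autoImplicit false

open Polynomial

namespace CfsgLib.Classical.ClassTheory

open LinearMap (BilinForm)
open QuadraticMap (polar polarBilin)

universe u

variable {F : Type u} [Field F]

/-- `χ` is the characteristic polynomial of a semisimple isometry of a non-degenerate quadratic form. -/
def OrthReal (χ : F[X]) : Prop :=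
  ∃ (V : Type u) (_ : AddCommGroup V) (_ : Module F V) (_ : FiniteDimensional F V) (Q : QuadraticForm F V)
    (g : Module.End F V) (N : ℕ),
    (polarBilin Q).Nondegenerate ∧ (∀ v, Q (g v) = Q v) ∧ g ^ N = 1 ∧ (N : F) ≠ 0 ∧ g.charpoly = χ

/-- The same with a singular subspace of half the dimension. -/
def HypReal (χ : F[X]) : Prop :=
  ∃ (V : Type u) (_ : AddCommGroup V) (_ : Module F V) (_ : FiniteDimensional F V) (Q : QuadraticForm F V)
    (g : Module.End F V) (N : ℕ),
    ((polarBilin Q).Nondegenerate ∧ (∀ v, Q (g v) = Q v) ∧ g ^ N = 1 ∧ (N : F) ≠ 0 ∧ g.charpoly = χ) ∧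
      ∃ S : Submodule F V, (∀ x ∈ S, Q x = 0) ∧ 2 * Module.finrank F S = Module.finrank F V

theorem HypReal.orthReal {χ : F[X]} (h : HypReal χ) : OrthReal χ := by
  obtain ⟨V, _, _, _, Q, g, N, h, -⟩ := h
  exact ⟨V, inferInstance, inferInstance, inferInstance, Q, g, N, h⟩

theorem prod_nondeg {V W : Type*} [AddCommGroup V] [Module F V] [AddCommGroup W] [Module F W]
    {Q : QuadraticForm F V} {R : QuadraticForm F W} (hQ : (polarBilin Q).Nondegenerate)
    (hR : (polarBilin R).Nondegenerate) : (polarBilin (Q.prod R)).Nondegenerate := by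
  refine Quad.nondegenerate_of_left fun x hx => Prod.ext (hQ.1 _ fun v => ?_) (hR.1 _ fun w => ?_)
  · have := hx (v, 0)
    simpa [QuadraticMap.polar, QuadraticMap.polarBilin_apply_apply] using this
  · have := hx (0, w)
    simpa [QuadraticMap.polar, QuadraticMap.polarBilin_apply_apply] using this

theorem finrank_submodule_prod {V W : Type*} [AddCommGroup V] [Module F V] [AddCommGroup W] [Module F W]
    [FiniteDimensional F V] [FiniteDimensional F W] (S : Submodule F V) (T : Submodule F W) :
    Module.finrank F (S.prod T) = Module.finrank F S + Module.finrank F T := by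
  let e : (S.prod T) ≃ₗ[F] (S × T) :=
    { toFun := fun x => (⟨x.1.1, x.2.1⟩, ⟨x.1.2, x.2.2⟩)
      map_add' := fun _ _ => rfl
      map_smul' := fun _ _ => rfl
      invFun := fun x => ⟨((x.1 : V), (x.2 : W)), x.1.2, x.2.2⟩ }
  rw [e.finrank_eq, Module.finrank_prod]

theorem OrthReal.mul {χ ψ : F[X]} (h1 : OrthReal χ) (h2 : OrthReal ψ) : OrthReal (χ * ψ) := by
  obtain ⟨V, _, _, _, Q, g, N, hQ, hg, hN, hN', rfl⟩ := h1
  obtain ⟨W, _, _, _, R, k, M, hR, hk, kN, kN', rfl⟩ := h2
  refine ⟨V × W, inferInstance, inferInstance, inferInstance, Q.prod R, LinearMap.prodMap g k, N * M,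
    prod_nondeg hQ hR, fun v => ?_, ?_, by rw [Nat.cast_mul]; exact mul_ne_zero hN' kN',
    LinearMap.charpoly_prodMap g k⟩
  · simp [hg, hk]
  · rw [prodMap_pow_eq, pow_mul, hN, one_pow, mul_comm N, pow_mul, kN, one_pow]
    exact LinearMap.ext fun _ => rfl

theorem HypReal.mul {χ ψ : F[X]} (h1 : HypReal χ) (h2 : HypReal ψ) : HypReal (χ * ψ) := by
  obtain ⟨V, _, _, _, Q, g, N, ⟨hQ, hg, hN, hN', rfl⟩, S, hS, hSd⟩ := h1
  obtain ⟨W, _, _, _, R, k, M, ⟨hR, hk, kN, kN', rfl⟩, T, hT, hTd⟩ := h2
  refine ⟨V × W, inferInstance, inferInstance, inferInstance, Q.prod R, LinearMap.prodMap g k, N * M,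
    ⟨prod_nondeg hQ hR, fun v => ?_, ?_, by rw [Nat.cast_mul]; exact mul_ne_zero hN' kN',
      LinearMap.charpoly_prodMap g k⟩, S.prod T, fun x hx => ?_, ?_⟩
  · simp [hg, hk]
  · rw [prodMap_pow_eq, pow_mul, hN, one_pow, mul_comm N, pow_mul, kN, one_pow]
    exact LinearMap.ext fun _ => rfl
  · simp [hS _ hx.1, hT _ hx.2]
  · rw [Module.finrank_prod, ← hSd, ← hTd, finrank_submodule_prod]
    ring

theorem hypReal_one : HypReal (1 : F[X]) := by
  refine ⟨Fin 0 → F, inferInstance, inferInstance, inferInstance, 0, 1, 1,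
    ⟨⟨fun v _ => Subsingleton.elim _ _, fun v _ => Subsingleton.elim _ _⟩, fun v => by simp, one_pow 1,
      by rw [Nat.cast_one]; exact one_ne_zero, ?_⟩, ⊥, fun x hx => ?_, by simp⟩
  · exact eq_one_of_monic_natDegree_zero (LinearMap.charpoly_monic _)
      (by rw [LinearMap.charpoly_natDegree]; simp)
  · rw [Submodule.mem_bot] at hx; simp [hx]

theorem HypReal.pow {χ : F[X]} (h : HypReal χ) : ∀ k : ℕ, HypReal (χ ^ k)
  | 0 => by rw [pow_zero]; exact hypReal_one
  | k + 1 => by rw [pow_succ]; exact (h.pow k).mul h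

theorem OrthReal.pow {χ : F[X]} (h : OrthReal χ) : ∀ k : ℕ, OrthReal (χ ^ k)
  | 0 => by rw [pow_zero]; exact hypReal_one.orthReal
  | k + 1 => by rw [pow_succ]; exact (h.pow k).mul h

section Blocks

variable [Finite F] {f : F[X]}

/-- A hyperbolic pair of blocks. -/
theorem hypReal_pair (hfm : f.Monic) (hf : Irreducible f) (hf0 : f.coeff 0 ≠ 0) :
    HypReal (f * dualPoly (RingHom.id F) f) := by
  haveI : Fact (Irreducible f) := ⟨hf⟩
  haveI : FiniteDimensional F (AdjoinRoot f) := (AdjoinRoot.powerBasis hf.ne_zero).finite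
  haveI : Finite (AdjoinRoot f) := Module.finite_of_finite F
  haveI : Algebra.IsAlgebraic F (AdjoinRoot f) := Algebra.IsAlgebraic.of_finite F _
  set E := AdjoinRoot f
  set x := AdjoinRoot.root f
  have hx0 : x ≠ 0 := root_ne_zero hf0
  obtain ⟨N, hN, hxN⟩ := exists_pow_root hf0
  let Q : QuadraticForm F (E × E) := LinearMap.BilinMap.toQuadraticMap
    ((Algebra.traceForm F E).compl₁₂ (LinearMap.fst F E E) (LinearMap.snd F E E))
  have hQ : ∀ a, Q a = Algebra.trace F E (a.1 * a.2) := fun _ => rfl
  have hp : ∀ a b : E × E, polar Q a b = Algebra.trace F E (a.1 * b.2) + Algebra.trace F E (b.1 * a.2) := fun a b => by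
    rw [QuadraticMap.polar, hQ, hQ, hQ, Prod.fst_add, Prod.snd_add, add_mul, mul_add, mul_add, map_add, map_add,
      map_add]
    ring
  have hnd := traceForm_nondegenerate F E
  refine ⟨E × E, inferInstance, inferInstance, inferInstance, Q,
    LinearMap.prodMap (Algebra.lmul F E x) (Algebra.lmul F E x⁻¹), N,
    ⟨Quad.nondegenerate_of_left fun a ha => ?_, fun a => ?_, ?_, hN, ?_⟩,
    Submodule.prod ⊤ ⊥, fun a ha => ?_, ?_⟩
  · refine Prod.ext (hnd.1 _ fun w => ?_) (hnd.1 _ fun w => ?_)
    · simpa [hp] using ha (0, w)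
    · have := ha (w, 0)
      simp only [hp, mul_zero, zero_mul, map_zero, zero_add] at this
      rw [mul_comm] at this
      exact this
  · rw [hQ, hQ]
    simp only [LinearMap.prodMap_apply, Algebra.coe_lmul_eq_mul, LinearMap.mul_apply_apply]
    rw [show x * a.1 * (x⁻¹ * a.2) = x * x⁻¹ * (a.1 * a.2) by ring, mul_inv_cancel₀ hx0, one_mul]
  · rw [prodMap_pow_eq, ← map_pow, ← map_pow, inv_pow, hxN, inv_one, map_one]
    exact LinearMap.ext fun _ => rfl
  · rw [LinearMap.charpoly_prodMap, end_charpoly_of_mul_eq_one (a := Algebra.lmul F E x)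
      (b := Algebra.lmul F E x⁻¹) (by rw [← map_mul, inv_mul_cancel₀ hx0, map_one]), charpoly_lmul_root hfm]
  · rw [hQ, show a.2 = 0 from (Submodule.mem_bot F).1 ha.2, mul_zero, map_zero]
  · rw [finrank_submodule_prod, Module.finrank_prod, finrank_top, finrank_bot]
    ring

/-- A self-reciprocal block without the roots `±1`. -/
theorem orthReal_self (hfm : f.Monic) (hf : Irreducible f) (hf0 : f.coeff 0 ≠ 0)
    (hd : dualPoly (RingHom.id F) f = f) (h1 : ∀ c : F, c * c = 1 → f.eval c ≠ 0) : OrthReal f := by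
  haveI : Fact (Irreducible f) := ⟨hf⟩
  haveI : FiniteDimensional F (AdjoinRoot f) := (AdjoinRoot.powerBasis hf.ne_zero).finite
  haveI : Finite (AdjoinRoot f) := Module.finite_of_finite F
  haveI : Algebra.IsAlgebraic F (AdjoinRoot f) := Algebra.IsAlgebraic.of_finite F _
  set E := AdjoinRoot f
  set x := AdjoinRoot.root f
  have hx0 : x ≠ 0 := root_ne_zero hf0
  obtain ⟨N, hN, hxN⟩ := exists_pow_root hf0
  obtain ⟨ι, hιx, hιι⟩ := exists_field_involution hf0 hd
  have hθ : x - ι x ≠ 0 := by
    intro h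
    have h2 : x * x = 1 := by
      have h' : x = x⁻¹ := (sub_eq_zero.1 h).trans hιx
      calc x * x = x * x⁻¹ := by rw [← h']
        _ = 1 := mul_inv_cancel₀ hx0
    obtain ⟨c, hc⟩ : ∃ c : F, algebraMap F E c = x := by
      rcases mul_self_eq_one_iff.1 h2 with e | e
      · exact ⟨1, by rw [e, map_one]⟩
      · exact ⟨-1, by rw [e, map_neg, map_one]⟩
    refine h1 c ((algebraMap F E).injective (by rw [map_mul, map_one, hc, h2])) ((algebraMap F E).injective ?_)
    rw [map_zero, ← eval₂_at_apply, hc, AdjoinRoot.algebraMap_eq]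
    exact AdjoinRoot.eval₂_root f
  set μ := x / (x - ι x)
  have hμ : μ + ι μ = 1 := by
    have e : ι μ = ι x / (ι x - x) := by rw [map_div₀, map_sub, hιι]
    rw [e, ← neg_sub x (ι x), div_neg, ← sub_eq_add_neg, ← sub_div, div_self hθ]
  let Q : QuadraticForm F E := LinearMap.BilinMap.toQuadraticMap
    ((Algebra.traceForm F E).compl₁₂ (Algebra.lmul F E μ) ι.toLinearMap)
  have hQ : ∀ a, Q a = Algebra.trace F E (μ * a * ι a) := fun _ => rfl
  have hp : ∀ a b, polar Q a b = Algebra.trace F E (a * ι b) := fun a b => by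
    rw [QuadraticMap.polar, hQ, hQ, hQ]
    have e : μ * (a + b) * ι (a + b) = μ * a * ι a + μ * b * ι b + (μ * (a * ι b) + μ * (b * ι a)) := by
      rw [map_add]; ring
    have e2 : Algebra.trace F E (μ * (b * ι a)) = Algebra.trace F E (ι μ * (a * ι b)) := by
      rw [← Algebra.trace_eq_of_algEquiv ι (μ * (b * ι a)), map_mul ι, map_mul ι, hιι, mul_comm (ι b) a]
    rw [e, map_add, map_add, map_add, e2, ← map_add (Algebra.trace F E) (μ * (a * ι b)), ← add_mul, hμ, one_mul]
    ring
  have hnd := traceForm_nondegenerate F E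
  refine ⟨E, inferInstance, inferInstance, inferInstance, Q, Algebra.lmul F E x, N,
    Quad.nondegenerate_of_left fun a ha => ?_, fun a => ?_, ?_, hN, charpoly_lmul_root hfm⟩
  · refine hnd.1 a fun w => ?_
    have := ha (ι w)
    rwa [hp, hιι] at this
  · rw [hQ, hQ]
    simp only [Algebra.coe_lmul_eq_mul, LinearMap.mul_apply_apply, map_mul]
    rw [show ι x = x⁻¹ from hιx, show μ * (x * a) * (x⁻¹ * ι a) = x * x⁻¹ * (μ * a * ι a) by ring,
      mul_inv_cancel₀ hx0, one_mul]
  · rw [← map_pow, hxN, map_one]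

end Blocks

section Transfer

variable [Finite F] {V W : Type u} [AddCommGroup V] [Module F V] [FiniteDimensional F V] [AddCommGroup W]
  [Module F W] [FiniteDimensional F W]

/-- An isometry of a subspace extends by the identity. -/
theorem exists_extend {Q : QuadraticForm F V} (hQ : (polarBilin Q).Nondegenerate) {R : QuadraticForm F W}
    (j : V →ₗ[F] W) (hj : ∀ v, R (j v) = Q v) (g : Module.End F V)
    (hg : ∀ v, Q (g v) = Q v) {N : ℕ} (hN : g ^ N = 1) :
    ∃ g' : Module.End F W, (∀ w, R (g' w) = R w) ∧ g' ^ N = 1 ∧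
      g'.charpoly = g.charpoly * (X - C 1) ^ (Module.finrank F W - Module.finrank F V) := by
  have hjp : ∀ u v, polar R (j u) (j v) = polar Q u v := fun u v => by
    simp only [QuadraticMap.polar, ← map_add, hj]
  let π : W →ₗ[F] V := (LinearMap.BilinForm.toDual (polarBilin Q) hQ).symm.toLinearMap ∘ₗ ((polarBilin R).compl₂ j)
  have hπ : ∀ w v, polar Q (π w) v = polar R w (j v) := fun w v => by
    show polarBilin Q ((LinearMap.BilinForm.toDual (polarBilin Q) hQ).symm ((polarBilin R).compl₂ j w)) v = _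
    rw [LinearMap.BilinForm.apply_toDual_symm_apply]
    rfl
  have hπj : ∀ v, π (j v) = v := fun v =>
    eq_of_form_left hQ fun z => by
      show polar Q (π (j v)) z = polar Q v z
      rw [hπ, hjp]
  let U := LinearMap.ker π
  let e : (V × U) ≃ₗ[F] W :=
    { toFun := fun z => j z.1 + (z.2 : W)
      map_add' := fun z z' => by simp only [Prod.fst_add, Prod.snd_add, map_add, Submodule.coe_add]; abel
      map_smul' := fun c z => by simp [smul_add]
      invFun := fun w => (π w, ⟨w - j (π w), by rw [LinearMap.mem_ker, map_sub, hπj, sub_self]⟩)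
      left_inv := fun z => by
        refine Prod.ext ?_ (Subtype.ext ?_)
        · show π (j z.1 + (z.2 : W)) = z.1
          rw [map_add, hπj, LinearMap.mem_ker.1 z.2.2, add_zero]
        · show j z.1 + (z.2 : W) - j (π (j z.1 + (z.2 : W))) = z.2
          rw [map_add π, hπj, LinearMap.mem_ker.1 z.2.2, add_zero, add_sub_cancel_left]
      right_inv := fun w => add_sub_cancel _ _ }
  have he : ∀ z, R (e z) = Q z.1 + R (z.2 : W) := fun z => by
    show R (j z.1 + (z.2 : W)) = _
    rw [Quad.apply_add, hj, QuadraticMap.polar_comm, ← hπ, LinearMap.mem_ker.1 z.2.2]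
    simp [QuadraticMap.polar]
  refine ⟨e.conj (LinearMap.prodMap g LinearMap.id), fun w => ?_, ?_, ?_⟩
  · obtain ⟨z, rfl⟩ := e.surjective w
    rw [LinearEquiv.conj_apply_apply, e.symm_apply_apply, he, he]
    simp [hg]
  · have hc : ∀ k : ℕ, e.conj (LinearMap.prodMap g LinearMap.id) ^ k =
        e.conj ((LinearMap.prodMap g LinearMap.id : Module.End F (V × U)) ^ k) := fun k => by
      induction k with
      | zero => exact (LinearEquiv.conj_id e).symm
      | succ k ih =>
        rw [pow_succ, ih, pow_succ, Module.End.mul_eq_comp, Module.End.mul_eq_comp, LinearEquiv.conj_comp]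
    rw [hc, ← Module.End.one_eq_id, prodMap_pow_eq, hN, one_pow]
    exact (LinearEquiv.conj_id e)
  · have hd : Module.finrank F W - Module.finrank F V = Module.finrank F U := by
      rw [← e.finrank_eq, Module.finrank_prod, Nat.add_sub_cancel_left]
    rw [LinearEquiv.charpoly_conj, LinearMap.charpoly_prodMap, ← Module.End.one_eq_id, LinearMap.charpoly_one, hd,
      C_1]

/-- Spaces with isometries of odd order without fixed points and with the same characteristic polynomial
are isometric. -/
theorem exists_isometry_of_charpoly {Q : QuadraticForm F V} (hQ : (polarBilin Q).Nondegenerate)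
    {R : QuadraticForm F W} (hR : (polarBilin R).Nondegenerate) (g : Module.End F V) (hg : ∀ v, Q (g v) = Q v)
    (k : Module.End F W) (hk : ∀ v, R (k v) = R v) {N : ℕ} (hodd : Odd N) (hN : (N : F) ≠ 0) (hgN : g ^ N = 1)
    (hkN : k ^ N = 1) (hc : g.charpoly = k.charpoly) (h1 : g.charpoly.eval 1 ≠ 0) :
    ∃ f : V ≃ₗ[F] W, ∀ v, R (f v) = Q v := by
  obtain ⟨M, hM⟩ : ∃ M, N = M + 1 := Nat.exists_eq_succ_of_ne_zero (by rintro rfl; exact hN Nat.cast_zero)
  subst hM
  obtain ⟨e, he⟩ := Known.SemisimpleClass.exists_equiv _ V W g k _ hgN hkN hN hc rfl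
  let a : V ≃ₗ[F] V := LinearEquiv.ofLinear g (g ^ M)
    (by rw [← Module.End.mul_eq_comp, ← pow_succ', hgN]; rfl) (by rw [← Module.End.mul_eq_comp, ← pow_succ, hgN]; rfl)
  let a' : W ≃ₗ[F] W := LinearEquiv.ofLinear k (k ^ M)
    (by rw [← Module.End.mul_eq_comp, ← pow_succ', hkN]; rfl) (by rw [← Module.End.mul_eq_comp, ← pow_succ, hkN]; rfl)
  have hfix : ∀ v, g v = v → v = 0 := fun v hv => by
    by_contra hne
    refine h1 ((Module.End.hasEigenvalue_iff_isRoot_charpoly g (1 : F)).1 ?_)
    refine Module.End.hasEigenvalue_of_hasEigenvector (x := v) ⟨?_, hne⟩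
    rw [Module.End.mem_eigenspace_iff, one_smul, hv]
  have hpow : ∀ i v, g (g v) = v → (g ^ (2 * i)) v = v := by
    intro i v hv
    induction i with
    | zero => rfl
    | succ i ih => rw [show 2 * (i + 1) = 2 + 2 * i by ring, pow_add, Module.End.mul_apply, ih, pow_two]; exact hv
  have hbQ : ∀ u v, polarBilin Q (a u) (a v) = polarBilin Q u v := fun u v => by
    show polar Q (g u) (g v) = polar Q u v
    simp only [QuadraticMap.polar, ← map_add, hg]
  have hbR : ∀ u v, polarBilin R (a' u) (a' v) = polarBilin R u v := fun u v => by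
    show polar R (k u) (k v) = polar R u v
    simp only [QuadraticMap.polar, ← map_add, hk]
  obtain ⟨f, hf, hfb⟩ := exists_isometric_of_fpf (1 : F) hQ
    (fun u v => by rw [one_mul]; exact QuadraticMap.polar_comm _ _ _) hR
    (fun u v => by rw [one_mul]; exact QuadraticMap.polar_comm _ _ _) a hbQ a' hbR e
    (fun v => by show e (g v) = k (e v); rw [he, LinearEquiv.conj_apply_apply, e.symm_apply_apply])
    fun v hv => by
      refine hfix v ?_
      obtain ⟨i, hi⟩ := hodd
      have h := LinearMap.congr_fun hgN v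
      rw [hi, pow_succ', Module.End.mul_apply, hpow i v hv] at h
      exact h
  refine ⟨f, fun v => sub_eq_zero.1 ?_⟩
  let d : V → F := fun v => R (f v) - Q v
  have hadd : ∀ u v, d (u + v) = d u + d v := fun u v => by
    have h1 : polar R (f u) (f v) = polar Q u v := hfb u v
    simp only [QuadraticMap.polar] at h1
    simp only [d, map_add]
    linear_combination h1
  have hinv : ∀ u, d (g u) = d u := fun u => by
    simp only [d, show f (g u) = k (f u) from hf u, hg, hk]
  obtain ⟨u, rfl⟩ : ∃ u, g u - u = v := by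
    have hinj : Function.Injective (g - 1 : Module.End F V) := (injective_iff_map_eq_zero _).2 fun u hu =>
      hfix u (sub_eq_zero.1 hu)
    exact LinearMap.injective_iff_surjective.1 hinj v
  show d (g u - u) = 0
  have h2 := hadd (g u - u) u
  rw [sub_add_cancel, hinv] at h2
  exact (eq_comm.1 (add_eq_right.1 h2.symm)).symm

omit [FiniteDimensional F W] in
/-- An isometry of prime order without fixed points permutes the non-zero singular vectors freely. -/
theorem card_zero_modEq {R : QuadraticForm F W} [Finite W] (k : Module.End F W) (hk : ∀ v, R (k v) = R v) {r : ℕ}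
    (hr : r.Prime) (hkr : k ^ r = 1) (h1 : ∀ v, k v = v → v = 0) :
    Nat.card {v : W // R v = 0} ≡ 1 [MOD r] := by
  classical
  haveI : Fact r.Prime := ⟨hr⟩
  haveI := Fintype.ofFinite {v : W // R v = 0}
  let φ : Function.End {v : W // R v = 0} := fun v => ⟨k v.1, (hk _).trans v.2⟩
  have hpow : ∀ (i : ℕ) (v : {v : W // R v = 0}), ((φ ^ i) v).1 = (k ^ i) v.1 := by
    intro i
    induction i with
    | zero => intro v; rfl
    | succ i ih => intro v; rw [pow_succ', pow_succ']; exact congrArg k (ih v)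
  have hφ : φ ^ r ^ 1 = 1 := funext fun v => Subtype.ext (by rw [pow_one, hpow, hkr]; rfl)
  have h := Equiv.Perm.card_fixedPoints_modEq hφ
  rw [Nat.card_eq_fintype_card]
  refine h.trans ?_
  rw [show Fintype.card (Function.fixedPoints φ) = 1 from Fintype.card_eq_one_iff.2 ?_]
  refine ⟨⟨⟨0, map_zero R⟩, Subtype.ext (map_zero k)⟩, fun v => Subtype.ext (Subtype.ext (h1 _ ?_))⟩
  exact congrArg Subtype.val v.2

end Transfer

end CfsgLib.Classical.ClassTheory
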