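import Cfsg.Agent.Lib.Classical.ClassTheory.SpPrime
import Cfsg.Agent.Lib.Classical.ClassTheory.OrthModels
import Cfsg.Agent.Lib.Classical.ClassTheory.OrthEmbed

/-!
# Classes of elements of odd prime order of orthogonal groups
-/

set_option autoImplicit false

open Polynomial

namespace CfsgLib.Classical.ClassTheory

open QuadraticMap (polar polarBilin)
open CfsgLib.Known CfsgLib.Known.QuadClassify

universe u

variable {F : Type u} [Field F] [Fintype F]

theorem charpoly_linAlgEquiv {R : Type*} [CommRing R] {ι : Type*} [Fintype ι] [DecidableEq ι] (M : Matrix ι ι R) :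
    (Matrix.toLinAlgEquiv' M).charpoly = M.charpoly := Matrix.charpoly_toLin' M

section Group

variable {κ : Type} [Fintype κ] [DecidableEq κ] {p : ℕ} [Fact p.Prime] [CharP F p]

/-- The isometry group inside `GL` on `Fin n`. -/
noncomputable def isoToGL (Q : QuadraticForm F (κ → F)) :
    ↥(Cfsg.isometryGroup F ⇑Q) →* GL (Fin (Fintype.card κ)) F :=
  (Units.map (Matrix.reindexAlgEquiv F F (Fintype.equivFin κ)).toMonoidHom).comp (Cfsg.isometryGroup F ⇑Q).subtype

omit [Fintype F] in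
theorem isoToGL_injective (Q : QuadraticForm F (κ → F)) : Function.Injective (isoToGL Q) := fun x y h =>
  Subtype.ext (Units.ext ((Matrix.reindexAlgEquiv F F (Fintype.equivFin κ)).injective (congrArg Units.val h)))

omit [Fintype F] in
theorem charpoly_isoToGL {Q : QuadraticForm F (κ → F)} (g : ↥(Cfsg.isometryGroup F ⇑Q)) :
    (isoToGL Q g : Matrix (Fin (Fintype.card κ)) (Fin (Fintype.card κ)) F).charpoly =
      ((g : GL κ F) : Matrix κ κ F).charpoly :=
  Matrix.charpoly_reindex (Fintype.equivFin κ) _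

theorem orth_isConj_of_charpoly {Q : QuadraticForm F (κ → F)} (hQ : (polarBilin Q).Nondegenerate)
    (g h : ↥(Cfsg.isometryGroup F ⇑Q)) (hodd : Odd (orderOf g)) (hg : (orderOf g).Coprime p)
    (hh : (orderOf h).Coprime p)
    (hc : ((g : GL κ F) : Matrix κ κ F).charpoly = ((h : GL κ F) : Matrix κ κ F).charpoly) : IsConj g h := by
  rw [orth_isConj_iff (p := p) Q hQ g h hodd hg]
  obtain ⟨u, hu⟩ := SemisimpleClass.isConj_of_charpoly_eq (p := p) (isoToGL Q g) (isoToGL Q h)
    (by rwa [orderOf_injective _ (isoToGL_injective Q)]) (by rwa [orderOf_injective _ (isoToGL_injective Q)])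
    (by rwa [charpoly_isoToGL, charpoly_isoToGL])
  have h2 := MonoidHom.map_isConj (Matrix.reindexAlgEquiv F F (Fintype.equivFin κ)).symm.toMonoidHom
    (MonoidHom.map_isConj (Units.coeHom _) (⟨u, hu⟩ : IsConj (isoToGL Q g) (isoToGL Q h)))
  simpa [isoToGL] using h2

omit [Fintype F] in
theorem dualPoly_charpoly_orth {Q : QuadraticForm F (κ → F)} (hQ : (polarBilin Q).Nondegenerate)
    (g : ↥(Cfsg.isometryGroup F ⇑Q)) :
    dualPoly (RingHom.id F) ((g : GL κ F) : Matrix κ κ F).charpoly = ((g : GL κ F) : Matrix κ κ F).charpoly := by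
  set A := ((g : GL κ F) : Matrix κ κ F)
  set J := LinearMap.BilinForm.toMatrix' (polarBilin Q) with hJ
  have hJu : IsUnit J := by
    rw [Matrix.isUnit_iff_isUnit_det]
    exact isUnit_iff_ne_zero.2 (LinearMap.BilinForm.nondegenerate_iff_det_ne_zero (Pi.basisFun F κ) |>.1 hQ)
  have hcomp : A.transpose * J * A = J := by
    have hb : (polarBilin Q).compl₁₂ (Matrix.toLin' A) (Matrix.toLin' A) = polarBilin Q :=
      LinearMap.ext fun u => LinearMap.ext fun v => by
        show polar Q (A.mulVec u) (A.mulVec v) = polar Q u v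
        have hg : ∀ w, Q (A.mulVec w) = Q w := fun w => g.2 w w
        simp only [QuadraticMap.polar, ← Matrix.mulVec_add, hg]
    conv_rhs => rw [hJ, ← hb]
    have h := LinearMap.BilinForm.toMatrix'_comp (polarBilin Q) (Matrix.toLin' A) (Matrix.toLin' A)
    rw [LinearMap.toMatrix'_toLin'] at h
    exact h.symm
  obtain ⟨u, hu⟩ := hJu
  have hinv : ((u⁻¹ : (Matrix κ κ F)ˣ) : Matrix κ κ F) * A.transpose * J * A = 1 := by
    rw [mul_assoc, mul_assoc, ← mul_assoc A.transpose, hcomp, ← hu, Units.inv_mul]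
  rw [← charpoly_of_mul_eq_one hinv, mul_assoc, Matrix.charpoly_mul_comm, mul_assoc, ← hu, Units.mul_inv, mul_one,
    Matrix.charpoly_transpose]

/-- An isometry as a group element. -/
theorem exists_mem_isometry (R : QuadraticForm F (κ → F)) (g : Module.End F (κ → F)) (hg : ∀ v, R (g v) = R v)
    {N : ℕ} (hN : g ^ N = 1) (hN' : (N : F) ≠ 0) :
    ∃ A : ↥(Cfsg.isometryGroup F ⇑R), (orderOf A).Coprime p ∧
      ((A : GL κ F) : Matrix κ κ F).charpoly = g.charpoly := by
  have hN0 : N ≠ 0 := fun h => hN' (by rw [h, Nat.cast_zero])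
  have hMN : LinearMap.toMatrixAlgEquiv' g ^ N = 1 := by rw [← map_pow, hN, map_one]
  let U : GL κ F := Units.ofPowEqOne _ N hMN hN0
  have hmem : U ∈ Cfsg.isometryGroup F ⇑R := fun u v => by
    show R (Matrix.mulVec (LinearMap.toMatrixAlgEquiv' g) u) = R u
    rw [show Matrix.mulVec (LinearMap.toMatrixAlgEquiv' g) u = g u from LinearMap.toMatrix'_mulVec g u, hg]
  refine ⟨⟨U, hmem⟩, ?_, ?_⟩
  · refine Nat.Coprime.coprime_dvd_left (orderOf_dvd_of_pow_eq_one (n := N) (Subtype.ext (Units.ext ?_)))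
      (Nat.coprime_comm.1 ((Fact.out : p.Prime).coprime_iff_not_dvd.2 fun h =>
        hN' ((CharP.cast_eq_zero_iff F p _).2 h)))
    rw [Subgroup.coe_pow, Units.val_pow_eq_pow_val]
    exact hMN
  · show (LinearMap.toMatrix' g).charpoly = g.charpoly
    rw [← Matrix.charpoly_toLin', Matrix.toLin'_toMatrix']

end Group

variable {p : ℕ} [Fact p.Prime] [CharP F p] {r : ℕ} (hr : r.Prime) (hr2 : r ≠ 2) (hrp : r ≠ p) {i t : ℕ}
  (hi : i = orderOf (Fintype.card F : ZMod r)) (ht : t * i = r - 1)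

/-- The part without the root `1`. -/
noncomputable def movedPart (a : cycFactors F r → ℕ) : F[X] := ∏ j : cycFactors F r, (j : F[X]) ^ a j

local notation "δ" => dualPerm (F := F) (p := p) hr hrp (RingHom.id F) (fun _ => rfl)

include p hr hrp hi ht in
theorem movedPart_facts (a : cycFactors F r → ℕ) :
    (movedPart a).natDegree = i * ∑ j, a j ∧ (movedPart a).eval 1 ≠ 0 := by
  have hdeg := (cycFactors_facts hr hrp hi ht (p := p) (F := F)).1
  constructor
  · rw [movedPart, natDegree_prod_of_monic _ _ fun j _ => (mem_cycFactors_irreducible j.2).2.pow _, Finset.mul_sum]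
    simp only [natDegree_pow, hdeg _ (Subtype.coe_prop _), mul_comm i]
  · rw [movedPart, eval_prod, Finset.prod_ne_zero_iff]
    intro j _
    rw [eval_pow]
    refine pow_ne_zero _ fun h => ?_
    obtain ⟨hirr, hm⟩ := mem_cycFactors_irreducible j.2
    exact mem_cycFactors_ne hr (natCast_prime_ne_zero (p := p) hr hrp) j.2
      (eq_of_monic_of_associated hm (monic_X_sub_C 1)
        ((irreducible_X_sub_C (1 : F)).associated_of_dvd hirr (dvd_iff_isRoot.2 h)).symm)

include hr hr2 hrp hi in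
theorem dualPerm_eq_iff (j : cycFactors F r) : δ j = j ↔ Even i := by
  haveI : Fact r.Prime := ⟨hr⟩
  rw [Subtype.ext_iff]
  show dualPoly (RingHom.id F) (j : F[X]) = j ↔ _
  rw [dualPoly_eq_self_iff hr hrp (p := p) (RingHom.id F) (fun _ => rfl) j.2 1
    (fun L _ _ => ⟨RingHom.id L, fun _ => rfl, fun z => (pow_one z).symm⟩), Nat.cast_one, hi]
  refine exists_pow_eq_neg_one_iff hr hr2 _ fun h0 => ?_
  obtain ⟨f₀, -, hq⟩ := FiniteField.card F p
  have hdvd : r ∣ Fintype.card F := (ZMod.natCast_eq_zero_iff _ _).1 h0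
  rw [hq] at hdvd
  exact hrp ((Nat.prime_dvd_prime_iff_eq hr Fact.out).1 (hr.dvd_of_dvd_pow hdvd))

include p hr hr2 hrp hi in
theorem fixed_of_even (hev : Even i) (a : cycFactors F r → ℕ) : a ∘ δ = a := funext fun j => by
  rw [Function.comp_apply, (dualPerm_eq_iff hr hr2 hrp hi j).2 hev]

include p hr hr2 hrp hi in
theorem exists_half (hodd : Odd i) :
    ∃ J : Finset (cycFactors F r), ∀ b : cycFactors F r → F[X],
      ∏ j, b j = ∏ j ∈ J, b j * b (δ j) := by
  classical
  let e := Fintype.equivFin (cycFactors F r)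
  refine ⟨Finset.univ.filter fun j => e j < e (δ j), fun b => ?_⟩
  rw [← Finset.prod_filter_mul_prod_filter_not Finset.univ (fun j => e j < e (δ j)), Finset.prod_mul_distrib]
  congr 1
  refine Finset.prod_nbij' (fun j => δ j) (fun j => δ j) (fun j hj => ?_) (fun j hj => ?_)
    (fun j _ => dualPerm_invol hr hrp (RingHom.id F) (fun _ => rfl) j)
    (fun j _ => dualPerm_invol hr hrp (RingHom.id F) (fun _ => rfl) j)
    (fun j _ => by rw [dualPerm_invol hr hrp (RingHom.id F) (fun _ => rfl) j])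
  · simp only [Finset.mem_filter, Finset.mem_coe, Finset.mem_univ, true_and, not_lt] at hj ⊢
    rw [dualPerm_invol hr hrp (RingHom.id F) (fun _ => rfl) j]
    exact lt_of_le_of_ne hj fun h => Nat.not_even_iff_odd.2 hodd
      ((dualPerm_eq_iff hr hr2 hrp hi j).1 (e.injective h))
  · simp only [Finset.mem_filter, Finset.mem_coe, Finset.mem_univ, true_and, not_lt] at hj ⊢
    rw [dualPerm_invol hr hrp (RingHom.id F) (fun _ => rfl) j]
    exact hj.le

include p hr hr2 hrp hi ht in
theorem hypReal_movedPart (hodd : Odd i) {a : cycFactors F r → ℕ} (hfix : a ∘ δ = a) :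
    HypReal (movedPart a) := by
  classical
  obtain ⟨J, hJ⟩ := exists_half hr hr2 hrp hi hodd
  rw [movedPart, hJ]
  refine Finset.prod_induction _ HypReal (fun _ _ h1 h2 => h1.mul h2) hypReal_one fun j _ => ?_
  rw [show a (δ j) = a j from congrFun hfix j, ← mul_pow]
  exact (hypReal_pair (mem_cycFactors_irreducible j.2).2 (mem_cycFactors_irreducible j.2).1
    (mem_cycFactors_coeff_zero hr j.2)).pow _

include p hr hr2 hrp hi ht in
theorem orthReal_movedPart (hev : Even i) (a : cycFactors F r → ℕ) : OrthReal (movedPart a) := by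
  classical
  rw [movedPart]
  refine Finset.prod_induction _ OrthReal (fun _ _ h1 h2 => h1.mul h2) hypReal_one.orthReal fun j _ => OrthReal.pow ?_ _
  obtain ⟨hirr, hm⟩ := mem_cycFactors_irreducible j.2
  refine orthReal_self hm hirr (mem_cycFactors_coeff_zero hr j.2)
    (congrArg Subtype.val ((dualPerm_eq_iff hr hr2 hrp hi j).2 hev)) fun c _ h => ?_
  have hd : (j : F[X]).natDegree = 1 :=
    natDegree_eq_of_degree_eq_some (degree_eq_one_of_irreducible_of_root hirr h)
  rw [(cycFactors_facts hr hrp hi ht (p := p) (F := F)).1 _ j.2] at hd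
  rw [hd] at hev
  exact Nat.not_even_one hev

include p hr hr2 hrp hi ht in
theorem even_moved {a : cycFactors F r → ℕ} (hfix : a ∘ δ = a) : Even (i * ∑ j, a j) := by
  rcases Nat.even_or_odd i with h | h
  · exact h.mul_right _
  · obtain ⟨V, _, _, _, Q, g, N, ⟨_, _, _, _, hc⟩, S, -, hS⟩ := hypReal_movedPart hr hr2 hrp hi ht h hfix
    rw [← (movedPart_facts hr hrp hi ht a).1, ← hc, LinearMap.charpoly_natDegree, ← hS]
    exact even_two_mul _

include p hr hrp in
theorem pow_prime_eq_one {V : Type u} [AddCommGroup V] [Module F V] [FiniteDimensional F V] (g : Module.End F V) {N : ℕ}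
    (hN : g ^ N = 1) (hN' : (N : F) ≠ 0) {a : cycFactors F r → ℕ} (hc : g.charpoly = multPoly r (Module.finrank F V) i a) :
    g ^ r = 1 := by
  classical
  let b := Module.finBasis F V
  let A := LinearMap.toMatrixAlgEquiv b g
  have hA : A ^ N = 1 := by rw [← map_pow, hN, map_one]
  let U : GL (Fin (Module.finrank F V)) F := Units.ofPowEqOne A N hA fun h => hN' (by rw [h, Nat.cast_zero])
  have h := pow_eq_one_of_mult hr hrp (p := p) U (Nat.Coprime.coprime_dvd_left
    (orderOf_dvd_of_pow_eq_one (n := N) (Units.ext (by rw [Units.val_pow_eq_pow_val]; exact hA)))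
    (Nat.coprime_comm.1 ((Fact.out : p.Prime).coprime_iff_not_dvd.2 fun h =>
        hN' ((CharP.cast_eq_zero_iff F p _).2 h)))) (a := a) (i := i)
    (by rw [← hc]; exact LinearMap.charpoly_toMatrix g b)
  have h' : A ^ r = 1 := by
    have := congrArg Units.val h
    rwa [Units.val_pow_eq_pow_val] at this
  exact (LinearMap.toMatrixAlgEquiv b).injective (by rw [map_pow, map_one]; exact h')

include p hr hrp hi ht in
theorem charpoly_fpf {V : Type u} [AddCommGroup V] [Module F V] [FiniteDimensional F V] (g : Module.End F V)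
    {a : cycFactors F r → ℕ} (hc : g.charpoly = movedPart a) :
    g.charpoly = multPoly r (Module.finrank F V) i a ∧ ∀ v, g v = v → v = 0 := by
  refine ⟨?_, fun v hv => ?_⟩
  · have hd : Module.finrank F V = i * ∑ j, a j := by
      rw [← LinearMap.charpoly_natDegree g, hc, (movedPart_facts hr hrp hi ht a).1]
    rw [hc, multPoly_eq, hd, Nat.sub_self, pow_zero, one_mul]
    rfl
  · by_contra hne
    refine (movedPart_facts hr hrp hi ht a).2 (hc ▸ (Module.End.hasEigenvalue_iff_isRoot_charpoly g (1 : F)).1 ?_)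
    refine Module.End.hasEigenvalue_of_hasEigenvector (x := v) ⟨?_, hne⟩
    rw [Module.End.mem_eigenspace_iff, one_smul, hv]

include p hr hr2 hrp hi ht in
/-- The type of a space with a fixed-point-free isometry of order `r`, `i` even. -/
theorem parity_of_fpf (hev : Even i) {V : Type u} [AddCommGroup V] [Module F V] [FiniteDimensional F V]
    {Q : QuadraticForm F V} (g : Module.End F V) (hg : ∀ v, Q (g v) = Q v) {N : ℕ} (hN : g ^ N = 1)
    (hN' : (N : F) ≠ 0) {a : cycFactors F r → ℕ} (hc : g.charpoly = movedPart a) {m : ℕ}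
    (hm : Module.finrank F V = 2 * m) :
    (∀ e : (Fin m ⊕ Fin m → F) ≃ₗ[F] V, (∀ v, Q (e v) = Cfsg.quadFormPlus m F v) → Even (∑ j, a j)) ∧
    (∀ k, m = k + 1 → ∀ (A C : F), (∀ z₁ z₂ : F, z₁ ^ 2 + A * z₁ * z₂ + C * z₂ ^ 2 = 0 → z₁ = 0 ∧ z₂ = 0) →
      ∀ e : ((Fin k ⊕ Fin k) ⊕ Fin 2 → F) ≃ₗ[F] V,
        (∀ v, Q (e v) = Cfsg.quadFormMinus k F A C v) → Odd (∑ j, a j)) := by
  classical
  haveI : Fact r.Prime := ⟨hr⟩
  haveI : Finite V := Module.finite_of_finite F
  obtain ⟨hc', hfix⟩ := charpoly_fpf hr hrp hi ht g hc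
  have hz := card_zero_modEq g hg hr (pow_prime_eq_one hr hrp g hN hN' hc') hfix
  rw [← ZMod.natCast_eq_natCast_iff, Nat.cast_one] at hz
  set q : ZMod r := (Fintype.card F : ZMod r)
  have hi0 := (cycFactors_facts hr hrp hi ht (p := p) (F := F)).2.2
  obtain ⟨l, hl⟩ := hev
  haveI : Fact (2 < r) := ⟨lt_of_le_of_ne hr.two_le (Ne.symm hr2)⟩
  have hne : (-1 : ZMod r) ≠ 1 := ZMod.neg_one_ne_one
  have hql : q ^ l = -1 := by
    have h1 : q ^ l * q ^ l = 1 := by rw [← pow_add, ← hl, hi, pow_orderOf_eq_one]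
    refine (mul_self_eq_one_iff.1 h1).resolve_left (pow_ne_one_of_lt_orderOf (by omega) ?_)
    rw [← hi]
    omega
  have hq1 : q ≠ 1 := fun h => by rw [h, one_pow] at hql; exact hne hql.symm
  have hxm : q ^ m = (-1) ^ (∑ j, a j) := by
    have hd : 2 * m = i * ∑ j, a j := by
      rw [← hm, ← LinearMap.charpoly_natDegree g, hc, (movedPart_facts hr hrp hi ht a).1]
    rw [← hql, ← pow_mul]
    congr 1
    rw [hl, ← two_mul, mul_assoc] at hd
    omega
  have hsq : q ^ m * q ^ m = 1 := by rw [hxm, ← mul_pow, neg_one_mul, neg_neg, one_pow]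
  constructor
  · intro e he
    have hcard := Quad.card_zero_plus (F := F) (q := Fintype.card F) rfl m
    rw [Nat.card_congr (e.toEquiv.subtypeEquiv (q := fun v => Q v = 0) fun v => by
      rw [← he]; rfl)] at hcard
    have h2 := congrArg (fun z : ℤ => (z : ZMod r)) hcard
    simp only [Int.cast_mul, Int.cast_sub, Int.cast_add, Int.cast_pow, Int.cast_natCast, hz, two_mul, pow_add,
      pow_one] at h2
    rcases mul_self_eq_one_iff.1 hsq with h | h
    · rw [hxm] at h
      exact neg_one_pow_eq_one_iff_even hne |>.1 h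
    · exfalso
      rw [h] at h2
      have h3 : (q - 1) * 2 = 0 := by linear_combination h2
      refine hq1 (sub_eq_zero.1 ((mul_eq_zero.1 h3).resolve_right ?_))
      intro h2'
      exact hne (by linear_combination -h2')
  · intro k hm1 A C hAC e he
    subst hm1
    have hcard := Quad.card_zero_minus (F := F) (q := Fintype.card F) rfl k hAC
    rw [Nat.card_congr (e.toEquiv.subtypeEquiv (q := fun v => Q v = 0) fun v => by
      rw [← he]; rfl)] at hcard
    have h2 := congrArg (fun z : ℤ => (z : ZMod r)) hcard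
    simp only [two_mul, pow_add, pow_one, Int.cast_mul, Int.cast_sub, Int.cast_add, Int.cast_pow, Int.cast_natCast, hz] at h2
    rcases mul_self_eq_one_iff.1 hsq with h | h
    · exfalso
      rw [pow_succ] at h
      have h3 : (q - 1) * 2 = 0 := by
        linear_combination q * h2 + (q ^ k * q + 2 - q) * h
      refine hq1 (sub_eq_zero.1 ((mul_eq_zero.1 h3).resolve_right ?_))
      intro h2'
      exact hne (by linear_combination -h2')
    · rw [hxm] at h
      refine Nat.not_even_iff_odd.1 fun hev' => hne ?_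
      rw [← h, hev'.neg_one_pow]

include p hr hr2 hrp hi ht in
/-- No fixed-point-free element of order `r` in minus type when `i` is odd. -/
theorem no_minus_fpf (hodd : Odd i) {k : ℕ} {A C : F}
    (hAC : ∀ z₁ z₂ : F, z₁ ^ 2 + A * z₁ * z₂ + C * z₂ ^ 2 = 0 → z₁ = 0 ∧ z₂ = 0)
    (g : Module.End F ((Fin k ⊕ Fin k) ⊕ Fin 2 → F)) (hg : ∀ v, Quad.qMinus k F A C (g v) = Quad.qMinus k F A C v)
    {N : ℕ} (hN : g ^ N = 1) (hN' : (N : F) ≠ 0) {a : cycFactors F r → ℕ} (hfix : a ∘ δ = a)
    (hc : g.charpoly = movedPart a) : False := by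
  obtain ⟨V, _, _, _, Q, h, M, ⟨hQ, hh, hM, hM', hhc⟩, S, hS, hSd⟩ := hypReal_movedPart hr hr2 hrp hi ht hodd hfix
  have h1 := pow_prime_eq_one hr hrp g hN hN' (charpoly_fpf hr hrp hi ht g hc).1
  have h2 := pow_prime_eq_one hr hrp h hM hM' (charpoly_fpf hr hrp hi ht h hhc).1
  obtain ⟨f, hf⟩ := exists_isometry_of_charpoly hQ (Quad.qMinus_nondeg hAC k) h hh g hg (hr.odd_of_ne_two hr2)
    (natCast_prime_ne_zero (p := p) hr hrp) h2 h1 (hhc.trans hc.symm) (hhc ▸ (movedPart_facts hr hrp hi ht a).2)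
  have h3 := Quad.qMinus_no_half hAC k (S.map (f : V →ₗ[F] ((Fin k ⊕ Fin k) ⊕ Fin 2 → F))) (by
    rintro _ ⟨x, hx, rfl⟩
    exact (hf x).trans (hS x hx))
  rw [LinearEquiv.finrank_map_eq] at h3
  have h4 := f.finrank_eq
  simp at h4
  omega

include p hr hrp hi ht in
/-- An isometric embedding of a model gives a class. -/
theorem exists_of_embedding {κ : Type} [Fintype κ] [DecidableEq κ] (R : QuadraticForm F (κ → F))
    {V : Type u} [AddCommGroup V] [Module F V] [FiniteDimensional F V] {Q : QuadraticForm F V}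
    (hQ : (polarBilin Q).Nondegenerate) (g : Module.End F V) (hg : ∀ v, Q (g v) = Q v) {N : ℕ} (hN : g ^ N = 1)
    (hN' : (N : F) ≠ 0) {a : cycFactors F r → ℕ} (hc : g.charpoly = movedPart a) (j : V →ₗ[F] (κ → F))
    (hj : ∀ v, R (j v) = Q v) :
    ∃ A : ↥(Cfsg.isometryGroup F ⇑R), (orderOf A).Coprime p ∧
      ((A : GL κ F) : Matrix κ κ F).charpoly = multPoly r (Fintype.card κ) i a := by
  obtain ⟨g', hg', hN2, hc'⟩ := exists_extend hQ j hj g hg hN
  obtain ⟨A, hA, hAc⟩ := exists_mem_isometry (p := p) R g' hg' hN2 hN'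
  refine ⟨A, hA, ?_⟩
  rw [hAc, hc', hc, multPoly_eq, Module.finrank_pi, ← LinearMap.charpoly_natDegree g, hc,
    (movedPart_facts hr hrp hi ht a).1, mul_comm]
  rfl

include p hr hrp hi ht in
/-- An element with full moved part gives a fixed-point-free isometry. -/
theorem exists_fpf_of_element {κ : Type} [Fintype κ] [DecidableEq κ] {R : QuadraticForm F (κ → F)}
    (A : ↥(Cfsg.isometryGroup F ⇑R)) (hA : (orderOf A).Coprime p) {a : cycFactors F r → ℕ}
    (hc : ((A : GL κ F) : Matrix κ κ F).charpoly = multPoly r (Fintype.card κ) i a)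
    (hfull : i * ∑ j, a j = Fintype.card κ) :
    ∃ g : Module.End F (κ → F), (∀ v, R (g v) = R v) ∧ g ^ orderOf A = 1 ∧ ((orderOf A : ℕ) : F) ≠ 0 ∧
      g.charpoly = movedPart a := by
  refine ⟨Matrix.toLinAlgEquiv' ((A : GL κ F) : Matrix κ κ F), fun v => A.2 v v, ?_,
    natCast_ne_zero_of_coprime (p := p) hA, ?_⟩
  · rw [← map_pow, ← Units.val_pow_eq_pow_val, ← Subgroup.coe_pow, pow_orderOf_eq_one, Subgroup.coe_one,
      Units.val_one, map_one]
  · rw [charpoly_linAlgEquiv, hc, multPoly_eq, hfull, Nat.sub_self, pow_zero, one_mul]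
    rfl

include p hr hr2 hrp hi ht in
/-- Models in standard form. -/
theorem exists_std_model {a : cycFactors F r → ℕ} (hfix : a ∘ δ = a) {k : ℕ} (hk : i * ∑ j, a j = 2 * k) :
    (((Even i → Even (∑ j, a j)) ∧ ∃ (g : Module.End F (Fin k ⊕ Fin k → F)) (N : ℕ),
      (∀ v, Quad.qPlus k F (g v) = Quad.qPlus k F v) ∧ g ^ N = 1 ∧ (N : F) ≠ 0 ∧ g.charpoly = movedPart a)) ∨
    (Even i ∧ Odd (∑ j, a j) ∧ 1 ≤ k ∧ ∃ ζ : F, (∀ t : F, t ^ 2 + t + ζ ≠ 0) ∧
      ∃ (g : Module.End F ((Fin (k - 1) ⊕ Fin (k - 1)) ⊕ Fin 2 → F)) (N : ℕ),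
      (∀ v, Quad.qMinus (k - 1) F 1 ζ (g v) = Quad.qMinus (k - 1) F 1 ζ v) ∧ g ^ N = 1 ∧ (N : F) ≠ 0 ∧
        g.charpoly = movedPart a) := by
  have hreal : OrthReal (movedPart a) := by
    rcases Nat.even_or_odd i with h | h
    · exact orthReal_movedPart hr hr2 hrp hi ht h a
    · exact (hypReal_movedPart hr hr2 hrp hi ht h hfix).orthReal
  obtain ⟨V, _, _, _, Q, g, N, hQ, hg, hN, hN', hc⟩ := hreal
  have hV : Module.finrank F V = 2 * k := by
    rw [← LinearMap.charpoly_natDegree g, hc, (movedPart_facts hr hrp hi ht a).1, hk]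
  have hconj : ∀ {W : Type u} [AddCommGroup W] [Module F W] [FiniteDimensional F W] (e : W ≃ₗ[F] V)
      (R : QuadraticForm F W), (∀ v, Q (e v) = R v) →
      ∃ (g' : Module.End F W) (M : ℕ), (∀ v, R (g' v) = R v) ∧ g' ^ M = 1 ∧ (M : F) ≠ 0 ∧
        g'.charpoly = movedPart a := by
    intro W _ _ _ e R he
    refine ⟨e.symm.conj g, N, fun v => ?_, ?_, hN', by rw [LinearEquiv.charpoly_conj, hc]⟩
    · rw [← he, ← he, LinearEquiv.conj_apply_apply, LinearEquiv.symm_symm, e.apply_symm_apply, hg]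
    · have hpow : ∀ l : ℕ, e.symm.conj g ^ l = e.symm.conj (g ^ l) := fun l => by
        induction l with
        | zero => exact (LinearEquiv.conj_id e.symm).symm
        | succ l ih =>
          rw [pow_succ, ih, pow_succ, Module.End.mul_eq_comp, Module.End.mul_eq_comp, LinearEquiv.conj_comp]
      rw [hpow, hN]
      exact LinearEquiv.conj_id e.symm
  rcases classify_even hV Q hQ with ⟨e, he⟩ | ⟨hk1, ζ, e, hζ, he⟩
  · refine Or.inl ⟨fun hev => (parity_of_fpf hr hr2 hrp hi ht hev g hg hN hN' hc hV).1 e he,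
      hconj e _ fun v => by rw [he, Quad.coe_qPlus]⟩
  · have hex := hconj e (Quad.qMinus (k - 1) F 1 ζ) fun v => by rw [he, Quad.coe_qMinus]
    rcases Nat.even_or_odd i with h | h
    · exact Or.inr ⟨h, (parity_of_fpf hr hr2 hrp hi ht h g hg hN hN' hc hV).2 (k - 1) (by omega) 1 ζ (aniso_of_no_root hζ) e he,
        hk1, ζ, hζ, hex⟩
    · obtain ⟨g', M, h1, h2, h3, h4⟩ := hex
      exact (no_minus_fpf hr hr2 hrp hi ht h (aniso_of_no_root hζ) g' h1 h2 h3 hfix h4).elim

section Counting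

theorem choose_pascal {M s : ℕ} (hM : 1 ≤ M) (hs : 1 ≤ s) :
    Nat.choose (M - 1 + s) s + Nat.choose (M + s - 1) (s - 1) = Nat.choose (M + s) s := by
  obtain ⟨M, rfl⟩ : ∃ M', M = M' + 1 := ⟨M - 1, by omega⟩
  obtain ⟨s, rfl⟩ : ∃ s', s = s' + 1 := ⟨s - 1, by omega⟩
  simp only [Nat.add_sub_cancel]
  rw [show M + 1 + (s + 1) - 1 = M + (s + 1) by omega, show M + 1 + (s + 1) = (M + (s + 1)) + 1 by ring,
    Nat.choose_succ_succ, add_comm]

theorem div_pred_eq {n d : ℕ} (hn : 1 ≤ n) (hd : 0 < d) : (n - 1) / d = if d ∣ n then n / d - 1 else n / d := by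
  obtain ⟨n, rfl⟩ : ∃ n', n = n' + 1 := ⟨n - 1, by omega⟩
  rw [Nat.add_sub_cancel, Nat.succ_div]
  split_ifs with h <;> simp

end Counting

include p hr hr2 hrp hi ht in
/-- Classes of order `r` for the odd-dimensional form. -/
theorem orth_odd_count (h2 : (2 : F) ≠ 0) (m : ℕ) :
    Nat.card {C : ConjClasses ↥(Cfsg.isometryGroup F (Cfsg.quadFormOdd m F)) //
      ∃ g : ↥(Cfsg.isometryGroup F (Cfsg.quadFormOdd m F)), ConjClasses.mk g = C ∧ orderOf g = r} =
      if Odd i then Nat.choose (m / i + t / 2) (t / 2) - 1 else Nat.choose ((2 * m + 1) / i + t) t - 1 := by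
  classical
  obtain ⟨hdeg, hcard, hi0⟩ := cycFactors_facts hr hrp hi ht (p := p) (F := F)
  rw [← Quad.coe_qOdd m F]
  have hcopr : r.Coprime p := (Nat.coprime_primes hr Fact.out).2 hrp
  have hnd := Quad.qOdd_nondeg h2 m
  rw [card_prime_classes hr hrp hi ht (p := p) (isoToGL (Quad.qOdd m F)) (isoToGL_injective _)
    (fun g h hg hh hc => orth_isConj_of_charpoly hnd g h (hg ▸ hr.odd_of_ne_two hr2) (hg ▸ hcopr) (hh ▸ hcopr)
      (by rwa [charpoly_isoToGL, charpoly_isoToGL] at hc)) (fun a => a ∘ δ = a) fun a ha => ?_]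
  swap
  · constructor
    · rintro ⟨g, -, hg⟩
      refine (dualPoly_multPoly_iff hr hrp (RingHom.id F) (fun _ => rfl) (Fintype.card (Unit ⊕ (Fin m ⊕ Fin m))) i a).1 ?_
      rw [← hg, charpoly_isoToGL, dualPoly_charpoly_orth hnd]
    · intro hfix
      obtain ⟨k, hk⟩ := (even_moved hr hr2 hrp hi ht hfix).two_dvd
      simp only [Fintype.card_sum, Fintype.card_unit, Fintype.card_fin] at ha
      rcases exists_std_model hr hr2 hrp hi ht hfix hk with ⟨-, g, N, hg, hN, hN', hc⟩ |
        ⟨-, -, hk1, ζ, hζ, g, N, hg, hN, hN', hc⟩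
      · obtain ⟨j, hj⟩ := exists_plus_odd (F := F) (show k ≤ m by omega)
        obtain ⟨A, hA, hAc⟩ := exists_of_embedding hr hrp hi ht (Quad.qOdd m F) (Quad.qPlus_nondeg k) g hg hN hN' hc j
          fun v => by rw [Quad.coe_qOdd, hj, Quad.coe_qPlus]
        exact ⟨A, hA, by rw [charpoly_isoToGL, hAc]⟩
      · obtain ⟨j, hj⟩ := exists_minus_odd (F := F) h2 (show k - 1 + 1 ≤ m by omega) ζ
        obtain ⟨A, hA, hAc⟩ := exists_of_embedding hr hrp hi ht (Quad.qOdd m F)
          (Quad.qMinus_nondeg (aniso_of_no_root hζ) (k - 1)) g hg hN hN' hc j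
          fun v => by rw [Quad.coe_qOdd, hj, Quad.coe_qMinus]
        exact ⟨A, hA, by rw [charpoly_isoToGL, hAc]⟩
  simp only [Fintype.card_sum, Fintype.card_unit, Fintype.card_fin]
  split_ifs with hodd
  · congr 1
    rw [card_mult_fixed δ (dualPerm_invol hr hrp (RingHom.id F) fun _ => rfl)
      (fun j hj => Nat.not_even_iff_odd.2 hodd ((dualPerm_eq_iff hr hr2 hrp hi j).1 hj)) hi0, Fintype.card_coe, hcard,
      ← Nat.div_div_eq_div_mul, show (1 + (m + m)) / 2 = m by omega]
  · congr 1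
    rw [show Nat.card {a : cycFactors F r → ℕ // i * ∑ j, a j ≤ 1 + (m + m) ∧ a ∘ δ = a} =
        Nat.card {a : cycFactors F r → ℕ // i * ∑ j, a j ≤ 2 * m + 1} from
      Nat.card_congr (Equiv.subtypeEquivRight fun a => by
        rw [and_iff_left (fixed_of_even hr hr2 hrp hi (Nat.not_odd_iff_even.1 hodd) a),
          show 1 + (m + m) = 2 * m + 1 by omega]), card_mult_le hi0, Fintype.card_coe, hcard]

include p hr hr2 hrp hi ht in
/-- Classes of order `r` for plus type. -/
theorem orth_plus_count (m : ℕ) (hm : 1 ≤ m) :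
    Nat.card {C : ConjClasses ↥(Cfsg.isometryGroup F (Cfsg.quadFormPlus m F)) //
      ∃ g : ↥(Cfsg.isometryGroup F (Cfsg.quadFormPlus m F)), ConjClasses.mk g = C ∧ orderOf g = r} =
      if Odd i then Nat.choose (m / i + t / 2) (t / 2) - 1 else Nat.choose (2 * m / i + t) t - 1 -
        (if i ∣ 2 * m ∧ Odd (2 * m / i) then Nat.choose (2 * m / i + t - 1) (t - 1) else 0) := by
  classical
  obtain ⟨hdeg, hcard, hi0⟩ := cycFactors_facts hr hrp hi ht (p := p) (F := F)
  rw [← Quad.coe_qPlus m F]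
  have hcopr : r.Coprime p := (Nat.coprime_primes hr Fact.out).2 hrp
  have hnd := Quad.qPlus_nondeg (F := F) m
  rw [card_prime_classes hr hrp hi ht (p := p) (isoToGL (Quad.qPlus m F)) (isoToGL_injective _)
    (fun g h hg hh hc => orth_isConj_of_charpoly hnd g h (hg ▸ hr.odd_of_ne_two hr2) (hg ▸ hcopr) (hh ▸ hcopr)
      (by rwa [charpoly_isoToGL, charpoly_isoToGL] at hc))
    (fun a => a ∘ δ = a ∧ (Even i → i * ∑ j, a j = 2 * m → Even (∑ j, a j))) fun a ha => ?_]
  swap
  · simp only [Fintype.card_sum, Fintype.card_fin] at ha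
    constructor
    · rintro ⟨g, hgp, hg⟩
      rw [charpoly_isoToGL] at hg
      refine ⟨(dualPoly_multPoly_iff hr hrp (RingHom.id F) (fun _ => rfl) _ i a).1
        (by rw [← hg, dualPoly_charpoly_orth hnd]), fun hev hfull => ?_⟩
      obtain ⟨T, hT, hTN, hTN', hTc⟩ := exists_fpf_of_element hr hrp hi ht g hgp hg
        (by simp only [Fintype.card_sum, Fintype.card_fin]; omega)
      exact (parity_of_fpf hr hr2 hrp hi ht hev T hT hTN hTN' hTc (m := m)
        (by simp [two_mul])).1 (LinearEquiv.refl F _) fun v => by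
          rw [Quad.coe_qPlus]; rfl
    · rintro ⟨hfix, hpar⟩
      obtain ⟨k, hk⟩ := (even_moved hr hr2 hrp hi ht hfix).two_dvd
      rcases exists_std_model hr hr2 hrp hi ht hfix hk with ⟨-, g, N, hg, hN, hN', hc⟩ |
        ⟨hev, hoddS, hk1, ζ, hζ, g, N, hg, hN, hN', hc⟩
      · obtain ⟨j, hj⟩ := exists_plus_plus (F := F) (show k ≤ m by omega)
        obtain ⟨A, hA, hAc⟩ := exists_of_embedding hr hrp hi ht (Quad.qPlus m F) (Quad.qPlus_nondeg k) g hg hN hN' hc j
          fun v => by rw [Quad.coe_qPlus, hj, Quad.coe_qPlus]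
        exact ⟨A, hA, by rw [charpoly_isoToGL, hAc]⟩
      · have hne : k ≠ m := fun e => Nat.not_even_iff_odd.2 hoddS (hpar hev (e ▸ hk))
        obtain ⟨j, hj⟩ := exists_minus_plus (F := F) (show k - 1 + 2 ≤ m by omega) ζ
        obtain ⟨A, hA, hAc⟩ := exists_of_embedding hr hrp hi ht (Quad.qPlus m F)
          (Quad.qMinus_nondeg (aniso_of_no_root hζ) (k - 1)) g hg hN hN' hc j
          fun v => by rw [Quad.coe_qPlus, hj, Quad.coe_qMinus]
        exact ⟨A, hA, by rw [charpoly_isoToGL, hAc]⟩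
  simp only [Fintype.card_sum, Fintype.card_fin, ← two_mul]
  have ht1 : 1 ≤ t := Nat.pos_of_ne_zero fun h => by
    rw [h, zero_mul] at ht; have := hr.two_le; omega
  split_ifs with hodd hex
  · congr 1
    rw [show Nat.card {a : cycFactors F r → ℕ // i * ∑ j, a j ≤ 2 * m ∧ a ∘ δ = a ∧
          (Even i → i * ∑ j, a j = 2 * m → Even (∑ j, a j))} =
        Nat.card {a : cycFactors F r → ℕ // i * ∑ j, a j ≤ 2 * m ∧ a ∘ δ = a} from
      Nat.card_congr (Equiv.subtypeEquivRight fun a => and_congr_right fun _ =>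
        and_iff_left fun hev => absurd hev (Nat.not_even_iff_odd.2 hodd)),
      card_mult_fixed δ (dualPerm_invol hr hrp (RingHom.id F) fun _ => rfl)
        (fun j hj => Nat.not_even_iff_odd.2 hodd ((dualPerm_eq_iff hr hr2 hrp hi j).1 hj)) hi0, Fintype.card_coe,
      hcard, Nat.mul_div_mul_left _ _ two_pos]
  all_goals have hev := Nat.not_odd_iff_even.1 hodd
  · rw [show Nat.card {a : cycFactors F r → ℕ // i * ∑ j, a j ≤ 2 * m ∧ a ∘ δ = a ∧
          (Even i → i * ∑ j, a j = 2 * m → Even (∑ j, a j))} =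
        Nat.card {a : cycFactors F r → ℕ // i * ∑ j, a j ≤ 2 * m - 1} from
      Nat.card_congr (Equiv.subtypeEquivRight fun a => by
        constructor
        · rintro ⟨h1, -, h3⟩
          by_contra h
          have he : i * ∑ j, a j = 2 * m := by omega
          refine Nat.not_even_iff_odd.2 hex.2 ?_
          rw [← he, Nat.mul_div_cancel_left _ hi0]
          exact h3 hev he
        · exact fun h => ⟨by omega, fixed_of_even hr hr2 hrp hi hev a, fun _ he => by omega⟩), card_mult_le hi0,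
      Fintype.card_coe, hcard, div_pred_eq (show 1 ≤ 2 * m by omega) hi0, if_pos hex.1,
      ← choose_pascal (show 1 ≤ 2 * m / i from Nat.div_pos (Nat.le_of_dvd (by omega) hex.1) hi0) ht1]
    omega
  · rw [Nat.sub_zero]
    congr 1
    rw [show Nat.card {a : cycFactors F r → ℕ // i * ∑ j, a j ≤ 2 * m ∧ a ∘ δ = a ∧
          (Even i → i * ∑ j, a j = 2 * m → Even (∑ j, a j))} =
        Nat.card {a : cycFactors F r → ℕ // i * ∑ j, a j ≤ 2 * m} from
      Nat.card_congr (Equiv.subtypeEquivRight fun a => ⟨fun h => h.1, fun h =>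
        ⟨h, fixed_of_even hr hr2 hrp hi hev a, fun _ he => by
          rw [← he, Nat.mul_div_cancel_left _ hi0] at hex
          exact Nat.not_odd_iff_even.1 fun ho => hex ⟨dvd_mul_right _ _, ho⟩⟩⟩), card_mult_le hi0,
      Fintype.card_coe, hcard]

include p hr hr2 hrp hi ht in
/-- Classes of order `r` for minus type. -/
theorem orth_minus_count (m : ℕ) (A C : F)
    (hAC : ∀ z₁ z₂ : F, z₁ ^ 2 + A * z₁ * z₂ + C * z₂ ^ 2 = 0 → z₁ = 0 ∧ z₂ = 0) :
    Nat.card {X : ConjClasses ↥(Cfsg.isometryGroup F (Cfsg.quadFormMinus m F A C)) //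
      ∃ g : ↥(Cfsg.isometryGroup F (Cfsg.quadFormMinus m F A C)), ConjClasses.mk g = X ∧ orderOf g = r} =
      if Odd i then Nat.choose ((m + 1) / i + t / 2) (t / 2) - 1 -
          (if i ∣ m + 1 then Nat.choose ((m + 1) / i + t / 2 - 1) (t / 2 - 1) else 0)
      else Nat.choose (2 * (m + 1) / i + t) t - 1 -
          (if i ∣ 2 * (m + 1) ∧ Even (2 * (m + 1) / i) then Nat.choose (2 * (m + 1) / i + t - 1) (t - 1) else 0) := by
  classical
  obtain ⟨hdeg, hcard, hi0⟩ := cycFactors_facts hr hrp hi ht (p := p) (F := F)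
  rw [← Quad.coe_qMinus m F A C]
  have hcopr : r.Coprime p := (Nat.coprime_primes hr Fact.out).2 hrp
  have hnd := Quad.qMinus_nondeg hAC m
  -- the standard form with parameters `(1, ζ)`
  obtain ⟨ζ₀, σ, hζ₀, hσ⟩ : ∃ (ζ : F) (e : ((Fin m ⊕ Fin m) ⊕ Fin 2 → F) ≃ₗ[F] ((Fin m ⊕ Fin m) ⊕ Fin 2 → F)),
      (∀ t : F, t ^ 2 + t + ζ ≠ 0) ∧ ∀ v, Cfsg.quadFormMinus m F A C (e v) = Cfsg.quadFormMinus m F 1 ζ v := by
    rcases classify_even (m := m + 1) (by simp; omega) (Quad.qMinus m F A C) hnd with ⟨e, he⟩ | ⟨-, ζ, e, hζ, he⟩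
    · refine absurd (fun v => ?_) (not_isometric (m := m + 1) (by omega) A C hAC e.toEquiv)
      rw [← he v, Quad.coe_qMinus]
      rfl
    · exact ⟨ζ, e, hζ, fun v => by rw [← Quad.coe_qMinus]; exact he v⟩
  rw [card_prime_classes hr hrp hi ht (p := p) (isoToGL (Quad.qMinus m F A C)) (isoToGL_injective _)
    (fun g h hg hh hc => orth_isConj_of_charpoly hnd g h (hg ▸ hr.odd_of_ne_two hr2) (hg ▸ hcopr) (hh ▸ hcopr)
      (by rwa [charpoly_isoToGL, charpoly_isoToGL] at hc))
    (fun a => a ∘ δ = a ∧ (i * ∑ j, a j = 2 * (m + 1) → Even i ∧ Odd (∑ j, a j))) fun a ha => ?_]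
  swap
  · simp only [Fintype.card_sum, Fintype.card_fin] at ha
    constructor
    · rintro ⟨g, hgp, hg⟩
      rw [charpoly_isoToGL] at hg
      have hfix := (dualPoly_multPoly_iff hr hrp (RingHom.id F) (fun _ => rfl) _ i a).1
        (by rw [← hg, dualPoly_charpoly_orth hnd])
      refine ⟨hfix, fun hfull => ?_⟩
      obtain ⟨T, hT, hTN, hTN', hTc⟩ := exists_fpf_of_element hr hrp hi ht g hgp hg
        (by simp only [Fintype.card_sum, Fintype.card_fin]; omega)
      rcases Nat.even_or_odd i with hev | hodd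
      · exact ⟨hev, (parity_of_fpf hr hr2 hrp hi ht hev T hT hTN hTN' hTc (m := m + 1)
          (by simp; omega)).2 m rfl A C hAC (LinearEquiv.refl F _) fun v => by rw [Quad.coe_qMinus]; rfl⟩
      · exact (no_minus_fpf hr hr2 hrp hi ht hodd hAC T hT hTN hTN' hfix hTc).elim
    · rintro ⟨hfix, hpar⟩
      obtain ⟨k, hk⟩ := (even_moved hr hr2 hrp hi ht hfix).two_dvd
      rcases exists_std_model hr hr2 hrp hi ht hfix hk with ⟨hevS, g, N, hg, hN, hN', hc⟩ |
        ⟨-, -, hk1, ζ, hζ, g, N, hg, hN, hN', hc⟩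
      · have hne : k ≠ m + 1 := fun e => by
          obtain ⟨h1, h2⟩ := hpar (e ▸ hk)
          exact Nat.not_even_iff_odd.2 h2 (hevS h1)
        obtain ⟨j, hj⟩ := exists_plus_minus (F := F) (show k ≤ m by omega) A C
        obtain ⟨B, hB, hBc⟩ := exists_of_embedding hr hrp hi ht (Quad.qMinus m F A C) (Quad.qPlus_nondeg k) g hg hN hN'
          hc j fun v => by rw [Quad.coe_qMinus, hj, Quad.coe_qPlus]
        exact ⟨B, hB, by rw [charpoly_isoToGL, hBc]⟩
      · obtain ⟨j, hj⟩ := exists_minus_minus (F := F) (show k - 1 ≤ m by omega) 1 ζ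
        obtain ⟨τ, hτ⟩ := minus_equiv (F := F) m hζ₀ hζ
        obtain ⟨B, hB, hBc⟩ := exists_of_embedding hr hrp hi ht (Quad.qMinus m F A C)
          (Quad.qMinus_nondeg (aniso_of_no_root hζ) (k - 1)) g hg hN hN' hc
          (σ.toLinearMap ∘ₗ τ.toLinearMap ∘ₗ j)
          fun v => by
            rw [Quad.coe_qMinus, Quad.coe_qMinus, ← hj, ← hτ, ← hσ]
            rfl
        exact ⟨B, hB, by rw [charpoly_isoToGL, hBc]⟩
  simp only [Fintype.card_sum, Fintype.card_fin]
  rw [show m + m + 2 = 2 * (m + 1) by ring]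
  have ht1 : 1 ≤ t := Nat.pos_of_ne_zero fun h => by
    rw [h, zero_mul] at ht; have := hr.two_le; omega
  by_cases hodd : Odd i
  · rw [if_pos hodd]
    have hne : ¬ Even i := Nat.not_even_iff_odd.2 hodd
    have hs : 1 ≤ t / 2 := by
      have he : Even (t * i) := by rw [ht]; exact Nat.Odd.sub_odd (hr.odd_of_ne_two hr2) odd_one
      have := (Nat.even_mul.1 he).resolve_right hne
      obtain ⟨s, rfl⟩ := this
      omega
    rw [show Nat.card {a : cycFactors F r → ℕ // i * ∑ j, a j ≤ 2 * (m + 1) ∧ a ∘ δ = a ∧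
          (i * ∑ j, a j = 2 * (m + 1) → Even i ∧ Odd (∑ j, a j))} =
        Nat.card {a : cycFactors F r → ℕ // i * ∑ j, a j ≤ 2 * (m + 1) - 1 ∧ a ∘ δ = a} from
      Nat.card_congr (Equiv.subtypeEquivRight fun a => ⟨fun ⟨h1, h2, h3⟩ => ⟨by
          by_contra h
          exact hne (h3 (by omega)).1, h2⟩, fun ⟨h1, h2⟩ => ⟨by omega, h2, fun h => by omega⟩⟩),
      card_mult_fixed δ (dualPerm_invol hr hrp (RingHom.id F) fun _ => rfl)
        (fun j hj => hne ((dualPerm_eq_iff hr hr2 hrp hi j).1 hj)) hi0, Fintype.card_coe, hcard,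
      div_pred_eq (by omega) (Nat.mul_pos two_pos hi0)]
    simp only [Nat.mul_div_mul_left _ _ two_pos, Nat.mul_dvd_mul_iff_left two_pos]
    split_ifs with h
    · rw [← choose_pascal (show 1 ≤ (m + 1) / i from Nat.div_pos (Nat.le_of_dvd (by omega) h) hi0) hs]
      omega
    · rfl
  · rw [if_neg hodd]
    have hev := Nat.not_odd_iff_even.1 hodd
    split_ifs with hex
    · rw [show Nat.card {a : cycFactors F r → ℕ // i * ∑ j, a j ≤ 2 * (m + 1) ∧ a ∘ δ = a ∧
            (i * ∑ j, a j = 2 * (m + 1) → Even i ∧ Odd (∑ j, a j))} =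
          Nat.card {a : cycFactors F r → ℕ // i * ∑ j, a j ≤ 2 * (m + 1) - 1} from
        Nat.card_congr (Equiv.subtypeEquivRight fun a => by
          constructor
          · rintro ⟨h1, -, h3⟩
            by_contra h
            have he : i * ∑ j, a j = 2 * (m + 1) := by omega
            refine Nat.not_odd_iff_even.2 hex.2 ?_
            rw [← he, Nat.mul_div_cancel_left _ hi0]
            exact (h3 he).2
          · exact fun h => ⟨by omega, fixed_of_even hr hr2 hrp hi hev a, fun he => by omega⟩), card_mult_le hi0,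
        Fintype.card_coe, hcard, div_pred_eq (by omega) hi0, if_pos hex.1,
        ← choose_pascal (show 1 ≤ 2 * (m + 1) / i from Nat.div_pos (Nat.le_of_dvd (by omega) hex.1) hi0) ht1]
      omega
    · rw [Nat.sub_zero]
      congr 1
      rw [show Nat.card {a : cycFactors F r → ℕ // i * ∑ j, a j ≤ 2 * (m + 1) ∧ a ∘ δ = a ∧
            (i * ∑ j, a j = 2 * (m + 1) → Even i ∧ Odd (∑ j, a j))} =
          Nat.card {a : cycFactors F r → ℕ // i * ∑ j, a j ≤ 2 * (m + 1)} from
        Nat.card_congr (Equiv.subtypeEquivRight fun a => ⟨fun h => h.1, fun h =>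
          ⟨h, fixed_of_even hr hr2 hrp hi hev a, fun he => ⟨hev, by
            rw [← he, Nat.mul_div_cancel_left _ hi0] at hex
            exact Nat.not_even_iff_odd.1 fun ho => hex ⟨dvd_mul_right _ _, ho⟩⟩⟩⟩), card_mult_le hi0,
        Fintype.card_coe, hcard]

end CfsgLib.Classical.ClassTheory
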