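import Cfsg.Agent.Lib.Classical.ClassTheory.CyclotomicFactors
import Mathlib.GroupTheory.GroupAction.Quotient
import Mathlib.FieldTheory.KummerPolynomial
import Mathlib.Data.Sym.Card
import Mathlib.GroupTheory.SpecificGroups.Cyclic

/-!
# Classes of elements of prime order of a projective linear or unitary group, split case
-/

set_option autoImplicit false

namespace CfsgLib.Classical.ClassTheory

open Polynomial CfsgLib.Known

universe u v

section Shift

variable (r n : ℕ) [NeZero r]

/-- The multisets of `n` residues modulo `r` which are not constant. -/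
abbrev NonConst : Type := {s : Sym (ZMod r) n // ∀ j, s ≠ Sym.replicate n j}

/-- Translation on non-constant multisets of residues. -/
@[reducible] def shiftAction : MulAction (Multiplicative (ZMod r)) (NonConst r n) where
  smul k s := ⟨s.1.map (· + k.toAdd), fun j h => s.2 (j - k.toAdd) (Sym.map_injective
    (f := fun x => x + k.toAdd) (add_left_injective _) n (h.trans (Subtype.ext (by simp [Sym.coe_map, Multiset.map_replicate, Sym.coe_replicate]))))⟩
  one_smul s := Subtype.ext (by
    show s.1.map (fun x => x + (1 : Multiplicative (ZMod r)).toAdd) = s.1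
    simp)
  mul_smul k l s := Subtype.ext (by
    show s.1.map (fun x => x + (k * l).toAdd) = (s.1.map (fun x => x + l.toAdd)).map (fun x => x + k.toAdd)
    rw [Sym.map_map]
    congr 1
    funext x
    simp [add_assoc, add_comm, add_left_comm])

/-- The orbits of translation. -/
abbrev ShiftOrbits : Type := letI := shiftAction r n; MulAction.orbitRel.Quotient (Multiplicative (ZMod r)) (NonConst r n)

theorem card_shiftOrbits [Fact r.Prime] (hn : 1 ≤ n) :
    Nat.card (ShiftOrbits r n) =
      (Nat.choose (n + r - 1) (r - 1) - r - (if r ∣ n then 1 else 0)) / r + (if r ∣ n then 1 else 0) := by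
  classical
  letI := shiftAction r n
  have hr := (Fact.out : r.Prime)
  have hcard : Fintype.card (NonConst r n) = Nat.choose (n + r - 1) (r - 1) - r := by
    have hc : Fintype.card {s : Sym (ZMod r) n // ∃ j, s = Sym.replicate n j} = r := by
      conv_rhs => rw [← ZMod.card r]
      refine (Fintype.card_congr (Equiv.ofBijective (fun j : ZMod r =>
        (⟨Sym.replicate n j, j, rfl⟩ : {s : Sym (ZMod r) n // ∃ j, s = Sym.replicate n j})) ⟨fun a b h => ?_,
          fun ⟨s, j, hj⟩ => ⟨j, Subtype.ext hj.symm⟩⟩)).symm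
      have h' : a ∈ (Sym.replicate n b : Sym (ZMod r) n) := by
        rw [← show Sym.replicate n a = Sym.replicate n b from congrArg Subtype.val h]; exact Sym.mem_replicate.2 ⟨by omega, rfl⟩
      exact (Sym.mem_replicate.1 h').2
    have hcompl := Fintype.card_subtype_compl (fun s : Sym (ZMod r) n => ∃ j, s = Sym.replicate n j)
    rw [hc, Sym.card_sym_eq_choose, ZMod.card] at hcompl
    rw [Nat.choose_symm_of_eq_add (show n + r - 1 = (r - 1) + n by have := hr.pos; omega), add_comm n r, ← hcompl]
    exact Fintype.card_congr (Equiv.subtypeEquivRight fun s => by push Not; rfl)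
  have hfix : ∀ k : Multiplicative (ZMod r), k ≠ 1 →
      Fintype.card (MulAction.fixedBy (NonConst r n) k) = if r ∣ n then 1 else 0 := by
    intro k hk
    have hk0 : k.toAdd ≠ 0 := hk
    have hcount : ∀ s ∈ MulAction.fixedBy (NonConst r n) k, ∀ a b : ZMod r,
        (s.1 : Multiset (ZMod r)).count b = (s.1 : Multiset (ZMod r)).count a := by
      intro s hs a b
      have h0 : (s.1 : Multiset (ZMod r)).map (fun x => x + k.toAdd) = s.1 := congrArg (fun t : NonConst r n => (t.1 : Multiset (ZMod r))) hs
      have h1 : ∀ x, (s.1 : Multiset (ZMod r)).count (x + k.toAdd) = (s.1 : Multiset (ZMod r)).count x := fun x => by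
        conv_lhs => rw [← h0, Multiset.count_map_eq_count' _ _ (add_left_injective _)]
      have h2 : ∀ l : ℕ, (s.1 : Multiset (ZMod r)).count (a + l • k.toAdd) = (s.1 : Multiset (ZMod r)).count a := by
        intro l
        induction l with
        | zero => simp
        | succ l ih => rw [succ_nsmul, ← add_assoc, h1, ih]
      have h3 := h2 ((b - a) / k.toAdd).val
      rwa [nsmul_eq_mul, ZMod.natCast_val, ZMod.cast_id', id_eq, div_mul_cancel₀ _ hk0, add_sub_cancel] at h3
    have hsum : ∀ s ∈ MulAction.fixedBy (NonConst r n) k, n = r * (s.1 : Multiset (ZMod r)).count 0 := by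
      intro s hs
      have h1 := Multiset.sum_count_eq_card (s := Finset.univ) (m := (s.1 : Multiset (ZMod r))) fun a _ => Finset.mem_univ a
      rw [Finset.sum_congr rfl fun b _ => hcount s hs 0 b, Finset.sum_const, Finset.card_univ, ZMod.card, smul_eq_mul,
        Sym.card_coe] at h1
      exact h1.symm
    split_ifs with hdiv
    · refine Fintype.card_eq_one_iff.2 ⟨⟨⟨Sym.mk ((n / r) • (Finset.univ : Finset (ZMod r)).val) ?_, ?_⟩, ?_⟩, ?_⟩
      · rw [Multiset.card_nsmul, Finset.card_val, Finset.card_univ, ZMod.card, Nat.div_mul_cancel hdiv]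
      · intro j h
        have h1 := congrArg (fun t : Sym (ZMod r) n => (t : Multiset (ZMod r)).count (j + 1)) h
        simp only [Sym.coe_replicate, Multiset.count_replicate] at h1
        rw [Sym.coe_mk, Multiset.count_nsmul, Multiset.count_eq_one_of_mem Finset.univ.nodup (Finset.mem_univ _),
          mul_one, if_neg (by simp)] at h1
        have := Nat.div_pos (Nat.le_of_dvd (by omega) hdiv) hr.pos
        omega
      · refine Subtype.ext (Subtype.ext ?_)
        show (((n / r) • (Finset.univ : Finset (ZMod r)).val).map fun x => x + k.toAdd) =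
          (n / r) • (Finset.univ : Finset (ZMod r)).val
        rw [Multiset.map_nsmul]
        congr 1
        exact congrArg Finset.val (Finset.map_univ_equiv (Equiv.addRight k.toAdd))
      · rintro ⟨s, hs⟩
        refine Subtype.ext (Subtype.ext (Subtype.ext (Multiset.ext.2 fun b => ?_)))
        show (s.1 : Multiset (ZMod r)).count b = ((n / r) • (Finset.univ : Finset (ZMod r)).val).count b
        rw [Multiset.count_nsmul, Multiset.count_eq_one_of_mem Finset.univ.nodup (Finset.mem_univ b),
          hcount s hs 0 b, mul_one]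
        conv_rhs => rw [hsum s hs, Nat.mul_div_cancel_left _ hr.pos]
    · exact Fintype.card_eq_zero_iff.2 ⟨fun ⟨s, hs⟩ => hdiv ⟨_, hsum s hs⟩⟩
  have hburn := MulAction.sum_card_fixedBy_eq_card_orbits_mul_card_group (Multiplicative (ZMod r)) (NonConst r n)
  rw [← Finset.add_sum_erase _ _ (Finset.mem_univ (1 : Multiplicative (ZMod r))),
    Finset.sum_congr rfl fun k hk => hfix k (Finset.mem_erase.1 hk).1, Finset.sum_const,
    Finset.card_erase_of_mem (Finset.mem_univ _), Finset.card_univ, Fintype.card_multiplicative, ZMod.card,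
    Fintype.card_congr (Equiv.subtypeUnivEquiv fun x : NonConst r n =>
      (show x ∈ MulAction.fixedBy (NonConst r n) (1 : Multiplicative (ZMod r)) by simp)), hcard, smul_eq_mul] at hburn
  rw [Nat.card_eq_fintype_card]
  set O := Fintype.card (ShiftOrbits r n) with hO
  set N := Nat.choose (n + r - 1) (r - 1) - r
  change _ = O * r at hburn
  have hδ : (if r ∣ n then 1 else 0) ≤ N ∧ (if r ∣ n then 1 else 0) ≤ 1 := by
    refine ⟨?_, by split_ifs <;> omega⟩
    split_ifs with hdiv
    · rw [← hcard]
      have h1 := hfix (Multiplicative.ofAdd 1) (by simp [ofAdd_eq_one])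
      rw [if_pos hdiv] at h1
      rw [← h1]
      exact Fintype.card_subtype_le _
    · omega
  generalize (if r ∣ n then 1 else 0) = δ at hburn hδ ⊢
  obtain ⟨r', rfl⟩ : ∃ r', r = r' + 1 := ⟨r - 1, by have := hr.pos; omega⟩
  obtain ⟨O', hO'⟩ : ∃ O', O = O' + δ := by
    refine ⟨O - δ, ?_⟩
    rcases Nat.eq_zero_or_pos O with h | h
    · rw [h, zero_mul] at hburn; omega
    · omega
  rw [hO'] at hburn ⊢
  rw [Nat.add_sub_cancel, add_mul] at hburn
  have hN : N - δ = O' * (r' + 1) := by
    have e1 : δ * (r' + 1) = r' * δ + δ := by ring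
    omega
  rw [hN, Nat.mul_div_cancel _ (Nat.succ_pos r')]

end Shift

section Proj

variable {K : Type u} [Field K] [Fintype K] {n r : ℕ}

/-- A monomial matrix. -/
def monoMat (π : Equiv.Perm (Fin n)) (d : Fin n → K) : Matrix (Fin n) (Fin n) K :=
  Matrix.of fun i j => if i = π j then d j else 0

theorem monoMat_mul (π π' : Equiv.Perm (Fin n)) (d d' : Fin n → K) :
    monoMat π d * monoMat π' d' = monoMat (π * π') (fun j => d (π' j) * d' j) := by
  ext i j
  rw [Matrix.mul_apply, Finset.sum_eq_single (π' j) (fun k _ hk => by simp [monoMat, hk]) (by simp)]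
  by_cases h : i = π (π' j) <;> simp [monoMat, h]

theorem monoMat_one (d : Fin n → K) : monoMat 1 d = Matrix.diagonal d := by
  ext i j
  by_cases h : i = j <;> simp [monoMat, Matrix.diagonal, h]

theorem monoMat_pow (π : Equiv.Perm (Fin n)) (d : Fin n → K) (k : ℕ) :
    monoMat π d ^ k = monoMat (π ^ k) (fun j => ∏ l ∈ Finset.range k, d ((π ^ l) j)) := by
  induction k with
  | zero => rw [pow_zero, pow_zero, monoMat_one]; simp
  | succ k ih =>
    rw [pow_succ', ih, monoMat_mul, ← pow_succ']
    congr 1
    funext j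
    rw [Finset.prod_range_succ, mul_comm]

variable {G : Type v} [Group G] {p : ℕ} [Fact p.Prime] [CharP K p]

/-- The number of classes of elements of order `r` modulo the centre, for a group of matrices containing the monomial
matrices with entries in `U` in which conjugacy is linear conjugacy. -/
theorem card_proj_prime_classes [Fact r.Prime] (hrp : r ≠ p) (hn : 1 ≤ n) (ρ : G →* GL (Fin n) K)
    (hρ : Function.Injective ρ) (U : Subgroup Kˣ)
    (hmono : ∀ (π : Equiv.Perm (Fin n)) (d : Fin n → U),
      ∃ g : G, (ρ g : Matrix (Fin n) (Fin n) K) = monoMat π (fun j => ((d j : Kˣ) : K)))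
    (hUscal : ∀ (g : G) (c : Kˣ), (ρ g : Matrix (Fin n) (Fin n) K) = (c : K) • 1 → c ∈ U)
    (hconj : ∀ g h : G, IsConj (ρ g) (ρ h) → IsConj g h)
    (hζ : ∃ ζ ∈ U, IsPrimitiveRoot ((ζ : Kˣ) : K) r)
    (hroot : ∀ lam ∈ U, ∀ x : K, x ^ r = (lam : K) → ∃ w ∈ U, w ^ r = lam) :
    Nat.card {C : ConjClasses (G ⧸ Subgroup.center G) //
      ∃ g : G ⧸ Subgroup.center G, ConjClasses.mk g = C ∧ orderOf g = r} =
      (Nat.choose (n + r - 1) (r - 1) - r - (if r ∣ n then 1 else 0)) / r + r * (if r ∣ n then 1 else 0) := by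
  classical
  have hr := (Fact.out : r.Prime)
  haveI : NeZero r := ⟨hr.ne_zero⟩
  obtain ⟨ζ, hζU, hζp⟩ := hζ
  letI := shiftAction r n
  let M : G → Matrix (Fin n) (Fin n) K := fun g => (ρ g : Matrix (Fin n) (Fin n) K)
  have hMmul : ∀ g h, M (g * h) = M g * M h := fun g h => by simp [M]
  have hMpow : ∀ g (k : ℕ), M (g ^ k) = M g ^ k := fun g k => by simp [M]
  have hMinj : Function.Injective M := fun g h e => hρ (Units.ext e)
  -- scalars and the centre
  have hscal : ∀ w ∈ U, ∃ g : G, M g = (w : K) • 1 := fun w hw => by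
    obtain ⟨g, hg⟩ := hmono 1 (fun _ => ⟨w, hw⟩)
    exact ⟨g, hg.trans (by rw [monoMat_one, Matrix.smul_one_eq_diagonal])⟩
  have hcen : ∀ g : G, g ∈ Subgroup.center G ↔ ∃ w ∈ U, M g = (w : K) • 1 := by
    intro g
    constructor
    · intro hg
      have hoff : ∀ i j, i ≠ j → M g i j = 0 := by
        intro i j hij
        obtain ⟨h, hh⟩ := hmono 1 (fun k => if k = i then ⟨ζ, hζU⟩ else 1)
        have e := congrFun (congrFun (congrArg M (Subgroup.mem_center_iff.1 hg h)) i) j
        rw [hMmul, hMmul, show M h = _ from hh, monoMat_one, Matrix.diagonal_mul, Matrix.mul_diagonal, if_pos rfl,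
          if_neg (Ne.symm hij)] at e
        simp only [OneMemClass.coe_one, Units.val_one, mul_one] at e
        by_contra h0
        exact hζp.ne_one hr.one_lt (mul_right_cancel₀ h0 (by rw [e, one_mul]))
      have hdiag : ∀ i j, M g i i = M g j j := by
        intro i j
        obtain ⟨h, hh⟩ := hmono (Equiv.swap i j) (fun _ => 1)
        have e := congrFun (congrFun (congrArg M (Subgroup.mem_center_iff.1 hg h)) j) i
        rw [hMmul, hMmul, show M h = _ from hh, Matrix.mul_apply, Matrix.mul_apply, Finset.sum_eq_single i,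
          Finset.sum_eq_single j] at e
        · simpa [monoMat] using e
        · intro k _ hk; rw [hoff j k (Ne.symm hk), zero_mul]
        · simp
        · intro k _ hk; rw [hoff k i hk, mul_zero]
        · simp
      let i₀ : Fin n := ⟨0, hn⟩
      have hsc : M g = M g i₀ i₀ • 1 := by
        ext i j
        by_cases hij : i = j
        · subst hij; rw [hdiag i i₀]; simp
        · rw [hoff i j hij]; simp [hij]
      have h0 : M g i₀ i₀ ≠ 0 := fun e => by
        rw [e, zero_smul] at hsc
        haveI : Nonempty (Fin n) := ⟨i₀⟩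
        exact (ρ g).ne_zero hsc
      exact ⟨Units.mk0 _ h0, hUscal g _ hsc, hsc⟩
    · rintro ⟨w, -, hg⟩
      exact Subgroup.mem_center_iff.2 fun h => hMinj (by rw [hMmul, hMmul, hg]; simp)
  -- the split elements
  let e : ZMod r → K := fun j => ((ζ : Kˣ) : K) ^ j.val
  have he_add : ∀ a b, e (a + b) = e a * e b := fun a b => by
    simp only [e, ← pow_add, ZMod.val_add]
    conv_rhs => rw [← Nat.mod_add_div (a.val + b.val) r, pow_add, pow_mul, hζp.pow_eq_one, one_pow, mul_one]
  have he_inj : Function.Injective e := fun a b h =>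
    ZMod.val_injective r (hζp.pow_inj (ZMod.val_lt a) (ZMod.val_lt b) h)
  have hepow : ∀ a, e a ^ r = 1 := fun a => by
    show (((ζ : Kˣ) : K) ^ a.val) ^ r = 1
    rw [← pow_mul, mul_comm, pow_mul, hζp.pow_eq_one, one_pow]
  let eU : ZMod r → U := fun j => ⟨ζ ^ j.val, U.pow_mem hζU _⟩
  choose D hD using fun d : Fin n → ZMod r => hmono 1 (fun j => eU (d j))
  have hDv : ∀ d, M (D d) = Matrix.diagonal (fun i => e (d i)) := fun d => by
    rw [show M (D d) = _ from hD d, monoMat_one]
    simp [eU, e]
  have hDpow : ∀ d, D d ^ r = 1 := fun d => hMinj (by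
    rw [hMpow, hDv, Matrix.diagonal_pow]
    simp [M, Pi.pow_def, hepow])
  have hχD : ∀ d, (M (D d)).charpoly =
      (((Finset.univ : Finset (Fin n)).val.map (fun i => e (d i))).map fun x => X - C x).prod := fun d => by
    rw [hDv, Matrix.charpoly_diagonal, Multiset.map_map]; rfl
  have hcop : ∀ g : G, g ^ r = 1 → (orderOf (ρ g)).Coprime p := fun g hg =>
    Nat.Coprime.coprime_dvd_left (orderOf_dvd_of_pow_eq_one (by rw [← map_pow, hg, map_one]))
      ((Nat.coprime_primes hr Fact.out).2 hrp)
  have hχconj : ∀ g h, IsConj g h → (M g).charpoly = (M h).charpoly := fun g h hgh => by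
    obtain ⟨c, rfl⟩ := isConj_iff.1 hgh
    simp only [M, map_mul, map_inv, Units.val_mul]
    rw [Matrix.charpoly_mul_comm, ← mul_assoc, Units.inv_mul, one_mul]
  let ms : (Fin n → ZMod r) → Sym (ZMod r) n := fun d => Sym.mk ((Finset.univ : Finset (Fin n)).val.map d) (by simp)
  have hDconj : ∀ d d', IsConj (D d) (D d') ↔ ms d = ms d' := by
    intro d d'
    constructor
    · intro h
      have h1 := congrArg Polynomial.roots (hχconj _ _ h)
      rw [hχD, hχD, Polynomial.roots_multiset_prod_X_sub_C, Polynomial.roots_multiset_prod_X_sub_C] at h1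
      refine Subtype.ext (Multiset.map_injective he_inj ?_)
      simpa [ms, Multiset.map_map, Function.comp_def] using h1
    · intro h
      refine hconj _ _ (SemisimpleClass.isConj_of_charpoly_eq (p := p) _ _ (hcop _ (hDpow d)) (hcop _ (hDpow d')) ?_)
      have h1 := congrArg (fun s : Sym (ZMod r) n => ((s : Multiset (ZMod r)).map e)) h
      simp only [ms, Sym.coe_mk, Multiset.map_map, Function.comp_def] at h1
      exact ((hχD d).trans (by rw [h1])).trans (hχD d').symm
  have hsplit : ∀ g : G, g ^ r = 1 → ∃ d, IsConj g (D d) := by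
    intro g hg
    set χ := (M g).charpoly with hχ
    have hχm : χ.Monic := Matrix.charpoly_monic _
    have hfac : ∀ f ∈ UniqueFactorizationMonoid.normalizedFactors χ, ∃ a : ZMod r, f = X - C (e a) := by
      intro f hf
      have hirr := UniqueFactorizationMonoid.irreducible_of_normalized_factor f hf
      let A := Matrix.toLinAlgEquiv' (R := K) (n := Fin n)
      have hcp : (A (M g)).charpoly = χ := Matrix.charpoly_toLin' _
      have hdvd : f ∣ X ^ r - C 1 := by
        refine (SemisimpleClass.dvd_minpoly_of_dvd_charpoly (A (M g)) hirr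
          (hcp ▸ UniqueFactorizationMonoid.dvd_of_mem_normalizedFactors hf)).trans (minpoly.dvd K _ ?_)
        rw [map_sub, map_pow, aeval_X, aeval_C, map_one, ← map_pow, ← hMpow, hg]
        simp [M]
      rw [map_one, X_pow_sub_one_eq_prod hr.pos hζp] at hdvd
      obtain ⟨z, hz, hzd⟩ := hirr.prime.exists_mem_finset_dvd hdvd
      rw [Polynomial.mem_nthRootsFinset hr.pos] at hz
      obtain ⟨i, hi, hzi⟩ := hζp.eq_pow_of_pow_eq_one hz
      refine ⟨(i : ZMod r), ?_⟩
      rw [show e (i : ZMod r) = z by simp only [e, ZMod.val_cast_of_lt hi, hzi]]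
      have hfm : f.Monic := by
        rw [← UniqueFactorizationMonoid.normalize_normalized_factor f hf]; exact monic_normalize hirr.ne_zero
      exact eq_of_monic_of_associated hfm (monic_X_sub_C z)
        (hirr.associated_of_dvd (irreducible_X_sub_C z) hzd)
    choose! a ha using hfac
    have hprod : χ = (((UniqueFactorizationMonoid.normalizedFactors χ).map a).map fun j => X - C (e j)).prod := by
      rw [Multiset.map_map, Function.comp_def, Multiset.map_congr rfl (g := id) fun f hf => (ha f hf).symm, Multiset.map_id,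
        UniqueFactorizationMonoid.prod_normalizedFactors_eq hχm.ne_zero, hχm.normalize_eq_self]
    set l := ((UniqueFactorizationMonoid.normalizedFactors χ).map a).toList with hl
    have hlen : l.length = n := by
      have h1 := congrArg natDegree hprod
      rw [hχ, Matrix.charpoly_natDegree_eq_dim, Fintype.card_fin,
        show (fun j => X - C (e j)) = (fun x => X - C x) ∘ e from rfl, ← Multiset.map_map,
        natDegree_multiset_prod_X_sub_C_eq_card, Multiset.card_map] at h1
      rw [hl, Multiset.length_toList, ← h1]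
    refine ⟨fun i => l.get (i.cast hlen.symm), hconj _ _ (SemisimpleClass.isConj_of_charpoly_eq (p := p) _ _
      (hcop g hg) (hcop _ (hDpow _)) ?_)⟩
    show χ = (M (D _)).charpoly
    rw [hχD, hprod, ← Multiset.coe_toList ((UniqueFactorizationMonoid.normalizedFactors χ).map a), ← hl,
      Multiset.map_map, Multiset.map_coe, Multiset.prod_coe]
    conv_lhs => rw [← List.ofFn_get l]
    show ((List.ofFn l.get).map _).prod = Multiset.prod _
    rw [List.map_ofFn, List.prod_ofFn, ← Finset.prod_map_val]
    exact Fintype.prod_equiv (finCongr hlen) _ _ fun i => by simp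
  have hDshift : ∀ d k, M (D (fun i => d i + k)) = e k • M (D d) := fun d k => by
    rw [hDv, hDv, ← Matrix.diagonal_smul]
    congr 1
    funext i
    simp [he_add, mul_comm]
  choose scal hscalM using hscal
  have hsmulconj : ∀ (w : Kˣ) (hw : w ∈ U) {g h : G}, IsConj g h → IsConj (scal w hw * g) (scal w hw * h) := by
    intro w hw g h hgh
    obtain ⟨c, rfl⟩ := isConj_iff.1 hgh
    refine isConj_iff.2 ⟨c, ?_⟩
    have hz : scal w hw ∈ Subgroup.center G := (hcen _).2 ⟨w, hw, hscalM w hw⟩
    rw [← mul_assoc, Subgroup.mem_center_iff.1 hz c]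
    group
  -- conjugacy modulo the centre
  have hmk : ∀ g h : G, IsConj (QuotientGroup.mk g : G ⧸ Subgroup.center G) (QuotientGroup.mk h) ↔
      ∃ (w : Kˣ) (hw : w ∈ U), IsConj (scal w hw * g) h := by
    intro g h
    constructor
    · intro hgh
      obtain ⟨c, hc⟩ := isConj_iff.1 hgh
      obtain ⟨c, rfl⟩ := QuotientGroup.mk_surjective c
      rw [← QuotientGroup.mk_mul, ← QuotientGroup.mk_inv, ← QuotientGroup.mk_mul, QuotientGroup.eq] at hc
      obtain ⟨w, hw, hwM⟩ := (hcen _).1 hc
      refine ⟨w, hw, isConj_iff.2 ⟨c, ?_⟩⟩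
      have hz : scal w hw = (c * g * c⁻¹)⁻¹ * h := hMinj (by rw [hscalM, hwM])
      have hzc : scal w hw ∈ Subgroup.center G := (hcen _).2 ⟨w, hw, hscalM w hw⟩
      rw [← mul_assoc, Subgroup.mem_center_iff.1 hzc c, mul_assoc (scal w hw), mul_assoc (scal w hw),
        ← Subgroup.mem_center_iff.1 hzc (c * g * c⁻¹), hz]
      group
    · rintro ⟨w, hw, hwc⟩
      have hzc : scal w hw ∈ Subgroup.center G := (hcen _).2 ⟨w, hw, hscalM w hw⟩
      have h1 := MonoidHom.map_isConj (QuotientGroup.mk' (Subgroup.center G)) hwc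
      rw [map_mul, QuotientGroup.mk'_apply, QuotientGroup.mk'_apply, QuotientGroup.mk'_apply,
        (QuotientGroup.eq_one_iff _).2 hzc, one_mul] at h1
      exact h1
  have horder : ∀ g : G, orderOf (QuotientGroup.mk g : G ⧸ Subgroup.center G) = r ↔
      (∃ w ∈ U, M (g ^ r) = (w : K) • 1) ∧ ¬ ∃ w ∈ U, M g = (w : K) • 1 := by
    intro g
    rw [orderOf_eq_prime_iff, ← QuotientGroup.mk_pow, QuotientGroup.eq_one_iff, Ne, QuotientGroup.eq_one_iff, hcen, hcen]
  let P : Subgroup U := (powMonoidHom r : U →* U).range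
  have hPidx : P.index = r := by
    have hker : Nat.card (powMonoidHom r : U →* U).ker = r := by
      conv_rhs => rw [← Nat.card_zmod r]
      refine (Nat.card_congr (Equiv.ofBijective (fun j : ZMod r => (⟨eU j, ?_⟩ : (powMonoidHom r : U →* U).ker))
        ⟨fun a b h => he_inj ?_, fun x => ?_⟩)).symm
      · exact Subtype.ext (Units.ext (by simpa [eU, e] using hepow j))
      · simpa [eU, e] using congrArg (fun x : (powMonoidHom r : U →* U).ker => (((x : U) : Kˣ) : K)) h
      · have hx : (((x : U) : Kˣ) : K) ^ r = 1 := by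
          simpa using congrArg (fun y : U => ((y : Kˣ) : K)) x.2
        obtain ⟨i, hi, hxi⟩ := hζp.eq_pow_of_pow_eq_one hx
        exact ⟨(i : ZMod r), Subtype.ext (Subtype.ext (Units.ext (by
          simpa [eU, ZMod.val_cast_of_lt hi] using hxi)))⟩
    have h1 := (powMonoidHom r : U →* U).ker.card_mul_index
    rw [Subgroup.index_ker, hker] at h1
    have h2 := P.card_mul_index
    rw [← h1, mul_comm r] at h2
    exact Nat.eq_of_mul_eq_mul_left Nat.card_pos h2
  -- the blocks of size `r`
  have hblock : r ∣ n → ∀ lam : U, ∃ g : G, M (g ^ r) = ((lam : Kˣ) : K) • 1 := by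
    intro hdiv lam
    let f : Fin n ≃ Fin (n / r) × ZMod r := Fintype.equivOfCardEq (by
      rw [Fintype.card_prod, Fintype.card_fin, Fintype.card_fin, ZMod.card, Nat.div_mul_cancel hdiv])
    let π : Equiv.Perm (Fin n) := (f.trans ((Equiv.refl _).prodCongr (Equiv.addRight (1 : ZMod r)))).trans f.symm
    obtain ⟨g, hg⟩ := hmono π (fun x => if (f x).2 = 0 then lam else 1)
    have hπ : ∀ (l : ℕ) x, f ((π ^ l) x) = ((f x).1, (f x).2 + l) := by
      intro l x
      induction l with
      | zero => simp
      | succ l ih =>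
        rw [pow_succ', Equiv.Perm.mul_apply]
        show f (f.symm _) = _
        rw [Equiv.apply_symm_apply]
        simp [ih, add_assoc]
    refine ⟨g, ?_⟩
    rw [hMpow, show M g = _ from hg, monoMat_pow, show π ^ r = 1 from Equiv.ext fun x => f.injective (by
      rw [hπ]; simp), monoMat_one, Matrix.smul_one_eq_diagonal]
    congr 1
    funext x
    rw [Finset.prod_eq_single (-(f x).2).val]
    · rw [hπ]; simp
    · intro l hl hne
      rw [hπ]
      simp only
      rw [if_neg]
      · simp
      · intro h0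
        apply hne
        rw [← ZMod.val_cast_of_lt (Finset.mem_range.1 hl)]
        congr 1
        exact (eq_neg_of_add_eq_zero_right h0)
    · intro h; exact absurd (Finset.mem_range.2 (ZMod.val_lt _)) h
  have hnot : ∀ lam : U, lam ∉ P → ∀ w : Kˣ, w ∈ U → (w : K) ^ r ≠ ((lam : Kˣ) : K) := fun lam hlam w hw h =>
    hlam ⟨⟨w, hw⟩, Subtype.ext (Units.ext (by simpa using h))⟩
  have hirr : ∀ lam : U, lam ∉ P → Irreducible (X ^ r - C ((lam : Kˣ) : K)) := fun lam hlam =>
    X_pow_sub_C_irreducible_of_prime hr fun x hx => by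
      obtain ⟨w, hw, hwr⟩ := hroot _ lam.2 x hx
      exact hnot lam hlam w hw (by rw [← Units.val_pow_eq_pow_val, hwr])
  have hcop' : ∀ (g : G) (lam : U), M (g ^ r) = ((lam : Kˣ) : K) • 1 → (orderOf (ρ g)).Coprime p := by
    intro g lam hg
    have hpow : g ^ (r * Fintype.card Kˣ) = 1 := hMinj (by
      rw [pow_mul, hMpow, hg, _root_.smul_pow, one_pow, ← Units.val_pow_eq_pow_val, pow_card_eq_one, Units.val_one, one_smul]
      simp [M])
    refine Nat.Coprime.coprime_dvd_left (orderOf_dvd_of_pow_eq_one (by rw [← map_pow, hpow, map_one])) ?_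
    refine Nat.Coprime.mul_left ((Nat.coprime_primes hr Fact.out).2 hrp) ?_
    rw [Fintype.card_units, Nat.coprime_comm, (Fact.out : p.Prime).coprime_iff_not_dvd]
    intro hdvd
    have hp : p ∣ Fintype.card K := by
      obtain ⟨m, -, hm⟩ := FiniteField.card K p
      exact hm ▸ dvd_pow_self p m.ne_zero
    have := Nat.dvd_sub hp hdvd
    rw [Nat.sub_sub_self Fintype.card_pos] at this
    exact (Fact.out : p.Prime).one_lt.ne' (Nat.dvd_one.1 this)
  have hχblock : ∀ (g : G) (lam : U), lam ∉ P → M (g ^ r) = ((lam : Kˣ) : K) • 1 →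
      r ∣ n ∧ (M g).charpoly = (X ^ r - C ((lam : Kˣ) : K)) ^ (n / r) := by
    intro g lam hlam hg
    set χ := (M g).charpoly with hχ
    have hχm : χ.Monic := Matrix.charpoly_monic _
    have hfac : ∀ f ∈ UniqueFactorizationMonoid.normalizedFactors χ, f = X ^ r - C ((lam : Kˣ) : K) := by
      intro f hf
      have hfi := UniqueFactorizationMonoid.irreducible_of_normalized_factor f hf
      let A := Matrix.toLinAlgEquiv' (R := K) (n := Fin n)
      have hcp : (A (M g)).charpoly = χ := Matrix.charpoly_toLin' _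
      have hdvd : f ∣ X ^ r - C ((lam : Kˣ) : K) := by
        refine (SemisimpleClass.dvd_minpoly_of_dvd_charpoly (A (M g)) hfi
          (hcp ▸ UniqueFactorizationMonoid.dvd_of_mem_normalizedFactors hf)).trans (minpoly.dvd K _ ?_)
        rw [map_sub, map_pow, aeval_X, aeval_C, ← map_pow, ← hMpow, hg, map_smul, map_one,
          Algebra.algebraMap_eq_smul_one, sub_self]
      refine eq_of_monic_of_associated ?_ (monic_X_pow_sub_C _ hr.ne_zero) (hfi.associated_of_dvd (hirr lam hlam) hdvd)
      rw [← UniqueFactorizationMonoid.normalize_normalized_factor f hf]; exact monic_normalize hfi.ne_zero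
    have hprod : χ = (X ^ r - C ((lam : Kˣ) : K)) ^ (Multiset.card (UniqueFactorizationMonoid.normalizedFactors χ)) := by
      conv_lhs => rw [← hχm.normalize_eq_self,
        ← UniqueFactorizationMonoid.prod_normalizedFactors_eq hχm.ne_zero, Multiset.eq_replicate_card.2 hfac]
      rw [Multiset.prod_replicate]
    have hdeg := congrArg natDegree hprod
    rw [hχ, Matrix.charpoly_natDegree_eq_dim, Fintype.card_fin, natDegree_pow, natDegree_X_pow_sub_C] at hdeg
    rw [← hχ] at hdeg
    refine ⟨⟨_, hdeg.trans (mul_comm _ _)⟩, hprod.trans ?_⟩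
    rw [hdeg, Nat.mul_div_cancel _ hr.pos]
  -- representatives
  have hrep : ∀ s : Sym (ZMod r) n, ∃ d, ms d = s := fun s => by
    refine ⟨fun i => (s : Multiset (ZMod r)).toList.get (i.cast (by rw [Multiset.length_toList, Sym.card_coe])), Subtype.ext ?_⟩
    show (Finset.univ : Finset (Fin n)).val.map _ = (s : Multiset (ZMod r))
    conv_rhs => rw [← Multiset.coe_toList (s : Multiset (ZMod r)), ← List.ofFn_get (s : Multiset (ZMod r)).toList]
    rw [List.ofFn_congr (by rw [Multiset.length_toList, Sym.card_coe]) _, Fin.univ_val_map]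
  choose dd hdd using hrep
  let orb : ShiftOrbits r n → G := fun o => D (dd o.out.1)
  choose blk hblk using hblock
  let T := ShiftOrbits r n ⊕ {c : U ⧸ P // c ≠ 1 ∧ r ∣ n}
  let gT : T → G := Sum.elim orb (fun c => blk c.2.2 c.1.out)
  have hDns : ∀ s : NonConst r n, ¬ ∃ w ∈ U, M (D (dd s.1)) = (w : K) • 1 := by
    rintro s ⟨w, -, hM⟩
    have hval : ∀ i, e (dd s.1 i) = w := fun i => by
      have h1 := congrFun (congrFun hM i) i
      simpa [hDv] using h1
    refine s.2 (dd s.1 ⟨0, hn⟩) ?_
    conv_lhs => rw [← hdd s.1]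
    refine Subtype.ext ?_
    show (Finset.univ : Finset (Fin n)).val.map (dd s.1) = Multiset.replicate n _
    rw [Multiset.eq_replicate]
    refine ⟨by simp, fun b hb => ?_⟩
    obtain ⟨i, -, rfl⟩ := Multiset.mem_map.1 hb
    exact he_inj ((hval i).trans (hval _).symm)
  have hTord : ∀ t : T, orderOf (QuotientGroup.mk (gT t) : G ⧸ Subgroup.center G) = r := by
    intro t
    rw [horder]
    rcases t with o | ⟨c, hc, hdiv⟩
    · exact ⟨⟨1, U.one_mem, by simp [gT, orb, hDpow, M]⟩, hDns o.out⟩
    · refine ⟨⟨_, (c.out).2, hblk hdiv c.out⟩, ?_⟩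
      rintro ⟨w, hw, hwM⟩
      refine hc ?_
      rw [← c.out_eq]
      refine (QuotientGroup.eq_one_iff _).2 ⟨⟨w, hw⟩, Subtype.ext (Units.ext ?_)⟩
      have h1 := hblk hdiv c.out
      rw [hMpow, show M (blk hdiv c.out) = _ from hwM, _root_.smul_pow, one_pow] at h1
      simpa using congrFun (congrFun h1 ⟨0, hn⟩) ⟨0, hn⟩
  let Φ : T → {C : ConjClasses (G ⧸ Subgroup.center G) //
      ∃ g : G ⧸ Subgroup.center G, ConjClasses.mk g = C ∧ orderOf g = r} := fun t =>
    ⟨ConjClasses.mk (QuotientGroup.mk (gT t)), _, rfl, hTord t⟩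
  -- comparing powers
  have hpowconj : ∀ {g h : G} {w : Kˣ} (hw : w ∈ U) {a b : K}, IsConj (scal w hw * g) h →
      M (g ^ r) = a • 1 → M (h ^ r) = b • 1 → (w : K) ^ r * a = b := by
    intro g h w hw a b hc hg hh
    obtain ⟨c, rfl⟩ := isConj_iff.1 hc
    have hz : Commute (scal w hw) g := (Subgroup.mem_center_iff.1 ((hcen _).2 ⟨w, hw, hscalM w hw⟩) g).symm
    rw [conj_pow, hz.mul_pow, hMmul, hMmul, hMmul, hMpow (scal w hw), hscalM, hg, _root_.smul_pow, one_pow,
      Matrix.smul_mul, one_mul, smul_smul, Matrix.mul_smul, mul_one, Matrix.smul_mul, ← hMmul, mul_inv_cancel] at hh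
    simpa [M] using congrFun (congrFun hh ⟨0, hn⟩) ⟨0, hn⟩
  have hΦ : Function.Bijective Φ := by
    constructor
    · intro t t' htt
      obtain ⟨w, hw, hwc⟩ := (hmk _ _).1 (ConjClasses.mk_eq_mk_iff_isConj.1 (congrArg Subtype.val htt))
      rcases t with o | ⟨c, hc, hdiv⟩ <;> rcases t' with o' | ⟨c', hc', hdiv'⟩
      · have hw1 := hpowconj hw hwc (a := 1) (b := 1) (by simp [gT, orb, hDpow, M]) (by simp [gT, orb, hDpow, M])
        rw [mul_one] at hw1
        obtain ⟨i, hi, hwi⟩ := hζp.eq_pow_of_pow_eq_one hw1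
        have hke : e (i : ZMod r) = (w : K) := by simp only [e, ZMod.val_cast_of_lt hi, hwi]
        have hshift : scal w hw * D (dd o.out.1) = D (fun j => dd o.out.1 j + (i : ZMod r)) := hMinj (by
          rw [hMmul, hscalM, hDshift, hke, Matrix.smul_mul, one_mul])
        simp only [gT, orb, Sum.elim_inl] at hwc
        rw [hshift, hDconj, hdd] at hwc
        have hsm : (Multiplicative.ofAdd (i : ZMod r)) • o.out = o'.out := Subtype.ext (by
          show o.out.1.map (fun x => x + (i : ZMod r)) = o'.out.1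
          rw [← hwc]
          conv_lhs => rw [← hdd o.out.1]
          refine Subtype.ext ?_
          simp [ms, Multiset.map_map, Function.comp_def])
        congr 1
        rw [← Quotient.out_eq o, ← Quotient.out_eq o']
        exact (Quotient.sound (MulAction.orbitRel_apply.2 ⟨_, hsm⟩)).symm
      · exfalso
        have hw1 := hpowconj hw hwc (a := 1) (b := ((c'.out : Kˣ) : K)) (by simp [gT, orb, hDpow, M]) (hblk hdiv' _)
        rw [mul_one] at hw1
        refine hc' ?_
        rw [← c'.out_eq]
        exact (QuotientGroup.eq_one_iff _).2 ⟨⟨w, hw⟩, Subtype.ext (Units.ext (by simpa using hw1))⟩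
      · exfalso
        have hw1 := hpowconj hw hwc (a := ((c.out : Kˣ) : K)) (b := 1) (hblk hdiv _) (by simp [gT, orb, hDpow, M])
        refine hc ?_
        rw [← c.out_eq]
        refine (QuotientGroup.eq_one_iff _).2 ⟨⟨w, hw⟩⁻¹, Subtype.ext (Units.ext ?_)⟩
        simp only [powMonoidHom_apply, inv_pow, InvMemClass.coe_inv, SubmonoidClass.coe_pow, Units.val_inv_eq_inv_val,
          Units.val_pow_eq_pow_val]
        exact (eq_inv_of_mul_eq_one_right hw1).symm
      · have hw1 := hpowconj hw hwc (a := ((c.out : Kˣ) : K)) (b := ((c'.out : Kˣ) : K)) (hblk hdiv _) (hblk hdiv' _)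
        congr 1
        refine Subtype.ext ?_
        show c = c'
        rw [← c.out_eq, ← c'.out_eq]
        refine QuotientGroup.eq.2 ⟨⟨w, hw⟩, Subtype.ext (Units.ext ?_)⟩
        simp only [powMonoidHom_apply, InvMemClass.coe_inv, MulMemClass.coe_mul, SubmonoidClass.coe_pow,
          Units.val_inv_eq_inv_val, Units.val_mul, Units.val_pow_eq_pow_val]
        rw [← hw1, mul_comm ((w : K) ^ r), inv_mul_cancel_left₀ (Units.ne_zero _)]
    · rintro ⟨C, x, rfl, hx⟩
      obtain ⟨g, rfl⟩ := QuotientGroup.mk_surjective x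
      obtain ⟨⟨lam, hlamU, hlam⟩, hns⟩ := (horder g).1 hx
      suffices h : ∃ t : T, ∃ (w : Kˣ) (hw : w ∈ U), IsConj (scal w hw * g) (gT t) by
        obtain ⟨t, h⟩ := h
        exact ⟨t, Subtype.ext (ConjClasses.mk_eq_mk_iff_isConj.2 ((hmk _ _).2 h).symm)⟩
      have hpow' : ∀ (w : Kˣ) (hw : w ∈ U), M ((scal w hw * g) ^ r) = ((w : K) ^ r * lam) • 1 := fun w hw => by
        have hz : Commute (scal w hw) g := (Subgroup.mem_center_iff.1 ((hcen _).2 ⟨w, hw, hscalM w hw⟩) g).symm
        rw [hz.mul_pow, hMmul, hMpow (scal w hw), hscalM, hlam, _root_.smul_pow, one_pow, Matrix.smul_mul, one_mul, smul_smul]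
      by_cases hP : (⟨lam, hlamU⟩ : U) ∈ P
      · obtain ⟨v, hv⟩ := hP
        have hv' : ((v : Kˣ) : K) ^ r = lam := by simpa using congrArg (fun y : U => ((y : Kˣ) : K)) hv
        set w : Kˣ := (v : Kˣ)⁻¹
        have hw : w ∈ U := U.inv_mem v.2
        set g' := scal w hw * g
        have hg' : g' ^ r = 1 := hMinj (by
          rw [hpow' w hw, ← hv', ← mul_pow, ← Units.val_mul, inv_mul_cancel, Units.val_one, one_pow, one_smul]
          simp [M])
        obtain ⟨d, hd⟩ := hsplit g' hg'
        have hdnc : ∀ j, ms d ≠ Sym.replicate n j := by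
          intro j hj
          have hDd : D d ∈ Subgroup.center G := (hcen _).2 ⟨ζ ^ j.val, U.pow_mem hζU _, by
            rw [hDv, Matrix.smul_one_eq_diagonal]
            congr 1
            funext i
            have hi : d i ∈ (Finset.univ : Finset (Fin n)).val.map d := Multiset.mem_map.2 ⟨i, Finset.mem_univ i, rfl⟩
            rw [show (Finset.univ : Finset (Fin n)).val.map d = (ms d : Multiset (ZMod r)) from rfl, hj,
              Sym.coe_replicate] at hi
            simp [e, Multiset.eq_of_mem_replicate hi]⟩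
          obtain ⟨c, hc⟩ := isConj_iff.1 hd.symm
          refine hns ((hcen g).1 ?_)
          have hg'c : g' ∈ Subgroup.center G := hc ▸ (inferInstance : (Subgroup.center G).Normal).conj_mem _ hDd c
          exact (Subgroup.mul_mem_cancel_left _ ((hcen _).2 ⟨w, hw, hscalM w hw⟩)).1 hg'c
        let o : ShiftOrbits r n := Quotient.mk _ (⟨ms d, hdnc⟩ : NonConst r n)
        obtain ⟨k, hk⟩ : ∃ k : Multiplicative (ZMod r), k • (⟨ms d, hdnc⟩ : NonConst r n) = o.out :=
          MulAction.orbitRel_apply.1 (Quotient.mk_out (s := MulAction.orbitRel (Multiplicative (ZMod r)) (NonConst r n))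
            (⟨ms d, hdnc⟩ : NonConst r n))
        refine ⟨Sum.inl o, ?_⟩
        have hk' : ms (fun i => d i + k.toAdd) = ms (dd o.out.1) := by
          rw [hdd]
          refine Eq.trans ?_ (congrArg Subtype.val hk)
          refine Subtype.ext ?_
          show (Finset.univ : Finset (Fin n)).val.map _ = ((Finset.univ : Finset (Fin n)).val.map d).map (fun x => x + k.toAdd)
          rw [Multiset.map_map]
          rfl
        have hku : ζ ^ k.toAdd.val ∈ U := U.pow_mem hζU _
        refine ⟨ζ ^ k.toAdd.val * w, U.mul_mem hku hw, ?_⟩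
        have e1 : scal (ζ ^ k.toAdd.val * w) (U.mul_mem hku hw) * g = scal _ hku * g' := hMinj (by
          simp only [g', hMmul, hscalM, Matrix.smul_mul, one_mul, smul_smul, Units.val_mul])
        rw [e1]
        refine (hsmulconj _ hku hd).trans ?_
        rw [show scal _ hku * D d = D (fun i => d i + k.toAdd) from hMinj (by
          rw [hMmul, hscalM, hDshift, Matrix.smul_mul, one_mul]; simp [e])]
        exact (hDconj _ _).2 hk'
      · obtain ⟨hdiv, -⟩ := hχblock g ⟨lam, hlamU⟩ hP hlam
        let c : U ⧸ P := QuotientGroup.mk ⟨lam, hlamU⟩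
        have hc : c ≠ 1 := fun h => hP ((QuotientGroup.eq_one_iff _).1 h)
        obtain ⟨⟨v, hv⟩, hvc⟩ : (⟨lam, hlamU⟩ : U)⁻¹ * c.out ∈ P := QuotientGroup.eq.1 c.out_eq.symm
        refine ⟨Sum.inr ⟨c, hc, hdiv⟩, v, hv, hconj _ _ ?_⟩
        have h1 : M ((scal v hv * g) ^ r) = ((c.out : Kˣ) : K) • 1 := by
          rw [hpow']
          congr 1
          have h2 := congrArg (fun y : U => ((y : Kˣ) : K)) hvc
          simp only [powMonoidHom_apply, InvMemClass.coe_inv, MulMemClass.coe_mul, SubmonoidClass.coe_pow,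
            Units.val_inv_eq_inv_val, Units.val_mul, Units.val_pow_eq_pow_val] at h2
          rw [h2, mul_comm, mul_inv_cancel_left₀ (Units.ne_zero _)]
        have hcP : c.out ∉ P := fun h => hc (by rw [← c.out_eq]; exact (QuotientGroup.eq_one_iff _).2 h)
        exact SemisimpleClass.isConj_of_charpoly_eq (p := p) _ _ (hcop' _ _ h1) (hcop' _ _ (hblk hdiv _))
          (((hχblock _ _ hcP h1).2).trans ((hχblock _ _ hcP (hblk hdiv _)).2).symm)
  rw [← Nat.card_congr (Equiv.ofBijective Φ hΦ), Nat.card_sum, card_shiftOrbits r n hn]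
  have hcard : Nat.card {c : U ⧸ P // c ≠ 1 ∧ r ∣ n} = if r ∣ n then r - 1 else 0 := by
    split_ifs with hdiv
    · rw [Nat.card_congr (Equiv.subtypeEquivRight (q := fun c : U ⧸ P => ¬ c = 1) fun c => and_iff_left hdiv)]
      haveI := Fintype.ofFinite (U ⧸ P)
      rw [Nat.card_eq_fintype_card, Fintype.card_subtype_compl, Fintype.card_subtype_eq,
        ← Nat.card_eq_fintype_card, ← Subgroup.index, hPidx]
    · haveI : IsEmpty {c : U ⧸ P // c ≠ 1 ∧ r ∣ n} := ⟨fun c => hdiv c.2.2⟩
      exact Nat.card_of_isEmpty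
  rw [hcard]
  have := hr.pos
  split_ifs <;> simp only [mul_one, mul_zero, add_zero] <;> omega

end Proj

end CfsgLib.Classical.ClassTheory
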