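import Cfsg.Agent.Lib.Classical.ClassTheory.ProjPrime
import Cfsg.Agent.Lib.Classical.ClassTheory.Unitary

/-!
# Classes of prime order of `PGL` and `PGU` in the split case
-/

set_option autoImplicit false

namespace CfsgLib.Classical.ClassTheory

open CfsgLib.Classical.Herm
open scoped Matrix

variable {K : Type*} [Field K] [Fintype K] {n : ℕ}

theorem exists_mono_unit (π : Equiv.Perm (Fin n)) (d : Fin n → Kˣ) :
    ∃ g : GL (Fin n) K, (g : Matrix (Fin n) (Fin n) K) = monoMat π (fun j => (d j : K)) := by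
  have key : ∀ (π : Equiv.Perm (Fin n)) (d : Fin n → Kˣ),
      monoMat π (fun j => (d j : K)) * monoMat π⁻¹ (fun j => (((d (π⁻¹ j))⁻¹ : Kˣ) : K)) = 1 := fun π d => by
    rw [monoMat_mul, mul_inv_cancel, monoMat_one]
    convert Matrix.diagonal_one with j
    simp
  exact ⟨⟨_, _, key π d, mul_eq_one_comm.1 (key π d)⟩, rfl⟩

theorem exists_prim_root {r : ℕ} [Fact r.Prime] (h : r ∣ Fintype.card K - 1) :
    ∃ ζ : Kˣ, IsPrimitiveRoot (ζ : K) r := by
  classical
  obtain ⟨ζ, hζ⟩ := exists_prime_orderOf_dvd_card (G := Kˣ) r (by rwa [Fintype.card_units])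
  exact ⟨ζ, IsPrimitiveRoot.iff_orderOf.2 (by rw [orderOf_units, hζ])⟩

/-- Classes of order `r` of `PGL` for `r ∣ q - 1`. -/
theorem pgl_prime_class_count {r : ℕ} (hn : 1 ≤ n) (hr : r.Prime) (hrq : r ∣ Fintype.card K - 1) :
    Nat.card {C : ConjClasses (GL (Fin n) K ⧸ Subgroup.center (GL (Fin n) K)) //
      ∃ g : GL (Fin n) K ⧸ Subgroup.center (GL (Fin n) K), ConjClasses.mk g = C ∧ orderOf g = r} =
      (Nat.choose (n + r - 1) (r - 1) - r - (if r ∣ n then 1 else 0)) / r + r * (if r ∣ n then 1 else 0) := by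
  classical
  haveI : Fact r.Prime := ⟨hr⟩
  obtain ⟨p, hp⟩ := CharP.exists K
  obtain ⟨m, hpr, hm⟩ := FiniteField.card K p
  haveI : Fact p.Prime := ⟨hpr⟩
  have hrp : r ≠ p := by
    rintro rfl
    have h1 : r ∣ Fintype.card K := hm ▸ dvd_pow_self r m.ne_zero
    have := Nat.dvd_sub h1 hrq
    rw [Nat.sub_sub_self Fintype.card_pos] at this
    exact hr.one_lt.ne' (Nat.dvd_one.1 this)
  obtain ⟨ζ, hζ⟩ := exists_prim_root hrq
  refine card_proj_prime_classes (p := p) hrp hn (MonoidHom.id _) Function.injective_id ⊤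
    (fun π d => exists_mono_unit π fun j => (d j : Kˣ)) (fun _ c _ => Subgroup.mem_top c) (fun _ _ h => h)
    ⟨ζ, Subgroup.mem_top ζ, hζ⟩ fun lam _ x hx => ?_
  have hx0 : x ≠ 0 := fun h => lam.ne_zero (by rw [← hx, h, zero_pow hr.ne_zero])
  exact ⟨Units.mk0 x hx0, Subgroup.mem_top _, Units.ext (by simpa using hx)⟩

/-- Classes of odd prime order `r` of `PGU` for `r ∣ q + 1`. -/
theorem pgu_prime_class_count {q r : ℕ} (hK : Fintype.card K = q ^ 2) (hn : 1 ≤ n) (hr : r.Prime) (hr2 : r ≠ 2)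
    (hrq : r ∣ q + 1) :
    Nat.card {C : ConjClasses (↥(Cfsg.GU n K q) ⧸ Subgroup.center ↥(Cfsg.GU n K q)) //
      ∃ g : ↥(Cfsg.GU n K q) ⧸ Subgroup.center ↥(Cfsg.GU n K q), ConjClasses.mk g = C ∧ orderOf g = r} =
      (Nat.choose (n + r - 1) (r - 1) - r - (if r ∣ n then 1 else 0)) / r + r * (if r ∣ n then 1 else 0) := by
  classical
  haveI : Fact r.Prime := ⟨hr⟩
  obtain ⟨p, hp⟩ := CharP.exists K
  obtain ⟨m, hpr, hm⟩ := FiniteField.card K p
  haveI : Fact p.Prime := ⟨hpr⟩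
  have hq2 := CfsgLib.Classical.two_le_of_card_sq hK
  have hsq : q ^ 2 - 1 = (q - 1) * (q + 1) := by
    rw [show q ^ 2 - 1 = q ^ 2 - 1 ^ 2 by rw [one_pow], Nat.sq_sub_sq, mul_comm]
  have hrK : r ∣ Fintype.card K - 1 := by rw [hK, hsq]; exact hrq.mul_left _
  have hrp : r ≠ p := by
    rintro rfl
    have h1 : r ∣ Fintype.card K := hm ▸ dvd_pow_self r m.ne_zero
    have := Nat.dvd_sub h1 hrK
    rw [Nat.sub_sub_self Fintype.card_pos] at this
    exact hr.one_lt.ne' (Nat.dvd_one.1 this)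
  obtain ⟨ζ, hζ⟩ := exists_prim_root hrK
  set U : Subgroup Kˣ := (powMonoidHom (q + 1) : Kˣ →* Kˣ).ker with hU
  have hmemU : ∀ c : Kˣ, c ∈ U ↔ (c : K) ^ (q + 1) = 1 := fun c => by
    rw [hU, MonoidHom.mem_ker, powMonoidHom_apply, ← Units.val_eq_one, Units.val_pow_eq_pow_val]
  refine card_proj_prime_classes (p := p) hrp hn (Cfsg.GU n K q).subtype Subtype.val_injective U
    (fun π d => ?_) (fun g c hg => ?_) (fun g h hgh => (gu_isConj_iff g h hK).2 hgh)
    ⟨ζ, (hmemU ζ).2 (by obtain ⟨k, hk⟩ := hrq; rw [hk, pow_mul, hζ.pow_eq_one, one_pow]), hζ⟩ fun lam hlam x hx => ?_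
  · obtain ⟨g, hg⟩ := exists_mono_unit π fun j => (d j : Kˣ)
    refine ⟨⟨g, ?_⟩, hg⟩
    intro u v
    have hM : ∀ w : Fin n → K, ∀ i, ((g : Matrix (Fin n) (Fin n) K) *ᵥ w) i = ((d (π.symm i) : Kˣ) : K) * w (π.symm i) := by
      intro w i
      rw [hg]
      show ∑ j : Fin n, monoMat π (fun j => ((d j : Kˣ) : K)) i j * w j = _
      rw [Finset.sum_eq_single (π.symm i) (fun j _ hj => by
        show (if i = π j then ((d j : Kˣ) : K) else 0) * w j = 0
        rw [if_neg (fun h => hj (by rw [h, Equiv.symm_apply_apply])), zero_mul]) (by simp)]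
      simp [monoMat]
    show Cfsg.hermForm n K q _ _ = Cfsg.hermForm n K q u v
    simp only [Cfsg.hermForm, hM]
    rw [← Equiv.sum_comp π]
    refine Finset.sum_congr rfl fun j _ => ?_
    have h1 := (hmemU _).1 (d j).2
    rw [Units.coeHom_apply, hM, hM, Equiv.symm_apply_apply, mul_pow]
    calc _ = ((d j : Kˣ) : K) ^ (q + 1) * (u j * v j ^ q) := by ring
      _ = _ := by rw [h1, one_mul]
  · rw [hmemU]
    have hg' : (((g : GL (Fin n) K)) : Matrix (Fin n) (Fin n) K) = (c : K) • 1 := hg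
    have h1 : Cfsg.hermForm n K q (((g : GL (Fin n) K) : Matrix (Fin n) (Fin n) K) *ᵥ Pi.single ⟨0, hn⟩ 1)
        (((g : GL (Fin n) K) : Matrix (Fin n) (Fin n) K) *ᵥ Pi.single ⟨0, hn⟩ 1) =
        Cfsg.hermForm n K q (Pi.single ⟨0, hn⟩ 1) (Pi.single ⟨0, hn⟩ 1) := g.2 _ _
    rw [hg', Matrix.smul_mulVec, Matrix.one_mulVec] at h1
    simp only [Cfsg.hermForm] at h1
    rw [Finset.sum_eq_single (⟨0, hn⟩ : Fin n) (fun j _ hj => by simp [hj]) (by simp),
      Finset.sum_eq_single (⟨0, hn⟩ : Fin n) (fun j _ hj => by simp [hj]) (by simp)] at h1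
    simpa [pow_succ'] using h1
  · have hx0 : x ≠ 0 := fun h => lam.ne_zero (by rw [← hx, h, zero_pow hr.ne_zero])
    refine ⟨Units.mk0 x hx0, (hmemU _).2 ?_, Units.ext (by simpa using hx)⟩
    have h1 : x ^ (r * (q + 1)) = 1 := by rw [pow_mul, hx, (hmemU lam).1 hlam]
    have h2 : x ^ ((q - 1) * (q + 1)) = 1 := by
      rw [← hsq, ← hK]; exact FiniteField.pow_card_sub_one_eq_one x hx0
    have hcop : Nat.gcd (r * (q + 1)) ((q - 1) * (q + 1)) = q + 1 := by
      rw [Nat.gcd_mul_right]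
      suffices h : Nat.gcd r (q - 1) = 1 by rw [h, one_mul]
      rw [← Nat.coprime_iff_gcd_eq_one, hr.coprime_iff_not_dvd]
      intro hd
      have h3 := Nat.dvd_sub hrq hd
      rw [show q + 1 - (q - 1) = 2 by omega] at h3
      exact hr2 ((Nat.prime_dvd_prime_iff_eq hr Nat.prime_two).1 h3)
    exact hcop ▸ pow_gcd_eq_one.2 ⟨h1, h2⟩

end CfsgLib.Classical.ClassTheory
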