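import Cfsg.Agent.Lib.Known.Transvections

/-!
# Non-scalar unimodular matrices are products of two regular unipotent matrices

A matrix which is not a transvection is similar to `L * U` with `L` lower and `U` upper regular
unitriangular, by induction on the size; transvections are treated inside the upper unitriangular group.
-/

set_option autoImplicit false

namespace CfsgLib.Classical.ClassTheory.RegularPair

open Matrix

variable {K : Type*} [Field K]

/-- `K` has at least four elements. -/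
def Four (K : Type*) : Prop := ∀ a b c : K, ∃ t, t ≠ a ∧ t ≠ b ∧ t ≠ c

theorem four_of_card (hK : 4 ≤ Cardinal.mk K) : Four K := by
  classical
  intro a b c
  by_contra h
  push Not at h
  have h1 : Cardinal.mk K ≤ 3 := by
    have hsub : (Set.univ : Set K) ⊆ ({a, b, c} : Finset K) := fun t _ => by
      simp only [Finset.coe_insert, Finset.coe_singleton, Set.mem_insert_iff, Set.mem_singleton_iff]
      by_contra hne
      push Not at hne
      exact hne.2.2 (h t hne.1 hne.2.1)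
    calc Cardinal.mk K = Cardinal.mk (Set.univ : Set K) := Cardinal.mk_univ.symm
      _ ≤ Cardinal.mk (({a, b, c} : Finset K) : Set K) := Cardinal.mk_le_mk_of_subset hsub
      _ = (({a, b, c} : Finset K).card : Cardinal) := Cardinal.mk_coe_finset
      _ ≤ 3 := by exact_mod_cast Finset.card_le_three
  exact absurd (hK.trans h1) (by norm_num)

section avoid

variable (h4 : Four K) {W : Type*} [AddCommGroup W] [Module K W]
include h4

/-- An affine subspace is not covered by three hyperplanes. -/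
theorem avoid (D : Submodule K W) (x₀ : W) (φ₁ φ₂ φ₃ : Module.Dual K W)
    (h₁ : φ₁ x₀ ≠ 0 ∨ ∃ y ∈ D, φ₁ y ≠ 0) (h₂ : φ₂ x₀ ≠ 0 ∨ ∃ y ∈ D, φ₂ y ≠ 0) (h₃ : φ₃ x₀ ≠ 0 ∨ ∃ y ∈ D, φ₃ y ≠ 0) :
    ∃ x, x - x₀ ∈ D ∧ φ₁ x ≠ 0 ∧ φ₂ x ≠ 0 ∧ φ₃ x ≠ 0 := by
  have step : ∀ (φ ψ χ : Module.Dual K W) (x : W), x - x₀ ∈ D → ψ x ≠ 0 → χ x ≠ 0 →
      (φ x₀ ≠ 0 ∨ ∃ y ∈ D, φ y ≠ 0) → ∃ x', x' - x₀ ∈ D ∧ φ x' ≠ 0 ∧ ψ x' ≠ 0 ∧ χ x' ≠ 0 := by
    intro φ ψ χ x hx hψ hχ hφ
    by_cases h : φ x ≠ 0
    · exact ⟨x, hx, h, hψ, hχ⟩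
    push Not at h
    obtain ⟨y, hy, hφy⟩ : ∃ y ∈ D, φ y ≠ 0 := by
      rcases hφ with hφ | hφ
      · exact ⟨x - x₀, hx, by rw [map_sub, h, zero_sub, neg_ne_zero]; exact hφ⟩
      · exact hφ
    obtain ⟨t, ht0, htψ, htχ⟩ := h4 0 (-(ψ x) / ψ y) (-(χ x) / χ y)
    have key : ∀ f : Module.Dual K W, f x ≠ 0 → t ≠ -(f x) / f y → f (x + t • y) ≠ 0 := fun f hf htf e => by
      rw [map_add, map_smul, smul_eq_mul] at e
      rcases eq_or_ne (f y) 0 with h0 | h0
      · rw [h0, mul_zero, add_zero] at e; exact hf e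
      · exact htf (by field_simp; linear_combination e)
    refine ⟨x + t • y, ?_, ?_, key ψ hψ htψ, key χ hχ htχ⟩
    · rw [add_sub_right_comm]; exact D.add_mem hx (D.smul_mem t hy)
    · rw [map_add, map_smul, h, zero_add, smul_eq_mul]; exact mul_ne_zero ht0 hφy
  obtain ⟨x, hx, hx1⟩ : ∃ x, x - x₀ ∈ D ∧ φ₁ x ≠ 0 := by
    rcases h₁ with h | ⟨y, hy, h⟩
    · exact ⟨x₀, by rw [sub_self]; exact D.zero_mem, h⟩
    · by_cases h0 : φ₁ x₀ = 0
      · exact ⟨x₀ + y, by rw [add_sub_cancel_left]; exact hy, by rw [map_add, h0, zero_add]; exact h⟩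
      · exact ⟨x₀, by rw [sub_self]; exact D.zero_mem, h0⟩
  obtain ⟨x', hx', h2', h1', -⟩ := step φ₂ φ₁ φ₁ x hx hx1 hx1 h₂
  obtain ⟨x'', hx'', h3'', h1'', h2''⟩ := step φ₃ φ₁ φ₂ x' hx' h1' h2' h₃
  exact ⟨x'', hx'', h1'', h2'', h3''⟩

/-- A vector space is not covered by four hyperplanes. -/
theorem avoid_four (φ₀ φ₁ φ₂ φ₃ : Module.Dual K W) (h₀ : φ₀ ≠ 0) (h₁ : φ₁ ≠ 0) (h₂ : φ₂ ≠ 0) (h₃ : φ₃ ≠ 0) :
    ∃ x, φ₀ x ≠ 0 ∧ φ₁ x ≠ 0 ∧ φ₂ x ≠ 0 ∧ φ₃ x ≠ 0 := by
  obtain ⟨x₀, hx₀⟩ : ∃ x, φ₀ x ≠ 0 := by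
    by_contra hne; push Not at hne; exact h₀ (LinearMap.ext hne)
  have key : ∀ φ : Module.Dual K W, φ ≠ 0 → φ x₀ ≠ 0 ∨ ∃ y ∈ LinearMap.ker φ₀, φ y ≠ 0 := by
    intro φ hφ
    by_contra hne
    push Not at hne
    refine hφ (LinearMap.ext fun z => ?_)
    have h := hne.2 (z - (φ₀ z / φ₀ x₀) • x₀) (by
      rw [LinearMap.mem_ker, map_sub, map_smul, smul_eq_mul, div_mul_cancel₀ _ hx₀, sub_self])
    rwa [map_sub, map_smul, hne.1, smul_zero, sub_zero] at h
  obtain ⟨x, hx, g₁, g₂, g₃⟩ := avoid h4 (LinearMap.ker φ₀) x₀ φ₁ φ₂ φ₃ (key _ h₁) (key _ h₂) (key _ h₃)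
  rw [LinearMap.mem_ker, map_sub, sub_eq_zero] at hx
  exact ⟨x, by rw [hx]; exact hx₀, g₁, g₂, g₃⟩

end avoid

/-- A proper subspace lies in the kernel of a non-zero functional. -/
theorem exists_killing {W : Type*} [AddCommGroup W] [Module K W] {S : Submodule K W} (h : S ≠ ⊤) :
    ∃ φ : Module.Dual K W, φ ≠ 0 ∧ ∀ x, φ x ≠ 0 → x ∉ S := by
  obtain ⟨φ, h1, h2⟩ := Submodule.exists_le_ker_of_lt_top S (lt_top_iff_ne_top.2 h)
  exact ⟨φ, h1, fun x hx hxS => hx (LinearMap.mem_ker.1 (h2 hxS))⟩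

section select

variable (h4 : Four K) {V : Type*} [AddCommGroup V] [Module K V] [FiniteDimensional K V]
include h4

/-- A non-scalar map has a non-eigenvector off a line and outside a hyperplane. -/
theorem exists_not_eigen (A : V →ₗ[K] V) (hA : ∀ a : K, A ≠ a • LinearMap.id) (r : Module.Dual K V) (hr : r ≠ 0) (z : V) :
    ∃ x, r x ≠ 0 ∧ x ∉ (K ∙ z) ∧ ∀ a : K, A x ≠ a • x := by
  by_contra hne
  push Not at hne
  obtain ⟨x₀, hx₀⟩ : ∃ x, r x ≠ 0 := by
    by_contra h; push Not at h; exact hr (LinearMap.ext h)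
  -- on the lines of the hyperplane `r = r x₀` all vectors have the same value
  have key : ∀ y, r y = 0 → y ≠ 0 → ∃ a : K, A x₀ = a • x₀ ∧ A y = a • y := by
    intro y hy hy0
    have hind : ∀ s t : K, s • x₀ + t • y = 0 → s = 0 ∧ t = 0 := fun s t e => by
      have hs : s = 0 := by
        have := congrArg r e
        rw [map_add, map_smul, map_smul, hy, smul_zero, add_zero, map_zero, smul_eq_mul] at this
        exact (mul_eq_zero.1 this).resolve_right hx₀
      rw [hs, zero_smul, zero_add, smul_eq_zero] at e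
      exact ⟨hs, e.resolve_right hy0⟩
    obtain ⟨t₀, hz⟩ : ∃ t₀ : K, ∀ t, t ≠ t₀ → x₀ + t • y ∉ (K ∙ z) := by
      by_cases h : ∃ t₁ : K, x₀ + t₁ • y ∈ (K ∙ z)
      · obtain ⟨t₁, h1⟩ := h
        refine ⟨t₁, fun t ht h2 => ?_⟩
        obtain ⟨a, ha⟩ := Submodule.mem_span_singleton.1 h1
        obtain ⟨b, hb⟩ := Submodule.mem_span_singleton.1 h2
        have hrz : a * r z = r x₀ ∧ b * r z = r x₀ := by
          constructor
          · have := congrArg r ha; simpa [hy] using this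
          · have := congrArg r hb; simpa [hy] using this
        have hab : a = b := mul_right_cancel₀ (fun e => hx₀ (by rw [← hrz.1, e, mul_zero])) (hrz.1.trans hrz.2.symm)
        rw [hab, hb] at ha
        exact ht ((hind 0 (t - t₁) (by rw [zero_smul, zero_add, sub_smul, sub_eq_zero]; exact add_left_cancel ha)).2 |> sub_eq_zero.1)
      · push Not at h; exact ⟨0, fun t _ => h t⟩
    obtain ⟨t₁, h1, -, -⟩ := h4 t₀ t₀ t₀
    obtain ⟨t₂, h2, h21, -⟩ := h4 t₀ t₁ t₁
    obtain ⟨t₃, h3, h31, h32⟩ := h4 t₀ t₁ t₂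
    have heig : ∀ t, t ≠ t₀ → ∃ a : K, A x₀ + t • A y = a • (x₀ + t • y) := fun t ht => by
      obtain ⟨a, ha⟩ := hne (x₀ + t • y) (by rw [map_add, map_smul, hy, smul_zero, add_zero]; exact hx₀) (hz t ht)
      exact ⟨a, by rw [← ha, map_add, map_smul]⟩
    obtain ⟨a₁, e₁⟩ := heig t₁ h1
    obtain ⟨a₂, e₂⟩ := heig t₂ h2
    obtain ⟨a₃, e₃⟩ := heig t₃ h3
    have lin : ((a₁ - a₂) * (t₃ - t₁) - (a₁ - a₃) * (t₂ - t₁)) • x₀ +
        ((a₁ * t₁ - a₂ * t₂) * (t₃ - t₁) - (a₁ * t₁ - a₃ * t₃) * (t₂ - t₁)) • y = 0 := by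
      have d₁ : (t₁ - t₂) • A y = (a₁ - a₂) • x₀ + (a₁ * t₁ - a₂ * t₂) • y := by
        linear_combination (norm := module) e₁ - e₂
      have d₂ : (t₁ - t₃) • A y = (a₁ - a₃) • x₀ + (a₁ * t₁ - a₃ * t₃) • y := by
        linear_combination (norm := module) e₁ - e₃
      linear_combination (norm := module) -((t₃ - t₁) • d₁) + (t₂ - t₁) • d₂
    obtain ⟨l₁, l₂⟩ := hind _ _ lin
    have h123 : (a₁ - a₂) * ((t₃ - t₁) * (t₂ - t₃)) = 0 := by linear_combination l₂ - t₃ * l₁
    have h12 : a₁ = a₂ := sub_eq_zero.1 ((mul_eq_zero.1 h123).resolve_right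
      (mul_ne_zero (sub_ne_zero.2 h31) (sub_ne_zero.2 (Ne.symm h32))))
    have hy' : A y = a₁ • y := by
      have d₁ : (t₁ - t₂) • A y = (t₁ - t₂) • a₁ • y := by
        rw [← h12] at e₂
        linear_combination (norm := module) e₁ - e₂
      exact smul_right_injective V (sub_ne_zero.2 (Ne.symm h21)) d₁
    exact ⟨a₁, by rw [hy'] at e₁; linear_combination (norm := module) e₁, hy'⟩
  by_cases hdim : ∃ y, r y = 0 ∧ y ≠ 0
  · obtain ⟨y, hy, hy0⟩ := hdim
    obtain ⟨a, ha, -⟩ := key y hy hy0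
    refine hA a (LinearMap.ext fun v => ?_)
    set w := v - (r v / r x₀) • x₀ with hw
    have hrw : r w = 0 := by rw [hw, map_sub, map_smul, smul_eq_mul, div_mul_cancel₀ _ hx₀, sub_self]
    have hAw : A w = a • w := by
      rcases eq_or_ne w 0 with h | h
      · rw [h, map_zero, smul_zero]
      · obtain ⟨b, hb, hb'⟩ := key w hrw h
        have hab : a = b := smul_left_injective K (show x₀ ≠ 0 from fun e => hx₀ (by rw [e, map_zero])) (ha.symm.trans hb)
        rw [hb', hab]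
    have hv : v = (r v / r x₀) • x₀ + w := by rw [hw]; abel
    show A v = a • v
    rw [hv, map_add, map_smul, ha, hAw, smul_add, smul_comm]
  · push Not at hdim
    refine hA (r (A x₀) / r x₀) (LinearMap.ext fun v => ?_)
    show A v = (r (A x₀) / r x₀) • v
    have e1 : v = (r v / r x₀) • x₀ := sub_eq_zero.1 (hdim _ (by rw [map_sub, map_smul, smul_eq_mul, div_mul_cancel₀ _ hx₀, sub_self]))
    have e2 : A x₀ = (r (A x₀) / r x₀) • x₀ := sub_eq_zero.1 (hdim _ (by rw [map_sub, map_smul, smul_eq_mul, div_mul_cancel₀ _ hx₀, sub_self]))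
    rw [e1, map_smul, e2, smul_comm]
    simp [hx₀]

/-- The choice of the covector. -/
theorem exists_covector {x y : V} (hxy : ∀ a : K, y ≠ a • x) (hx : x ≠ 0) (s₁ s₂ s₃ : V)
    (h₁ : s₁ ∉ (K ∙ y)) (h₂ : s₂ ∉ (K ∙ y)) (h₃ : s₃ ∉ (K ∙ y)) :
    ∃ ψ : Module.Dual K V, ψ x = 1 ∧ ψ y = 0 ∧ ψ s₁ ≠ 0 ∧ ψ s₂ ≠ 0 ∧ ψ s₃ ≠ 0 := by
  have hxy' : x ∉ (K ∙ y) := fun h => by
    obtain ⟨a, ha⟩ := Submodule.mem_span_singleton.1 h
    rcases eq_or_ne a 0 with rfl | ha0
    · exact hx (by rw [← ha, zero_smul])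
    · exact hxy a⁻¹ (by rw [← ha, inv_smul_smul₀ ha0])
  obtain ⟨f, hfx, hf⟩ := Submodule.exists_le_ker_of_notMem hxy'
  have hfy : f y = 0 := LinearMap.mem_ker.1 (hf (Submodule.mem_span_singleton_self y))
  let D : Submodule K (Module.Dual K V) := (Submodule.span K ({x, y} : Set V)).dualAnnihilator
  have hψ₀x : ((f x)⁻¹ • f) x = 1 := by rw [LinearMap.smul_apply, smul_eq_mul, inv_mul_cancel₀ hfx]
  have hψ₀y : ((f x)⁻¹ • f) y = 0 := by rw [LinearMap.smul_apply, hfy, smul_zero]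
  have key : ∀ s : V, s ∉ (K ∙ y) →
      (Module.Dual.eval K V s) ((f x)⁻¹ • f) ≠ 0 ∨ ∃ δ ∈ D, (Module.Dual.eval K V s) δ ≠ 0 := by
    intro s hs
    by_cases h : s ∈ Submodule.span K ({x, y} : Set V)
    · left
      obtain ⟨a, b, rfl⟩ := Submodule.mem_span_pair.1 h
      show ((f x)⁻¹ • f) (a • x + b • y) ≠ 0
      rw [map_add, map_smul, map_smul, hψ₀x, hψ₀y, smul_zero, add_zero, smul_eq_mul, mul_one]
      rintro rfl
      exact hs (by rw [zero_smul, zero_add]; exact Submodule.smul_mem _ b (Submodule.mem_span_singleton_self y))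
    · right
      obtain ⟨δ, hδs, hδ⟩ := Submodule.exists_le_ker_of_notMem h
      exact ⟨δ, (Submodule.mem_dualAnnihilator _).2 fun w hw => LinearMap.mem_ker.1 (hδ hw), hδs⟩
  obtain ⟨ψ, hψ, g₁, g₂, g₃⟩ := avoid h4 D _ _ _ _ (key _ h₁) (key _ h₂) (key _ h₃)
  rw [Submodule.mem_dualAnnihilator] at hψ
  have e1 := hψ x (Submodule.subset_span (by simp))
  have e2 := hψ y (Submodule.subset_span (by simp))
  rw [LinearMap.sub_apply, sub_eq_zero] at e1 e2
  exact ⟨ψ, e1.trans hψ₀x, e2.trans hψ₀y, g₁, g₂, g₃⟩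

omit h4 in
theorem exists_mem_notMem_line {S : Submodule K V} (h : 2 ≤ Module.finrank K S) (y : V) : ∃ s ∈ S, s ∉ (K ∙ y) := by
  by_contra hne
  push Not at hne
  have h1 := Submodule.finrank_mono (show S ≤ K ∙ y from hne)
  have h2 : Module.finrank K (K ∙ y) ≤ 1 := by
    rcases eq_or_ne y 0 with rfl | hy
    · rw [Submodule.span_singleton_eq_bot.2 rfl, finrank_bot]; omega
    · rw [finrank_span_singleton hy]
  omega

omit h4 in
theorem finrank_sup_line {S : Submodule K V} {x : V} (hx : x ∉ S) :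
    Module.finrank K ↥(S ⊔ K ∙ x) = Module.finrank K S + 1 := by
  have hx0 : x ≠ 0 := fun e => hx (e ▸ S.zero_mem)
  have h := Submodule.finrank_sup_add_finrank_inf_eq S (K ∙ x)
  have hd : S ⊓ (K ∙ x) = ⊥ := ((Submodule.disjoint_span_singleton' hx0).2 hx).eq_bot
  rw [hd, finrank_bot, finrank_span_singleton hx0] at h
  omega

omit h4 in
theorem finrank_map_hyperplane (f : V →ₗ[K] V) (ψ : Module.Dual K V) :
    Module.finrank K (LinearMap.range f) ≤ Module.finrank K ((LinearMap.ker ψ).map f) + 1 ∧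
    ((∃ v, f v = 0 ∧ ψ v ≠ 0) → (LinearMap.ker ψ).map f = LinearMap.range f) := by
  constructor
  · by_cases hψ : ∀ v, ψ v = 0
    · rw [show LinearMap.ker ψ = ⊤ from eq_top_iff.2 fun v _ => LinearMap.mem_ker.2 (hψ v), Submodule.map_top]
      omega
    push Not at hψ
    obtain ⟨x, hx⟩ := hψ
    have hle : LinearMap.range f ≤ (LinearMap.ker ψ).map f ⊔ K ∙ f x := by
      rintro _ ⟨v, rfl⟩
      rw [show f v = f (v - (ψ v / ψ x) • x) + (ψ v / ψ x) • f x by rw [map_sub, map_smul, sub_add_cancel]]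
      refine Submodule.add_mem_sup (Submodule.mem_map_of_mem ?_) (Submodule.smul_mem _ _ (Submodule.mem_span_singleton_self _))
      rw [LinearMap.mem_ker, map_sub, map_smul, smul_eq_mul, div_mul_cancel₀ _ hx, sub_self]
    have h1 := Submodule.finrank_mono hle
    have h2 := Submodule.finrank_sup_add_finrank_inf_eq ((LinearMap.ker ψ).map f) (K ∙ f x)
    have h3 : Module.finrank K (K ∙ f x) ≤ 1 := by
      rcases eq_or_ne (f x) 0 with e | e
      · rw [e, Submodule.span_singleton_eq_bot.2 rfl, finrank_bot]; omega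
      · rw [finrank_span_singleton e]
    omega
  · rintro ⟨v, hv, hψv⟩
    refine le_antisymm LinearMap.map_le_range ?_
    rintro _ ⟨w, rfl⟩
    refine ⟨w - (ψ w / ψ v) • v, ?_, by rw [map_sub, map_smul, hv, smul_zero, sub_zero]⟩
    rw [SetLike.mem_coe, LinearMap.mem_ker, map_sub, map_smul, smul_eq_mul, div_mul_cancel₀ _ hψv, sub_self]

omit h4 in
theorem two_le_sup (A : V →ₗ[K] V) (hinj : Function.Injective A) {x : V} (hne : ∀ a : K, A x ≠ a • x) (μ : K)
    (ψ : Module.Dual K V) (hwit : ∃ v, (A - μ • 1 : V →ₗ[K] V) v = 0 ∧ ψ v ≠ 0) :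
    2 ≤ Module.finrank K ↥((LinearMap.ker ψ).map (A - μ • 1) ⊔ K ∙ A x) := by
  set f := (A - μ • 1 : V →ₗ[K] V)
  rw [(finrank_map_hyperplane f ψ).2 hwit]
  by_cases hAxR : A x ∈ LinearMap.range f
  · refine le_trans ?_ (Submodule.finrank_mono le_sup_left)
    by_contra hlt
    have hline : LinearMap.range f ≤ K ∙ A x := by
      refine le_of_eq (Submodule.eq_of_le_of_finrank_le ((Submodule.span_singleton_le_iff_mem _ _).2 hAxR) ?_).symm
      rw [finrank_span_singleton (show A x ≠ 0 from fun e => hne 0 (by rw [hinj (e.trans (map_zero A).symm)]; simp))]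
      omega
    obtain ⟨a, ha⟩ := Submodule.mem_span_singleton.1 (hline ⟨A x, rfl⟩)
    refine hne (a + μ) (hinj ?_)
    have e : a • A x = A (A x) - μ • A x := ha
    rw [map_smul, add_smul, e, sub_add_cancel]
  · rw [finrank_sup_line hAxR]
    have hfx : f x ≠ 0 := fun e => hne μ (sub_eq_zero.1 e)
    have : 1 ≤ Module.finrank K (LinearMap.range f) := Submodule.one_le_finrank_iff.2 fun e => hfx (by
      have := LinearMap.mem_range_self f x
      rw [e] at this; exact (Submodule.mem_bot K).1 this)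
    omega

/-- The selection of the first basis vector and covector. -/
theorem exists_pivot {k : ℕ} (hk : Module.finrank K V = k) (A : V →ₗ[K] V) (hinj : Function.Injective A) (c : V)
    (r : Module.Dual K V) (hc : c ≠ 0) (hr : r ≠ 0) (hns : ∀ a : K, A ≠ a • LinearMap.id)
    (hρ : 2 ≤ Module.finrank K (LinearMap.range (A - 1))) (hk4 : k = 3 ∨ 4 ≤ k) (τ : K)
    (hτ : k = 3 → ∀ x : V, (∀ a : K, A x ≠ a • x) →
      (Function.Injective ⇑(A - 1 : V →ₗ[K] V) ∨ (A (A x) - (τ + 1) • A x + x ≠ 0)) →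
      A (A x) - τ • x ∉ (K ∙ (A x - x)))
    (hτ' : k = 3 → ¬ Function.Injective ⇑(A - 1 : V →ₗ[K] V) → A * A - (τ + 1) • A + 1 ≠ 0)
    (hτ'' : k = 3 → ¬ Function.Injective ⇑(A - 1 : V →ₗ[K] V) → (-1 : K) ≠ 1 → ∀ s, s ≠ 0 → A s = -s →
      ∀ y, y ∉ LinearMap.range (A - 1 : V →ₗ[K] V) → A (A y) - (τ + 1) • A y + y ≠ 0) :
    ∃ (x : V) (ψ : Module.Dual K V), ψ x = 1 ∧ ψ (A x - x) = 0 ∧ A x - x ≠ 0 ∧ (∃ v, ψ (A v - v) ≠ 0) ∧
      ψ c ≠ 0 ∧ r x ≠ 0 ∧
      (k = 3 → ψ (A (A x) - τ • x) ≠ 0 ∧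
        ((-1 : K) ≠ 1 → 2 ≤ Module.finrank K ↥((LinearMap.ker ψ).map (A - (-1 : K) • 1) ⊔ K ∙ A x))) ∧
      (4 ≤ k → (3 ≤ Module.finrank K ↥((LinearMap.ker ψ).map (A - 1) ⊔ K ∙ A x)) ∧
        ∀ μ : K, μ ≠ 1 → 2 ≤ Module.finrank K ↥((LinearMap.ker ψ).map (A - μ • 1) ⊔ K ∙ A x)) := by
  set M := A - 1 with hM
  have hMx : ∀ v, M v = A v - v := fun v => rfl
  set ρ := Module.finrank K (LinearMap.range M)
  have hρk := LinearMap.finrank_range_add_finrank_ker M
  rw [hk] at hρk
  -- the vector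
  have hpre : (K ∙ c).comap M ≠ ⊤ := fun e => by
    have hle : LinearMap.range M ≤ K ∙ c := by
      rintro _ ⟨v, rfl⟩
      exact (show v ∈ (K ∙ c).comap M by rw [e]; trivial)
    have := Submodule.finrank_mono hle
    rw [finrank_span_singleton hc] at this
    omega
  obtain ⟨x, hrx, hxc, hne, hxim, hx3, hxneg⟩ : ∃ x, r x ≠ 0 ∧ M x ∉ (K ∙ c) ∧ (∀ a : K, A x ≠ a • x) ∧
      (ρ < k → x ∉ LinearMap.range M) ∧
      (k = 3 → Function.Injective M ∨ A (A x) - (τ + 1) • A x + x ≠ 0) ∧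
      (k = 3 → (-1 : K) ≠ 1 → (∃ s, s ≠ 0 ∧ A s = -s) → ∃ s, s ≠ 0 ∧ A s = -s ∧ s ∉ (K ∙ M x)) := by
    by_cases hfull : Function.Injective M
    · obtain ⟨z, hz⟩ := (LinearMap.injective_iff_surjective.1 hfull) c
      obtain ⟨x, h1, h2, h3⟩ := exists_not_eigen h4 A hns r hr z
      refine ⟨x, h1, fun h => h2 ?_, h3, fun h => absurd h ?_, fun _ => Or.inl hfull,
        fun _ hne1 ⟨s, hs0, hs⟩ => ⟨s, hs0, hs, fun hmem => ?_⟩⟩
      · obtain ⟨a, ha⟩ := Submodule.mem_span_singleton.1 h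
        rw [← hz, ← map_smul] at ha
        exact Submodule.mem_span_singleton.2 ⟨a, hfull ha⟩
      · have : ρ = k := by
          rw [show ρ = Module.finrank K (LinearMap.range M) from rfl, LinearMap.range_eq_top.2 (LinearMap.injective_iff_surjective.1 hfull), finrank_top, hk]
        omega
      · obtain ⟨a, ha⟩ := Submodule.mem_span_singleton.1 hmem
        have h2' : (-1 : K) - 1 ≠ 0 := sub_ne_zero.2 hne1
        have e : a • x = ((-1 : K) - 1)⁻¹ • s := hfull (by
          rw [map_smul, ha, map_smul, show M s = ((-1 : K) - 1) • s by rw [hMx, hs]; module, inv_smul_smul₀ h2'])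
        have ha0 : a ≠ 0 := fun e0 => hs0 (by rw [← ha, e0, zero_smul])
        refine h3 (-1) ?_
        have hx' : x = a⁻¹ • ((-1 : K) - 1)⁻¹ • s := by rw [← e, inv_smul_smul₀ ha0]
        rw [hx', map_smul, map_smul, hs]
        module
    · have hρlt : ρ < k := by
        by_contra hge
        have h0 : Module.finrank K (LinearMap.ker M) = 0 := by omega
        exact hfull (LinearMap.ker_eq_bot.1 (Submodule.finrank_eq_zero.1 h0))
      obtain ⟨φc, hφc, hφc'⟩ := exists_killing hpre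
      obtain ⟨φM, hφM, hφM'⟩ := exists_killing (K := K) (S := LinearMap.range M) (fun e => by
        have : ρ = k := by rw [show ρ = Module.finrank K (LinearMap.range M) from rfl, e, finrank_top, hk]
        omega)
      obtain ⟨φp, hφp, hφp'⟩ : ∃ φ : Module.Dual K V, φ ≠ 0 ∧
          ∀ x, φ x ≠ 0 → k = 3 → (x ∉ LinearMap.range M → A (A x) - (τ + 1) • A x + x ≠ 0) ∧
            ((-1 : K) ≠ 1 → (∃ s, s ≠ 0 ∧ A s = -s) → ∃ s, s ≠ 0 ∧ A s = -s ∧ s ∉ (K ∙ M x)) := by
        by_cases h3s : k = 3 ∧ (-1 : K) ≠ 1 ∧ ∃ s, s ≠ 0 ∧ A s = -s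
        · obtain ⟨h3, hne1, s, hs0, hs⟩ := h3s
          obtain ⟨φ, h1, h2⟩ := exists_killing (K := K) (S := (K ∙ s).comap M) (fun e => by
            have hle : LinearMap.range M ≤ K ∙ s := by
              rintro _ ⟨v, rfl⟩
              exact (show v ∈ (K ∙ s).comap M by rw [e]; trivial)
            have := Submodule.finrank_mono hle
            rw [finrank_span_singleton hs0] at this
            omega)
          refine ⟨φ, h1, fun x hx _ => ⟨hτ'' h3 hfull hne1 s hs0 hs x, fun _ _ => ⟨s, hs0, hs, fun hmem => h2 x hx ?_⟩⟩⟩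
          obtain ⟨a, ha⟩ := Submodule.mem_span_singleton.1 hmem
          have ha0 : a ≠ 0 := fun e0 => hs0 (by rw [← ha, e0, zero_smul])
          exact Submodule.mem_span_singleton.2 ⟨a⁻¹, by rw [← ha, inv_smul_smul₀ ha0]⟩
        by_cases h3 : k = 3
        · obtain ⟨φ, h1, h2⟩ := exists_killing (K := K) (S := LinearMap.ker (A * A - (τ + 1) • A + 1))
            (fun e => hτ' h3 hfull (LinearMap.ext fun v => LinearMap.mem_ker.1 (e ▸ Submodule.mem_top)))
          exact ⟨φ, h1, fun x hx _ => ⟨fun _ e => h2 x hx (LinearMap.mem_ker.2 e),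
            fun hne1 hs => absurd ⟨h3, hne1, hs⟩ h3s⟩⟩
        · exact ⟨r, hr, fun x _ h => absurd h h3⟩
      obtain ⟨x, g0, g1, g2, g3⟩ := avoid_four h4 r φc φM φp hr hφc hφM hφp
      refine ⟨x, g0, fun h => hφc' x g1 h, fun a ha => ?_, fun _ => hφM' x g2,
        fun h => Or.inr ((hφp' x g3 h).1 (hφM' x g2)), fun h => (hφp' x g3 h).2⟩
      rcases eq_or_ne a 1 with rfl | ha1
      · exact hφc' x g1 (by show M x ∈ K ∙ c; rw [hMx, ha, one_smul, sub_self]; exact Submodule.zero_mem _)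
      · exact hφM' x g2 ⟨(a - 1)⁻¹ • x, by
          rw [hMx, map_smul, ha, ← smul_sub, show a • x - x = (a - 1) • x by rw [sub_smul, one_smul],
            inv_smul_smul₀ (sub_ne_zero.2 ha1)]⟩
  have hx0 : x ≠ 0 := fun e => hrx (by rw [e, map_zero])
  have hy : ∀ a : K, M x ≠ a • x := fun a h => hne (a + 1) (by rw [add_smul, one_smul, ← h, hMx, sub_add_cancel])
  have hy0 : M x ≠ 0 := fun h => hy 0 (by rw [h, zero_smul])
  have hcy : c ∉ (K ∙ M x) := fun h => by
    obtain ⟨a, ha⟩ := Submodule.mem_span_singleton.1 h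
    rcases eq_or_ne a 0 with rfl | ha0
    · exact hc (by rw [← ha, zero_smul])
    · exact hxc (Submodule.mem_span_singleton.2 ⟨a⁻¹, by rw [← ha, inv_smul_smul₀ ha0]⟩)
  obtain ⟨w, hwM, hwy⟩ := exists_mem_notMem_line hρ (M x)
  obtain ⟨w', rfl⟩ := hwM
  have hAx : ∀ S : Submodule K V, ρ < k → S ≤ LinearMap.range M → A x ∉ S := fun S h hS hm => by
    refine hxim h ?_
    rw [show x = A x - M x by rw [hMx]; abel]
    exact Submodule.sub_mem _ (hS hm) ⟨x, rfl⟩
  rcases hk4 with h3 | h4k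
  · by_cases hneg : (-1 : K) ≠ 1 ∧ ∃ s, s ≠ 0 ∧ A s = -s
    · obtain ⟨s, hs0, hs, hsy⟩ := hxneg h3 hneg.1 hneg.2
      obtain ⟨ψ, e1, e2, e3, e4, e5⟩ := exists_covector h4 hy hx0 c s (A (A x) - τ • x) hcy hsy
        (hτ h3 x hne (hx3 h3))
      have hMs : M s = ((-1 : K) - 1) • s := by rw [hMx, hs]; module
      refine ⟨x, ψ, e1, e2, hy0, ⟨s, ?_⟩, e3, hrx, fun _ => ⟨e5, fun _ => two_le_sup A hinj hne (-1) ψ ⟨s, ?_, e4⟩⟩,
        fun h => absurd h (by omega)⟩
      · rw [← hMx, hMs, map_smul, smul_eq_mul]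
        exact mul_ne_zero (sub_ne_zero.2 hneg.1) e4
      · show A s - (-1 : K) • s = 0
        rw [hs]; module
    · obtain ⟨ψ, e1, e2, e3, e4, e5⟩ := exists_covector h4 hy hx0 c (M w') (A (A x) - τ • x) hcy hwy
        (hτ h3 x hne (hx3 h3))
      refine ⟨x, ψ, e1, e2, hy0, ⟨w', e4⟩, e3, hrx, fun _ => ⟨e5, fun hne1 => ?_⟩, fun h => absurd h (by omega)⟩
      have hinjf : Function.Injective ⇑(A - (-1 : K) • 1 : V →ₗ[K] V) := (injective_iff_map_eq_zero _).2 fun v hv =>
        by_contra fun hv0 => hneg ⟨hne1, v, hv0, by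
          have e : A v - (-1 : K) • v = 0 := hv
          linear_combination (norm := module) e⟩
      have h1 := (finrank_map_hyperplane (A - (-1 : K) • 1 : V →ₗ[K] V) ψ).1
      rw [LinearMap.finrank_range_of_inj hinjf, hk] at h1
      refine le_trans ?_ (Submodule.finrank_mono le_sup_left)
      omega
  -- the exceptional eigenvalues
  let Bad : Set K := {μ | μ ≠ 1 ∧ k ≤ Module.finrank K (LinearMap.ker (A - μ • 1)) + 2}
  have hker : ∀ μ : K, ∀ v ∈ LinearMap.ker (A - μ • 1), A v = μ • v := fun μ v hv => by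
    have h := LinearMap.mem_ker.1 hv
    rwa [LinearMap.sub_apply, LinearMap.smul_apply, Module.End.one_apply, sub_eq_zero] at h
  have hthree : ∀ a b e : K, a ≠ b → e ≠ a → e ≠ b →
      Module.finrank K (LinearMap.ker (A - a • 1)) + Module.finrank K (LinearMap.ker (A - b • 1)) +
        Module.finrank K (LinearMap.ker (A - e • 1)) ≤ k := by
    intro a b e hab hea heb
    set Ea := LinearMap.ker (A - a • 1); set Eb := LinearMap.ker (A - b • 1); set Ee := LinearMap.ker (A - e • 1)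
    have d1 : Ea ⊓ Eb = ⊥ := (Submodule.eq_bot_iff _).2 fun v hv => by
      have := (hker a v hv.1).symm.trans (hker b v hv.2)
      rw [← sub_eq_zero, ← sub_smul, smul_eq_zero] at this
      exact this.resolve_left (sub_ne_zero.2 hab)
    have d2 : (Ea ⊔ Eb) ⊓ Ee = ⊥ := (Submodule.eq_bot_iff _).2 fun v hv => by
      obtain ⟨p, hp, q, hq, rfl⟩ := Submodule.mem_sup.1 hv.1
      have h1 := hker e _ hv.2
      rw [map_add, hker a p hp, hker b q hq] at h1
      have h2 : (a - e) • p = (e - b) • q := by linear_combination (norm := module) h1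
      have hp0 : p = 0 := by
        have hpE : (a - e) • p ∈ Ea ⊓ Eb := ⟨Ea.smul_mem _ hp, by rw [h2]; exact Eb.smul_mem _ hq⟩
        rw [d1, Submodule.mem_bot, smul_eq_zero] at hpE
        exact hpE.resolve_left (sub_ne_zero.2 (Ne.symm hea))
      rw [hp0, smul_zero] at h2
      rw [hp0, (smul_eq_zero.1 h2.symm).resolve_left (sub_ne_zero.2 heb), add_zero]
    have h1 := Submodule.finrank_sup_add_finrank_inf_eq Ea Eb
    have h2 := Submodule.finrank_sup_add_finrank_inf_eq (Ea ⊔ Eb) Ee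
    have h3 := Submodule.finrank_le (Ea ⊔ Eb ⊔ Ee)
    rw [d1, finrank_bot] at h1
    rw [d2, finrank_bot] at h2
    rw [hk] at h3
    omega
  have hbadwit : ∀ μ ∈ Bad, ∃ s, A s = μ • s ∧ s ∉ (K ∙ M x) := fun μ hμ => by
    obtain ⟨s, hs, hs'⟩ := exists_mem_notMem_line (S := LinearMap.ker (A - μ • 1))
      (by have := hμ.2; omega) (M x)
    exact ⟨s, hker μ s hs, hs'⟩
  -- the covector
  obtain ⟨ψ, e1, e2, e3, hψM, hψker, hψbad⟩ : ∃ ψ : Module.Dual K V, ψ x = 1 ∧ ψ (M x) = 0 ∧ ψ c ≠ 0 ∧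
      (∃ v, ψ (M v) ≠ 0) ∧ (ρ + 2 ≤ k → ∃ v, M v = 0 ∧ ψ v ≠ 0) ∧
      ((ρ + 1 ≥ k) → ∀ μ ∈ Bad, ∃ s, A s = μ • s ∧ ψ s ≠ 0) := by
    by_cases hρ2 : ρ + 2 ≤ k
    · obtain ⟨u, hu, huy⟩ := exists_mem_notMem_line (S := LinearMap.ker M) (by omega) (M x)
      obtain ⟨ψ, e1, e2, e3, e4, e5⟩ := exists_covector h4 hy hx0 c (M w') u hcy hwy huy
      exact ⟨ψ, e1, e2, e3, ⟨w', e4⟩, fun _ => ⟨u, LinearMap.mem_ker.1 hu, e5⟩, fun h => absurd h (by omega)⟩
    by_cases hfull : ρ = k
    · -- `M` is invertible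
      have hsurj : LinearMap.range M = ⊤ := Submodule.eq_top_of_finrank_eq (by rw [hk]; exact hfull)
      have hM0 : ∀ ψ : Module.Dual K V, ψ x = 1 → ∃ v, ψ (M v) ≠ 0 := fun ψ hψ => by
        obtain ⟨v, hv⟩ : x ∈ LinearMap.range M := hsurj ▸ Submodule.mem_top
        exact ⟨v, by rw [hv, hψ]; exact one_ne_zero⟩
      rcases Set.eq_empty_or_nonempty Bad with hB | ⟨μ₁, hμ₁⟩
      · obtain ⟨ψ, e1, e2, e3, -, -⟩ := exists_covector h4 hy hx0 c c c hcy hcy hcy
        exact ⟨ψ, e1, e2, e3, hM0 ψ e1, fun h => absurd h (by omega), fun _ μ hμ => by rw [hB] at hμ; exact hμ.elim⟩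
      obtain ⟨s₁, hs₁, hs₁'⟩ := hbadwit μ₁ hμ₁
      by_cases h2 : ∃ μ₂ ∈ Bad, μ₂ ≠ μ₁
      · obtain ⟨μ₂, hμ₂, h21⟩ := h2
        obtain ⟨s₂, hs₂, hs₂'⟩ := hbadwit μ₂ hμ₂
        obtain ⟨ψ, e1, e2, e3, e4, e5⟩ := exists_covector h4 hy hx0 c s₁ s₂ hcy hs₁' hs₂'
        refine ⟨ψ, e1, e2, e3, hM0 ψ e1, fun h => absurd h (by omega), fun _ μ hμ => ?_⟩
        by_cases hμ1 : μ = μ₁
        · exact ⟨s₁, hμ1 ▸ hs₁, e4⟩
        by_cases hμ2 : μ = μ₂
        · exact ⟨s₂, hμ2 ▸ hs₂, e5⟩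
        exfalso
        have := hthree μ₁ μ₂ μ (Ne.symm h21) hμ1 hμ2
        have := hμ₁.2; have := hμ₂.2; have := hμ.2
        omega
      · push Not at h2
        obtain ⟨ψ, e1, e2, e3, e4, -⟩ := exists_covector h4 hy hx0 c s₁ s₁ hcy hs₁' hs₁'
        exact ⟨ψ, e1, e2, e3, hM0 ψ e1, fun h => absurd h (by omega), fun _ μ hμ => ⟨s₁, (h2 μ hμ).symm ▸ hs₁, e4⟩⟩
    · -- one-dimensional fixed space
      have h1E : LinearMap.ker (A - (1 : K) • 1) = LinearMap.ker M := by rw [one_smul]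
      have hone : ∀ μ ∈ Bad, ∀ μ' ∈ Bad, μ = μ' := fun μ hμ μ' hμ' => by
        by_contra hne'
        have h := hthree μ μ' 1 hne' hμ.1.symm hμ'.1.symm
        rw [h1E] at h
        have := hμ.2; have := hμ'.2
        omega
      rcases Set.eq_empty_or_nonempty Bad with hB | ⟨μ₁, hμ₁⟩
      · obtain ⟨ψ, e1, e2, e3, e4, -⟩ := exists_covector h4 hy hx0 c (M w') c hcy hwy hcy
        exact ⟨ψ, e1, e2, e3, ⟨w', e4⟩, fun h => absurd h (by omega), fun _ μ hμ => by rw [hB] at hμ; exact hμ.elim⟩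
      · obtain ⟨s₁, hs₁, hs₁'⟩ := hbadwit μ₁ hμ₁
        obtain ⟨ψ, e1, e2, e3, e4, e5⟩ := exists_covector h4 hy hx0 c (M w') s₁ hcy hwy hs₁'
        exact ⟨ψ, e1, e2, e3, ⟨w', e4⟩, fun h => absurd h (by omega),
          fun _ μ hμ => ⟨s₁, (hone μ hμ μ₁ hμ₁).symm ▸ hs₁, e5⟩⟩
  refine ⟨x, ψ, e1, e2, hy0, hψM, e3, hrx, fun h => absurd h (by omega), fun _ => ⟨?_, fun μ hμ => ?_⟩⟩
  · obtain ⟨hmap, hmap'⟩ := finrank_map_hyperplane M ψ
    rcases lt_or_ge ρ k with hlt | hge
    · rw [finrank_sup_line (hAx _ hlt LinearMap.map_le_range)]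
      by_cases hρ2 : ρ + 2 ≤ k
      · rw [hmap' (hψker hρ2)]
        omega
      · omega
    · refine le_trans ?_ (Submodule.finrank_mono le_sup_left)
      omega
  · set f := A - μ • (1 : V →ₗ[K] V)
    have hfk := LinearMap.finrank_range_add_finrank_ker f
    rw [hk] at hfk
    obtain ⟨hmap, hmap'⟩ := finrank_map_hyperplane f ψ
    by_cases hbig : 3 ≤ Module.finrank K (LinearMap.range f)
    · refine le_trans ?_ (Submodule.finrank_mono le_sup_left)
      omega
    have hμB : μ ∈ Bad := ⟨hμ, show k ≤ Module.finrank K (LinearMap.ker f) + 2 by omega⟩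
    -- `ker f` lies in the image of `M`
    have hρbig : ρ + 1 ≥ k ∨ ρ + 2 ≤ k := by omega
    have hkerle : LinearMap.ker f ≤ LinearMap.range M := fun s hs => ⟨(μ - 1)⁻¹ • s, by
      rw [hMx, map_smul, hker μ s hs, ← smul_sub, show μ • s - s = (μ - 1) • s by rw [sub_smul, one_smul],
        inv_smul_smul₀ (sub_ne_zero.2 hμ)]⟩
    by_cases hwit : ∃ v, f v = 0 ∧ ψ v ≠ 0
    · exact two_le_sup A hinj hne μ ψ hwit
    · rcases hρbig with h | h
      · obtain ⟨s, hs, hs'⟩ := hψbad h μ hμB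
        exact absurd ⟨s, show A s - μ • s = 0 by rw [hs, sub_self], hs'⟩ hwit
      · -- here the image of `M` is too small to be scalar
        have hk4' : 4 ≤ k := h4k
        have hle2 : LinearMap.range M ≤ LinearMap.range M := le_rfl
        obtain ⟨v, hv, hψv⟩ := hψker h
        have h1 : (LinearMap.ker ψ).map M = LinearMap.range M := (finrank_map_hyperplane M ψ).2 ⟨v, hv, hψv⟩
        -- `f v = (1 - μ) • v` is a second direction
        by_contra hlt
        push Not at hlt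
        have hsmall : (LinearMap.ker ψ).map f ≤ K ∙ A x := by
          refine le_trans (le_sup_left (b := K ∙ A x)) (le_of_eq ?_)
          refine (Submodule.eq_of_le_of_finrank_le le_sup_right ?_).symm
          rw [finrank_span_singleton (show A x ≠ 0 from fun e => hne 0 (by rw [e, zero_smul]))]
          omega
        have h2 : LinearMap.ker ψ ≤ LinearMap.range M ⊔ K ∙ A x := fun h hh => by
          have hf : f h ∈ K ∙ A x := hsmall (Submodule.mem_map_of_mem hh)
          have e : (1 - μ) • h = f h - M h := by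
            show (1 - μ) • h = (A h - μ • h) - (A h - h)
            module
          have : (1 - μ) • h ∈ LinearMap.range M ⊔ K ∙ A x := by
            rw [e]
            exact Submodule.sub_mem _ (Submodule.mem_sup_right hf) (Submodule.mem_sup_left ⟨h, rfl⟩)
          have := Submodule.smul_mem _ (1 - μ)⁻¹ this
          rwa [inv_smul_smul₀ (sub_ne_zero.2 hμ.symm)] at this
        have htop : (⊤ : Submodule K V) ≤ LinearMap.range M ⊔ K ∙ A x := fun z _ => by
          have hx' : x ∈ LinearMap.range M ⊔ K ∙ A x := by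
            have e : A x - M x ∈ LinearMap.range M ⊔ K ∙ A x :=
              Submodule.sub_mem _ (Submodule.mem_sup_right (Submodule.mem_span_singleton_self _)) (Submodule.mem_sup_left ⟨x, rfl⟩)
            rwa [hMx, sub_sub_cancel] at e
          rw [show z = (z - ψ z • x) + ψ z • x by abel]
          exact Submodule.add_mem _ (h2 (by rw [LinearMap.mem_ker, map_sub, map_smul, e1, smul_eq_mul, mul_one, sub_self]))
            (Submodule.smul_mem _ _ hx')
        have h5 := Submodule.finrank_mono htop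
        rw [finrank_top, hk, finrank_sup_line (hAx _ (by omega) le_rfl)] at h5
        omega

end select

section matrices

variable {k : ℕ}

/-- The block lower triangular matrix with first column `(1, c)`. -/
def lo (c : Fin k → K) (L : Matrix (Fin k) (Fin k) K) : Matrix (Fin (k + 1)) (Fin (k + 1)) K :=
  Matrix.of fun i j => Fin.cases (Fin.cases 1 (fun _ => 0) j) (fun i' => Fin.cases (c i') (fun j' => L i' j') j) i

/-- The block upper triangular matrix with first row `(1, u)`. -/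
def up (u : Fin k → K) (U : Matrix (Fin k) (Fin k) K) : Matrix (Fin (k + 1)) (Fin (k + 1)) K :=
  Matrix.of fun i j => Fin.cases (Fin.cases 1 (fun j' => u j') j) (fun i' => Fin.cases 0 (fun j' => U i' j') j) i

theorem lo_zero_mulVec (P : Matrix (Fin k) (Fin k) K) (v : Fin (k + 1) → K) :
    lo 0 P *ᵥ v = Fin.cons (v 0) (P *ᵥ Fin.tail v) := by
  funext i
  refine Fin.cases ?_ (fun i => ?_) i
  · simp [Matrix.mulVec, dotProduct, lo, Fin.sum_univ_succ]
  · simp [Matrix.mulVec, dotProduct, lo, Fin.sum_univ_succ, Fin.tail]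

theorem lo_mul_lo (c' : Fin k → K) (P L : Matrix (Fin k) (Fin k) K) :
    lo 0 P * lo c' L = lo (P *ᵥ c') (P * L) := by
  ext i j
  refine Fin.cases ?_ (fun i => ?_) i <;> refine Fin.cases ?_ (fun j => ?_) j <;>
    simp [Matrix.mul_apply, lo, Fin.sum_univ_succ, Matrix.mulVec, dotProduct]

theorem up_mul_lo (u : Fin k → K) (U P : Matrix (Fin k) (Fin k) K) :
    up u U * lo 0 P = up (u ᵥ* P) (U * P) := by
  ext i j
  refine Fin.cases ?_ (fun i => ?_) i <;> refine Fin.cases ?_ (fun j => ?_) j <;>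
    simp [Matrix.mul_apply, lo, up, Fin.sum_univ_succ, Matrix.vecMul, dotProduct]

theorem lo_mul_up_congr {c u : Fin k → K} {L L' U U' : Matrix (Fin k) (Fin k) K} (h : L * U = L' * U') :
    lo c L * up u U = lo c L' * up u U' := by
  ext i j
  refine Fin.cases ?_ (fun i => ?_) i <;> refine Fin.cases ?_ (fun j => ?_) j <;>
    simp [Matrix.mul_apply, lo, up, Fin.sum_univ_succ]
  exact congrFun (congrFun h i) j

theorem eq_lo_mul_up (A : Matrix (Fin (k + 1)) (Fin (k + 1)) K) (h : A 0 0 = 1) :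
    A = lo (fun i => A i.succ 0) 1 * up (fun j => A 0 j.succ)
      (Matrix.of fun i j => A i.succ j.succ - A i.succ 0 * A 0 j.succ) := by
  ext i j
  refine Fin.cases ?_ (fun i => ?_) i <;> refine Fin.cases ?_ (fun j => ?_) j <;>
    simp [Matrix.mul_apply, lo, up, Fin.sum_univ_succ, h, Matrix.one_apply]

theorem det_lo (c : Fin k → K) (L : Matrix (Fin k) (Fin k) K) : (lo c L).det = L.det := by
  rw [Matrix.det_succ_row_zero, Fin.sum_univ_succ]
  simp [lo]
  rfl

theorem det_up (u : Fin k → K) (U : Matrix (Fin k) (Fin k) K) : (up u U).det = U.det := by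
  rw [Matrix.det_succ_column_zero, Fin.sum_univ_succ]
  simp [up]
  rfl

/-- Lower unitriangular with non-zero subdiagonal. -/
def IsLo {n : ℕ} (L : Matrix (Fin n) (Fin n) K) : Prop :=
  (∀ i j, i < j → L i j = 0) ∧ (∀ i, L i i = 1) ∧ ∀ i j : Fin n, i.val = j.val + 1 → L i j ≠ 0

/-- Upper unitriangular with non-zero superdiagonal. -/
def IsUp {n : ℕ} (U : Matrix (Fin n) (Fin n) K) : Prop :=
  (∀ i j, j < i → U i j = 0) ∧ (∀ i, U i i = 1) ∧ ∀ i j : Fin n, j.val = i.val + 1 → U i j ≠ 0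

theorem isLo_lo {d : Fin (k + 1) → K} {L : Matrix (Fin (k + 1)) (Fin (k + 1)) K} (hd : d 0 ≠ 0) (hL : IsLo L) :
    IsLo (lo d L) := by
  refine ⟨fun i j => ?_, fun i => ?_, fun i j => ?_⟩
  · refine Fin.cases ?_ (fun i => ?_) i <;> refine Fin.cases ?_ (fun j => ?_) j <;> intro h <;>
      simp [lo] at h ⊢
    exact hL.1 i j h
  · refine Fin.cases ?_ (fun i => ?_) i <;> simp [lo, hL.2.1]
  · refine Fin.cases ?_ (fun i => ?_) i <;> refine Fin.cases ?_ (fun j => ?_) j <;> intro h <;>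
      simp [lo] at h ⊢
    · subst h; exact hd
    · exact hL.2.2 i j h

theorem isUp_up {u : Fin (k + 1) → K} {U : Matrix (Fin (k + 1)) (Fin (k + 1)) K} (hu : u 0 ≠ 0) (hU : IsUp U) :
    IsUp (up u U) := by
  refine ⟨fun i j => ?_, fun i => ?_, fun i j => ?_⟩
  · refine Fin.cases ?_ (fun i => ?_) i <;> refine Fin.cases ?_ (fun j => ?_) j <;> intro h <;>
      simp [up] at h ⊢
    exact hU.1 i j h
  · refine Fin.cases ?_ (fun i => ?_) i <;> simp [up, hU.2.1]
  · refine Fin.cases ?_ (fun i => ?_) i <;> refine Fin.cases ?_ (fun j => ?_) j <;> intro h <;>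
      simp [up] at h ⊢
    · subst h; exact hu
    · exact hU.2.2 i j h

/-- The hypothesis of the induction. -/
def Ok {n : ℕ} (A : Matrix (Fin n) (Fin n) K) : Prop :=
  A.det = 1 ∧ (n = 1 ∨ (n = 2 ∧ A.trace ≠ 2 ∧ ∀ a : K, A ≠ a • 1) ∨
    (3 ≤ n ∧ (∀ a : K, A ≠ a • 1) ∧ 2 ≤ Module.finrank K (LinearMap.range (A.mulVecLin - 1))))

/-- The pivot in matrix language. -/
theorem exists_pivot_matrix (h4 : Four K) (A : Matrix (Fin (k + 2)) (Fin (k + 2)) K) (hA : Ok A)
    (c : Fin (k + 2) → K) (r : Module.Dual K (Fin (k + 2) → K)) (hc : c ≠ 0) (hr : r ≠ 0) :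
    ∃ (x : Fin (k + 2) → K) (ψ : Module.Dual K (Fin (k + 2) → K)), ψ x = 1 ∧ ψ (A *ᵥ x - x) = 0 ∧ A *ᵥ x - x ≠ 0 ∧
      (∃ v, ψ (A *ᵥ v - v) ≠ 0) ∧ ψ c ≠ 0 ∧ r x ≠ 0 ∧
      (k + 2 = 3 → ψ (A *ᵥ (A *ᵥ x) - (A.trace - 2) • x) ≠ 0 ∧
        ((-1 : K) ≠ 1 → 2 ≤ Module.finrank K ↥((LinearMap.ker ψ).map (A.mulVecLin - (-1 : K) • 1) ⊔ K ∙ (A *ᵥ x)))) ∧
      (4 ≤ k + 2 → (3 ≤ Module.finrank K ↥((LinearMap.ker ψ).map (A.mulVecLin - 1) ⊔ K ∙ (A *ᵥ x))) ∧
        ∀ μ : K, μ ≠ 1 →
          2 ≤ Module.finrank K ↥((LinearMap.ker ψ).map (A.mulVecLin - μ • 1) ⊔ K ∙ (A *ᵥ x))) := by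
  obtain ⟨hdet, hcase⟩ := hA
  have hk : Module.finrank K (Fin (k + 2) → K) = k + 2 := Module.finrank_fin_fun K
  have hinjA : Function.Injective A.mulVecLin :=
    Matrix.mulVec_injective_iff_isUnit.2 ((Matrix.isUnit_iff_isUnit_det _).2 (by rw [hdet]; exact isUnit_one))
  rcases hcase with h | ⟨h2, htr, hns2⟩ | ⟨h3, hns, hρ⟩
  · omega
  · obtain rfl : k = 0 := by omega
    have hM : (A - 1).det ≠ 0 := by
      intro h0
      apply htr
      rw [Matrix.det_fin_two] at h0 hdet
      rw [Matrix.trace_fin_two]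
      simp only [Matrix.sub_apply, Matrix.one_apply_eq, ne_eq, zero_ne_one, one_ne_zero, not_false_eq_true,
        Matrix.one_apply_ne, sub_zero] at h0
      linear_combination hdet - h0
    have hMinj : Function.Injective ⇑(A.mulVecLin - 1 : (Fin 2 → K) →ₗ[K] Fin 2 → K) := by
      have h1 : Function.Injective (A - 1).mulVecLin :=
        Matrix.mulVec_injective_iff_isUnit.2 ((Matrix.isUnit_iff_isUnit_det _).2 (isUnit_iff_ne_zero.2 hM))
      have e : ⇑(A.mulVecLin - 1 : (Fin 2 → K) →ₗ[K] Fin 2 → K) = (A - 1).mulVecLin := by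
        funext v; simp [Matrix.sub_mulVec]
      rw [e]; exact h1
    obtain ⟨z, hz⟩ := (LinearMap.injective_iff_surjective.1 hMinj) c
    obtain ⟨x, h1, h2, hne⟩ := exists_not_eigen h4 A.mulVecLin (fun a e => hns2 a (Matrix.ext_of_mulVec_single fun i => by
        have := LinearMap.congr_fun e (Pi.single i 1)
        simp only [Matrix.mulVecLin_apply, LinearMap.smul_apply, LinearMap.id_apply] at this
        rw [this, Matrix.smul_mulVec, Matrix.one_mulVec]))
      r hr z
    have hy : ∀ a : K, A *ᵥ x - x ≠ a • x := fun a h => hne (a + 1) (by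
      rw [add_smul, one_smul, ← h, sub_add_cancel]; rfl)
    have hy0 : A *ᵥ x - x ≠ 0 := fun h => hy 0 (by rw [h, zero_smul])
    have hcy : c ∉ (K ∙ (A *ᵥ x - x)) := fun h => by
      obtain ⟨a, ha⟩ := Submodule.mem_span_singleton.1 h
      rcases eq_or_ne a 0 with rfl | ha0
      · exact hc (by rw [← ha, zero_smul])
      · refine h2 (Submodule.mem_span_singleton.2 ⟨a⁻¹, hMinj ?_⟩)
        rw [map_smul, hz, ← ha]
        show a⁻¹ • a • (A *ᵥ x - x) = A *ᵥ x - x
        rw [inv_smul_smul₀ ha0]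
    obtain ⟨ψ, e1, e2, e3, -, -⟩ := exists_covector h4 hy (fun e => h1 (by rw [e, map_zero])) c c c hcy hcy hcy
    obtain ⟨v, hv⟩ := (LinearMap.injective_iff_surjective.1 hMinj) x
    exact ⟨x, ψ, e1, e2, hy0, ⟨v, by rw [show A *ᵥ v - v = x from hv, e1]; exact one_ne_zero⟩, e3, h1,
      fun h => absurd h (by omega), fun h => absurd h (by omega)⟩
  set τ := A.trace - 2 with hτdef
  have hsmall : k + 2 = 3 → ∀ x : Fin (k + 2) → K, (∀ a : K, A *ᵥ x ≠ a • x) →
      (Function.Injective ⇑(A.mulVecLin - 1 : (Fin (k + 2) → K) →ₗ[K] (Fin (k + 2) → K)) ∨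
        A *ᵥ (A *ᵥ x) - (τ + 1) • (A *ᵥ x) + x ≠ 0) →
      A *ᵥ (A *ᵥ x) - τ • x ∉ (K ∙ (A *ᵥ x - x)) := by
    intro hk3 x hne hor hmem
    obtain rfl : k = 1 := by omega
    obtain ⟨σ, hσ⟩ := Submodule.mem_span_singleton.1 hmem
    have hind : LinearIndependent K ![x, A *ᵥ x] := by
      rw [LinearIndependent.pair_iff]
      intro s t e
      rcases eq_or_ne t 0 with rfl | ht
      · rw [zero_smul, add_zero, smul_eq_zero] at e
        exact ⟨e.resolve_right fun e0 => hne 0 (by rw [e0, Matrix.mulVec_zero, smul_zero]), rfl⟩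
      · exfalso
        refine hne (-(t⁻¹ * s)) ?_
        rw [neg_smul, mul_smul, eq_neg_iff_add_eq_zero]
        refine smul_right_injective (Fin 3 → K) ht ?_
        simp only [smul_add, smul_inv_smul₀ ht, smul_zero]
        rw [add_comm]; exact e
    obtain ⟨z, hz⟩ := exists_linearIndependent_cons_of_lt_finrank hind (by rw [hk]; omega)
    let P : Matrix (Fin 3) (Fin 3) K := Matrix.of fun i j => (![x, A *ᵥ x, z] : Fin 3 → Fin 3 → K) j i
    have hP : P.det ≠ 0 := by
      have hu : IsUnit P := Matrix.linearIndependent_cols_iff_isUnit.1 (show LinearIndependent K P.col from by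
        have e : P.col = ![x, A *ᵥ x, z] := by funext j; rfl
        rw [e]
        have e2 : ![x, A *ᵥ x, z] = (Fin.cons z ![x, A *ᵥ x] : Fin 3 → Fin 3 → K) ∘ ![1, 2, 0] := by
          funext j; fin_cases j <;> rfl
        rw [e2]
        exact hz.comp _ (by decide))
      exact ((Matrix.isUnit_iff_isUnit_det _).1 hu).ne_zero
    have hP' : IsUnit P.det := isUnit_iff_ne_zero.2 hP
    set B := P⁻¹ * A * P with hB
    have hcol : ∀ j, (fun i => B i j) = P⁻¹ *ᵥ (A *ᵥ ((![x, A *ᵥ x, z] : Fin 3 → Fin 3 → K) j)) := fun j => by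
      funext i
      rw [Matrix.mulVec_mulVec, hB]
      rfl
    have hPe : ∀ v : Fin 3 → K, P⁻¹ *ᵥ (v 0 • x + v 1 • (A *ᵥ x) + v 2 • z) = v := fun v => by
      have e : v 0 • x + v 1 • (A *ᵥ x) + v 2 • z = P *ᵥ v := by
        funext i
        simp [P, Matrix.mulVec, dotProduct, Fin.sum_univ_three]
        ring
      rw [e, Matrix.mulVec_mulVec, Matrix.nonsing_inv_mul _ hP', Matrix.one_mulVec]
    have c0 : (fun i => B i 0) = ![0, 1, 0] := by
      rw [hcol, ← hPe ![0, 1, 0]]; simp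
    have c1 : (fun i => B i 1) = ![τ - σ, σ, 0] := by
      rw [hcol, ← hPe ![τ - σ, σ, 0]]
      congr 1
      show A *ᵥ (A *ᵥ x) = _
      simp only [Matrix.cons_val, zero_smul, add_zero]
      linear_combination (norm := module) -hσ
    have b : ∀ i, B i 0 = (![0, 1, 0] : Fin 3 → K) i ∧ B i 1 = (![τ - σ, σ, 0] : Fin 3 → K) i :=
      fun i => ⟨congrFun c0 i, congrFun c1 i⟩
    have hdetB : B.det = 1 := by
      rw [hB, Matrix.det_mul, Matrix.det_mul, hdet, mul_one, ← Matrix.det_mul, Matrix.nonsing_inv_mul _ hP', Matrix.det_one]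
    have htrB : B.trace = τ + 2 := by
      rw [hB, Matrix.trace_mul_comm, ← Matrix.mul_assoc, Matrix.mul_nonsing_inv _ hP', Matrix.one_mul, hτdef, sub_add_cancel]
    rw [Matrix.det_fin_three, (b 0).1, (b 1).1, (b 2).1, (b 0).2, (b 1).2, (b 2).2] at hdetB
    rw [Matrix.trace_fin_three, (b 0).1, (b 1).2] at htrB
    simp at hdetB htrB
    have hsq : (B 2 2 - 1) * (B 2 2 - 1) = 0 := by linear_combination -hdetB + B 2 2 * htrB
    have hlam : B 2 2 = 1 := sub_eq_zero.1 (mul_self_eq_zero.1 hsq)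
    have hσ1 : σ = τ + 1 := by linear_combination htrB - hlam
    rcases hor with hinj | hp
    · have hM0 : (B - 1).det = 0 := by
        rw [Matrix.det_fin_three]
        simp only [Matrix.sub_apply, (b 0).1, (b 1).1, (b 2).1, (b 0).2, (b 1).2, (b 2).2, hlam]
        simp
      have e : B - 1 = P⁻¹ * (A - 1) * P := by
        rw [Matrix.mul_sub, Matrix.sub_mul, Matrix.mul_one, Matrix.nonsing_inv_mul _ hP']
      rw [e, Matrix.det_mul, Matrix.det_mul, mul_eq_zero, mul_eq_zero] at hM0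
      have hPi : P⁻¹.det ≠ 0 := (Matrix.isUnit_nonsing_inv_det _ hP').ne_zero
      have hA1 : (A - 1).det = 0 := (hM0.resolve_right hP).resolve_left hPi
      obtain ⟨w, hw0, hw⟩ := Matrix.exists_mulVec_eq_zero_iff.2 hA1
      refine hw0 (hinj ?_)
      rw [map_zero, ← hw, Matrix.sub_mulVec, Matrix.one_mulVec]
      rfl
    · refine hp ?_
      rw [hσ1] at hσ
      linear_combination (norm := module) -hσ
  have hsmall' : k + 2 = 3 → ¬ Function.Injective ⇑(A.mulVecLin - 1 : (Fin (k + 2) → K) →ₗ[K] (Fin (k + 2) → K)) →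
      A.mulVecLin * A.mulVecLin - (τ + 1) • A.mulVecLin + 1 ≠ 0 := by
    intro hk3 hni hp
    set M := (A.mulVecLin - 1 : (Fin (k + 2) → K) →ₗ[K] (Fin (k + 2) → K)) with hMdef
    obtain ⟨v, hv0, hv⟩ : ∃ v, v ≠ 0 ∧ M v = 0 := by
      by_contra hne
      push Not at hne
      exact hni ((injective_iff_map_eq_zero M).2 fun v hv => by_contra fun h => hne v h hv)
    have hAv : A *ᵥ v = v := sub_eq_zero.1 hv
    have hτ1 : τ = 1 := by
      have := LinearMap.congr_fun hp v
      simp only [LinearMap.add_apply, LinearMap.sub_apply, Module.End.mul_apply, LinearMap.smul_apply,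
        Module.End.one_apply, Matrix.mulVecLin_apply, hAv, LinearMap.zero_apply] at this
      have h' : (1 - τ) • v = 0 := by linear_combination (norm := module) this
      exact (sub_eq_zero.1 ((smul_eq_zero.1 h').resolve_right hv0)).symm
    have hMM : M * M = 0 := by
      refine LinearMap.ext fun w => ?_
      have := LinearMap.congr_fun hp w
      rw [hτ1] at this
      simp only [LinearMap.add_apply, LinearMap.sub_apply, Module.End.mul_apply, LinearMap.smul_apply,
        Module.End.one_apply, LinearMap.zero_apply] at this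
      simp only [hMdef, LinearMap.sub_apply, Module.End.mul_apply, Module.End.one_apply, map_sub,
        LinearMap.zero_apply]
      linear_combination (norm := module) this
    have h1 : Module.finrank K (LinearMap.range M) ≤ Module.finrank K (LinearMap.ker M) := Submodule.finrank_mono (by
      rintro _ ⟨w, rfl⟩
      exact LinearMap.congr_fun hMM w)
    have h2 := LinearMap.finrank_range_add_finrank_ker M
    rw [hk] at h2
    omega
  have hsmall'' : k + 2 = 3 → ¬ Function.Injective ⇑(A.mulVecLin - 1 : (Fin (k + 2) → K) →ₗ[K] (Fin (k + 2) → K)) →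
      (-1 : K) ≠ 1 → ∀ s, s ≠ 0 → A.mulVecLin s = -s → ∀ y,
        y ∉ LinearMap.range (A.mulVecLin - 1 : (Fin (k + 2) → K) →ₗ[K] (Fin (k + 2) → K)) →
        A.mulVecLin (A.mulVecLin y) - (τ + 1) • A.mulVecLin y + y ≠ 0 := by
    intro hk3 hni hne1 s hs0 hs y hy hp
    set M := (A.mulVecLin - 1 : (Fin (k + 2) → K) →ₗ[K] (Fin (k + 2) → K)) with hMdef
    obtain ⟨v, hv0, hv⟩ : ∃ v, v ≠ 0 ∧ M v = 0 := by
      by_contra hne
      push Not at hne
      exact hni ((injective_iff_map_eq_zero M).2 fun v hv => by_contra fun h => hne v h hv)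
    have hAv : A *ᵥ v = v := sub_eq_zero.1 hv
    have hAs : A *ᵥ s = -s := hs
    obtain rfl : k = 1 := by omega
    have hind : LinearIndependent K ![v, s] := by
      rw [LinearIndependent.pair_iff]
      intro p q e
      have e' := congrArg (A *ᵥ ·) e
      simp only [Matrix.mulVec_add, Matrix.mulVec_smul, hAv, hAs, Matrix.mulVec_zero] at e'
      have hq : ((1 : K) - (-1)) • (q • s) = 0 := by linear_combination (norm := module) e - e'
      have hq0 : q = 0 := by
        rcases smul_eq_zero.1 hq with h | h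
        · exact absurd (sub_eq_zero.1 h).symm hne1
        · exact (smul_eq_zero.1 h).resolve_right hs0
      rw [hq0, zero_smul, add_zero, smul_eq_zero] at e
      exact ⟨e.resolve_right hv0, hq0⟩
    obtain ⟨z, hz⟩ := exists_linearIndependent_cons_of_lt_finrank hind (by rw [hk]; omega)
    let P : Matrix (Fin 3) (Fin 3) K := Matrix.of fun i j => (![v, s, z] : Fin 3 → Fin 3 → K) j i
    have hP' : IsUnit P.det := (Matrix.isUnit_iff_isUnit_det _).1 (Matrix.linearIndependent_cols_iff_isUnit.1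
      (show LinearIndependent K P.col from by
        have e : P.col = (Fin.cons z ![v, s] : Fin 3 → Fin 3 → K) ∘ ![1, 2, 0] := by
          funext j; fin_cases j <;> rfl
        rw [e]
        exact hz.comp _ (by decide)))
    set B := P⁻¹ * A * P with hB
    have hPv : ∀ w : Fin 3 → K, P *ᵥ w = w 0 • v + w 1 • s + w 2 • z := fun w => by
      funext i
      simp [P, Matrix.mulVec, dotProduct, Fin.sum_univ_three]
      ring
    have hAPB : A * P = P * B := by
      rw [hB, ← Matrix.mul_assoc, Matrix.mul_nonsing_inv_cancel_left _ _ hP']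
    have hcol : ∀ (j : Fin 3) (w : Fin 3 → K), A *ᵥ (![v, s, z] : Fin 3 → Fin 3 → K) j = P *ᵥ w → (fun i => B i j) = w := by
      intro j w h
      have e : P *ᵥ (fun i => B i j) = P *ᵥ w := by
        rw [← h, show (fun i => B i j) = B *ᵥ Pi.single j 1 by rw [Matrix.mulVec_single_one]; rfl, Matrix.mulVec_mulVec,
          ← hAPB, ← Matrix.mulVec_mulVec, Matrix.mulVec_single_one]
        rfl
      exact (Matrix.mulVec_injective_iff_isUnit.2 ((Matrix.isUnit_iff_isUnit_det _).2 hP')) e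
    have c0 := hcol 0 ![1, 0, 0] (by rw [hPv]; simp [hAv])
    have c1 := hcol 1 ![0, -1, 0] (by rw [hPv]; simp [hAs])
    have hdetB : B.det = 1 := by
      rw [hB, Matrix.det_mul, Matrix.det_mul, hdet, mul_one, ← Matrix.det_mul, Matrix.nonsing_inv_mul _ hP', Matrix.det_one]
    have htrB : B.trace = τ + 2 := by
      rw [hB, Matrix.trace_mul_comm, ← Matrix.mul_assoc, Matrix.mul_nonsing_inv _ hP', Matrix.one_mul, hτdef, sub_add_cancel]
    rw [Matrix.det_fin_three, congrFun c0 0, congrFun c0 1, congrFun c0 2, congrFun c1 0, congrFun c1 1,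
      congrFun c1 2] at hdetB
    rw [Matrix.trace_fin_three, congrFun c0 0, congrFun c1 1] at htrB
    simp at hdetB htrB
    have hlam : B 2 2 = -1 := by linear_combination -hdetB
    have hτ3 : τ = -3 := by linear_combination hlam - htrB
    have hAz : A *ᵥ z = B 0 2 • v + B 1 2 • s + (-1 : K) • z := by
      have e : A *ᵥ z = P *ᵥ (fun i => B i 2) := funext fun i => congrFun (congrFun hAPB i) 2
      rw [e, hPv, hlam]
    let p : (Fin (1 + 2) → K) →ₗ[K] (Fin (1 + 2) → K) := A.mulVecLin * A.mulVecLin - (τ + 1) • A.mulVecLin + 1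
    have hpM : ∀ w, p (M w) = 0 := fun w => by
      have hwz : w = P *ᵥ (P⁻¹ *ᵥ w) := by rw [Matrix.mulVec_mulVec, Matrix.mul_nonsing_inv _ hP', Matrix.one_mulVec]
      simp only [p, hMdef, LinearMap.add_apply, LinearMap.sub_apply, Module.End.mul_apply, LinearMap.smul_apply,
        Module.End.one_apply, Matrix.mulVecLin_apply]
      rw [hwz, hPv]
      simp only [Matrix.mulVec_sub, Matrix.mulVec_add, Matrix.mulVec_smul, hAv, hAs, hAz, Matrix.mulVec_neg, hτ3]
      module
    have hle : LinearMap.range M ≤ LinearMap.ker p := by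
      rintro _ ⟨w, rfl⟩
      exact hpM w
    have hlt : LinearMap.range M < LinearMap.ker p := SetLike.lt_iff_le_and_exists.2 ⟨hle, y, hp, hy⟩
    have h1 := Submodule.finrank_lt_finrank_of_lt hlt
    have h2 := Submodule.finrank_le (LinearMap.ker p)
    rw [hk] at h2
    have : LinearMap.ker p = ⊤ := Submodule.eq_top_of_finrank_eq (by rw [hk]; omega)
    exact hsmall' rfl hni (LinearMap.ker_eq_top.1 this)
  exact exists_pivot h4 hk A.mulVecLin hinjA c r hc hr (fun a e => hns a (Matrix.ext_of_mulVec_single fun i => by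
    have := LinearMap.congr_fun e (Pi.single i 1)
    simp only [Matrix.mulVecLin_apply, LinearMap.smul_apply, LinearMap.id_apply] at this
    rw [this, Matrix.smul_mulVec, Matrix.one_mulVec])) hρ (by omega) τ hsmall hsmall' hsmall''

/-- Every matrix satisfying the hypothesis is similar to a product of regular unitriangular matrices. -/
theorem exists_lu (h4 : Four K) : ∀ (k : ℕ) (A : Matrix (Fin (k + 1)) (Fin (k + 1)) K) (c r : Fin (k + 1) → K),
    Ok A → c ≠ 0 → r ≠ 0 → ∃ P L U : Matrix (Fin (k + 1)) (Fin (k + 1)) K, P.det ≠ 0 ∧ IsLo L ∧ IsUp U ∧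
      A * P = P * (L * U) ∧ (r ᵥ* P) 0 ≠ 0 ∧ ∃ c', P *ᵥ c' = c ∧ c' 0 ≠ 0 := by
  intro k
  induction k with
  | zero =>
    intro A c r hA hc hr
    have h0 : ∀ v : Fin 1 → K, v ≠ 0 → v 0 ≠ 0 := fun v hv h => hv (funext fun i => by rw [Fin.eq_zero i]; exact h)
    have hU : IsLo (1 : Matrix (Fin 1) (Fin 1) K) ∧ IsUp (1 : Matrix (Fin 1) (Fin 1) K) :=
      ⟨⟨fun i j h => absurd h (by omega), fun i => Matrix.one_apply_eq i, fun i j h => absurd h (by omega)⟩,
        ⟨fun i j h => absurd h (by omega), fun i => Matrix.one_apply_eq i, fun i j h => absurd h (by omega)⟩⟩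
    have hA1 : A = 1 := by
      ext i j
      have := hA.1
      rw [Matrix.det_fin_one] at this
      rw [Fin.eq_zero i, Fin.eq_zero j]
      exact this.trans (Matrix.one_apply_eq _).symm
    exact ⟨1, 1, 1, by simp, hU.1, hU.2, by rw [hA1]; simp, by simpa using h0 r hr, c, by simp, h0 c hc⟩
  | succ k ih =>
    intro A c r hA hc hr
    let rl : Module.Dual K (Fin (k + 2) → K) := (dotProductBilin K K) r
    have hrl : rl ≠ 0 := fun e => hr (dotProduct_eq_zero r fun v => LinearMap.congr_fun e v)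
    obtain ⟨x, ψ, hψx, hψy, hy0, ⟨v₀, hv₀⟩, hψc, hrx, hk3, hk4⟩ := exists_pivot_matrix h4 A hA c rl hc hrl
    have hψA : ψ (A *ᵥ x) = 1 := by rw [map_sub, sub_eq_zero] at hψy; rw [hψy, hψx]
    -- the basis
    have hker : Module.finrank K (LinearMap.ker ψ) = k + 1 := by
      have h := LinearMap.finrank_range_add_finrank_ker ψ
      rw [Module.Dual.range_eq_top_of_ne_zero (fun e => hψc (by rw [e]; rfl)), finrank_top, Module.finrank_self,
        Module.finrank_fin_fun] at h
      omega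
    let b := Module.finBasisOfFinrankEq K (LinearMap.ker ψ) hker
    let cols : Fin (k + 2) → Fin (k + 2) → K := Fin.cons x fun i => (b i : Fin (k + 2) → K)
    let P₀ : Matrix (Fin (k + 2)) (Fin (k + 2)) K := Matrix.of fun i j => cols j i
    have hind : LinearIndependent K cols := by
      rw [linearIndependent_finCons]
      refine ⟨b.linearIndependent.map' (LinearMap.ker ψ).subtype (Submodule.ker_subtype _), fun h => ?_⟩
      have hle : Submodule.span K (Set.range fun i => (b i : Fin (k + 2) → K)) ≤ LinearMap.ker ψ :=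
        Submodule.span_le.2 (by rintro _ ⟨i, rfl⟩; exact (b i).2)
      have := LinearMap.mem_ker.1 (hle h)
      rw [hψx] at this
      exact one_ne_zero this
    have hP₀ : IsUnit P₀.det := (Matrix.isUnit_iff_isUnit_det _).1 (Matrix.linearIndependent_cols_iff_isUnit.1
      (show LinearIndependent K P₀.col from hind))
    have hcolP : ∀ j, P₀ *ᵥ Pi.single j 1 = cols j := fun j => by rw [Matrix.mulVec_single_one]; rfl
    have hψP : ∀ v : Fin (k + 2) → K, ψ (P₀ *ᵥ v) = v 0 := fun v => by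
      conv_lhs => rw [pi_eq_sum_univ' v]
      simp only [Matrix.mulVec_sum, Matrix.mulVec_smul, hcolP, map_sum, map_smul, smul_eq_mul]
      rw [Fin.sum_univ_succ]
      simp [cols, hψx, show ∀ i, ψ (b i : Fin (k + 2) → K) = 0 from fun i => LinearMap.mem_ker.1 (b i).2]
    set B := P₀⁻¹ * A * P₀ with hBdef
    have hAP : ∀ v, A *ᵥ (P₀ *ᵥ v) = P₀ *ᵥ (B *ᵥ v) := fun v => by
      rw [hBdef, Matrix.mulVec_mulVec, Matrix.mulVec_mulVec, ← Matrix.mul_assoc, Matrix.mul_nonsing_inv_cancel_left _ _ hP₀]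
    have hB00 : B 0 0 = 1 := by
      have h := congrArg ψ (hAP (Pi.single 0 1))
      rw [hcolP, hψP, Matrix.mulVec_single_one] at h
      simp [cols, hψA] at h
      exact h.symm
    set c₁ : Fin (k + 1) → K := fun i => B i.succ 0 with hc₁
    set r₁ : Fin (k + 1) → K := fun j => B 0 j.succ with hr₁
    set A₁ : Matrix (Fin (k + 1)) (Fin (k + 1)) K :=
      Matrix.of fun i j => B i.succ j.succ - B i.succ 0 * B 0 j.succ with hA₁
    have hBLU : B = lo c₁ 1 * up r₁ A₁ := eq_lo_mul_up B hB00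
    have hc₁0 : c₁ ≠ 0 := fun e => hy0 (by
      rw [sub_eq_zero]
      have h := hAP (Pi.single 0 1)
      have e1 : B *ᵥ Pi.single (0 : Fin (k + 2)) (1 : K) = Pi.single 0 1 := by
        rw [Matrix.mulVec_single_one]
        funext i
        refine Fin.cases ?_ (fun i => ?_) i
        · simpa using hB00
        · simpa [Pi.single_apply] using congrFun e i
      rw [e1, hcolP] at h
      exact h)
    have hr₁0 : r₁ ≠ 0 := fun e => hv₀ (by
      have hv : v₀ = P₀ *ᵥ (P₀⁻¹ *ᵥ v₀) := by rw [Matrix.mulVec_mulVec, Matrix.mul_nonsing_inv _ hP₀, Matrix.one_mulVec]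
      rw [hv, map_sub, hAP, hψP, hψP, sub_eq_zero, Matrix.mulVec, dotProduct, Fin.sum_univ_succ, hB00, one_mul]
      simp only [show ∀ j : Fin (k + 1), B 0 j.succ = 0 from fun j => congrFun e j, zero_mul, Finset.sum_const_zero,
        add_zero])
    -- the complement
    have hdetB : B.det = 1 := by
      rw [hBdef, Matrix.det_mul, Matrix.det_mul, hA.1, mul_one, ← Matrix.det_mul, Matrix.nonsing_inv_mul _ hP₀, Matrix.det_one]
    have hdetA₁ : A₁.det = 1 := by
      rw [hBLU, Matrix.det_mul, det_lo, det_up, Matrix.det_one, one_mul] at hdetB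
      exact hdetB
    let ι : (Fin (k + 1) → K) →ₗ[K] Fin (k + 2) → K :=
      { toFun := fun h => P₀ *ᵥ Fin.cons 0 h
        map_add' := fun g h => by
          rw [← Matrix.mulVec_add]; congr 1; funext i; refine Fin.cases ?_ (fun i => ?_) i <;> simp
        map_smul' := fun a h => by
          rw [RingHom.id_apply, ← Matrix.mulVec_smul]; congr 1; funext i; refine Fin.cases ?_ (fun i => ?_) i <;> simp }
    have hAι : ∀ h, A *ᵥ ι h = ι (A₁ *ᵥ h) + (r₁ ⬝ᵥ h) • (A *ᵥ x) := fun h => by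
      show A *ᵥ (P₀ *ᵥ Fin.cons 0 h) = P₀ *ᵥ Fin.cons 0 (A₁ *ᵥ h) + _
      rw [show A *ᵥ x = P₀ *ᵥ (B *ᵥ Pi.single 0 1) by rw [← hAP, hcolP]; rfl, ← Matrix.mulVec_smul, hAP,
        ← Matrix.mulVec_add]
      congr 1
      funext i
      refine Fin.cases ?_ (fun i => ?_) i
      · simp [Matrix.mulVec, dotProduct, Fin.sum_univ_succ, hB00, r₁]
      · show ∑ j, B i.succ j * (Fin.cons 0 h : Fin (k + 2) → K) j =
          ∑ j, A₁ i j * h j + (∑ j, r₁ j * h j) * (B *ᵥ Pi.single 0 1) i.succ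
        rw [Matrix.mulVec_single_one, Fin.sum_univ_succ, Fin.cons_zero, mul_zero, zero_add, Finset.sum_mul,
          ← Finset.sum_add_distrib]
        refine Finset.sum_congr rfl fun j _ => ?_
        simp [A₁, r₁, Fin.cons_succ]
        ring
    have hkerι : LinearMap.ker ψ ≤ LinearMap.range ι := fun v hv => by
      refine ⟨Fin.tail (P₀⁻¹ *ᵥ v), ?_⟩
      have e : v = P₀ *ᵥ (P₀⁻¹ *ᵥ v) := by rw [Matrix.mulVec_mulVec, Matrix.mul_nonsing_inv _ hP₀, Matrix.one_mulVec]
      have h0 : (P₀⁻¹ *ᵥ v) 0 = 0 := by rw [← hψP (P₀⁻¹ *ᵥ v), ← e]; exact LinearMap.mem_ker.1 hv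
      show P₀ *ᵥ Fin.cons 0 (Fin.tail (P₀⁻¹ *ᵥ v)) = v
      conv_rhs => rw [e]
      rw [← h0, Fin.cons_self_tail]
    have hmapι : ∀ (μ : K) (h : Fin (k + 1) → K),
        (A.mulVecLin - μ • 1 : (Fin (k + 2) → K) →ₗ[K] _) (ι h) = ι ((A₁.mulVecLin - μ • 1 : (Fin (k + 1) → K) →ₗ[K] _) h) + (r₁ ⬝ᵥ h) • (A *ᵥ x) := fun μ h => by
      simp only [LinearMap.sub_apply, LinearMap.smul_apply, Module.End.one_apply, Matrix.mulVecLin_apply, hAι,
        map_sub, map_smul]
      abel
    have hbound : ∀ μ : K, (LinearMap.ker ψ).map (A.mulVecLin - μ • 1) ⊔ K ∙ (A *ᵥ x) ≤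
        (LinearMap.range (A₁.mulVecLin - μ • 1)).map ι ⊔ K ∙ (A *ᵥ x) := fun μ => by
      refine sup_le ?_ le_sup_right
      rintro _ ⟨v, hv, rfl⟩
      obtain ⟨h, rfl⟩ := hkerι hv
      rw [hmapι]
      exact Submodule.add_mem_sup (Submodule.mem_map_of_mem ⟨h, rfl⟩)
        (Submodule.smul_mem _ _ (Submodule.mem_span_singleton_self _))
    have hrank : ∀ μ : K, Module.finrank K ↥((LinearMap.ker ψ).map (A.mulVecLin - μ • 1) ⊔ K ∙ (A *ᵥ x)) ≤
        Module.finrank K (LinearMap.range (A₁.mulVecLin - μ • 1)) + 1 := fun μ => by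
      refine (Submodule.finrank_mono (hbound μ)).trans ?_
      have h2 := Submodule.finrank_map_le ι (LinearMap.range (A₁.mulVecLin - μ • 1))
      have h3 : Module.finrank K (K ∙ (A *ᵥ x)) ≤ 1 := by
        rcases eq_or_ne (A *ᵥ x) 0 with e | e
        · rw [e, Submodule.span_singleton_eq_bot.2 rfl, finrank_bot]; omega
        · rw [finrank_span_singleton e]
      exact (Submodule.finrank_add_le_finrank_add_finrank _ _).trans (Nat.add_le_add h2 h3)
    have hok : Ok A₁ := by
      refine ⟨hdetA₁, ?_⟩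
      rcases Nat.lt_or_ge k 2 with hk | hk
      · rcases Nat.eq_zero_or_pos k with rfl | hk0
        · exact Or.inl rfl
        · obtain rfl : k = 1 := by omega
          have htr2 : A₁.trace ≠ 2 := fun htr => (hk3 rfl).1 ?_
          refine Or.inr (Or.inl ⟨rfl, htr2, fun a ha => ?_⟩)
          · have hdd := hdetA₁
            rw [ha, Matrix.det_smul, Matrix.det_one, mul_one, Fintype.card_fin, pow_two, mul_self_eq_one_iff] at hdd
            rcases hdd with rfl | rfl
            · exact htr2 (by rw [ha, one_smul, Matrix.trace_one, Fintype.card_fin]; norm_num)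
            · by_cases hne1 : (-1 : K) = 1
              · exact htr2 (by rw [ha, hne1, one_smul, Matrix.trace_one, Fintype.card_fin]; norm_num)
              · have g := ((hk3 rfl).2 hne1).trans (hrank (-1))
                rw [show (A₁.mulVecLin - (-1 : K) • 1 : (Fin 2 → K) →ₗ[K] _) = 0 from LinearMap.ext fun h => by
                  rw [ha]; simp [Matrix.smul_mulVec], LinearMap.range_zero, finrank_bot] at g
                omega
          have htrB : B.trace = A.trace := by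
            rw [hBdef, Matrix.trace_mul_comm, ← Matrix.mul_assoc, Matrix.mul_nonsing_inv _ hP₀, Matrix.one_mul]
          have hxx : A *ᵥ (A *ᵥ x) = P₀ *ᵥ (B *ᵥ (B *ᵥ Pi.single 0 1)) := by
            rw [← hAP, ← hAP, hcolP]; rfl
          rw [map_sub, map_smul, hψx, hxx, hψP, ← htrB]
          simp [Matrix.mulVec, dotProduct, Fin.sum_univ_succ, Matrix.trace_fin_three, Matrix.trace_fin_two, A₁,
            hB00] at htr ⊢
          linear_combination -htr
      · obtain ⟨g1, g2⟩ := hk4 (by omega)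
        have e1 : 2 ≤ Module.finrank K (LinearMap.range (A₁.mulVecLin - 1)) := by
          have h' := hrank 1
          rw [one_smul, one_smul] at h'
          exact Nat.le_of_succ_le_succ (g1.trans h')
        refine Or.inr (Or.inr ⟨by omega, fun μ e => ?_, e1⟩)
        have h0 : (A₁.mulVecLin - μ • 1 : (Fin (k + 1) → K) →ₗ[K] _) = 0 := LinearMap.ext fun h => by
          rw [e]; simp [Matrix.smul_mulVec]
        rcases eq_or_ne μ 1 with rfl | hμ
        · rw [one_smul] at h0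
          rw [h0, LinearMap.range_zero, finrank_bot] at e1
          omega
        · have h2 := (g2 μ hμ).trans (hrank μ)
          rw [h0, LinearMap.range_zero, finrank_bot] at h2
          omega
    obtain ⟨P₁, L₁, U₁, hP₁, hL₁, hU₁, hAP₁, hr₁P, d, hd, hd0⟩ := ih A₁ c₁ r₁ hok hc₁0 hr₁0
    have hP₁' : IsUnit P₁.det := isUnit_iff_ne_zero.2 hP₁
    refine ⟨P₀ * lo 0 P₁, lo d L₁, up (r₁ ᵥ* P₁) U₁, ?_, isLo_lo hd0 hL₁, isUp_up hr₁P hU₁, ?_, ?_,
      Fin.cons ((P₀⁻¹ *ᵥ c) 0) (P₁⁻¹ *ᵥ Fin.tail (P₀⁻¹ *ᵥ c)), ?_, ?_⟩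
    · rw [Matrix.det_mul, det_lo]
      exact mul_ne_zero hP₀.ne_zero hP₁
    · have e : A * P₀ = P₀ * B := by
        rw [hBdef, ← Matrix.mul_assoc, Matrix.mul_nonsing_inv_cancel_left _ _ hP₀]
      rw [← Matrix.mul_assoc, e, Matrix.mul_assoc P₀, Matrix.mul_assoc P₀]
      congr 1
      rw [hBLU, Matrix.mul_assoc, up_mul_lo, ← Matrix.mul_assoc, lo_mul_lo, hd]
      exact lo_mul_up_congr (by rw [Matrix.one_mul, hAP₁, Matrix.mul_assoc])
    · have e : (r ᵥ* (P₀ * lo 0 P₁)) 0 = rl x := by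
        show _ = r ⬝ᵥ x
        rw [show x = (P₀ * lo 0 P₁) *ᵥ Pi.single 0 1 by
          rw [← Matrix.mulVec_mulVec, show lo 0 P₁ *ᵥ Pi.single 0 1 = Pi.single 0 1 by
            rw [Matrix.mulVec_single_one]
            funext i
            refine Fin.cases ?_ (fun i => ?_) i <;> simp [lo, Pi.single_apply], hcolP]
          rfl, Matrix.dotProduct_mulVec, dotProduct_single, mul_one]
      rw [e]; exact hrx
    · rw [← Matrix.mulVec_mulVec, lo_zero_mulVec, Fin.cons_zero, Fin.tail_cons, Matrix.mulVec_mulVec,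
        Matrix.mul_nonsing_inv _ hP₁', Matrix.one_mulVec, Fin.cons_self_tail, Matrix.mulVec_mulVec,
        Matrix.mul_nonsing_inv _ hP₀, Matrix.one_mulVec]
    · rw [Fin.cons_zero, ← hψP (P₀⁻¹ *ᵥ c), Matrix.mulVec_mulVec, Matrix.mul_nonsing_inv _ hP₀, Matrix.one_mulVec]
      exact hψc

/-- An upper regular unitriangular matrix is similar to the Jordan block. -/
theorem exists_conj_up {n : ℕ} {U J : Matrix (Fin n) (Fin n) K} (hU : IsUp U)
    (hJ : ∀ i j : Fin n, J i j = if i = j then 1 else if j.val = i.val + 1 then 1 else 0) :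
    ∃ P : Matrix (Fin n) (Fin n) K, P.det ≠ 0 ∧ U * P = P * J := by
  rcases Nat.eq_zero_or_pos n with rfl | hn
  · exact ⟨1, by simp, by simp [Subsingleton.elim U J]⟩
  set N := U - 1
  let e : Fin n → K := Pi.single ⟨n - 1, by omega⟩ 1
  let p : ℕ → Fin n → K := fun s => (N ^ s) *ᵥ e
  have hN : ∀ i j : Fin n, j ≤ i → N i j = 0 := fun i j h => by
    rcases h.lt_or_eq with h | h
    · simp [N, hU.1 i j h, h.ne']
    · simp [N, h, hU.2.1]
  have hsucc : ∀ s, p (s + 1) = N *ᵥ p s := fun s => by simp only [p, pow_succ', Matrix.mulVec_mulVec]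
  have htri : ∀ (s : ℕ) (i : Fin n), (n ≤ i.val + s → p s i = 0) ∧ (i.val + s + 1 = n → p s i ≠ 0) := by
    intro s
    induction s with
    | zero =>
      intro i
      refine ⟨fun h => absurd i.2 (by omega), fun h => ?_⟩
      simp only [p, pow_zero, Matrix.one_mulVec, e]
      rw [show i = ⟨n - 1, by omega⟩ from Fin.ext (by simp only; omega), Pi.single_eq_same]
      exact one_ne_zero
    | succ s ih =>
      intro i
      constructor
      · intro h
        rw [hsucc]
        show ∑ j, N i j * p s j = 0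
        refine Finset.sum_eq_zero fun j _ => ?_
        rcases le_or_gt j i with hj | hj
        · show N i j * p s j = 0
          rw [hN i j hj, zero_mul]
        · show N i j * p s j = 0
          rw [(ih j).1 (by have : i.val < j.val := hj; omega), mul_zero]
      · intro h
        rw [hsucc]
        show ∑ j, N i j * p s j ≠ 0
        have hi : i.val + 1 < n := by omega
        rw [Finset.sum_eq_single (⟨i.val + 1, hi⟩ : Fin n)]
        · refine mul_ne_zero ?_ ((ih _).2 (by simp only; omega))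
          have := hU.2.2 i ⟨i.val + 1, hi⟩ rfl
          simpa [N, Matrix.one_apply, Fin.ext_iff] using this
        · intro j _ hj
          rcases le_or_gt j i with hj' | hj'
          · rw [hN i j hj', zero_mul]
          · rw [(ih j).1 (by
              have h1 : i.val < j.val := hj'
              have h2 : j.val ≠ i.val + 1 := fun e' => hj (Fin.ext e')
              omega), mul_zero]
        · simp
  let P : Matrix (Fin n) (Fin n) K := Matrix.of fun i j => p (n - 1 - j.val) i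
  refine ⟨P, ?_, ?_⟩
  · rw [Matrix.det_of_upperTriangular (M := P) (fun i j h => (htri _ i).1 (by
      have : j.val < i.val := h
      have := j.2; omega))]
    exact Finset.prod_ne_zero_iff.2 fun i _ => (htri _ i).2 (by have := i.2; omega)
  · ext i j
    have hL : (U * P) i j = P i j + p (n - 1 - j.val + 1) i := by
      rw [hsucc, show U = 1 + N by simp [N], Matrix.add_mul, Matrix.one_mul, Matrix.add_apply]
      rfl
    rw [hL, Matrix.mul_apply]
    simp only [hJ]
    rcases Nat.eq_zero_or_pos j.val with hj | hj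
    · rw [(htri _ i).1 (by omega), add_zero, Finset.sum_eq_single j]
      · simp
      · intro b _ hb; rw [if_neg hb, if_neg (show ¬ j.val = b.val + 1 by omega), mul_zero]
      · simp
    · have hbj : (⟨j.val - 1, by omega⟩ : Fin n) ≠ j := fun e' => by have := congrArg Fin.val e'; simp only at this; omega
      rw [Finset.sum_eq_add (⟨j.val - 1, by omega⟩ : Fin n) j hbj]
      · rw [if_neg hbj, if_pos (by simp only; omega), if_pos rfl, mul_one, mul_one, add_comm,
          show n - 1 - j.val + 1 = n - 1 - (j.val - 1) by have := j.2; omega]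
        rfl
      · intro b _ hb
        rw [if_neg hb.2, if_neg (show ¬ j.val = b.val + 1 from fun h => hb.1 (Fin.ext (by simp only; omega))), mul_zero]
      · simp
      · simp

/-- A lower regular unitriangular matrix is similar to the Jordan block. -/
theorem exists_conj_lo {n : ℕ} {L J : Matrix (Fin n) (Fin n) K} (hL : IsLo L)
    (hJ : ∀ i j : Fin n, J i j = if i = j then 1 else if j.val = i.val + 1 then 1 else 0) :
    ∃ P : Matrix (Fin n) (Fin n) K, P.det ≠ 0 ∧ L * P = P * J := by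
  obtain ⟨P, hP, hPJ⟩ := exists_conj_up (U := L.submatrix Fin.rev Fin.rev) (J := J)
    ⟨fun i j h => hL.1 _ _ (Fin.rev_lt_rev.2 h), fun i => hL.2.1 _, fun i j h => hL.2.2 _ _ (by
      rw [Fin.val_rev, Fin.val_rev]; have := j.2; omega)⟩ hJ
  refine ⟨P.submatrix Fin.revPerm id, ?_, ?_⟩
  · rw [Matrix.det_permute]
    refine mul_ne_zero ?_ hP
    rcases Int.units_eq_one_or (Equiv.Perm.sign (Fin.revPerm (n := n))) with h | h <;> rw [h] <;> simp
  · rw [show L = (L.submatrix Fin.rev Fin.rev).submatrix Fin.revPerm Fin.revPerm by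
      ext i j; simp, Matrix.submatrix_mul_equiv, hPJ]
    ext i j
    simp [Matrix.mul_apply]

/-- The statement in `GL`. -/
theorem exists_two_conjugates (hK : 4 ≤ Cardinal.mk K) (n : ℕ) (hn : 3 ≤ n) (J g : GL (Fin n) K)
    (hJ : ∀ i j : Fin n, (J : Matrix (Fin n) (Fin n) K) i j = if i = j then 1 else if j.val = i.val + 1 then 1 else 0)
    (hg : ¬ ∃ c : K, (g : Matrix (Fin n) (Fin n) K) = c • (1 : Matrix (Fin n) (Fin n) K))
    (hdet : (g : Matrix (Fin n) (Fin n) K).det = 1) :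
    ∃ x y : GL (Fin n) K, g = (x * J * x⁻¹) * (y * J * y⁻¹) := by
  classical
  have h4 := four_of_card hK
  obtain ⟨k, rfl⟩ : ∃ k, n = k + 1 := ⟨n - 1, by omega⟩
  set G := (g : Matrix (Fin (k + 1)) (Fin (k + 1)) K)
  -- it suffices to factor a conjugate
  suffices h : ∃ P X Y : Matrix (Fin (k + 1)) (Fin (k + 1)) K, P.det ≠ 0 ∧ G * P = P * (X * Y) ∧
      (∃ Q, Q.det ≠ 0 ∧ X * Q = Q * J.1) ∧ ∃ Q, Q.det ≠ 0 ∧ Y * Q = Q * J.1 by
    obtain ⟨P, X, Y, hP, hG, ⟨Qx, hQx, hX⟩, ⟨Qy, hQy, hY⟩⟩ := h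
    let p := GeneralLinearGroup.mkOfDetNeZero P hP
    let qx := GeneralLinearGroup.mkOfDetNeZero Qx hQx
    let qy := GeneralLinearGroup.mkOfDetNeZero Qy hQy
    have hX' : X = ((qx * J * qx⁻¹ : GL (Fin (k + 1)) K) : Matrix (Fin (k + 1)) (Fin (k + 1)) K) := by
      have h1 : Qx * ((qx⁻¹ : GL (Fin (k + 1)) K) : Matrix (Fin (k + 1)) (Fin (k + 1)) K) = 1 := qx.mul_inv
      rw [Units.val_mul, Units.val_mul, show (qx : Matrix (Fin (k + 1)) (Fin (k + 1)) K) = Qx from rfl, ← hX,
        Matrix.mul_assoc, h1, Matrix.mul_one]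
    have hY' : Y = ((qy * J * qy⁻¹ : GL (Fin (k + 1)) K) : Matrix (Fin (k + 1)) (Fin (k + 1)) K) := by
      have h1 : Qy * ((qy⁻¹ : GL (Fin (k + 1)) K) : Matrix (Fin (k + 1)) (Fin (k + 1)) K) = 1 := qy.mul_inv
      rw [Units.val_mul, Units.val_mul, show (qy : Matrix (Fin (k + 1)) (Fin (k + 1)) K) = Qy from rfl, ← hY,
        Matrix.mul_assoc, h1, Matrix.mul_one]
    refine ⟨p * qx, p * qy, ?_⟩
    have e : g * p = p * ((qx * J * qx⁻¹) * (qy * J * qy⁻¹)) := Units.ext (by
      rw [Units.val_mul, Units.val_mul, Units.val_mul (qx * J * qx⁻¹), ← hX', ← hY']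
      exact hG)
    rw [eq_mul_inv_of_mul_eq e]
    group
  have hρ0 : 1 ≤ Module.finrank K (LinearMap.range (G.mulVecLin - 1)) :=
    Submodule.one_le_finrank_iff.2 fun h0 => hg ⟨1, Matrix.ext_of_mulVec_single fun i => by
      have h1 : (G.mulVecLin - 1 : (Fin (k + 1) → K) →ₗ[K] _) (Pi.single i 1) = 0 := by
        have := LinearMap.mem_range_self (G.mulVecLin - 1 : (Fin (k + 1) → K) →ₗ[K] _) (Pi.single i 1)
        rwa [h0, Submodule.mem_bot] at this
      rw [one_smul, Matrix.one_mulVec]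
      exact sub_eq_zero.1 h1⟩
  rcases Nat.lt_or_ge (Module.finrank K (LinearMap.range (G.mulVecLin - 1))) 2 with h1 | h2
  · -- transvections
    have hrange : LinearMap.range (G - 1).mulVecLin = LinearMap.range (G.mulVecLin - 1) := by
      congr 1
      exact LinearMap.ext fun v => by simp [Matrix.sub_mulVec]
    have hrk : (G - 1).rank = 1 := by rw [Matrix.rank, hrange]; omega
    obtain ⟨v, hv0, hv⟩ := finrank_eq_one_iff'.1 (show Module.finrank K (LinearMap.range (G - 1).mulVecLin) = 1 from hrk)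
    have hcol : ∀ j : Fin (k + 1), ∃ a : K, (G - 1).col j = a • (v : Fin (k + 1) → K) := fun j => by
      obtain ⟨a, ha⟩ := hv ⟨(G - 1).col j, ⟨Pi.single j 1, by rw [Matrix.mulVecLin_apply, Matrix.mulVec_single_one]⟩⟩
      exact ⟨a, (congrArg Subtype.val ha).symm⟩
    choose φ hφ using hcol
    have hN : G - 1 = vecMulVec (v : Fin (k + 1) → K) φ := by
      ext i j
      have := congrFun (hφ j) i
      simp only [Matrix.col_apply, Pi.smul_apply, smul_eq_mul] at this
      rw [Matrix.vecMulVec_apply, this, mul_comm]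
    have hφv : φ ⬝ᵥ (v : Fin (k + 1) → K) = 0 := by
      rw [show G = 1 + vecMulVec (v : Fin (k + 1) → K) φ by rw [← hN]; abel,
        CfsgLib.Known.Transvections.det_one_add_vecMulVec'] at hdet
      simpa using hdet
    obtain ⟨P, hP⟩ := CfsgLib.Known.Transvections.exists_conj_std (i0 := (0 : Fin (k + 1))) (i1 := Fin.last k)
      (by simp [Fin.ext_iff]; omega) G ⟨hrk, by rw [hN, vecMulVec_mul_vecMulVec, hφv]; simp⟩
    -- `T * J⁻¹` is again regular unitriangular
    set T : Matrix (Fin (k + 1)) (Fin (k + 1)) K := CfsgLib.Known.Transvections.std 0 (Fin.last k)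
    let Ji : Matrix (Fin (k + 1)) (Fin (k + 1)) K :=
      Matrix.of fun i j => if i ≤ j then (-1) ^ (j.val - i.val) else 0
    have hJi : Ji * J.1 = 1 := by
      ext i j
      rw [Matrix.mul_apply]
      simp only [hJ, Ji, Matrix.of_apply]
      rcases Nat.eq_zero_or_pos j.val with hj | hj
      · rw [Finset.sum_eq_single j]
        · rw [if_pos rfl, mul_one, Matrix.one_apply]
          rcases eq_or_ne i j with rfl | hij
          · simp
          · rw [if_neg (show ¬ i ≤ j from fun h => hij (Fin.ext (by have : i.val ≤ j.val := h; omega))), if_neg hij]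
        · intro b _ hb; rw [if_neg hb, if_neg (show ¬ j.val = b.val + 1 by omega), mul_zero]
        · simp
      · have hbj : (⟨j.val - 1, by omega⟩ : Fin (k + 1)) ≠ j := fun e' => by
          have := congrArg Fin.val e'; simp only at this; omega
        rw [Finset.sum_eq_add (⟨j.val - 1, by omega⟩ : Fin (k + 1)) j hbj]
        · rw [if_neg hbj, if_pos (show j.val = j.val - 1 + 1 by omega), if_pos rfl, mul_one, mul_one, Matrix.one_apply]
          rcases lt_trichotomy i j with hij | rfl | hij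
          · have h' : i.val < j.val := hij
            rw [if_pos (show i ≤ (⟨j.val - 1, by omega⟩ : Fin (k + 1)) by show i.val ≤ j.val - 1; omega),
              if_pos hij.le, if_neg hij.ne, show j.val - i.val = (j.val - 1 - i.val) + 1 by omega, pow_succ]
            ring
          · rw [if_neg (show ¬ i ≤ (⟨i.val - 1, by omega⟩ : Fin (k + 1)) by show ¬ i.val ≤ i.val - 1; omega)]
            simp
          · have h' : j.val < i.val := hij
            rw [if_neg (show ¬ i ≤ (⟨j.val - 1, by omega⟩ : Fin (k + 1)) by show ¬ i.val ≤ j.val - 1; omega),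
              if_neg hij.not_ge, if_neg hij.ne', add_zero]
        · intro b _ hb
          rw [if_neg hb.2, if_neg (show ¬ j.val = b.val + 1 from fun h => hb.1 (Fin.ext (by simp only; omega))), mul_zero]
        · simp
        · simp
    have hTJ : ∀ i j, (T * Ji) i j = Ji i j + (if i = 0 then Ji (Fin.last k) j else 0) := fun i j => by
      rw [show T = 1 + vecMulVec (Pi.single (0 : Fin (k + 1)) 1) (Pi.single (Fin.last k) 1) from rfl, Matrix.add_mul,
        Matrix.one_mul, Matrix.add_apply, Matrix.vecMulVec_mul, Matrix.vecMulVec_apply, Matrix.single_one_vecMul]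
      simp [Pi.single_apply]
    have hX : IsUp (T * Ji) := by
      refine ⟨fun i j h => ?_, fun i => ?_, fun i j h => ?_⟩
      · have h' : j.val < i.val := h
        rw [hTJ, if_neg (show i ≠ 0 from fun e => by rw [e] at h'; simp at h'), add_zero]
        simp [Ji, not_le.2 h]
      · rw [hTJ]
        split_ifs with hi
        · subst hi
          have hl : ¬ Fin.last k ≤ (0 : Fin (k + 1)) := fun e => by
            have : k ≤ 0 := e; omega
          simp [Ji, hl]
        · simp [Ji]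
      · rw [hTJ]
        have hij : i ≤ j := by show i.val ≤ j.val; omega
        split_ifs with hi
        · subst hi
          have hl : ¬ Fin.last k ≤ j := fun e => by
            have : k ≤ j.val := e
            simp only [Fin.val_zero] at h
            omega
          simp [Ji, hl, hij, h]
        · simp [Ji, hij, h]
    refine ⟨P.1, T * Ji, J.1, ((Matrix.isUnit_iff_isUnit_det _).1 P.isUnit).ne_zero, ?_, exists_conj_up hX hJ,
      1, by simp, by simp⟩
    rw [Matrix.mul_assoc T, hJi, Matrix.mul_one]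
    exact hP
  · have hok : Ok G := ⟨hdet, Or.inr (Or.inr ⟨hn, fun a e => hg ⟨a, e⟩, h2⟩)⟩
    obtain ⟨P, L, U, hP, hL, hU, hG, -⟩ := exists_lu h4 k G (Pi.single 0 1) (Pi.single 0 1) hok
      (by simp) (by simp)
    exact ⟨P, L, U, hP, hG, exists_conj_lo hL hJ, exists_conj_up hU hJ⟩

end matrices

end CfsgLib.Classical.ClassTheory.RegularPair
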