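import Cfsg.Agent.Lib.Classical.ClassTheory.Twisted
import Cfsg.Agent.Lib.Classical.ClassTheory.RegularNilpotent
import Cfsg.Agent.Lib.Classical.ClassTheory.UnipotentIff
import Cfsg.Agent.Lib.Known.ClassSplit

/-!
# Regular unipotent elements of `Sp` in odd characteristic
-/

set_option autoImplicit false

namespace CfsgLib.Classical.ClassTheory

open scoped Matrix

variable {F : Type*} [Field F] {m : ℕ}

local notation "MM" => Matrix (Fin m ⊕ Fin m) (Fin m ⊕ Fin m) F

/-- The adjoint for the standard symplectic form. -/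
def spAdj (M : Matrix (Fin m ⊕ Fin m) (Fin m ⊕ Fin m) F) : Matrix (Fin m ⊕ Fin m) (Fin m ⊕ Fin m) F :=
  -(Matrix.J (Fin m) F) * Mᵀ * Matrix.J (Fin m) F

theorem negJ_mul_J : -(Matrix.J (Fin m) F) * Matrix.J (Fin m) F = (1 : MM) := by
  rw [neg_mul, Matrix.J_squared, neg_neg]

theorem J_mul_negJ : Matrix.J (Fin m) F * -(Matrix.J (Fin m) F) = (1 : MM) := by
  rw [mul_neg, Matrix.J_squared, neg_neg]

theorem spAdj_mul (A B : MM) : spAdj (A * B) = spAdj B * spAdj A := by
  unfold spAdj
  rw [Matrix.transpose_mul]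
  calc -(Matrix.J (Fin m) F) * (Bᵀ * Aᵀ) * Matrix.J (Fin m) F
      = -(Matrix.J (Fin m) F) * Bᵀ * (Matrix.J (Fin m) F * -(Matrix.J (Fin m) F)) * Aᵀ * Matrix.J (Fin m) F := by
        rw [J_mul_negJ]; simp only [mul_one, mul_assoc]
    _ = _ := by simp only [mul_assoc]

theorem spAdj_spAdj (A : MM) : spAdj (spAdj A) = A := by
  unfold spAdj
  rw [Matrix.transpose_mul, Matrix.transpose_mul, Matrix.transpose_neg, Matrix.J_transpose, Matrix.transpose_transpose]
  simp only [neg_neg, mul_assoc, neg_mul, mul_neg, Matrix.J_squared, ← mul_assoc, Matrix.J_squared, one_mul,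
    mul_one]
  rw [mul_assoc, Matrix.J_squared, mul_neg, mul_one, neg_neg]

theorem spAdj_one : spAdj (1 : MM) = 1 := by
  rw [spAdj, Matrix.transpose_one, mul_one, negJ_mul_J]

theorem spAdj_add (A B : MM) : spAdj (A + B) = spAdj A + spAdj B := by
  simp only [spAdj, Matrix.transpose_add, mul_add, add_mul]

theorem spAdj_smul (a : F) (A : MM) : spAdj (a • A) = a • spAdj A := by
  simp only [spAdj, Matrix.transpose_smul, Matrix.mul_smul, Matrix.smul_mul]

/-- The adjoint of a unit. -/
def spStar (u : MMˣ) : MMˣ where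
  val := spAdj (u : MM)
  inv := spAdj ((u⁻¹ : MMˣ) : MM)
  val_inv := by rw [← spAdj_mul, Units.inv_mul, spAdj_one]
  inv_val := by rw [← spAdj_mul, Units.mul_inv, spAdj_one]

theorem spStar_mul (a b : MMˣ) : spStar (a * b) = spStar b * spStar a := Units.ext (spAdj_mul _ _)

theorem spStar_spStar (a : MMˣ) : spStar (spStar a) = a := Units.ext (spAdj_spAdj _)

/-- `Sp` inside the units of the matrix ring. -/
def spUnits (m : ℕ) (F : Type*) [Field F] :
    Matrix.symplecticGroup (Fin m) F →* (Matrix (Fin m ⊕ Fin m) (Fin m ⊕ Fin m) F)ˣ :=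
  (Matrix.symplecticGroup (Fin m) F).subtype.toHomUnits

theorem spUnits_injective : Function.Injective (spUnits m F) := fun _ _ h =>
  Subtype.ext (congrArg Units.val h)

theorem mem_range_spUnits (w : MMˣ) : w ∈ Set.range (spUnits m F) ↔ spStar w * w = 1 := by
  rw [Units.ext_iff]
  show _ ↔ spAdj (w : MM) * (w : MM) = 1
  constructor
  · rintro ⟨g, rfl⟩
    have h := SymplecticGroup.mem_iff'.1 g.2
    show -(Matrix.J (Fin m) F) * (g : MM)ᵀ * Matrix.J (Fin m) F * (g : MM) = 1
    simp only [mul_assoc] at h ⊢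
    rw [h, negJ_mul_J]
  · intro h
    refine ⟨⟨w, SymplecticGroup.mem_iff'.2 ?_⟩, Units.ext rfl⟩
    calc (w : MM)ᵀ * Matrix.J (Fin m) F * (w : MM)
        = (Matrix.J (Fin m) F * -(Matrix.J (Fin m) F)) * ((w : MM)ᵀ * Matrix.J (Fin m) F * (w : MM)) := by
          rw [J_mul_negJ, one_mul]
      _ = Matrix.J (Fin m) F * (spAdj (w : MM) * (w : MM)) := by simp only [spAdj, mul_assoc]
      _ = _ := by rw [h, mul_one]

/-- Every fixed unit is `g⋆ g` (odd characteristic). -/
theorem exists_spStar_mul_self (h2 : (2 : F) ≠ 0) (c : MMˣ) (hc : spStar c = c) :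
    ∃ w : MMˣ, spStar w * w = c := by
  set K := Matrix.J (Fin m) F * (c : MM) with hK
  have hc' : spAdj (c : MM) = c := congrArg Units.val hc
  have hct : (c : MM)ᵀ * Matrix.J (Fin m) F = K := by
    rw [hK]
    conv_rhs => rw [← hc', spAdj, ← mul_assoc, ← mul_assoc, J_mul_negJ, one_mul]
  have hKt : Kᵀ = -K := by
    rw [hK, Matrix.transpose_mul, Matrix.J_transpose, mul_neg, hct]
  have halt : (Matrix.toBilin' K).IsAlt := fun v => by
    have h : Matrix.toBilin' K v v = - Matrix.toBilin' K v v := by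
      conv_lhs => rw [Matrix.toBilin'_apply', Matrix.dotProduct_mulVec, ← Matrix.mulVec_transpose, dotProduct_comm,
        hKt, Matrix.neg_mulVec, dotProduct_neg, ← Matrix.toBilin'_apply']
    rw [eq_neg_iff_add_eq_zero, ← two_mul] at h
    exact (mul_eq_zero.1 h).resolve_left h2
  have hnd : (Matrix.toBilin' K).Nondegenerate :=
    LinearMap.BilinForm.nondegenerate_toBilin'_of_det_ne_zero' _ (by
      rw [hK, Matrix.det_mul]
      exact mul_ne_zero (Symp.det_J_ne_zero m F) (((Matrix.isUnit_iff_isUnit_det _).1 c.isUnit).ne_zero))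
  obtain ⟨f, hf⟩ := Symp.exists_isometry halt hnd (Symp.sympBil_isAlt m F) (Symp.sympBil_nondegenerate m F) rfl
  set G := LinearMap.toMatrix' (f : (Fin m ⊕ Fin m → F) →ₗ[F] (Fin m ⊕ Fin m → F)) with hG
  have hGK : Gᵀ * Matrix.J (Fin m) F * G = K := by
    refine Matrix.toBilin'.injective (LinearMap.ext fun u => LinearMap.ext fun v => ?_)
    rw [Matrix.toBilin'_apply', ← Matrix.mulVec_mulVec, ← Matrix.mulVec_mulVec, Matrix.dotProduct_mulVec u,
      Matrix.vecMul_transpose, hG, LinearMap.toMatrix'_mulVec, LinearMap.toMatrix'_mulVec, ← hf,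
      Symp.sympBil, Matrix.toBilin'_apply']
    rfl
  have hmul : spAdj G * G = (c : MM) := by
    calc spAdj G * G = -(Matrix.J (Fin m) F) * (Gᵀ * Matrix.J (Fin m) F * G) := by simp only [spAdj, mul_assoc]
      _ = _ := by rw [hGK, hK, ← mul_assoc, negJ_mul_J, one_mul]
  have hu : IsUnit G := IsUnit.of_mul_eq_one_right ((c⁻¹ : MMˣ) * spAdj G : MM) (by rw [mul_assoc, hmul, Units.inv_mul])
  exact ⟨hu.unit, Units.ext hmul⟩

section Regular

variable [Fintype F] (h2 : (2 : F) ≠ 0) (hm : 1 ≤ m) (u : Matrix.symplecticGroup (Fin m) F)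
  (hnil : ((u : Matrix (Fin m ⊕ Fin m) (Fin m ⊕ Fin m) F) - 1) ^ (2 * m) = 0)
  (hreg : ((u : Matrix (Fin m ⊕ Fin m) (Fin m ⊕ Fin m) F) - 1).rank = 2 * m - 1)

/-- The skew regular nilpotent attached to `u`. -/
def skewPart (u : Matrix.symplecticGroup (Fin m) F) : MM :=
  (u : MM) - ((u⁻¹ : Matrix.symplecticGroup (Fin m) F) : MM)

omit [Fintype F] in
include hm hnil hreg in
theorem sub_one_pow_ne : ((u : MM) - 1) ^ (2 * m - 1) ≠ 0 := by
  intro h
  set T := Matrix.toLinAlgEquiv' ((u : MM) - 1)
  have hk := LinearMap.finrank_range_add_finrank_ker T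
  have hr : Module.finrank F (LinearMap.range T) = 2 * m - 1 := hreg
  have hfin : Module.finrank F (Fin m ⊕ Fin m → F) = 2 * m := Symp.finrank_sympSpace m F
  have := Known.UnipotentCentralizer.finrank_range_pow_ge T (by omega) (2 * m - 1)
  rw [← map_pow, h, map_zero, LinearMap.range_zero, finrank_bot] at this
  omega

omit [Fintype F] in
theorem coe_mul_inv : (u : MM) * ((u⁻¹ : Matrix.symplecticGroup (Fin m) F) : MM) = 1 :=
  congrArg Subtype.val (mul_inv_cancel u)

omit [Fintype F] in
theorem coe_inv_mul : ((u⁻¹ : Matrix.symplecticGroup (Fin m) F) : MM) * (u : MM) = 1 :=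
  congrArg Subtype.val (inv_mul_cancel u)

omit [Fintype F] in
theorem commute_skewPart : Commute (u : MM) (skewPart u) :=
  (Commute.refl _).sub_right ((coe_mul_inv u).trans (coe_inv_mul u).symm)

omit [Fintype F] in
include h2 hm hnil hreg in
theorem skewPart_regular : skewPart u ^ (2 * m) = 0 ∧ skewPart u ^ (2 * m - 1) ≠ 0 := by
  set N := (u : MM) - 1 with hN
  set v := ((u⁻¹ : Matrix.symplecticGroup (Fin m) F) : MM)
  have hv : IsUnit v := ⟨⟨v, (u : MM), coe_inv_mul u, coe_mul_inv u⟩, rfl⟩
  have h2u : IsUnit (2 : MM) := by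
    have := (IsUnit.mk0 (2 : F) h2).map (algebraMap F MM)
    rwa [map_ofNat] at this
  have hu2 : IsUnit (N + 2) := IsNilpotent.isUnit_add_right_of_commute ⟨2 * m, hnil⟩ h2u (Nat.cast_commute 2 _).symm
  have hd : skewPart u = N * ((N + 2) * v) := by
    show (u : MM) - v = N * ((N + 2) * v)
    rw [← mul_assoc, show N * (N + 2) = (u : MM) * (u : MM) - 1 by rw [hN]; noncomm_ring, sub_mul, one_mul,
      mul_assoc, coe_mul_inv, mul_one]
  have hNv : Commute N v := Commute.sub_left ((coe_mul_inv u).trans (coe_inv_mul u).symm) (Commute.one_left _)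
  have hc : Commute N ((N + 2) * v) := ((Commute.refl N).add_right (Nat.cast_commute 2 _).symm).mul_right hNv
  refine ⟨by rw [hd, hc.mul_pow, hnil, zero_mul], fun h => sub_one_pow_ne hm u hnil hreg ?_⟩
  rw [hd, hc.mul_pow] at h
  exact ((hu2.mul hv).pow _).mul_left_eq_zero.1 h

omit [Fintype F] in
theorem spAdj_coe : spAdj (u : MM) = ((u⁻¹ : Matrix.symplecticGroup (Fin m) F) : MM) :=
  left_inv_eq_right_inv (congrArg Units.val ((mem_range_spUnits (spUnits m F u)).1 ⟨u, rfl⟩)) (coe_mul_inv u)

omit [Fintype F] in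
theorem spAdj_skewPart : spAdj (skewPart u) = -skewPart u := by
  have h1 : spAdj ((u⁻¹ : Matrix.symplecticGroup (Fin m) F) : MM) = (u : MM) := by rw [spAdj_coe, inv_inv]
  have h2 := spAdj_add (skewPart u) ((u⁻¹ : Matrix.symplecticGroup (Fin m) F) : MM)
  rw [show skewPart u + ((u⁻¹ : Matrix.symplecticGroup (Fin m) F) : MM) = (u : MM) from sub_add_cancel _ _,
    spAdj_coe, h1] at h2
  rw [eq_sub_of_add_eq h2.symm]
  exact (neg_sub _ _).symm

omit [Fintype F] in
theorem spAdj_polyIn (c : Fin (2 * m) → F) :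
    spAdj (polyIn (skewPart u) c) = polyIn (skewPart u) (fun i => (-1) ^ (i : ℕ) * c i) := by
  have hpow : ∀ i : ℕ, spAdj (skewPart u ^ i) = (-1 : F) ^ i • skewPart u ^ i := by
    intro i
    induction i with
    | zero => simp [spAdj_one]
    | succ i ih =>
      rw [pow_succ, spAdj_mul, ih, spAdj_skewPart, Matrix.mul_smul, neg_mul, ← pow_succ', smul_neg,
        pow_succ (-1 : F), mul_neg_one, neg_smul, ← pow_succ]
  unfold polyIn
  have hsum : ∀ (t : Finset (Fin (2 * m))) (g : Fin (2 * m) → MM), spAdj (∑ i ∈ t, g i) = ∑ i ∈ t, spAdj (g i) := by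
    intro t g
    induction t using Finset.induction_on with
    | empty => simp [spAdj]
    | insert a t ha ih => rw [Finset.sum_insert ha, Finset.sum_insert ha, spAdj_add, ih]
  rw [hsum]
  refine Finset.sum_congr rfl fun i _ => ?_
  rw [spAdj_smul, hpow, smul_smul, mul_comm]

omit [Fintype F] in
include h2 hm hnil hreg in
theorem mem_centralizer_iff (g : MMˣ) :
    g ∈ Subgroup.centralizer ({spUnits m F u} : Set MMˣ) ↔ Commute (g : MM) (skewPart u) := by
  rw [Subgroup.mem_centralizer_singleton_iff, Units.ext_iff]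
  show (g : MM) * (u : MM) = (u : MM) * (g : MM) ↔ _
  obtain ⟨hd, hd'⟩ := skewPart_regular h2 hm u hnil hreg
  constructor
  · intro h
    refine Commute.sub_right h ?_
    show (g : MM) * _ = _ * (g : MM)
    calc (g : MM) * ((u⁻¹ : Matrix.symplecticGroup (Fin m) F) : MM)
        = ((u⁻¹ : Matrix.symplecticGroup (Fin m) F) : MM) * ((u : MM) * (g : MM)) *
            ((u⁻¹ : Matrix.symplecticGroup (Fin m) F) : MM) := by
          rw [← mul_assoc _ (u : MM), coe_inv_mul, one_mul]
      _ = _ := by rw [← h, mul_assoc, mul_assoc, coe_mul_inv, mul_one]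
  · intro h
    exact (commute_of_commute (skewPart u) hd hd' (by simp [two_mul]) h (commute_skewPart u)).eq

omit [Fintype F] in
include h2 hm hnil hreg in
theorem centralizer_comm : ∀ a ∈ Subgroup.centralizer ({spUnits m F u} : Set MMˣ),
    ∀ b ∈ Subgroup.centralizer ({spUnits m F u} : Set MMˣ), a * b = b * a := by
  intro a ha b hb
  rw [mem_centralizer_iff h2 hm u hnil hreg] at ha hb
  obtain ⟨hd, hd'⟩ := skewPart_regular h2 hm u hnil hreg
  exact Units.ext (commute_of_commute (skewPart u) hd hd' (by simp [two_mul]) ha hb)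

omit [Fintype F] in
theorem spStar_spUnits : spStar (spUnits m F u) * spUnits m F u = 1 :=
  (mem_range_spUnits _).1 ⟨u, rfl⟩

include h2 hm hnil hreg in
/-- The three counts of the centralizer. -/
theorem regular_counts :
    Nat.card (Subgroup.centralizer ({spUnits m F u} : Set MMˣ)) =
      (Fintype.card F - 1) * Fintype.card F ^ (2 * m - 1) ∧
    Nat.card (symSubgroup spStar spStar_mul (centralizer_comm h2 hm u hnil hreg)) =
      (Fintype.card F - 1) * Fintype.card F ^ (m - 1) ∧
    2 * Nat.card (normHom spStar spStar_mul spStar_spStar (spStar_spUnits u) (centralizer_comm h2 hm u hnil hreg)).range =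
      Nat.card (symSubgroup spStar spStar_mul (centralizer_comm h2 hm u hnil hreg)) := by
  classical
  obtain ⟨hd, hd'⟩ := skewPart_regular h2 hm u hnil hreg
  set δ := skewPart u
  have hn : 0 < 2 * m := by omega
  have hcard : (2 * m) = Fintype.card (Fin m ⊕ Fin m) := by simp [two_mul]
  obtain ⟨hinj, hsur⟩ := polyIn_bijective δ hd hd' hcard
  set C := Subgroup.centralizer ({spUnits m F u} : Set MMˣ)
  have hmem := mem_centralizer_iff h2 hm u hnil hreg
  let z : Fin (2 * m) := ⟨0, hn⟩
  choose coef hcoef using fun g : C => hsur ((g : MMˣ) : MM) ((hmem g).1 g.2)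
  have hcoef0 : ∀ g : C, coef g z ≠ 0 := fun g =>
    (isUnit_polyIn_iff δ hn hd' hd (coef g)).1 (hcoef g ▸ (g : MMˣ).isUnit)
  have hunit : ∀ c : Fin (2 * m) → F, c z ≠ 0 → ∃ g : C, coef g = c := fun c hc => by
    obtain ⟨g, hg⟩ := (isUnit_polyIn_iff δ hn hd' hd c).2 hc
    refine ⟨⟨g, (hmem g).2 (hg ▸ (commute_polyIn δ (Commute.refl δ) c).symm)⟩, hinj ?_⟩
    rw [hcoef]
    exact hg
  have coef_inj : Function.Injective coef := fun g g' h =>
    Subtype.ext (Units.ext (by rw [← hcoef g, ← hcoef g', h]))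
  have hC : Nat.card C = (Fintype.card F - 1) * Fintype.card F ^ (2 * m - 1) := by
    rw [Nat.card_congr (Equiv.ofBijective (fun g : C => (⟨coef g, hcoef0 g⟩ : {c : Fin (2 * m) → F // c z ≠ 0}))
      ⟨fun g g' h => coef_inj (congrArg Subtype.val h), fun c => by
        obtain ⟨g, hg⟩ := hunit c.1 c.2
        exact ⟨g, Subtype.ext hg⟩⟩), card_ne_zero_head hn, Nat.card_eq_fintype_card]
  set S := symSubgroup spStar spStar_mul (centralizer_comm h2 hm u hnil hreg)
  have hsym : ∀ g : C, spStar (g : MMˣ) = g ↔ ∀ i : Fin (2 * m), Odd (i : ℕ) → coef g i = 0 := by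
    intro g
    rw [Units.ext_iff]
    show spAdj ((g : MMˣ) : MM) = _ ↔ _
    rw [← hcoef g, spAdj_polyIn, hinj.eq_iff]
    constructor
    · intro h i hi
      have := congrFun h i
      rw [hi.neg_one_pow, neg_one_mul, eq_comm, eq_neg_iff_add_eq_zero, ← two_mul] at this
      exact (mul_eq_zero.1 this).resolve_left h2
    · intro h
      funext i
      rcases Nat.even_or_odd (i : ℕ) with hi | hi
      · rw [hi.neg_one_pow, one_mul]
      · rw [h i hi, mul_zero]
  let toC : S → C := fun s => ⟨s, s.2.1⟩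
  have hS : Nat.card S = (Fintype.card F - 1) * Fintype.card F ^ (m - 1) := by
    let f : S → {d : Fin m → F // d ⟨0, hm⟩ ≠ 0} := fun s =>
      ⟨fun i => coef (toC s) ⟨2 * (i : ℕ), by omega⟩, hcoef0 (toC s)⟩
    rw [Nat.card_congr (Equiv.ofBijective f ⟨fun s s' h => ?_, fun d => ?_⟩), card_ne_zero_head,
      Nat.card_eq_fintype_card]
    · suffices hh : coef (toC s) = coef (toC s') from
        Subtype.ext (congrArg (fun g : C => (g : MMˣ)) (coef_inj hh))
      funext i
      rcases Nat.even_or_odd (i : ℕ) with hi | hi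
      · obtain ⟨j, hj⟩ := hi
        have := congrFun (congrArg Subtype.val h) ⟨j, by omega⟩
        rwa [show i = ⟨2 * ((⟨j, by omega⟩ : Fin m) : ℕ), by omega⟩ from Fin.ext (by simp only; omega)]
      · rw [(hsym _).1 s.2.2 i hi, (hsym _).1 s'.2.2 i hi]
    · let c : Fin (2 * m) → F := fun i => if Even (i : ℕ) then d.1 ⟨(i : ℕ) / 2, by omega⟩ else 0
      have hc0 : c z ≠ 0 := by
        show (if Even 0 then _ else _) ≠ 0
        rw [if_pos Even.zero]
        convert d.2 using 3
        exact Nat.zero_div 2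
      obtain ⟨g, hg⟩ := hunit c hc0
      refine ⟨⟨g, g.2, (hsym g).2 fun i hi => ?_⟩, Subtype.ext (funext fun i => ?_)⟩
      · rw [hg]; exact if_neg (Nat.not_even_iff_odd.2 hi)
      · show coef g _ = _
        rw [hg]
        show (if Even (2 * (i : ℕ)) then _ else _) = _
        rw [if_pos (even_two_mul _)]
        exact congrArg d.1 (Fin.ext (by show 2 * (i : ℕ) / 2 = i; omega))
  refine ⟨hC, hS, ?_⟩
  -- the leading coefficient is a character
  obtain ⟨v0, hv0, hδv⟩ := exists_kernel_vector δ hn hd' hd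
  have hact : ∀ g : C, ((g : MMˣ) : MM) *ᵥ v0 = coef g z • v0 := fun g => by
    rw [← hcoef g]; exact polyIn_mulVec δ hn hδv _
  have hchar : ∀ (g : C) (a : F), ((g : MMˣ) : MM) *ᵥ v0 = a • v0 → coef g z = a := fun g a h =>
    smul_left_injective F hv0 ((hact g).symm.trans h)
  let χ : C →* Fˣ :=
    { toFun := fun g => Units.mk0 (coef g z) (hcoef0 g)
      map_one' := Units.ext (hchar 1 1 (by simp))
      map_mul' := fun a b => Units.ext (hchar (a * b) _ (by
        show (((a : MMˣ) : MM) * ((b : MMˣ) : MM)) *ᵥ v0 = _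
        rw [← Matrix.mulVec_mulVec, hact, Matrix.mulVec_smul, hact, smul_smul, mul_comm]
        rfl)) }
  let ι' : S →* C := Subgroup.inclusion (fun s hs => hs.1)
  have hscalar : ∀ a : Fˣ, ∃ s : S, χ (ι' s) = a := fun a => by
    obtain ⟨g, hg⟩ := hunit (fun i => if i = z then (a : F) else 0) (by simp)
    refine ⟨⟨g, g.2, (hsym g).2 fun i hi => ?_⟩, Units.ext ?_⟩
    · rw [hg]
      exact if_neg fun e => by rw [e] at hi; exact Nat.not_odd_zero hi
    · show coef g z = a
      rw [hg]
      exact if_pos rfl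
  set φ := normHom spStar spStar_mul spStar_spStar (spStar_spUnits u) (centralizer_comm h2 hm u hnil hreg)
  set Q : Subgroup Fˣ := (powMonoidHom 2 : Fˣ →* Fˣ).range
  have hstar : ∀ g : C, ∀ g' : C, (g' : MMˣ) = spStar g → χ g' = χ g := by
    intro g g' h
    refine Units.ext (hchar g' _ ?_)
    rw [h]
    show spAdj ((g : MMˣ) : MM) *ᵥ v0 = _
    rw [← hcoef g, spAdj_polyIn, polyIn_mulVec δ hn hδv]
    simp [χ, z]
  have hrange : φ.range.subgroupOf S = Q.comap (χ.comp ι') := by
    obtain ⟨p, hp⟩ := CharP.exists F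
    haveI : Fact p.Prime := ⟨CharP.char_is_prime F p⟩
    ext s
    rw [Subgroup.mem_subgroupOf, Subgroup.mem_comap]
    constructor
    · rintro ⟨g, hg⟩
      let g' : C := ⟨spStar g, centralizer_stable spStar spStar_mul spStar_spStar (spStar_spUnits u) g.2⟩
      refine ⟨χ g, ?_⟩
      show χ g ^ 2 = χ (ι' s)
      have : ι' s = g' * g := Subtype.ext hg.symm
      rw [this, map_mul, hstar g g' rfl, pow_two]
    · rintro ⟨a, ha⟩
      replace ha : χ (ι' s) = a ^ 2 := ha.symm
      obtain ⟨t, ht⟩ := hscalar a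
      -- `s / t²` is unipotent, hence of odd order
      set w : S := (t * t)⁻¹ * s with hw
      have hw1 : χ (ι' w) = 1 := by
        rw [hw, map_mul, map_inv, map_mul, map_mul, map_inv, map_mul, ht, ha, pow_two, inv_mul_cancel]
      have hwn : IsNilpotent (((w : MMˣ) : MM) - 1) := by
        have h := isNilpotent_polyIn_sub δ hn hd (coef (ι' w))
        rw [hcoef, show coef (ι' w) ⟨0, hn⟩ = 1 from congrArg Units.val hw1, one_smul] at h
        exact h
      obtain ⟨e, he⟩ := hwn
      have hp2 : p ≠ 2 := by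
        rintro rfl
        exact h2 (CharP.cast_eq_zero F 2)
      have hwp : w ^ (p ^ e) = 1 := by
        refine Subtype.ext (Units.ext ?_)
        rw [Subgroup.coe_pow, Units.val_pow_eq_pow_val, Subgroup.coe_one, Units.val_one, ← sub_eq_zero]
        haveI : Nonempty (Fin m ⊕ Fin m) := ⟨Sum.inl ⟨0, hm⟩⟩
        rw [← one_pow (p ^ e) (M := MM), ← sub_pow_char_pow_of_commute p e (Commute.one_right _)]
        exact pow_eq_zero_of_le (Nat.lt_pow_self (Fact.out : p.Prime).one_lt).le he
      obtain ⟨r, hr⟩ : Odd (p ^ e) := (Nat.Prime.odd_of_ne_two Fact.out hp2).pow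
      set d := t * w ^ (r + 1) with hdd
      refine ⟨ι' d, ?_⟩
      show spStar (d : MMˣ) * (d : MMˣ) = (s : MMˣ)
      rw [d.2.2, ← Subgroup.coe_mul]
      congr 1
      have hcomm : ∀ a b : S, a * b = b * a := fun a b =>
        Subtype.ext (centralizer_comm h2 hm u hnil hreg _ a.2.1 _ b.2.1)
      have e3 : w ^ (r + 1) * w ^ (r + 1) = w := by
        rw [← pow_add, show r + 1 + (r + 1) = p ^ e + 1 by omega, pow_succ, hwp, one_mul]
      calc d * d = t * (w ^ (r + 1) * t) * w ^ (r + 1) := by rw [hdd]; group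
        _ = t * t * (w ^ (r + 1) * w ^ (r + 1)) := by rw [hcomm (w ^ (r + 1)) t]; group
        _ = s := by rw [e3, hw, mul_inv_cancel_left]
  have hidx : (φ.range.subgroupOf S).index = 2 := by
    rw [hrange, Subgroup.index_comap_of_surjective _ (show Function.Surjective (χ.comp ι') from hscalar),
      Known.ClassSplit.index_range_pow, Nat.card_eq_fintype_card, Fintype.card_units]
    have hodd : Odd (Fintype.card F) := by
      rw [Nat.odd_iff]
      exact FiniteField.odd_card_of_char_ne_two fun h => h2 (by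
        haveI := (ringChar.eq_iff (R := F)).1 h
        exact CharP.cast_eq_zero F 2)
    obtain ⟨k, hk⟩ := hodd
    simp [hk]
  have h := Subgroup.card_mul_index (φ.range.subgroupOf S)
  rw [hidx, Nat.card_congr (Subgroup.subgroupOfEquivOfLe (range_normHom_le spStar spStar_mul spStar_spStar
    (spStar_spUnits u) (centralizer_comm h2 hm u hnil hreg))).toEquiv] at h
  rw [mul_comm]
  exact h

include h2 hm hnil hreg in
/-- The centralizer of a regular unipotent element of `Sp`. -/
theorem regular_centralizer_card :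
    Nat.card ↥(Subgroup.centralizer ({u} : Set ↥(Matrix.symplecticGroup (Fin m) F))) = 2 * Fintype.card F ^ m := by
  obtain ⟨hC, hS, hN⟩ := regular_counts h2 hm u hnil hreg
  have h := card_centralizer_twisted spStar spStar_mul spStar_spStar (spStar_spUnits u)
    (centralizer_comm h2 hm u hnil hreg) (spUnits m F) spUnits_injective mem_range_spUnits u rfl
  set R := Nat.card (normHom spStar spStar_mul spStar_spStar (spStar_spUnits u) (centralizer_comm h2 hm u hnil hreg)).range
  have hR : 0 < R := Nat.card_pos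
  refine Nat.eq_of_mul_eq_mul_right hR ?_
  rw [h, hC, show 2 * Fintype.card F ^ m * R = Fintype.card F ^ m * (2 * R) by ring, hN, hS]
  rw [show 2 * m - 1 = m + (m - 1) by omega, pow_add]
  ring

end Regular

/-- There are two classes of regular unipotent elements of `Sp`. -/
theorem regular_class_count [Fintype F] (h2 : (2 : F) ≠ 0) (hm : 1 ≤ m) :
    Nat.card {C : ConjClasses ↥(Matrix.symplecticGroup (Fin m) F) // ∃ u : Matrix.symplecticGroup (Fin m) F,
      ConjClasses.mk u = C ∧ ((u : MM) - 1) ^ (2 * m) = 0 ∧ ((u : MM) - 1).rank = 2 * m - 1} = 2 := by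
  classical
  obtain ⟨e, A, hA⟩ := (sp_type_iff (F := F) (m := m) (fun _ : Fin 1 => 2 * m) (fun _ => by omega) (by simp)).2
    (fun j hj => by
      rw [Finset.filter_false_of_mem fun k _ => fun h : 2 * m = j => by
        subst h; exact Nat.not_even_iff_odd.2 hj (even_two_mul m), Finset.card_empty]
      exact Even.zero)
  have hprof : ∀ k, (((A : MM) - 1) ^ k).rank = 2 * m - k := fun k => by
    rw [← rank_of_isConj hA k, rank_reindex_jordanType, prof_sizes]
    simp
  have hnil : ((A : MM) - 1) ^ (2 * m) = 0 := by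
    have h := hprof (2 * m)
    rw [Nat.sub_self] at h
    exact Matrix.toLin'.injective (by
      rw [map_zero]; exact LinearMap.range_eq_bot.1 (Submodule.finrank_eq_zero.1 h))
  have hreg : ((A : MM) - 1).rank = 2 * m - 1 := by simpa using hprof 1
  have hiff : ∀ u : Matrix.symplecticGroup (Fin m) F,
      (((u : MM) - 1) ^ (2 * m) = 0 ∧ ((u : MM) - 1).rank = 2 * m - 1) ↔ IsConj (spUnits m F A) (spUnits m F u) := by
    intro u
    constructor
    · rintro ⟨h1, h1'⟩
      obtain ⟨c, hc⟩ := isConj_of_profile (μ := ({2 * m} : Multiset ℕ)) (M := (A : MM)) (N := (u : MM))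
        (fun k => by rw [hprof]; simp [Known.Jordan.prof]) (fun k => by
          obtain ⟨μ, hpos, hsum, hp⟩ := Known.Jordan.exists_blocks (2 * m) (Matrix.toLinAlgEquiv' (u : MM) - 1)
            ⟨2 * m, by rw [← map_one (Matrix.toLinAlgEquiv' (R := F) (n := Fin m ⊕ Fin m)), ← map_sub, ← map_pow, h1, map_zero]⟩
            (Symp.finrank_sympSpace m F)
          rw [rank_sub_one_pow, hp]
          congr 1
          have e1 : Known.Jordan.prof μ 1 = 2 * m - 1 := by rw [← hp, ← rank_sub_one_pow, pow_one, h1']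
          have e0 := Known.Jordan.prof_eq_succ_add μ 0
          rw [Known.Jordan.prof_zero_arg, hsum, zero_add, e1, Multiset.countP_eq_card.2 hpos] at e0
          obtain ⟨a, rfl⟩ := Multiset.card_eq_one.1 (show Multiset.card μ = 1 by omega)
          rw [Multiset.sum_singleton] at hsum
          rw [hsum])
      exact isConj_iff.2 ⟨c, mul_inv_eq_iff_eq_mul.2 (Units.ext hc.eq)⟩
    · intro h
      have h' : IsConj (A : MM) (u : MM) := MonoidHom.map_isConj (Units.coeHom MM) h
      refine ⟨?_, ?_⟩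
      · have h0 := rank_of_isConj h' (2 * m)
        rw [hprof, Nat.sub_self] at h0
        exact Matrix.toLin'.injective (by
          rw [map_zero]; exact LinearMap.range_eq_bot.1 (Submodule.finrank_eq_zero.1 h0.symm))
      · have h0 := rank_of_isConj h' 1
        rw [hprof, pow_one] at h0
        exact h0.symm
  obtain ⟨hC, hS, hN⟩ := regular_counts h2 hm A hnil hreg
  have h := card_classes_twisted spStar spStar_mul spStar_spStar (spStar_spUnits A)
    (centralizer_comm h2 hm A hnil hreg) (spUnits m F) spUnits_injective mem_range_spUnits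
    (fun c hc => exists_spStar_mul_self h2 c hc.2)
  rw [← hN] at h
  refine Eq.trans ?_ (Nat.eq_of_mul_eq_mul_right Nat.card_pos h)
  exact Nat.card_congr (Equiv.subtypeEquivRight fun C =>
    exists_congr fun u => and_congr_right fun _ => hiff u)

end CfsgLib.Classical.ClassTheory
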