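import Mathlib

/-!
# Conjugate self-reciprocal polynomials
-/

set_option autoImplicit false

open Polynomial

namespace CfsgLib.Classical.ClassTheory

variable {K : Type*} [Field K] (σ : K →+* K)

/-- The monic polynomial with roots `(σ a)⁻¹`. -/
noncomputable def dualPoly (f : K[X]) : K[X] := C (σ (f.coeff 0))⁻¹ * (f.map σ).reverse

theorem dualPoly_mul (f g : K[X]) : dualPoly σ (f * g) = dualPoly σ f * dualPoly σ g := by
  simp only [dualPoly, mul_coeff_zero, map_mul, Polynomial.map_mul, reverse_mul_of_domain, mul_inv, C_mul]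
  ring

theorem dualPoly_one : dualPoly σ (1 : K[X]) = 1 := by
  rw [dualPoly, Polynomial.map_one, show (1 : K[X]) = C 1 from C_1.symm, reverse_C, coeff_C_zero, map_one,
    inv_one, C_1, one_mul]

theorem coeff_dualPoly (f : K[X]) (k : ℕ) :
    (dualPoly σ f).coeff k = (σ (f.coeff 0))⁻¹ * σ (f.coeff (revAt f.natDegree k)) := by
  rw [dualPoly, coeff_C_mul, coeff_reverse, natDegree_map_eq_of_injective σ.injective, coeff_map]

theorem natDegree_dualPoly {f : K[X]} (h0 : f.coeff 0 ≠ 0) : (dualPoly σ f).natDegree = f.natDegree := by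
  have hf : f ≠ 0 := fun h => h0 (by rw [h, coeff_zero])
  have h0' : σ (f.coeff 0) ≠ 0 := (map_ne_zero σ).2 h0
  rw [dualPoly, natDegree_C_mul (inv_ne_zero h0'), reverse_natDegree,
    natDegree_map_eq_of_injective σ.injective,
    natTrailingDegree_eq_zero.2 (Or.inr (by rwa [coeff_map])), Nat.sub_zero]

theorem monic_dualPoly {f : K[X]} (h0 : f.coeff 0 ≠ 0) : (dualPoly σ f).Monic := by
  rw [Monic, leadingCoeff, natDegree_dualPoly σ h0, coeff_dualPoly, revAt_le (le_refl _), Nat.sub_self,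
    inv_mul_cancel₀ ((map_ne_zero σ).2 h0)]

theorem dualPoly_coeff_zero {f : K[X]} (hf : f.Monic) :
    (dualPoly σ f).coeff 0 = (σ (f.coeff 0))⁻¹ := by
  rw [coeff_dualPoly, revAt_le (Nat.zero_le _), Nat.sub_zero, hf.coeff_natDegree, map_one, mul_one]

theorem dualPoly_dualPoly (hσ : ∀ a, σ (σ a) = a) {f : K[X]} (hf : f.Monic) (h0 : f.coeff 0 ≠ 0) :
    dualPoly σ (dualPoly σ f) = f := by
  ext k
  have hu : σ (f.coeff 0) ≠ 0 := (map_ne_zero σ).2 h0
  rw [coeff_dualPoly σ (dualPoly σ f), natDegree_dualPoly σ h0, dualPoly_coeff_zero σ hf, map_inv₀, hσ, inv_inv,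
    coeff_dualPoly, revAt_invol, map_mul, map_inv₀, hσ, hσ]
  rw [← mul_assoc, mul_inv_cancel₀ h0, one_mul]

theorem irreducible_dualPoly (hσ : ∀ a, σ (σ a) = a) {f : K[X]} (hf : f.Monic) (hi : Irreducible f)
    (h0 : f.coeff 0 ≠ 0) : Irreducible (dualPoly σ f) := by
  have hd : (dualPoly σ f).natDegree = f.natDegree := natDegree_dualPoly σ h0
  refine ((monic_dualPoly σ h0).irreducible_iff_natDegree).2 ⟨fun h => ?_, fun a b ha hb hab => ?_⟩
  · rw [h, natDegree_one] at hd
    exact absurd hd.symm (Nat.pos_iff_ne_zero.1 hi.natDegree_pos)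
  have h00 : (a * b).coeff 0 ≠ 0 := by
    rw [hab, dualPoly_coeff_zero σ hf]
    exact inv_ne_zero ((map_ne_zero σ).2 h0)
  rw [mul_coeff_zero] at h00
  have ha0 := left_ne_zero_of_mul h00
  have hb0 := right_ne_zero_of_mul h00
  have e : dualPoly σ a * dualPoly σ b = f := by rw [← dualPoly_mul, hab, dualPoly_dualPoly σ hσ hf h0]
  rcases hi.isUnit_or_isUnit e.symm with h | h
  · left
    rw [← natDegree_dualPoly σ ha0]
    exact natDegree_eq_zero_of_isUnit h
  · right
    rw [← natDegree_dualPoly σ hb0]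
    exact natDegree_eq_zero_of_isUnit h

/-- A self-dual polynomial has a self-dual factor with a simple irreducible factor. -/
theorem exists_dual_factor (hσ : ∀ a, σ (σ a) = a) {χ : K[X]} (hχ : χ.Monic) (h0 : χ.coeff 0 ≠ 0)
    (hdual : dualPoly σ χ = χ) (hdeg : 0 < χ.natDegree) :
    ∃ f h rest : K[X], f.Monic ∧ Irreducible f ∧ IsCoprime f h ∧ (f * h).Monic ∧ rest.Monic ∧
      (f * h).coeff 0 ≠ 0 ∧ rest.coeff 0 ≠ 0 ∧
      dualPoly σ (f * h) = f * h ∧ dualPoly σ rest = rest ∧ χ = f * h * rest := by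
  obtain ⟨f, hfm, hf, hfd⟩ := Polynomial.exists_monic_irreducible_factor χ fun hu => by
    rw [natDegree_eq_zero_of_isUnit hu] at hdeg; omega
  obtain ⟨u, hu⟩ := hfd
  have hf0 : f.coeff 0 ≠ 0 := fun h => h0 (by rw [hu, mul_coeff_zero, h, zero_mul])
  have hu0 : u.coeff 0 ≠ 0 := fun h => h0 (by rw [hu, mul_coeff_zero, h, mul_zero])
  have hum : u.Monic := hfm.of_mul_monic_left (hu ▸ hχ)
  by_cases hff : dualPoly σ f = f
  · refine ⟨f, 1, u, hfm, hf, isCoprime_one_right, by rwa [mul_one], hum, by rwa [mul_one], hu0,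
      by rw [mul_one, hff], ?_, by rw [mul_one, hu]⟩
    rw [hu, dualPoly_mul, hff] at hdual
    exact mul_left_cancel₀ hfm.ne_zero hdual
  · have hdi := irreducible_dualPoly σ hσ hfm hf hf0
    have hdm := monic_dualPoly σ hf0
    have hd0 : (dualPoly σ f).coeff 0 ≠ 0 := by
      rw [dualPoly_coeff_zero σ hfm]; exact inv_ne_zero ((map_ne_zero σ).2 hf0)
    have hdvd : dualPoly σ f ∣ f * u := by
      rw [← hu, ← hdual, hu, dualPoly_mul]
      exact dvd_mul_right _ _
    have hnd : ¬ dualPoly σ f ∣ f := fun h =>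
      hff (eq_of_monic_of_associated hdm hfm (hdi.associated_of_dvd hf h))
    obtain ⟨w, hw⟩ := (hdi.prime.dvd_mul.1 hdvd).resolve_left hnd
    have hw0 : w.coeff 0 ≠ 0 := fun h => hu0 (by rw [hw, mul_coeff_zero, h, mul_zero])
    have hwm : w.Monic := hdm.of_mul_monic_left (hw ▸ hum)
    have hg : dualPoly σ (f * dualPoly σ f) = f * dualPoly σ f := by
      rw [dualPoly_mul, dualPoly_dualPoly σ hσ hfm hf0, mul_comm]
    have hχ' : χ = f * dualPoly σ f * w := by rw [hu, hw, mul_assoc]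
    refine ⟨f, dualPoly σ f, w, hfm, hf, hf.coprime_iff_not_dvd.2 fun h =>
      hff (eq_of_monic_of_associated hdm hfm (hf.associated_of_dvd hdi h).symm), hfm.mul hdm, hwm,
      by rw [mul_coeff_zero]; exact mul_ne_zero hf0 hd0, hw0, hg, ?_, hχ'⟩
    rw [hχ', dualPoly_mul, hg] at hdual
    exact mul_left_cancel₀ (hfm.mul hdm).ne_zero hdual

section Count

variable [Fintype K] {q : ℕ}

/-- Self-dual monic polynomials with given constant term. -/
theorem card_dual (hσ : ∀ a, σ (σ a) = a) {θ : K} (hθ : σ θ ≠ θ) (hq : Fintype.card K = q ^ 2)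
    {a₀ : K} (ha : a₀ * σ a₀ = 1) (m : ℕ) :
    Nat.card {χ : K[X] // (χ.Monic ∧ χ.natDegree = m + 1) ∧ χ.coeff 0 = a₀ ∧ dualPoly σ χ = χ} = q ^ m := by
  classical
  let e : {χ : K[X] // χ.Monic ∧ χ.natDegree = m + 1} ≃ (Fin (m + 1) → K) :=
    (monicEquivDegreeLT (m + 1)).trans (degreeLTEquiv K (m + 1)).toEquiv
  have he : ∀ (χ : {χ : K[X] // χ.Monic ∧ χ.natDegree = m + 1}) (i : Fin (m + 1)), e χ i = χ.1.coeff i := by
    intro χ i
    show (χ.1.eraseLead).coeff i = _
    rw [eraseLead_coeff, if_neg (by rw [χ.2.2]; omega)]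
  let τ : (Fin m → K) → (Fin m → K) := fun a k => a₀ * σ (a k.rev)
  have hττ : ∀ a, τ (τ a) = a := fun a => funext fun k => by
    simp only [τ, map_mul, hσ, Fin.rev_rev, ← mul_assoc, ha, one_mul]
  have hfix : ∀ χ : {χ : K[X] // χ.Monic ∧ χ.natDegree = m + 1},
      (χ.1.coeff 0 = a₀ ∧ dualPoly σ χ.1 = χ.1) ↔ e χ 0 = a₀ ∧ τ (Fin.tail (e χ)) = Fin.tail (e χ) := by
    intro χ
    rw [he]
    show _ ↔ χ.1.coeff 0 = a₀ ∧ _
    refine and_congr_right fun h0 => ?_
    have hσ0 : (σ a₀)⁻¹ = a₀ := inv_eq_of_mul_eq_one_left ha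
    have hco : ∀ k, k ≤ m + 1 → (dualPoly σ χ.1).coeff k = a₀ * σ (χ.1.coeff (m + 1 - k)) := fun k hk => by
      rw [coeff_dualPoly, h0, hσ0, χ.2.2, revAt_le hk]
    have ht : ∀ k : Fin m, Fin.tail (e χ) k = χ.1.coeff ((k : ℕ) + 1) := fun k => by
      rw [Fin.tail, he, Fin.val_succ]
    have hlead : χ.1.coeff (m + 1) = 1 := by
      have := χ.2.1.coeff_natDegree
      rwa [χ.2.2] at this
    constructor
    · intro h
      funext k
      show a₀ * σ (Fin.tail (e χ) k.rev) = _
      rw [ht, ht]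
      conv_rhs => rw [← h, hco _ (by omega)]
      rw [Fin.val_rev]
      congr 3
      omega
    · intro h
      ext k
      rcases Nat.lt_or_ge (m + 1) k with hk | hk
      · have hχ0 : χ.1.coeff 0 ≠ 0 := by rw [h0]; exact left_ne_zero_of_mul_eq_one ha
        rw [coeff_eq_zero_of_natDegree_lt (by rw [natDegree_dualPoly σ hχ0, χ.2.2]; exact hk),
          coeff_eq_zero_of_natDegree_lt (by rw [χ.2.2]; exact hk)]
      rw [hco k hk]
      rcases Nat.eq_zero_or_pos k with rfl | hk0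
      · rw [Nat.sub_zero, hlead, map_one, mul_one, h0]
      rcases eq_or_lt_of_le hk with rfl | hk'
      · rw [Nat.sub_self, h0, ha, hlead]
      obtain ⟨j, rfl⟩ : ∃ j, k = j + 1 := ⟨k - 1, by omega⟩
      have := congrFun h ⟨j, by omega⟩
      rw [show τ (Fin.tail (e χ)) ⟨j, by omega⟩ = a₀ * σ (Fin.tail (e χ) (Fin.rev ⟨j, by omega⟩)) from rfl,
        ht, ht, Fin.val_rev] at this
      rw [← this]
      congr 3
      show m + 1 - (j + 1) = m - (j + 1) + 1
      omega
  let A := {a : Fin m → K // τ a = a}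
  have e1 : {χ : K[X] // (χ.Monic ∧ χ.natDegree = m + 1) ∧ χ.coeff 0 = a₀ ∧ dualPoly σ χ = χ} ≃ A :=
    ((Equiv.subtypeSubtypeEquivSubtypeInter (fun χ : K[X] => χ.Monic ∧ χ.natDegree = m + 1)
      (fun χ => χ.coeff 0 = a₀ ∧ dualPoly σ χ = χ)).symm.trans
        (e.subtypeEquiv (q := fun v : Fin (m + 1) → K => v 0 = a₀ ∧ τ (Fin.tail v) = Fin.tail v) hfix)).trans
    { toFun := fun v => ⟨Fin.tail v.1, v.2.2⟩
      invFun := fun a => ⟨Fin.cons a₀ a.1, Fin.cons_zero _ _, by rw [Fin.tail_cons]; exact a.2⟩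
      left_inv := fun v => Subtype.ext (by
        refine funext fun i => ?_
        refine Fin.cases ?_ (fun j => ?_) i
        · exact v.2.1.symm
        · rfl)
      right_inv := fun a => Subtype.ext (Fin.tail_cons (α := fun _ => K) a₀ a.1) }
  -- the fixed points are half of everything
  have hne : θ - σ θ ≠ 0 := sub_ne_zero.2 hθ.symm
  have hlin : ∀ (c : K) (a b : Fin m → K), τ (a + c • b) = τ a + σ c • τ b := fun c a b => funext fun k => by
    simp only [τ, Pi.add_apply, Pi.smul_apply, smul_eq_mul, map_add, map_mul]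
    ring
  let g : A × A → (Fin m → K) := fun x => x.1.1 + θ • x.2.1
  have hg : Function.Bijective g := by
    refine ⟨fun x y h => ?_, fun x => ?_⟩
    · have h' := congrArg τ h
      simp only [g, hlin, x.1.2, x.2.2, y.1.2, y.2.2] at h'
      have h2 : (θ - σ θ) • x.2.1 = (θ - σ θ) • y.2.1 := by
        have := congrArg₂ (· - ·) h h'
        simp only [g] at this
        rw [add_sub_add_left_eq_sub, add_sub_add_left_eq_sub, ← sub_smul, ← sub_smul] at this
        exact this
      have h3 := smul_right_injective _ hne h2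
      have h1 : x.1.1 = y.1.1 := by simpa [g, h3] using h
      exact Prod.ext (Subtype.ext h1) (Subtype.ext h3)
    · set v := (θ - σ θ)⁻¹ • (x + (-1 : K) • τ x) with hv
      have hv' : τ v = v := by
        rw [hv]
        funext k
        simp only [τ, Pi.smul_apply, Pi.add_apply, smul_eq_mul, map_mul, map_add, map_inv₀, map_sub, map_neg,
          map_one, hσ, Fin.rev_rev]
        rw [show (σ θ - θ)⁻¹ = -(θ - σ θ)⁻¹ by rw [← inv_neg, neg_sub]]
        linear_combination (θ - σ θ)⁻¹ * x k * ha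
      have hx : τ x = x - (θ - σ θ) • v := by
        rw [hv, smul_inv_smul₀ hne, neg_one_smul]
        abel
      have hu' : τ (x + (-θ) • v) = x + (-θ) • v := by
        rw [hlin, hv', map_neg, hx, sub_smul, neg_smul, neg_smul]
        abel
      refine ⟨(⟨_, hu'⟩, ⟨v, hv'⟩), ?_⟩
      show x + (-θ) • v + θ • v = x
      rw [neg_smul]
      abel
  have hc := Nat.card_congr (Equiv.ofBijective g hg)
  rw [Nat.card_prod, Nat.card_fun, Nat.card_fin, Nat.card_eq_fintype_card (α := K), hq, ← pow_mul, mul_comm 2 m,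
    pow_mul, pow_two] at hc
  rw [Nat.card_congr e1]
  exact Nat.mul_self_inj.1 hc

end Count

end CfsgLib.Classical.ClassTheory
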