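import Cfsg.Agent.Lib.Classical.ClassTheory.JordanCommutant

/-!
# Alternating forms for which the nilpotent matrix of type `d` is skew

Such a form is a signed Hankel matrix. Its blocks of top coefficients are symmetric for even sizes and
alternating for odd sizes, and in odd characteristic they determine the form up to the commutant.
-/

set_option autoImplicit false

namespace CfsgLib.Classical.ClassTheory

open Matrix

variable {t : ℕ} (d : Fin t → ℕ) {K : Type*} [Field K]

/-- The signs `(-1) ^ s` inside the blocks. -/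
def signMat (K : Type*) [Field K] : Matrix ((k : Fin t) × Fin (d k)) ((k : Fin t) × Fin (d k)) K :=
  Matrix.diagonal fun a => (-1) ^ (a.2 : ℕ)

/-- The signed Hankel matrix with given coefficients. -/
def skMat (c : JPar d → K) : Matrix ((k : Fin t) × Fin (d k)) ((k : Fin t) × Fin (d k)) K :=
  signMat d K * hankMat d c

theorem skMat_apply (c : JPar d → K) (a b : (k : Fin t) × Fin (d k)) :
    skMat d c a b = (-1) ^ (a.2 : ℕ) * cExt d c a.1 b.1 ((a.2 : ℕ) + b.2) := by
  rw [skMat, signMat, Matrix.diagonal_mul]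
  rfl

theorem signMat_sq : signMat d K * signMat d K = 1 := by
  rw [signMat, Matrix.diagonal_mul_diagonal, ← Matrix.diagonal_one]
  congr 1
  funext a
  rw [← mul_pow, neg_one_mul, neg_neg, one_pow]

theorem signMat_mul_nil :
    signMat d K * (nilMat d K)ᵀ = -((nilMat d K)ᵀ * signMat d K) := by
  ext a b
  rw [Matrix.neg_apply, signMat, Matrix.diagonal_mul, Matrix.mul_diagonal, Matrix.transpose_apply, nilMat,
    Matrix.of_apply]
  split_ifs with h
  · rw [h.2, pow_succ]; ring
  · ring

theorem hankMat_commute (c : JPar d → K) : hankMat d c * nilMat d K = (nilMat d K)ᵀ * hankMat d c := by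
  rw [hankMat_eq]
  have key : ∀ P : Matrix ((k : Fin t) × Fin (d k)) ((k : Fin t) × Fin (d k)) K,
      (P.submatrix (revIdx d) id).submatrix (revIdx d) id = P := fun P => by
    ext a b; simp [revIdx_revIdx]
  have h := congrArg (fun M => M.submatrix (revIdx d) id) (parMat_commute d c)
  have h2 := congrArg (fun M => M.submatrix (revIdx d) id)
    (nilMat_transpose_mul d ((parMat d c).submatrix (revIdx d) id))
  simp only [key] at h2
  rw [← h2, ← h]
  rfl

theorem skMat_commute (c : JPar d → K) : skMat d c * nilMat d K = -((nilMat d K)ᵀ * skMat d c) := by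
  rw [skMat, mul_assoc, hankMat_commute, ← mul_assoc, signMat_mul_nil, neg_mul, mul_assoc]

theorem exists_skMat {H : Matrix ((k : Fin t) × Fin (d k)) ((k : Fin t) × Fin (d k)) K}
    (h : H * nilMat d K = -((nilMat d K)ᵀ * H)) : ∃ c, skMat d c = H := by
  have hX : ((signMat d K * H).submatrix (revIdx d) id) * nilMat d K =
      nilMat d K * (signMat d K * H).submatrix (revIdx d) id := by
    rw [nilMat_transpose_mul]
    have e : signMat d K * H * nilMat d K = (nilMat d K)ᵀ * (signMat d K * H) := by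
      rw [mul_assoc, h, mul_neg, ← mul_assoc, ← mul_assoc, signMat_mul_nil, neg_mul, neg_neg]
    rw [← e]
    rfl
  obtain ⟨c, hc⟩ := exists_parMat d hX
  refine ⟨c, ?_⟩
  rw [skMat, hankMat_eq, hc, show ((signMat d K * H).submatrix (revIdx d) id).submatrix (revIdx d) id =
    signMat d K * H from by ext a b; simp [revIdx_revIdx], ← mul_assoc, signMat_sq, one_mul]

theorem skMat_injective : Function.Injective (skMat d (K := K)) := by
  intro c c' h
  apply parMat_injective d
  have h' : hankMat d c = hankMat d c' := by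
    have e := congrArg (fun M => signMat d K * M) h
    simpa only [skMat, ← mul_assoc, signMat_sq, one_mul] using e
  rw [hankMat_eq, hankMat_eq] at h'
  ext a b
  simpa [revIdx_revIdx] using congrFun (congrFun h' (revIdx d a)) b

theorem isUnit_skMat (hd : ∀ k, 1 ≤ d k) (c : JPar d → K) :
    IsUnit (skMat d c) ↔ ∀ i, (topBlk d c i).det ≠ 0 := by
  have hs : IsUnit (signMat d K) := ⟨⟨_, _, signMat_sq d, signMat_sq d⟩, rfl⟩
  rw [skMat, ← isUnit_parMat d hd c]
  have e : IsUnit (signMat d K * hankMat d c) ↔ IsUnit (hankMat d c) := by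
    refine ⟨fun h => ?_, fun h => hs.mul h⟩
    have h' := hs.mul h
    rwa [← mul_assoc, signMat_sq, one_mul] at h'
  rw [e, hankMat_eq]
  exact Matrix.isUnit_submatrix_equiv (e₁ := revIdx d) (e₂ := Equiv.refl _)

theorem skMat_alt_iff (c : JPar d → K) :
    (skMat d c)ᵀ = -skMat d c ↔ ∀ x, c (JPar.swap d x) = -(-1) ^ (x.1.2 : ℕ) * c x := by
  constructor
  · intro h x
    obtain ⟨⟨⟨k, l⟩, u⟩, hk, hl⟩ := x
    simp only at hk hl
    have h1 := congrFun (congrFun h ⟨k, ⟨u, hk⟩⟩) ⟨l, ⟨0, Nat.lt_of_le_of_lt (Nat.zero_le _) hl⟩⟩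
    simp only [Matrix.transpose_apply, Matrix.neg_apply, skMat_apply, Nat.add_zero, Nat.zero_add, pow_zero,
      one_mul] at h1
    rw [← cExt_self d c ⟨((k, l), u), hk, hl⟩, ← cExt_self d c (JPar.swap d ⟨((k, l), u), hk, hl⟩)]
    exact h1.trans (neg_mul _ _).symm
  · intro h
    ext ⟨k, a⟩ ⟨l, b⟩
    simp only [Matrix.transpose_apply, Matrix.neg_apply, skMat_apply]
    rw [add_comm (b : ℕ)]
    by_cases hu : (a : ℕ) + b < d k ∧ (a : ℕ) + b < d l
    · rw [cExt, cExt, dif_pos hu.symm, dif_pos hu]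
      have h1 := h ⟨((k, l), ⟨(a : ℕ) + b, hu.1.trans (d_lt_bound d k)⟩), hu⟩
      simp only [JPar.swap] at h1
      rw [h1, pow_add]
      have e : ((-1 : K) ^ (b : ℕ)) * (-1) ^ (b : ℕ) = 1 := by rw [← mul_pow, neg_one_mul, neg_neg, one_pow]
      linear_combination (-(-1 : K) ^ (a : ℕ) * c ⟨((k, l), ⟨(a : ℕ) + b, hu.1.trans (d_lt_bound d k)⟩), hu⟩) * e
    · rw [cExt_eq_zero d c fun h' => hu h'.symm, cExt_eq_zero d c hu, mul_zero, mul_zero, neg_zero]

/-- The bottom corner in the block `k`. -/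
def botIdx (hd : ∀ k, 1 ≤ d k) (k : Fin t) : (k : Fin t) × Fin (d k) := ⟨k, ⟨0, hd k⟩⟩

/-- The top corner in the block `k`. -/
def topIdx (hd : ∀ k, 1 ≤ d k) (k : Fin t) : (k : Fin t) × Fin (d k) :=
  ⟨k, ⟨d k - 1, Nat.sub_lt (hd k) one_pos⟩⟩

theorem skMat_corner (hd : ∀ k, 1 ≤ d k) (c : JPar d → K) {i : Fin (Finset.univ.sup d + 1)} (k l : JBlk d i) :
    skMat d c (botIdx d hd k.1) (topIdx d hd l.1) = topBlk d c i k l := by
  rw [skMat_apply]
  simp only [botIdx, topIdx, pow_zero, one_mul, topBlk, Matrix.of_apply, Nat.zero_add]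
  rw [l.2]

theorem parMat_corner (hd : ∀ k, 1 ≤ d k) (x : JPar d → K) {i : Fin (Finset.univ.sup d + 1)} (k l : JBlk d i) :
    parMat d x (botIdx d hd k.1) (botIdx d hd l.1) = topBlk d x i k l ∧
      parMat d x (topIdx d hd k.1) (topIdx d hd l.1) = topBlk d x i k l := by
  simp only [parMat, topBlk, Matrix.of_apply, botIdx, topIdx, k.2, l.2, le_refl, if_true, Nat.sub_self, Nat.sub_zero,
    and_self]

/-- Top blocks of a product on the right by the commutant. -/
theorem skMat_mul_corner (hd : ∀ k, 1 ≤ d k) (c x : JPar d → K) {i : Fin (Finset.univ.sup d + 1)} (k l : JBlk d i) :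
    (skMat d c * parMat d x) (botIdx d hd k.1) (topIdx d hd l.1) = (topBlk d c i * topBlk d x i) k l := by
  rw [Matrix.mul_apply, Matrix.mul_apply]
  symm
  refine Finset.sum_bij_ne_zero (fun m _ _ => topIdx d hd m.1) (fun m _ _ => Finset.mem_univ _)
    (fun m _ _ m' _ _ h => Subtype.ext (congrArg Sigma.fst h)) ?_ ?_
  · rintro ⟨m, ⟨b, hb⟩⟩ _ hne
    have h1 : skMat d c (botIdx d hd k.1) ⟨m, ⟨b, hb⟩⟩ ≠ 0 := left_ne_zero_of_mul hne
    have h2 : parMat d x ⟨m, ⟨b, hb⟩⟩ (topIdx d hd l.1) ≠ 0 := right_ne_zero_of_mul hne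
    rw [skMat_apply] at h1
    simp only [parMat, Matrix.of_apply, topIdx] at h2
    simp only [botIdx, pow_zero, one_mul, Nat.zero_add] at h1
    have hk := k.2
    have hl := l.2
    have hb1 : b < d k.1 ∧ b < d m := by
      by_contra hc; exact h1 (cExt_eq_zero d c hc)
    split_ifs at h2 with hle
    swap
    · exact absurd rfl h2
    have hb2 : d m - 1 - (b - (d l.1 - 1)) < d l.1 := by
      by_contra hc; exact h2 (cExt_eq_zero d x fun h => hc h.2)
    have hm : d m = (i : ℕ) := by omega
    have hbm : b = d m - 1 := by omega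
    subst hbm
    refine ⟨⟨m, hm⟩, Finset.mem_univ _, ?_, rfl⟩
    have e1 := skMat_corner d hd c k (⟨m, hm⟩ : JBlk d i)
    have e2 := (parMat_corner d hd x (⟨m, hm⟩ : JBlk d i) l).2
    rw [← e1, ← e2]
    exact hne
  · intro m _ _
    rw [skMat_corner, (parMat_corner d hd x m l).2]

/-- Top blocks of a product on the left by a transpose from the commutant. -/
theorem transpose_mul_skMat_corner (hd : ∀ k, 1 ≤ d k) (x c : JPar d → K) {i : Fin (Finset.univ.sup d + 1)}
    (k l : JBlk d i) :
    ((parMat d x)ᵀ * skMat d c) (botIdx d hd k.1) (topIdx d hd l.1) = ((topBlk d x i)ᵀ * topBlk d c i) k l := by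
  rw [Matrix.mul_apply, Matrix.mul_apply]
  symm
  refine Finset.sum_bij_ne_zero (fun m _ _ => botIdx d hd m.1) (fun m _ _ => Finset.mem_univ _)
    (fun m _ _ m' _ _ h => Subtype.ext (congrArg Sigma.fst h)) ?_ ?_
  · rintro ⟨m, ⟨a, ha⟩⟩ _ hne
    have h1 : skMat d c ⟨m, ⟨a, ha⟩⟩ (topIdx d hd l.1) ≠ 0 := right_ne_zero_of_mul hne
    have h2 : (parMat d x)ᵀ (botIdx d hd k.1) ⟨m, ⟨a, ha⟩⟩ ≠ 0 := left_ne_zero_of_mul hne
    rw [skMat_apply] at h1
    simp only [Matrix.transpose_apply, parMat, Matrix.of_apply, botIdx] at h2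
    simp only [topIdx] at h1
    have hk := k.2
    have hl := l.2
    have := hd l.1
    have ha1 : a + (d l.1 - 1) < d m ∧ a + (d l.1 - 1) < d l.1 := by
      by_contra hc; exact h1 (by rw [cExt_eq_zero d c hc, mul_zero])
    rw [if_pos (Nat.zero_le _)] at h2
    have ha2 : d m - 1 - (a - 0) < d k.1 := by
      by_contra hc; exact h2 (cExt_eq_zero d x fun h => hc h.2)
    have hm : d m = (i : ℕ) := by omega
    obtain rfl : a = 0 := by omega
    refine ⟨⟨m, hm⟩, Finset.mem_univ _, ?_, rfl⟩
    have e1 := skMat_corner d hd c (⟨m, hm⟩ : JBlk d i) l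
    have e2 := (parMat_corner d hd x (⟨m, hm⟩ : JBlk d i) k).1
    rw [Matrix.transpose_apply, ← e1, ← e2]
    exact hne
  · intro m _ _
    rw [skMat_corner, Matrix.transpose_apply, Matrix.transpose_apply, (parMat_corner d hd x m k).1]

/-- Congruence by the commutant acts by congruence on top blocks. -/
theorem topBlk_congr (hd : ∀ k, 1 ≤ d k) (c c' x : JPar d → K)
    (h : (parMat d x)ᵀ * skMat d c * parMat d x = skMat d c') (i : Fin (Finset.univ.sup d + 1)) :
    topBlk d c' i = (topBlk d x i)ᵀ * topBlk d c i * topBlk d x i := by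
  obtain ⟨c₁, hc₁⟩ := exists_skMat d (H := skMat d c * parMat d x) (by
    rw [mul_assoc, parMat_commute, ← mul_assoc, skMat_commute, neg_mul, mul_assoc])
  ext k l
  have h1 : topBlk d c₁ i = topBlk d c i * topBlk d x i := by
    ext k l
    rw [← skMat_corner d hd, hc₁, skMat_mul_corner]
  rw [← skMat_corner d hd, ← h, mul_assoc, ← hc₁, transpose_mul_skMat_corner, h1, mul_assoc]

/-- A commutant element with vanishing top blocks is nilpotent. -/
theorem isNilpotent_parMat (hd : ∀ k, 1 ≤ d k) (y : JPar d → K) (h : ∀ i, topBlk d y i = 0) :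
    IsNilpotent (parMat d y) := by
  set M := Finset.univ.sup d + 1 with hM
  let ρ : (k : Fin t) × Fin (d k) → ℕ := fun a => (a.2 : ℕ) * M + (M - d a.1)
  have hstep : ∀ a b, parMat d y a b ≠ 0 → ρ b < ρ a := by
    rintro ⟨k, a⟩ ⟨l, b⟩ hne
    simp only [parMat, Matrix.of_apply] at hne
    split_ifs at hne with hle
    swap
    · exact absurd rfl hne
    have hu : d k - 1 - ((a : ℕ) - b) < d l := by
      by_contra hc; exact hne (cExt_eq_zero d y fun h => hc h.2)
    have := d_lt_bound d k
    have := d_lt_bound d l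
    simp only [ρ]
    rcases lt_or_eq_of_le hle with hlt | heq
    · have : ((b : ℕ) + 1) * M ≤ (a : ℕ) * M := Nat.mul_le_mul_right M hlt
      rw [add_mul, one_mul] at this
      have := hd l
      omega
    · rw [heq, Nat.sub_self, Nat.sub_zero] at hne hu
      rw [heq]
      have hkl : d k ≠ d l := fun e => hne (by
        have h0 := congrFun (congrFun (h ⟨d k, d_lt_bound d k⟩) ⟨k, rfl⟩) ⟨l, e.symm⟩
        simpa [topBlk] using h0)
      omega
  refine ⟨(Finset.univ.sup ρ) + 1, ?_⟩
  have hpow : ∀ j a b, ((parMat d y) ^ j) a b ≠ 0 → ρ b + j ≤ ρ a := by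
    intro j
    induction j with
    | zero =>
      intro a b hne
      rw [pow_zero, Matrix.one_apply] at hne
      split_ifs at hne with hab
      · subst hab; omega
      · exact absurd rfl hne
    | succ j ih =>
      intro a b hne
      rw [pow_succ, Matrix.mul_apply] at hne
      obtain ⟨m, -, hm⟩ := Finset.exists_ne_zero_of_sum_ne_zero hne
      have := ih a m (left_ne_zero_of_mul hm)
      have := hstep m b (right_ne_zero_of_mul hm)
      omega
  ext a b
  by_contra hne
  have := hpow _ a b hne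
  have := Finset.le_sup (f := ρ) (Finset.mem_univ a)
  omega

theorem topBlk_sub (x y : JPar d → K) (i : Fin (Finset.univ.sup d + 1)) :
    topBlk d (x - y) i = topBlk d x i - topBlk d y i := by
  ext k l
  simp only [topBlk, Matrix.sub_apply, Matrix.of_apply, cExt]
  split_ifs <;> simp

theorem parMat_sub (x y : JPar d → K) : parMat d (x - y) = parMat d x - parMat d y := by
  ext a b
  simp only [parMat, Matrix.sub_apply, Matrix.of_apply, cExt]
  split_ifs <;> simp

variable [Finite K]

/-- In odd characteristic the top blocks determine the form up to the commutant. -/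
theorem exists_congr_of_topBlk_eq (hd : ∀ k, 1 ≤ d k) {p : ℕ} [Fact p.Prime] [CharP K p] (hp : p ≠ 2)
    (c c' : JPar d → K) (hc : (skMat d c)ᵀ = -skMat d c) (hc' : (skMat d c')ᵀ = -skMat d c')
    (hu : IsUnit (skMat d c)) (htop : ∀ i, topBlk d c i = topBlk d c' i) :
    ∃ D, IsUnit D ∧ D * nilMat d K = nilMat d K * D ∧ Dᵀ * skMat d c * D = skMat d c' := by
  obtain ⟨U, hU⟩ := hu
  set H := skMat d c with hH
  set H' := skMat d c' with hH'
  set Hi := ((U⁻¹ : (Matrix ((k : Fin t) × Fin (d k)) ((k : Fin t) × Fin (d k)) K)ˣ) :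
    Matrix ((k : Fin t) × Fin (d k)) ((k : Fin t) × Fin (d k)) K) with hHi
  have h1 : H * Hi = 1 := by rw [← hU, hHi, Units.mul_inv]
  have h1' : Hi * H = 1 := by rw [← hU, hHi, Units.inv_mul]
  set X := Hi * H' with hX
  have hHX : H * X = H' := by rw [hX, ← mul_assoc, h1, one_mul]
  have hXN : X * nilMat d K = nilMat d K * X := by
    have hcan : H * (X * nilMat d K) = H * (nilMat d K * X) := by
      rw [← mul_assoc, hHX, ← mul_assoc H (nilMat d K) X, hH', skMat_commute, hH, skMat_commute, neg_mul, mul_assoc,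
        ← hH, hHX]
    have := congrArg (fun M => Hi * M) hcan
    simpa only [← mul_assoc, h1', one_mul] using this
  obtain ⟨x, hx⟩ := exists_parMat d hXN
  obtain ⟨e, he⟩ := exists_parMat d (X := (1 : Matrix ((k : Fin t) × Fin (d k)) ((k : Fin t) × Fin (d k)) K))
    (by rw [one_mul, mul_one])
  have hdet := (isUnit_skMat d hd c).1 ⟨U, hU⟩
  have hxe : ∀ i, topBlk d x i = topBlk d e i := by
    intro i
    have e1 : topBlk d c i * topBlk d x i = topBlk d c' i := by
      ext k l
      rw [← skMat_mul_corner d hd, hx, ← hH, hHX, hH', skMat_corner]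
    have e2 : topBlk d c i * topBlk d e i = topBlk d c i := by
      ext k l
      rw [← skMat_mul_corner d hd, he, mul_one, skMat_corner]
    exact ((Matrix.isUnit_iff_isUnit_det _).2 (isUnit_iff_ne_zero.2 (hdet i))).mul_left_cancel
      (e1.trans ((htop i).symm.trans e2.symm))
  have hnil : IsNilpotent (X - 1) := by
    rw [← hx, ← he, ← parMat_sub]
    exact isNilpotent_parMat d hd _ fun i => by rw [topBlk_sub, hxe, sub_self]
  obtain ⟨j, hj⟩ := hnil
  obtain ⟨k, hk⟩ : ∃ k, j ≤ p ^ k := ⟨j, (Nat.lt_pow_self (Fact.out : p.Prime).one_lt).le⟩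
  have hXp : X ^ p ^ k = 1 := by
    rcases isEmpty_or_nonempty ((k : Fin t) × Fin (d k)) with he' | he'
    · exact Subsingleton.elim _ _
    have h0 : (X - 1) ^ p ^ k = 0 := pow_eq_zero_of_le hk hj
    rwa [sub_pow_char_pow_of_commute _ _ (Commute.one_right X), one_pow, sub_eq_zero] at h0
  obtain ⟨s, hs⟩ : ∃ s, p ^ k + 1 = 2 * s := by
    have hodd : Odd (p ^ k) := ((Fact.out : p.Prime).odd_of_ne_two hp).pow
    obtain ⟨s, hs⟩ := hodd
    exact ⟨s + 1, by omega⟩
  have hXT : Xᵀ * H = H * X := by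
    rw [hHX, hX, Matrix.transpose_mul, hc', mul_assoc]
    have e : Hiᵀ * H = -1 := by
      have e' : Hiᵀ * Hᵀ = 1 := by rw [← Matrix.transpose_mul, h1, Matrix.transpose_one]
      rw [hc, mul_neg] at e'
      exact neg_eq_iff_eq_neg.1 e'
    rw [e, neg_mul_neg, mul_one]
  have hpow : ∀ m : ℕ, (X ^ m)ᵀ * H = H * X ^ m := by
    intro m
    induction m with
    | zero => simp
    | succ m ih =>
      rw [pow_succ, Matrix.transpose_mul, mul_assoc, ih, ← mul_assoc, hXT, mul_assoc, ← pow_succ', pow_succ]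
  refine ⟨X ^ s, ?_, (Commute.pow_left hXN s).eq, ?_⟩
  · refine IsUnit.pow s ?_
    have hX1 : IsNilpotent (X - 1) := ⟨j, hj⟩
    simpa using hX1.isUnit_add_one
  · rw [hpow, mul_assoc, ← pow_add, ← two_mul, ← hs, pow_succ, hXp, one_mul, hHX]

end CfsgLib.Classical.ClassTheory
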