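import Cfsg.Agent.Lib.Classical.Unitary.MatrixStructure

/-!
# The special unitary group is generated by two elements

One generator is diagonal, the other is a monomial element times one root element.
-/

set_option autoImplicit false

namespace CfsgLib.Classical.ClassTheory.UnitaryGen

open CfsgLib.Classical CfsgLib.Classical.Herm

/-! ### Fields -/

theorem closure_eq_top_of_pow {F : Type*} [Field F] [Finite F] {μ : F} (hμ : μ ≠ 0)
    (h : ∀ k, 1 < k → μ ^ (k - 1) = 1 → ∀ j, 2 ≤ j → k ^ j ≠ Nat.card F) : Subring.closure ({μ} : Set F) = ⊤ := by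
  classical
  have : Fintype F := Fintype.ofFinite F
  set R := Subring.closure ({μ} : Set F)
  let K : Subfield F :=
    { R with
      inv_mem' := fun x hx => by
        rcases eq_or_ne x 0 with rfl | hx0
        · rw [inv_zero]; exact R.zero_mem
        have h2 : 2 ≤ Fintype.card F := Fintype.one_lt_card
        have : x⁻¹ = x ^ (Fintype.card F - 2) := inv_eq_of_mul_eq_one_right (by
          rw [← pow_succ', show Fintype.card F - 2 + 1 = Fintype.card F - 1 by omega,
            FiniteField.pow_card_sub_one_eq_one x hx0])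
        rw [this]
        exact R.pow_mem hx _ }
  have : Fintype K := Fintype.ofFinite _
  have hcard := Module.card_eq_pow_finrank (K := K) (V := F)
  have hμK : μ ∈ K := Subring.subset_closure (Set.mem_singleton μ)
  rcases Nat.lt_or_ge (Module.finrank K F) 2 with hlt | hge
  · have h1 : Module.finrank K F = 1 := by
      have := Module.finrank_pos (R := K) (M := F)
      omega
    rw [h1, pow_one] at hcard
    refine eq_top_iff.2 fun x _ => ?_
    have hs : Function.Surjective (Subtype.val : K → F) :=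
      ((Fintype.bijective_iff_injective_and_card _).2 ⟨Subtype.val_injective, hcard.symm⟩).2
    obtain ⟨y, rfl⟩ := hs x
    exact y.2
  · have hp : μ ^ (Fintype.card K - 1) = 1 := by
      have h1 := FiniteField.pow_card_sub_one_eq_one (⟨μ, hμK⟩ : K) (fun e => hμ (congrArg Subtype.val e))
      exact congrArg Subtype.val h1
    exact absurd (show Fintype.card K ^ Module.finrank K F = Nat.card F by
      rw [Nat.card_eq_fintype_card]; exact hcard.symm) (h _ Fintype.one_lt_card hp _ hge)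

variable {F : Type*} [Field F] {σ : F →+* F}

/-- An additive subgroup closed under a ring generator is everything. -/
theorem mem_of_ring_generator (A : AddSubgroup F) {a : F} (ha : a ≠ 0) (haA : a ∈ A) {μ : F}
    (hμ : ∀ x ∈ A, μ * x ∈ A) (h : Subring.closure ({μ} : Set F) = ⊤) (x : F) : x ∈ A := by
  let R : Subring F :=
    { carrier := {r | ∀ y ∈ A, r * y ∈ A}
      mul_mem' := fun {r r'} hr hr' y hy => by rw [mul_assoc]; exact hr _ (hr' _ hy)
      one_mem' := fun y hy => by rwa [one_mul]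
      add_mem' := fun {r r'} hr hr' y hy => by rw [add_mul]; exact A.add_mem (hr _ hy) (hr' _ hy)
      zero_mem' := fun y _ => by rw [zero_mul]; exact A.zero_mem
      neg_mem' := fun {r} hr y hy => by rw [neg_mul]; exact A.neg_mem (hr _ hy) }
  have hR : Subring.closure ({μ} : Set F) ≤ R := by
    rw [Subring.closure_le, Set.singleton_subset_iff]
    exact hμ
  have := hR (h ▸ Subring.mem_top (x / a)) a haA
  rwa [div_mul_cancel₀ _ ha] at this

/-! ### Root elements of a Hermitian space -/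

section roots

variable {V : Type*} [AddCommGroup V] [Module F V] [FiniteDimensional F V] {B : V →ₛₗ[σ] V →ₗ[F] F}
  (hB : IsHerm B) (H : Subgroup (HU B))

/-- The root elements of `(u, x)` for one parameter, or for a given one. -/
def Rt (u x : V) (a : F) : Prop :=
  ∃ (hu : B u u = 0) (hux : B u x = 0) (ha : a + σ a = -B x x), hB.eich hu hux ha ∈ H

variable {hB H}

theorem Rt.mk {u x : V} {a : F} {hu : B u u = 0} {hux : B u x = 0} {ha : a + σ a = -B x x}
    (h : hB.eich hu hux ha ∈ H) : Rt hB H u x a := ⟨hu, hux, ha, h⟩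

theorem Rt.of_eq {u u' x x' : V} {a a' : F} (h : Rt hB H u x a) (e₁ : u = u') (e₂ : x = x') (e₃ : a = a') :
    Rt hB H u' x' a' := by subst e₁ e₂ e₃; exact h

theorem Rt.mem {u x : V} {a : F} (h : Rt hB H u x a) (hu : B u u = 0) (hux : B u x = 0) (ha : a + σ a = -B x x) :
    hB.eich hu hux ha ∈ H := by
  obtain ⟨_, _, _, hm⟩ := h
  exact hm

omit hB in
theorem eich_congr' (h : IsHerm B) {u u' x x' : V} {a a' : F} {hu : B u u = 0} {hux : B u x = 0}
    {ha : a + σ a = -B x x} {hu' : B u' u' = 0} {hux' : B u' x' = 0} {ha' : a' + σ a' = -B x' x'}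
    (e₁ : u = u') (e₂ : x = x') (e₃ : a = a') : h.eich hu hux ha = h.eich hu' hux' ha' := by
  subst e₁ e₂ e₃; rfl

omit hB in
theorem eich_conj' (h : IsHerm B) (g : HU B) {u x : V} {a : F} (hu : B u u = 0) (hux : B u x = 0)
    (ha : a + σ a = -B x x) :
    g * h.eich hu hux ha * g⁻¹ = h.eich (u := (g : V ≃ₗ[F] V) u) (x := (g : V ≃ₗ[F] V) x) (a := a)
      (by rw [HU.map_eq, hu]) (by rw [HU.map_eq, hux]) (by rw [HU.map_eq, ha]) := by
  rw [mul_inv_eq_iff_eq_mul]
  refine Subtype.ext (LinearEquiv.ext fun z => ?_)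
  simp only [Subgroup.coe_mul, LinearEquiv.mul_apply, IsHerm.eich_apply, HU.map_eq, map_add, LinearEquiv.map_smul]

omit hB in
theorem eich_mul' (h : IsHerm B) {u x y : V} {a b : F} (hu : B u u = 0) (hux : B u x = 0) (huy : B u y = 0)
    (ha : a + σ a = -B x x) (hb : b + σ b = -B y y) :
    h.eich hu hux ha * h.eich hu huy hb =
      h.eich hu (x := x + y) (a := a + b - B x y) (by rw [map_add, hux, huy, add_zero])
        (by simp only [map_add, map_sub, LinearMap.add_apply, h.symm]; linear_combination ha + hb) := by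
  refine Subtype.ext (LinearEquiv.ext fun z => ?_)
  simp only [Subgroup.coe_mul, LinearEquiv.mul_apply, IsHerm.eich_apply, map_add, Herm.smul_right, hu, huy,
    h.eq_zero_symm hux, LinearMap.add_apply]
  match_scalars <;> ring

omit hB in
theorem eich_inv' (h : IsHerm B) {u x : V} {a : F} (hu : B u u = 0) (hux : B u x = 0) (ha : a + σ a = -B x x) :
    (h.eich hu hux ha)⁻¹ = h.eich hu (x := -x) (a := σ a) (by rw [map_neg, hux, neg_zero])
      (by rw [h.invol.invol, add_comm, ha]; simp) := by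
  refine inv_eq_of_mul_eq_one_right (Subtype.ext (LinearEquiv.ext fun z => ?_))
  simp only [Subgroup.coe_mul, LinearEquiv.mul_apply, IsHerm.eich_apply, map_add, Herm.smul_right, hu, hux, map_neg,
    h.eq_zero_symm hux, LinearMap.neg_apply]
  show _ = z
  match_scalars <;>
    first
      | ring1
      | linear_combination (B u z) * ha
      | linear_combination -(B u z) * ha

omit hB in
/-- Conjugation by an element scaling `u` and `x`. -/
theorem eich_conj_scale (h : IsHerm B) (g : HU B) {u x : V} {p r a : F}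
    (hgu : (g : V ≃ₗ[F] V) u = p • u) (hgx : (g : V ≃ₗ[F] V) x = r • x)
    (hu : B u u = 0) (hux : B u x = 0) (ha : a + σ a = -B x x) :
    g * h.eich hu hux ha * g⁻¹ = h.eich hu (x := (σ p * r) • x) (a := p * σ p * a)
      (by rw [Herm.smul_right, hux, mul_zero])
      (by
        have e := HU.map_eq g x x
        rw [hgx, Herm.smul_left, Herm.smul_right] at e
        simp only [Herm.smul_left, Herm.smul_right, map_mul, h.invol.invol]
        linear_combination (p * σ p) * ha + (p * σ p) * e) := by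
  rw [eich_conj']
  refine Subtype.ext (LinearEquiv.ext fun z => ?_)
  simp only [IsHerm.eich_apply, hgu, hgx, Herm.smul_left, map_mul, h.invol.invol]
  match_scalars <;> ring

theorem Rt.conj {g : HU B} (hg : g ∈ H) {u x : V} {a : F} (h : Rt hB H u x a) :
    Rt hB H ((g : V ≃ₗ[F] V) u) ((g : V ≃ₗ[F] V) x) a := by
  obtain ⟨hu, hux, ha, hm⟩ := h
  refine ⟨by rw [HU.map_eq, hu], by rw [HU.map_eq, hux], by rw [HU.map_eq, ha], ?_⟩
  rw [← eich_conj' hB g hu hux ha]
  exact H.mul_mem (H.mul_mem hg hm) (H.inv_mem hg)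

theorem rt_zero {u : V} (hu : B u u = 0) : Rt hB H u 0 0 := by
  refine ⟨hu, map_zero _, by simp, ?_⟩
  have : hB.eich hu (map_zero (B u)) (a := 0) (by simp) = 1 := by
    refine Subtype.ext (LinearEquiv.ext fun z => ?_)
    rw [IsHerm.eich_apply]
    simp
  rw [this]; exact H.one_mem

theorem Rt.add {u x y : V} {a b : F} (h : Rt hB H u x a) (h' : Rt hB H u y b) :
    Rt hB H u (x + y) (a + b - B x y) := by
  obtain ⟨hu, hux, ha, hm⟩ := h
  obtain ⟨_, huy, hb, hm'⟩ := h'
  exact ⟨hu, _, _, by rw [← eich_mul' hB hu hux huy ha hb]; exact H.mul_mem hm hm'⟩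

theorem Rt.neg {u x : V} {a : F} (h : Rt hB H u x a) : Rt hB H u (-x) (σ a) := by
  obtain ⟨hu, hux, ha, hm⟩ := h
  exact ⟨hu, _, _, by rw [← eich_inv' hB hu hux ha]; exact H.inv_mem hm⟩

theorem Rt.smul_left {u x : V} {a c : F} (hc : c ≠ 0) (h : Rt hB H (c • u) x a) :
    Rt hB H u (σ c • x) (c * σ c * a) := by
  obtain ⟨hu, hux, ha, hm⟩ := h
  have hc' : σ c ≠ 0 := fun h => hc (IsInvol.apply_eq_zero_iff.1 h)
  have hu' : B u u = 0 := by
    rw [Herm.smul_left, Herm.smul_right] at hu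
    simpa [hc, hc'] using hu
  have hux' : B u (σ c • x) = 0 := by
    rw [Herm.smul_left] at hux
    rw [Herm.smul_right, hux]
  have ha' : c * σ c * a + σ (c * σ c * a) = -B (σ c • x) (σ c • x) := by
    simp only [Herm.smul_left, Herm.smul_right, map_mul, hB.invol.invol]
    linear_combination (c * σ c) * ha
  refine ⟨hu', hux', ha', ?_⟩
  have e : hB.eich hu hux ha = hB.eich hu' hux' ha' := by
    refine Subtype.ext (LinearEquiv.ext fun z => ?_)
    simp only [IsHerm.eich_apply, Herm.smul_left, hB.invol.invol]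
    match_scalars <;> ring
  rw [← e]; exact hm

variable (hB H) in
/-- All transvections at `u` lie in `H`. -/
def Long (u : V) : Prop := ∀ k : F, k + σ k = 0 → Rt hB H u 0 k

theorem Long.any {u x : V} {a b : F} (hL : Long hB H u) (h : Rt hB H u x a) (hb : b + σ b = -B x x) :
    Rt hB H u x b := by
  have ha := h.choose_spec.choose_spec.choose
  have := h.add (hL (b - a) (by rw [map_sub]; linear_combination hb - ha))
  exact this.of_eq rfl (add_zero x) (by simp)

/-- The transvections from two root lines. -/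
theorem long_of_pair {u x y : V} (hu : B u u = 0) (hyx : B y x = 1)
    (hx : ∀ c : F, ∃ a, Rt hB H u (c • x) a) (hy : ∃ b, Rt hB H u y b) : Long hB H u := by
  intro k hk
  obtain ⟨t, ht⟩ := hB.invol.exists_trace_eq (μ := (1 : F)) (map_one σ)
  obtain ⟨a, hux, ha, hm⟩ : ∃ (a : F) (_ : B u ((k * t) • x) = 0) (_ : a + σ a = -B ((k * t) • x) ((k * t) • x)),
      Rt hB H u ((k * t) • x) a := by
    obtain ⟨a, h⟩ := hx (k * t)
    exact ⟨a, h.choose_spec.choose, h.choose_spec.choose_spec.choose, h⟩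
  obtain ⟨b, hy⟩ := hy
  have h1 := hm.add hy
  have h2 := hy.add hm
  have h3 := h1.add h2.neg
  refine h3.of_eq rfl (by abel) ?_
  have hxy : B x y = 1 := by rw [← hB.symm, hyx, map_one]
  have hk' : σ k = -k := eq_neg_of_add_eq_zero_right hk
  have hb : b + σ b = -B y y := hy.choose_spec.choose_spec.choose
  simp only [map_add, map_sub, map_neg, map_mul, LinearMap.add_apply, Herm.smul_left, Herm.smul_right, hB.invol.invol,
    hxy, hyx, hk', map_one]
  have haa := ha
  simp only [Herm.smul_left, Herm.smul_right, map_mul, hk'] at haa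
  linear_combination haa + hb + k * ht

variable [Finite F]

/-- A subgroup with all roots at one end of a hyperbolic pair, and an exchange of the ends, is everything. -/
theorem hsu_le_of_pair (h2 : 2 ≤ Module.finrank F V) (hex : Module.finrank F V = 3 → Nat.card (fixedSub σ) ≠ 2)
    {e f : V} (he : B e e = 0) (hf : B f f = 0) (hef : B e f = 1)
    (hE : ∀ x, B e x = 0 → B f x = 0 → ∀ a, a + σ a = -B x x → Rt hB H e x a)
    {g : HU B} (hg : g ∈ H) {c d : F} (hc : c ≠ 0) (hge : (g : V ≃ₗ[F] V) e = c • f)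
    (hgf : (g : V ≃ₗ[F] V) f = d • e) : HSU B ≤ H := by
  have hfe : B f e = 1 := by rw [← hB.symm, hef, map_one]
  have hc' : σ c ≠ 0 := fun h => hc (IsInvol.apply_eq_zero_iff.1 h)
  have hd : d ≠ 0 := fun h => by
    rw [h, zero_smul] at hgf
    have : f = 0 := (g : V ≃ₗ[F] V).injective (by rw [hgf, map_zero])
    rw [this, map_zero] at hef
    exact zero_ne_one hef
  have hF : ∀ x, B e x = 0 → B f x = 0 → ∀ a, a + σ a = -B x x → Rt hB H f x a := by
    intro x hx1 hx2 a ha
    obtain ⟨x', hx'⟩ := (g : V ≃ₗ[F] V).surjective ((σ c)⁻¹ • x)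
    have hxx : B x' x' = (c * σ c)⁻¹ * B x x := by
      rw [← HU.map_eq g, hx', Herm.smul_left, Herm.smul_right, map_inv₀, hB.invol.invol, mul_inv]; ring
    have h := (hE x'
      (by rw [← HU.map_eq g, hge, hx', Herm.smul_left, Herm.smul_right, hx2]; ring)
      (by rw [← HU.map_eq g, hgf, hx', Herm.smul_left, Herm.smul_right, hx1]; ring)
      (a / (c * σ c)) (by
        rw [hxx, map_div₀, map_mul, hB.invol.invol, mul_comm (σ c) c, ← add_div, ha]; ring)).conj hg
    rw [hge, hx'] at h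
    refine (h.smul_left hc).of_eq rfl (by rw [smul_smul, mul_inv_cancel₀ hc', one_smul]) ?_
    rw [mul_div_cancel₀ _ (mul_ne_zero hc hc')]
  have move1 : ∀ v, B v v = 0 → B f v ≠ 0 → ∃ k ∈ H, (k : V ≃ₗ[F] V) v = B f v • e := by
    intro v hv hfv
    obtain ⟨α, hα⟩ : ∃ α, B f v = α := ⟨_, rfl⟩
    obtain ⟨β, hβ⟩ : ∃ β, B e v = β := ⟨_, rfl⟩
    rw [hα] at hfv ⊢
    have hα' : σ α ≠ 0 := fun h => hfv (IsInvol.apply_eq_zero_iff.1 h)
    obtain ⟨r, hr⟩ : ∃ r, r = v - α • e - β • f := ⟨_, rfl⟩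
    have her : B e r = 0 := by simp only [hr, map_sub, Herm.smul_right, he, hef, hβ]; ring
    have hfr : B f r = 0 := by simp only [hr, map_sub, Herm.smul_right, hf, hfe, hα]; ring
    have hve : B v e = σ β := by rw [← hβ, hB.symm]
    have hvf : B v f = σ α := by rw [← hα, hB.symm]
    have hvr : B r v = B r r := by
      have e' : B r r = B r (v - α • e - β • f) := by rw [← hr]
      rw [e', map_sub, map_sub, Herm.smul_right, Herm.smul_right, hB.eq_zero_symm her, hB.eq_zero_symm hfr]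
      ring
    have hrr : B r r = -(σ α * β + σ β * α) := by
      simp only [hr, map_sub, LinearMap.sub_apply, Herm.smul_left, Herm.smul_right, hv, he, hf, hef, hfe, hve, hvf, hα, hβ]
      ring
    set x := (-α⁻¹) • r
    have ha : (-(β / α) - B r r / (α * σ α)) + σ (-(β / α) - B r r / (α * σ α)) = -B x x := by
      simp only [x, Herm.smul_left, Herm.smul_right, map_sub, map_neg, map_div₀, map_mul, map_inv₀, hB.invol.invol,
        hB.self_fixed]
      field_simp
      linear_combination (-1 : F) * hrr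
    have hz := hF x (by rw [Herm.smul_right, her, mul_zero]) (by rw [Herm.smul_right, hfr, mul_zero]) _ ha
    obtain ⟨_, _, _, hm⟩ := hz
    refine ⟨_, hm, ?_⟩
    rw [IsHerm.eich_apply]
    simp only [x, Herm.smul_left, map_neg, map_inv₀, hvr, smul_smul, hα]
    rw [show v = α • e + β • f + r by rw [hr]; abel]
    match_scalars <;> field_simp <;> ring
  have move : ∀ v, B v v = 0 → v ≠ 0 → ∃ k ∈ H, ∃ t : F, (k : V ≃ₗ[F] V) v = t • e := by
    intro v hv hv0
    by_cases hfv : B f v ≠ 0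
    · obtain ⟨k, hk, h⟩ := move1 v hv hfv
      exact ⟨k, hk, _, h⟩
    push Not at hfv
    suffices ∃ k ∈ H, B f ((k : V ≃ₗ[F] V) v) ≠ 0 by
      obtain ⟨k, hk, h⟩ := this
      obtain ⟨k', hk', h'⟩ := move1 _ (by rw [HU.map_eq, hv]) h
      exact ⟨k' * k, H.mul_mem hk' hk, _, h'⟩
    have step : ∀ x a, B e x = 0 → B f x = 0 → a + σ a = -B x x → a * B e v - B x v ≠ 0 →
        ∃ k ∈ H, B f ((k : V ≃ₗ[F] V) v) ≠ 0 := by
      intro x a h1 h2 ha hne
      obtain ⟨_, _, _, hm⟩ := hE x h1 h2 a ha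
      refine ⟨_, hm, ?_⟩
      rw [IsHerm.eich_apply]
      simpa [Herm.smul_right, hfv, h2, hfe] using hne
    obtain ⟨θ, hθ0, hθ⟩ := hB.exists_skew
    set β := B e v
    obtain ⟨r, hr⟩ : ∃ r, r = v - β • f := ⟨_, rfl⟩
    by_cases hr0 : r = 0
    · have hβ : β ≠ 0 := fun h => hv0 (by rw [hr, h, zero_smul, sub_zero] at hr0; exact hr0)
      refine step 0 θ (map_zero _) (map_zero _) (by simpa using hθ) ?_
      simpa using mul_ne_zero hθ0 hβ
    obtain ⟨x₀, hx₀⟩ := hB.exists_apply_eq_one hr0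
    obtain ⟨x, hxdef⟩ : ∃ x, x = x₀ - B f x₀ • e - B e x₀ • f := ⟨_, rfl⟩
    have h1 : B e x = 0 := by simp only [hxdef, map_sub, Herm.smul_right, he, hef]; ring
    have h2 : B f x = 0 := by simp only [hxdef, map_sub, Herm.smul_right, hf, hfe]; ring
    have hre : B r e = 0 := by
      simp only [hr, map_sub, LinearMap.sub_apply, Herm.smul_left, hfe]
      rw [← hB.symm e v]; ring
    have hrf : B r f = 0 := by
      simp only [hr, map_sub, LinearMap.sub_apply, Herm.smul_left, hf]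
      rw [← hB.symm f v, hfv, map_zero]; ring
    have hrx : B r x = 1 := by simp only [hxdef, map_sub, Herm.smul_right, hre, hrf, hx₀]; ring
    have hxv : B x v = 1 := by
      rw [show v = r + β • f by rw [hr]; abel, map_add, Herm.smul_right, hB.eq_zero_symm h2, ← hB.symm r x, hrx, map_one,
        mul_zero, add_zero]
    obtain ⟨a, ha⟩ := hB.invol.exists_trace_eq (μ := -B x x) (by rw [map_neg, hB.self_fixed])
    by_cases hne : a * β - B x v ≠ 0
    · exact step x a h1 h2 ha hne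
    push Not at hne
    refine step x (a + θ) h1 h2 (by rw [map_add]; linear_combination ha + hθ) ?_
    rw [hxv] at hne ⊢
    have hβ : β ≠ 0 := fun h => by rw [h, mul_zero, zero_sub] at hne; exact one_ne_zero (neg_eq_zero.1 hne)
    rw [add_mul, show a * β + θ * β - 1 = θ * β by linear_combination hne]
    exact mul_ne_zero hθ0 hβ
  intro y hy
  refine (?_ : hB.trGroup ≤ H) (hB.generated h2 hex hy)
  rw [IsHerm.trGroup, Subgroup.closure_le]
  rintro _ ⟨u, hu, k, hk, rfl⟩
  show hB.tr hu hk ∈ H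
  by_cases hu0 : u = 0
  · have : hB.tr hu hk = 1 := Subtype.ext (LinearEquiv.ext fun z => by rw [IsHerm.tr_apply, hu0]; simp)
    rw [this]; exact H.one_mem
  obtain ⟨s, hs, t, ht⟩ := move u hu hu0
  have hk' : t * σ t * k + σ (t * σ t * k) = 0 := by
    rw [map_mul, map_mul, hB.invol.invol]; linear_combination (t * σ t) * hk
  have hm : hB.tr (u := e) he hk' ∈ H := by
    have := (hE 0 (map_zero _) (map_zero _) _ (by rw [hk', map_zero, neg_zero])).mem he (map_zero _)
      (by rw [hk', map_zero, neg_zero])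
    have e' : hB.eich he (map_zero (B e)) (a := t * σ t * k) (by rw [hk', map_zero, neg_zero]) = hB.tr he hk' := by
      refine Subtype.ext (LinearEquiv.ext fun z => ?_)
      rw [IsHerm.eich_apply, IsHerm.tr_apply]; simp
    rwa [e'] at this
  have hconj : s * hB.tr hu hk * s⁻¹ = hB.tr (u := e) he hk' := by
    rw [IsHerm.conj_tr]
    refine Subtype.ext (LinearEquiv.ext fun z => ?_)
    rw [IsHerm.tr_apply, IsHerm.tr_apply, ht, Herm.smul_left]
    module
  rw [show hB.tr hu hk = s⁻¹ * hB.tr (u := e) he hk' * s by rw [← hconj]; group]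
  exact H.mul_mem (H.mul_mem (H.inv_mem hs) hm) hs

end roots

/-! ### The model space -/

variable {m d : ℕ}

/-- Coordinates: `m` hyperbolic pairs and `d` orthonormal vectors. -/
abbrev Idx (m d : ℕ) := (Fin m ⊕ Fin m) ⊕ Fin d

/-- The exchange of the two members of a pair. -/
def inv2 : Idx m d → Idx m d := Sum.map Sum.swap id

theorem inv2_inv2 (x : Idx m d) : inv2 (inv2 x) = x := by rcases x with (i | i) | j <;> rfl

variable (σ m d) in
/-- The form. -/
def mB : (Idx m d → F) →ₛₗ[σ] (Idx m d → F) →ₗ[F] F :=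
  LinearMap.mk₂'ₛₗ σ (RingHom.id F) (fun x y => ∑ i, σ (x i) * y (inv2 i))
    (fun x x' y => by simp only [Pi.add_apply, map_add, add_mul, Finset.sum_add_distrib])
    (fun a x y => by
      simp only [Pi.smul_apply, smul_eq_mul, map_mul, Finset.mul_sum]
      exact Finset.sum_congr rfl fun i _ => by ring)
    (fun x y y' => by simp only [Pi.add_apply, mul_add, Finset.sum_add_distrib])
    (fun a x y => by
      simp only [Pi.smul_apply, smul_eq_mul, RingHom.id_apply, Finset.mul_sum]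
      exact Finset.sum_congr rfl fun i _ => by ring)

theorem mB_apply (x y : Idx m d → F) : mB σ m d x y = ∑ i, σ (x i) * y (inv2 i) := rfl

theorem mB_single (x : Idx m d) (v : Idx m d → F) : mB σ m d (Pi.single x 1) v = v (inv2 x) := by
  rw [mB_apply, Finset.sum_eq_single x]
  · simp
  · intro i _ hi; simp [hi]
  · simp

theorem mB_herm (hσ : IsInvol σ) : IsHerm (mB σ m d) where
  invol := hσ
  symm x y := by
    rw [mB_apply, mB_apply, map_sum]
    refine Fintype.sum_equiv ⟨inv2, inv2, inv2_inv2, inv2_inv2⟩ _ _ fun i => ?_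
    rw [map_mul, hσ.invol]
    show _ = σ (y (inv2 i)) * x (inv2 (inv2 i))
    rw [inv2_inv2, mul_comm]
  nondeg x hx := by
    funext i
    have h := hx (Pi.single (inv2 i) 1)
    rw [mB_apply, Finset.sum_eq_single i] at h
    · simpa [IsInvol.apply_eq_zero_iff] using h
    · intro j _ hj
      rw [Pi.single_apply, if_neg fun e => hj (by simpa [inv2_inv2] using congrArg inv2 e), mul_zero]
    · simp

/-- `e i`. -/
def ev (i : Fin m) : Idx m d → F := Pi.single (Sum.inl (Sum.inl i)) 1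

/-- `f i`. -/
def fv (i : Fin m) : Idx m d → F := Pi.single (Sum.inl (Sum.inr i)) 1

/-- `w j`. -/
def wv (j : Fin d) : Idx m d → F := Pi.single (Sum.inr j) 1

theorem B_ev (i : Fin m) (v : Idx m d → F) : mB σ m d (ev i) v = v (.inl (.inr i)) := mB_single _ v

theorem B_fv (i : Fin m) (v : Idx m d → F) : mB σ m d (fv i) v = v (.inl (.inl i)) := mB_single _ v

theorem B_wv (j : Fin d) (v : Idx m d → F) : mB σ m d (wv j) v = v (.inr j) := mB_single _ v

variable (hσ : IsInvol σ)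
include hσ

/-- A diagonal isometry. -/
noncomputable def diagIso (κ : Idx m d → F) (hκ : ∀ i, σ (κ i) * κ (inv2 i) = 1) : HU (mB σ m d) :=
  (mB_herm hσ).ofPreserves (Matrix.toLin' (Matrix.diagonal κ)) fun y z => by
    rw [mB_apply, mB_apply]
    refine Finset.sum_congr rfl fun i _ => ?_
    simp only [Matrix.toLin'_apply, Matrix.mulVec_diagonal, map_mul]
    linear_combination (σ (y i) * z (inv2 i)) * hκ i

theorem diagIso_apply (κ : Idx m d → F) (hκ : ∀ i, σ (κ i) * κ (inv2 i) = 1) (v : Idx m d → F) (i : Idx m d) :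
    (diagIso hσ κ hκ : (Idx m d → F) ≃ₗ[F] (Idx m d → F)) v i = κ i * v i := by
  simp [diagIso, Matrix.toLin'_apply, Matrix.mulVec_diagonal]

theorem diagIso_single (κ : Idx m d → F) (hκ : ∀ i, σ (κ i) * κ (inv2 i) = 1) (x : Idx m d) :
    (diagIso hσ κ hκ : (Idx m d → F) ≃ₗ[F] (Idx m d → F)) (Pi.single x 1) = κ x • (Pi.single x 1 : Idx m d → F) := by
  funext i
  rw [diagIso_apply]
  rcases eq_or_ne i x with rfl | h
  · simp
  · simp [h]

theorem det_diagIso (κ : Idx m d → F) (hκ : ∀ i, σ (κ i) * κ (inv2 i) = 1) (h : ∏ i, κ i = 1) :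
    diagIso hσ κ hκ ∈ HSU (mB σ m d) := by
  rw [MonoidHom.mem_ker]
  ext
  show ((LinearEquiv.det _ : Fˣ) : F) = 1
  rw [LinearEquiv.coe_det]
  show LinearMap.det (Matrix.toLin' (Matrix.diagonal κ)) = 1
  rw [LinearMap.det_toLin', Matrix.det_diagonal, h]

theorem diagIso_comm (κ κ' : Idx m d → F) (hκ : ∀ i, σ (κ i) * κ (inv2 i) = 1)
    (hκ' : ∀ i, σ (κ' i) * κ' (inv2 i) = 1) : Commute (diagIso hσ κ hκ) (diagIso hσ κ' hκ') := by
  refine Subtype.ext (LinearEquiv.ext fun v => funext fun i => ?_)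
  simp only [Subgroup.coe_mul, LinearEquiv.mul_apply, diagIso_apply]
  ring

section cycle

variable [NeZero m] {θ : F} (hθ0 : θ ≠ 0) (hθ : θ + σ θ = 0)

omit hσ in
/-- The index permutation of the cycle. -/
noncomputable def cycPerm : Equiv.Perm (Idx m d) :=
  Equiv.sumCongr ((Equiv.sumCongr (Equiv.subRight (1 : Fin m)) (Equiv.subRight (1 : Fin m))) *
    Equiv.swap (Sum.inl 0) (Sum.inr 0)) (Equiv.refl _)

omit hσ in
/-- The coefficients of the cycle. -/
def cycCoeff (σ : F →+* F) (θ : F) : Idx m d → F :=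
  Sum.elim (Sum.elim (fun i => if i = 0 then (σ θ)⁻¹ else 1) (fun i => if i = 0 then θ else 1)) (fun _ => 1)

omit hσ in
theorem cycPerm_inl (i : Fin m) : cycPerm (d := d) (.inl (.inl i)) = if i = 0 then .inl (.inr (i - 1)) else .inl (.inl (i - 1)) := by
  by_cases h : i = 0
  · subst h; simp [cycPerm, Equiv.sumCongr, Equiv.subRight]
  · rw [if_neg h]
    simp [cycPerm, Equiv.sumCongr, Equiv.subRight, Equiv.swap_apply_of_ne_of_ne, h]

omit hσ in
theorem cycPerm_inr (i : Fin m) : cycPerm (d := d) (.inl (.inr i)) = if i = 0 then .inl (.inl (i - 1)) else .inl (.inr (i - 1)) := by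
  by_cases h : i = 0
  · subst h; simp [cycPerm, Equiv.sumCongr, Equiv.subRight]
  · rw [if_neg h]
    simp [cycPerm, Equiv.sumCongr, Equiv.subRight, Equiv.swap_apply_of_ne_of_ne, h]

omit hσ in
theorem cycPerm_w (j : Fin d) : cycPerm (m := m) (.inr j : Idx m d) = .inr j := by
  simp [cycPerm, Equiv.sumCongr]

include hθ0 in
theorem exists_cycle (hθ : θ + σ θ = 0) : ∃ g ∈ HSU (mB σ m d), ∀ v x,
    (g : (Idx m d → F) ≃ₗ[F] (Idx m d → F)) v x = cycCoeff σ θ x * v (cycPerm x) := by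
  classical
  let M : Matrix (Idx m d) (Idx m d) F := Matrix.diagonal (cycCoeff σ θ) * (cycPerm (m := m) (d := d)).permMatrix F
  have hM : ∀ v x, Matrix.toLin' M v x = cycCoeff σ θ x * v (cycPerm x) := fun v x => by
    simp only [M, Matrix.toLin'_apply, ← Matrix.mulVec_mulVec, Matrix.mulVec_diagonal, Matrix.permMatrix_mulVec,
      Function.comp_apply]
  have hσθ : σ θ ≠ 0 := fun h => hθ0 (IsInvol.apply_eq_zero_iff.1 h)
  refine ⟨(mB_herm hσ).ofPreserves (Matrix.toLin' M) fun y z => ?_, ?_, fun v x => hM v x⟩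
  · rw [mB_apply, mB_apply]
    refine Fintype.sum_equiv cycPerm _ _ fun i => ?_
    rw [hM, hM, map_mul]
    rcases i with (i | i) | j
    · by_cases h : i = 0
      · simp [inv2, cycCoeff, cycPerm_inl, cycPerm_inr, h, hσ.invol]
        field_simp
      · simp [inv2, cycCoeff, cycPerm_inl, cycPerm_inr, h]
    · by_cases h : i = 0
      · simp [inv2, cycCoeff, cycPerm_inl, cycPerm_inr, h]
        field_simp
      · simp [inv2, cycCoeff, cycPerm_inl, cycPerm_inr, h]
    · simp [inv2, cycCoeff, cycPerm_w]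
  · rw [MonoidHom.mem_ker]
    ext
    show ((LinearEquiv.det _ : Fˣ) : F) = 1
    rw [LinearEquiv.coe_det]
    show LinearMap.det (Matrix.toLin' M) = 1
    rw [LinearMap.det_toLin', Matrix.det_mul, Matrix.det_diagonal,
      Matrix.det_permutation, cycPerm, Equiv.Perm.sign_sumCongr, map_mul, Equiv.Perm.sign_sumCongr,
      Equiv.Perm.sign_swap Sum.inl_ne_inr, Equiv.Perm.sign_refl, Int.units_mul_self, Fintype.prod_sum_type,
      Fintype.prod_sum_type]
    simp only [cycCoeff, Sum.elim_inl, Sum.elim_inr, Finset.prod_ite_eq', Finset.mem_univ, if_true,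
      Finset.prod_const_one, mul_one, one_mul, Units.val_neg, Units.val_one, Int.cast_neg, Int.cast_one]
    rw [eq_neg_of_add_eq_zero_right hθ]
    field_simp

/-- The cycle. -/
noncomputable def cyc : HU (mB σ m d) := (exists_cycle hσ hθ0 hθ (m := m) (d := d)).choose

theorem cyc_mem : cyc hσ hθ0 hθ ∈ HSU (mB σ m d) := (exists_cycle hσ hθ0 hθ (m := m) (d := d)).choose_spec.1

theorem cyc_apply (v : Idx m d → F) (x : Idx m d) :
    (cyc (m := m) (d := d) hσ hθ0 hθ : (Idx m d → F) ≃ₗ[F] (Idx m d → F)) v x = cycCoeff σ θ x * v (cycPerm x) :=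
  (exists_cycle hσ hθ0 hθ (m := m) (d := d)).choose_spec.2 v x

theorem cyc_single (y : Idx m d) :
    (cyc (m := m) (d := d) hσ hθ0 hθ : (Idx m d → F) ≃ₗ[F] (Idx m d → F)) (Pi.single (cycPerm y) 1) =
      cycCoeff σ θ y • (Pi.single y 1 : Idx m d → F) := by
  funext x
  rw [cyc_apply]
  rcases eq_or_ne x y with rfl | h
  · simp
  · simp [h, (cycPerm (m := m) (d := d)).injective.ne h]

theorem cyc_e {i j : Fin m} (h : i.val + 1 = j.val) :
    (cyc (m := m) (d := d) hσ hθ0 hθ : (Idx m d → F) ≃ₗ[F] (Idx m d → F)) (ev i) = ev j ∧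
      (cyc (m := m) (d := d) hσ hθ0 hθ : (Idx m d → F) ≃ₗ[F] (Idx m d → F)) (fv i) = fv j := by
  have hj0 : j ≠ 0 := fun e => by rw [e] at h; simp at h
  have hji : j - 1 = i := Fin.ext (by rw [Fin.val_sub_one_of_ne_zero hj0]; omega)
  constructor
  · have := cyc_single hσ hθ0 hθ (d := d) (.inl (.inl j))
    rw [cycPerm_inl, if_neg hj0, hji] at this
    simpa [cycCoeff, hj0, ev] using this
  · have := cyc_single hσ hθ0 hθ (d := d) (.inl (.inr j))
    rw [cycPerm_inr, if_neg hj0, hji] at this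
    simpa [cycCoeff, hj0, fv] using this

theorem cyc_last {l : Fin m} (h : l.val + 1 = m) :
    (cyc (m := m) (d := d) hσ hθ0 hθ : (Idx m d → F) ≃ₗ[F] (Idx m d → F)) (ev l) = θ • fv 0 ∧
      (cyc (m := m) (d := d) hσ hθ0 hθ : (Idx m d → F) ≃ₗ[F] (Idx m d → F)) (fv l) = (σ θ)⁻¹ • ev 0 := by
  have hl : (0 : Fin m) - 1 = l := by
    apply Fin.ext
    rw [Fin.val_sub, Fin.val_zero, Fin.val_one']
    rcases Nat.lt_or_ge 1 m with hm | hm
    · rw [Nat.mod_eq_of_lt hm, Nat.add_zero, Nat.mod_eq_of_lt (by omega)]; omega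
    · have : m = 1 := by have := l.isLt; omega
      subst this; simp
  constructor
  · have := cyc_single hσ hθ0 hθ (m := m) (d := d) (.inl (.inr 0))
    rw [cycPerm_inr, if_pos rfl, hl] at this
    simpa [cycCoeff, ev, fv] using this
  · have := cyc_single hσ hθ0 hθ (m := m) (d := d) (.inl (.inl 0))
    rw [cycPerm_inl, if_pos rfl, hl] at this
    simpa [cycCoeff, ev, fv] using this

theorem cyc_w (j : Fin d) :
    (cyc (m := m) (d := d) hσ hθ0 hθ : (Idx m d → F) ≃ₗ[F] (Idx m d → F)) (wv j) = wv j := by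
  have := cyc_single hσ hθ0 hθ (m := m) (.inr j)
  rw [cycPerm_w] at this
  simpa [cycCoeff, wv] using this

theorem cyc_pow_ev (k : ℕ) (hk : k < m) :
    ((cyc hσ hθ0 hθ ^ k : HU (mB σ m d)) : (Idx m d → F) ≃ₗ[F] (Idx m d → F)) (ev 0) = ev ⟨k, hk⟩ ∧
      ((cyc hσ hθ0 hθ ^ k : HU (mB σ m d)) : (Idx m d → F) ≃ₗ[F] (Idx m d → F)) (fv 0) = fv ⟨k, hk⟩ ∧
      (∀ i j : Fin m, i.val + k = j.val →
        ((cyc hσ hθ0 hθ ^ k : HU (mB σ m d)) : (Idx m d → F) ≃ₗ[F] (Idx m d → F)) (ev i) = ev j ∧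
        ((cyc hσ hθ0 hθ ^ k : HU (mB σ m d)) : (Idx m d → F) ≃ₗ[F] (Idx m d → F)) (fv i) = fv j) := by
  have key : ∀ k : ℕ, ∀ i j : Fin m, i.val + k = j.val →
      ((cyc hσ hθ0 hθ ^ k : HU (mB σ m d)) : (Idx m d → F) ≃ₗ[F] (Idx m d → F)) (ev i) = ev j ∧
      ((cyc hσ hθ0 hθ ^ k : HU (mB σ m d)) : (Idx m d → F) ≃ₗ[F] (Idx m d → F)) (fv i) = fv j := by
    intro k
    induction k with
    | zero => intro i j h; rw [show j = i from Fin.ext (by omega)]; exact ⟨rfl, rfl⟩
    | succ k ih =>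
      intro i j h
      have hk' : i.val + k < m := by have := j.isLt; omega
      obtain ⟨h1, h2⟩ := ih i ⟨_, hk'⟩ rfl
      obtain ⟨h3, h4⟩ := cyc_e hσ hθ0 hθ (d := d) (i := ⟨_, hk'⟩) (j := j) (by simp only; omega)
      simp only [pow_succ', Subgroup.coe_mul, LinearEquiv.mul_apply, h1, h2, h3, h4, and_self]
  obtain ⟨h1, h2⟩ := key k 0 ⟨k, hk⟩ (by simp)
  exact ⟨h1, h2, key k⟩

theorem cyc_pow_m :
    ((cyc hσ hθ0 hθ ^ m : HU (mB σ m d)) : (Idx m d → F) ≃ₗ[F] (Idx m d → F)) (ev 0) = θ • fv 0 ∧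
      ((cyc hσ hθ0 hθ ^ m : HU (mB σ m d)) : (Idx m d → F) ≃ₗ[F] (Idx m d → F)) (fv 0) = (σ θ)⁻¹ • ev 0 := by
  have hm : 0 < m := Nat.pos_of_ne_zero (NeZero.ne m)
  obtain ⟨k, hk⟩ : ∃ k, m = k + 1 := ⟨m - 1, by omega⟩
  obtain ⟨h1, h2, -⟩ := cyc_pow_ev hσ hθ0 hθ (m := m) (d := d) k (by omega)
  obtain ⟨h3, h4⟩ := cyc_last hσ hθ0 hθ (m := m) (d := d) (l := (⟨k, by omega⟩ : Fin m)) (by simp only; omega)
  have e : cyc (m := m) (d := d) hσ hθ0 hθ ^ m = cyc hσ hθ0 hθ * cyc hσ hθ0 hθ ^ k := by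
    rw [← pow_succ']; exact congrArg (cyc (m := m) (d := d) hσ hθ0 hθ ^ ·) hk
  rw [e]
  simp only [Subgroup.coe_mul, LinearEquiv.mul_apply, h1, h2, h3, h4, and_self]

omit hσ in
theorem cycPerm_inv2 (i : Idx m d) : cycPerm (inv2 i) = inv2 (cycPerm i) := by
  rcases i with (i | i) | j
  · simp only [inv2, Sum.map_inl, Sum.swap_inl, cycPerm_inl, cycPerm_inr]; split_ifs <;> rfl
  · simp only [inv2, Sum.map_inl, Sum.swap_inr, cycPerm_inl, cycPerm_inr]; split_ifs <;> rfl
  · simp [inv2, cycPerm_w]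

theorem cyc_conj_diag (κ : Idx m d → F) (hκ : ∀ i, σ (κ i) * κ (inv2 i) = 1) :
    cyc hσ hθ0 hθ * diagIso hσ κ hκ * (cyc hσ hθ0 hθ)⁻¹ =
      diagIso hσ (fun i => κ (cycPerm i)) (fun i => by rw [cycPerm_inv2]; exact hκ _) := by
  rw [mul_inv_eq_iff_eq_mul]
  refine Subtype.ext (LinearEquiv.ext fun v => funext fun x => ?_)
  simp only [Subgroup.coe_mul, LinearEquiv.mul_apply, diagIso_apply, cyc_apply]
  ring

end cycle

omit hσ in
theorem eq_sum_single (v : Idx m d → F) : v = ∑ i, v i • (Pi.single i 1 : Idx m d → F) := by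
  funext j; simp [Finset.sum_apply, Pi.single_apply]

/-- Roots at `e 0` along every coordinate give all roots at `e 0`. -/
theorem rt_all [NeZero m] {H : Subgroup (HU (mB σ m d))} (hL : Long (mB_herm hσ) H (ev 0))
    (hE : ∀ i, i ≠ .inl (.inl 0) → i ≠ .inl (.inr 0) → ∀ c : F, ∃ a, Rt (mB_herm hσ) H (ev 0) (c • (Pi.single i 1 : Idx m d → F)) a)
    (x : Idx m d → F) (hx₁ : mB σ m d (ev 0) x = 0) (hx₂ : mB σ m d (fv 0) x = 0) (a : F)
    (ha : a + σ a = -mB σ m d x x) : Rt (mB_herm hσ) H (ev 0) x a := by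
  classical
  suffices ∃ b, Rt (mB_herm hσ) H (ev 0) x b by
    obtain ⟨b, hb⟩ := this
    exact hL.any hb ha
  have h0 : Rt (mB_herm hσ) H (ev 0) (0 : Idx m d → F) 0 := rt_zero (by rw [B_ev]; simp [ev])
  rw [eq_sum_single x]
  refine Finset.sum_induction _ (fun y => ∃ b, Rt (mB_herm hσ) H (ev 0) y b) (fun y z ⟨b, hy⟩ ⟨c, hz⟩ => ⟨_, hy.add hz⟩)
    ⟨0, h0⟩ fun i _ => ?_
  by_cases h1 : i = .inl (.inl 0)
  · subst h1
    rw [B_fv] at hx₂
    exact ⟨0, by rw [hx₂, zero_smul]; exact h0⟩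
  by_cases h2 : i = .inl (.inr 0)
  · subst h2
    rw [B_ev] at hx₁
    exact ⟨0, by rw [hx₁, zero_smul]; exact h0⟩
  exact hE i h1 h2 _

variable [Finite F]

theorem exists_skew' : ∃ θ : F, θ ≠ 0 ∧ θ + σ θ = 0 := (mB_herm (m := 0) (d := 0) hσ).exists_skew

omit hσ in
theorem finrank_model : Module.finrank F (Idx m d → F) = 2 * m + d := by
  simp [Module.finrank_pi, two_mul]

/-- Even dimension. -/
theorem exists_pair_even (hm : 2 ≤ m) :
    ∃ a b : HU (mB σ m 0), Subgroup.closure ({a, b} : Set (HU (mB σ m 0))) = HSU (mB σ m 0) := by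
  classical
  have : Fintype F := Fintype.ofFinite F
  have : NeZero m := ⟨by omega⟩
  obtain ⟨ξ, hgen⟩ := IsCyclic.exists_generator (α := Fˣ)
  obtain ⟨θ, hθ0, hθ⟩ := exists_skew' hσ
  set hB := mB_herm (m := m) (d := 0) hσ
  have hξ : (ξ : F) ≠ 0 := ξ.ne_zero
  have hσξ : σ (ξ : F) ≠ 0 := fun h => hξ (IsInvol.apply_eq_zero_iff.1 h)
  let o : Fin m := ⟨1, by omega⟩
  have ho : o ≠ 0 := fun h => by have := congrArg Fin.val h; simp [o] at this
  let κe : Fin m → F := fun i => if i = 0 then σ ξ else if i = o then (σ ξ)⁻¹ else 1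
  let κ : Idx m 0 → F := Sum.elim (Sum.elim κe fun i => (σ (κe i))⁻¹) Fin.elim0
  have hκe : ∀ i, κe i ≠ 0 := fun i => by simp only [κe]; split_ifs <;> simp [hσξ]
  have hκ : ∀ i, σ (κ i) * κ (inv2 i) = 1 := by
    rintro ((i | i) | j)
    · simp only [κ, inv2, Sum.map_inl, Sum.swap_inl, Sum.elim_inl, Sum.elim_inr]
      exact mul_inv_cancel₀ fun h => hκe i (IsInvol.apply_eq_zero_iff.1 h)
    · simp only [κ, inv2, Sum.map_inl, Sum.swap_inr, Sum.elim_inl, Sum.elim_inr, map_inv₀, hσ.invol]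
      exact inv_mul_cancel₀ (hκe i)
    · exact j.elim0
  set a := diagIso hσ κ hκ
  have hdet : a ∈ HSU (mB σ m 0) := det_diagIso hσ κ hκ (by
    rw [Fintype.prod_sum_type, Fintype.prod_sum_type]
    simp only [κ, Sum.elim_inl, Sum.elim_inr, Finset.univ_eq_empty, Finset.prod_empty, mul_one]
    rw [Finset.prod_inv_distrib, Finset.prod_eq_mul (0 : Fin m) o ho.symm (fun i _ h => by simp [κe, h.1, h.2]) (by simp) (by simp),
      Finset.prod_eq_mul (0 : Fin m) o ho.symm (fun i _ h => by simp [κe, h.1, h.2]) (by simp) (by simp)]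
    simp [κe, ho, hσ.invol])
  have hee : mB σ m 0 (ev 0) (ev 0) = 0 := by rw [B_ev]; simp [ev]
  have heo : ∀ c : F, mB σ m 0 (ev 0) (c • fv o) = 0 := fun c => by rw [B_ev]; simp [fv, ho.symm]
  have hoo : ∀ c : F, (0 : F) + σ 0 = -mB σ m 0 (c • fv o) (c • fv o) := fun c => by
    rw [Herm.smul_left, Herm.smul_right, B_fv]; simp [fv]
  let X : F → HU (mB σ m 0) := fun c => hB.eich hee (heo c) (hoo c)
  set C := cyc hσ hθ0 hθ (m := m) (d := 0)
  refine ⟨a, X 1 * C, le_antisymm ?_ ?_⟩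
  · rw [Subgroup.closure_le]
    rintro _ (rfl | rfl)
    exacts [hdet, mul_mem (hB.eich_mem _ _ _) (cyc_mem hσ hθ0 hθ)]
  set H := Subgroup.closure ({a, X 1 * C} : Set (HU (mB σ m 0)))
  have ha : a ∈ H := Subgroup.subset_closure (Or.inl rfl)
  have hb : X 1 * C ∈ H := Subgroup.subset_closure (Or.inr rfl)
  have hae : ∀ i, (a : (Idx m 0 → F) ≃ₗ[F] (Idx m 0 → F)) (ev i) = κe i • ev i ∧
      (a : (Idx m 0 → F) ≃ₗ[F] (Idx m 0 → F)) (fv i) = (σ (κe i))⁻¹ • fv i := fun i =>
    ⟨diagIso_single hσ κ hκ _, diagIso_single hσ κ hκ _⟩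
  have hXc : ∀ c c', c = c' → X c = X c' := fun c c' e => by rw [e]
  have hscale : ∀ (g : HU (mB σ m 0)) (p r : F), (g : (Idx m 0 → F) ≃ₗ[F] (Idx m 0 → F)) (ev 0) = p • ev 0 →
      (g : (Idx m 0 → F) ≃ₗ[F] (Idx m 0 → F)) (fv o) = r • fv o → ∀ c, g * X c * g⁻¹ = X (σ p * r * c) := by
    intro g p r h1 h2 c
    refine (eich_conj_scale hB g h1 (x := c • fv o) (r := r) ?_ hee (heo c) (hoo c)).trans (eich_congr' hB rfl ?_ ?_)
    · rw [LinearEquiv.map_smul, h2, smul_comm]
    · rw [smul_smul]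
    · ring
  have hXa : ∀ c, a * X c * a⁻¹ = X ((ξ : F) ^ 2 * c) := fun c => by
    rw [hscale a _ _ (hae 0).1 (hae o).2 c]
    refine hXc _ _ ?_
    simp only [κe, ho, if_true, if_false, map_inv₀, hσ.invol, inv_inv]
    ring
  have hadd : ∀ c c', X c * X c' = X (c + c') := fun c c' => by
    refine (eich_mul' hB hee (heo c) (heo c') (hoo c) (hoo c')).trans (eich_congr' hB rfl (add_smul c c' _).symm ?_)
    rw [Herm.smul_left, Herm.smul_right, B_fv]
    simp [fv]
  have hX0 : X 0 = 1 := by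
    have h := hadd 0 0
    rw [add_zero] at h
    exact mul_eq_left.1 h
  have hXinv : ∀ c, (X c)⁻¹ = X (-c) := fun c => inv_eq_of_mul_eq_one_right (by rw [hadd, add_neg_cancel, hX0])
  -- the first root group
  set π := cycPerm (m := m) (d := 0)
  let ν : F := σ (κ (π (.inl (.inl 0)))) * κ (π (.inl (.inr o)))
  have hν : ν ≠ 1 := by
    have ho1 : o - 1 = 0 := Fin.ext (by rw [Fin.val_sub_one_of_ne_zero ho]; simp [o])
    have hm0 : (0 : Fin m) - 1 ≠ 0 := fun e => ho (by
      have h1 : (1 : Fin m) = 0 := by rw [zero_sub, neg_eq_zero] at e; exact e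
      exact Fin.ext (by rw [← h1, Fin.val_one', Nat.mod_eq_of_lt (by omega)]))
    simp only [ν, π, cycPerm_inl, cycPerm_inr, if_true, if_neg ho, ho1, κ, κe, Sum.elim_inl, Sum.elim_inr, if_neg hm0,
      map_inv₀, hσ.invol]
    have hord : orderOf ξ = Fintype.card F - 1 := by
      rw [orderOf_eq_card_of_forall_mem_zpowers hgen, Nat.card_units, Nat.card_eq_fintype_card]
    have hne : (ξ : F) ≠ σ ξ := fun e => by
      obtain ⟨u, hu⟩ := hσ.exists_ne
      rcases eq_or_ne u 0 with rfl | hu0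
      · exact hu (map_zero σ)
      obtain ⟨k, hk⟩ := hgen (Units.mk0 u hu0)
      refine hu ?_
      have hk' : u = (ξ : F) ^ k := by
        have := congrArg Units.val hk
        simpa using this.symm
      rw [hk', map_zpow₀, ← e]
    split_ifs with hmo
    · rw [inv_inv]
      exact fun h => hne (by
        have := mul_eq_one_iff_eq_inv₀ (inv_ne_zero hξ) |>.1 h
        rw [inv_inv] at this; exact this.symm)
    · simp only [inv_one, one_mul, ne_eq, inv_eq_one]
      intro h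
      exact hne (by rw [h, map_one])
  have hd : X (((ξ : F) ^ 2 - 1) * (1 - ν)) ∈ H := by
    have h1 : X 1 * C * a * (X 1 * C)⁻¹ ∈ H := H.mul_mem (H.mul_mem hb ha) (H.inv_mem hb)
    set A := diagIso hσ (fun i => κ (π i)) (fun i => by rw [cycPerm_inv2]; exact hκ _) with hA
    have hCA : C * a * C⁻¹ = A := cyc_conj_diag hσ hθ0 hθ κ hκ
    have hcomm : a * A * a⁻¹ = A := by rw [mul_inv_eq_iff_eq_mul]; exact diagIso_comm hσ _ _ _ _
    have hAX : ∀ c, A * X c * A⁻¹ = X (ν * c) := fun c =>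
      hscale A _ _ (diagIso_single hσ _ _ _) (diagIso_single hσ _ _ _) c
    have h := H.mul_mem (H.mul_mem (H.mul_mem ha h1) (H.inv_mem ha)) (H.inv_mem h1)
    have e : a * (X 1 * C * a * (X 1 * C)⁻¹) * a⁻¹ * (X 1 * C * a * (X 1 * C)⁻¹)⁻¹ =
        (a * X 1 * a⁻¹) * ((a * A * a⁻¹) * ((a * (X 1)⁻¹ * a⁻¹) * X 1) * A⁻¹) * (X 1)⁻¹ := by
      rw [← hCA]; group
    rw [e, hcomm, hXa, hXinv, hXa, hadd, hAX, hadd, hadd] at h
    rwa [hXc _ (((ξ : F) ^ 2 - 1) * (1 - ν)) (by ring)] at h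
  have hclo : Subring.closure ({(ξ : F) ^ 2} : Set F) = ⊤ := by
    refine closure_eq_top_of_pow (pow_ne_zero 2 hξ) fun k hk h j hj hcard => ?_
    have h1 : ξ ^ (2 * (k - 1)) = 1 := Units.ext (by rw [Units.val_pow_eq_pow_val, pow_mul]; exact h)
    have hord : orderOf ξ = Nat.card F - 1 := by
      rw [orderOf_eq_card_of_forall_mem_zpowers hgen, Nat.card_units]
    have hdvd := orderOf_dvd_of_pow_eq_one h1
    rw [hord, ← hcard] at hdvd
    have hle := Nat.le_of_dvd (by omega) hdvd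
    have : k ^ 2 ≤ k ^ j := Nat.pow_le_pow_right (by omega) hj
    have : 2 * k ≤ k ^ 2 := by rw [sq]; exact Nat.mul_le_mul_right k hk
    omega
  have hXall : ∀ c, X c ∈ H := by
    let A : AddSubgroup F :=
      { carrier := {c | X c ∈ H}
        add_mem' := fun {x y} hx hy => by show X (x + y) ∈ H; rw [← hadd]; exact H.mul_mem hx hy
        zero_mem' := by show X 0 ∈ H; rw [hX0]; exact H.one_mem
        neg_mem' := fun {x} hx => by show X (-x) ∈ H; rw [← hXinv]; exact H.inv_mem hx }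
    refine fun c => mem_of_ring_generator A (mul_ne_zero (sub_ne_zero.2 fun h => ?_) (sub_ne_zero.2 hν.symm)) (show _ ∈ A from hd) (fun x hx => ?_) hclo c
    · rw [h, Subring.closure_singleton_one] at hclo
      have hcard : ∀ x : F, ∃ l : ℤ, (l : F) = x := fun x => Subring.mem_bot.1 (hclo ▸ Subring.mem_top x)
      obtain ⟨k, hk⟩ := hcard θ
      obtain ⟨u, hu⟩ := hσ.exists_ne
      obtain ⟨l, hl⟩ := hcard u
      exact hu (by rw [← hl]; simp)
    · show X _ ∈ H
      rw [← hXa]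
      exact H.mul_mem (H.mul_mem ha hx) (H.inv_mem ha)
  have hC : C ∈ H := by
    have := H.mul_mem (H.inv_mem (hXall 1)) hb
    rwa [inv_mul_cancel_left] at this
  have hedge : ∀ (i j : Fin m) (c : F), i.val + 1 = j.val → Rt hB H (ev i) (c • fv j) 0 := by
    intro i j c hij
    have h := (Rt.mk (hXall c)).conj (H.pow_mem hC i.val)
    rw [LinearEquiv.map_smul, (cyc_pow_ev hσ hθ0 hθ i.val i.isLt).1,
      ((cyc_pow_ev hσ hθ0 hθ i.val i.isLt).2.2 o j (by simp only [o]; omega)).2] at h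
    exact h
  have hup0 : ∀ (j : Fin m) (c : F), 0 < j.val → Rt hB H (ev 0) (c • fv j) 0 := by
    intro j
    obtain ⟨k, hk⟩ : ∃ k, j.val = k + 1 ∨ j.val = 0 := ⟨j.val - 1, by omega⟩
    induction k generalizing j with
    | zero => intro c hj; exact hedge 0 j c (by simp only [Fin.val_zero]; omega)
    | succ k ih =>
      intro c hj
      let i : Fin m := ⟨k + 1, by have := j.isLt; omega⟩
      have hi : (0 : Fin m) ≠ i := fun e => by have := congrArg Fin.val e; simp [i] at this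
      have hj0 : (0 : Fin m) ≠ j := fun e => by rw [← e] at hj; simp at hj
      have hij : i ≠ j := fun e => by have := congrArg Fin.val e; simp only [i] at this; omega
      obtain ⟨hu, hux, hh, hm'⟩ := hedge i j c (by simp only [i]; omega)
      have hu0 : (hB.eich hu hux hh).1 (ev 0) = ev 0 := by
        rw [IsHerm.eich_apply, Herm.smul_left, B_ev, B_fv]; simp [ev, fv, hj0.symm]
      have h := ((ih i (Or.inl rfl) 1 (by simp [i])).conj hm').of_eq hu0 rfl rfl
      have h2 := h.add (ih i (Or.inl rfl) 1 (by simp [i])).neg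
      refine h2.of_eq rfl ?_ ?_
      · simp only [IsHerm.eich_apply, one_smul, Herm.smul_left, B_ev, B_fv]; simp [fv, hij.symm]
      · simp only [IsHerm.eich_apply, one_smul, Herm.smul_left, B_ev, B_fv, map_zero, add_zero, zero_sub, map_add, map_neg,
          LinearMap.add_apply, Herm.smul_right]
        simp [fv, hij]
  have hup : ∀ (i j : Fin m) (c : F), i.val < j.val → Rt hB H (ev i) (c • fv j) 0 := by
    intro i j c hij
    have h := (hup0 ⟨j.val - i.val, by omega⟩ c (by simp only; omega)).conj (H.pow_mem hC i.val)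
    rw [LinearEquiv.map_smul, (cyc_pow_ev hσ hθ0 hθ i.val i.isLt).1,
      ((cyc_pow_ev hσ hθ0 hθ i.val i.isLt).2.2 ⟨j.val - i.val, by omega⟩ j (by simp only; omega)).2] at h
    exact h
  let l : Fin m := ⟨m - 1, by omega⟩
  let p : Fin m := ⟨m - 2, by omega⟩
  have hl0 : (0 : Fin m) ≠ l := fun e => by have := congrArg Fin.val e; simp [l] at this; omega
  have hsum0 : ∀ c : F, Rt hB H (ev 0) (c • ev l) 0 := by
    intro c
    have hσθ : σ θ ≠ 0 := fun h => hθ0 (IsInvol.apply_eq_zero_iff.1 h)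
    have h := (hedge p l (-(σ c) * σ θ) (by simp only [p, l]; omega)).conj hC
    rw [LinearEquiv.map_smul, (cyc_e hσ hθ0 hθ (i := p) (j := l) (by simp only [p, l]; omega)).1,
      (cyc_last hσ hθ0 hθ (l := l) (by simp only [l]; omega)).2, smul_smul, mul_assoc, mul_inv_cancel₀ hσθ, mul_one] at h
    obtain ⟨h1, h2, h3, hm⟩ := h
    have hv : mB σ m 0 (ev 0) (c • ev l) = 0 := by rw [B_ev]; simp [ev]
    have hq : (0 : F) + σ 0 = -mB σ m 0 (c • ev l) (c • ev l) := by
      rw [Herm.smul_left, Herm.smul_right, B_ev]; simp [ev]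
    refine ⟨hee, hv, hq, ?_⟩
    have e : hB.eich h1 h2 h3 = hB.eich hee hv hq := by
      refine Subtype.ext (LinearEquiv.ext fun z => ?_)
      simp only [IsHerm.eich_apply, Herm.smul_left, map_neg, hσ.invol]
      module
    rwa [← e]
  have hall : ∀ i : Idx m 0, i ≠ .inl (.inl 0) → i ≠ .inl (.inr 0) → ∀ c : F,
      ∃ a, Rt hB H (ev 0) (c • (Pi.single i 1 : Idx m 0 → F)) a := by
    rintro ((i | i) | j) h1 h2 c
    · have hi : (0 : Fin m) ≠ i := fun e => h1 (by rw [e])
      rcases eq_or_ne i l with rfl | hil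
      · exact ⟨0, hsum0 c⟩
      obtain ⟨hu, hux, hh, hm'⟩ := hup i l (-(σ c)) (by
        have := i.isLt
        have : i.val ≠ m - 1 := fun e => hil (Fin.ext e)
        simp only [l]; omega)
      have hu0 : (hB.eich hu hux hh).1 (ev 0) = ev 0 := by
        rw [IsHerm.eich_apply, Herm.smul_left, B_ev, B_fv]; simp [ev, hi, hl0]
      have h := ((hsum0 1).conj hm').of_eq hu0 rfl rfl
      have h2 := h.add (hsum0 1).neg
      refine ⟨_, h2.of_eq rfl ?_ rfl⟩
      simp only [IsHerm.eich_apply, one_smul, Herm.smul_left, B_ev, B_fv, map_neg, hσ.invol]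
      simp [ev, hil]
    · exact ⟨0, hup0 i c (Nat.pos_of_ne_zero fun e => h2 (by rw [show i = 0 from Fin.ext e]))⟩
    · exact j.elim0
  have hL : Long hB H (ev 0) := by
    refine long_of_pair (x := fv o) (y := ev o) hee (by rw [B_ev]; simp [fv])
      (fun c => ⟨0, hup0 o c (by simp [o])⟩) ?_
    obtain ⟨b, hb⟩ := hall (.inl (.inl o)) (fun e => ho (Sum.inl.inj (Sum.inl.inj e))) (fun e => by simp at e) 1
    exact ⟨b, hb.of_eq rfl (one_smul _ _) rfl⟩
  refine hsu_le_of_pair (hB := hB) (by rw [finrank_model]; omega) (by rw [finrank_model]; omega) hee (f := fv 0) ?_ ?_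
    (rt_all hσ hL hall) (H.pow_mem hC m) hθ0 (cyc_pow_m hσ hθ0 hθ).1 (cyc_pow_m hσ hθ0 hθ).2
  · rw [B_fv]; simp [fv]
  · rw [B_ev]; simp [fv]

/-- Odd dimension. -/
theorem exists_pair_odd (hm : 1 ≤ m) (hex : m = 1 → Nat.card (fixedSub σ) ≠ 2) :
    ∃ a b : HU (mB σ m 1), Subgroup.closure ({a, b} : Set (HU (mB σ m 1))) = HSU (mB σ m 1) := by
  classical
  have : Fintype F := Fintype.ofFinite F
  have : NeZero m := ⟨by omega⟩
  obtain ⟨ξ, hgen⟩ := IsCyclic.exists_generator (α := Fˣ)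
  obtain ⟨θ, hθ0, hθ⟩ := exists_skew' hσ
  set hB := mB_herm (m := m) (d := 1) hσ
  set q := Nat.card (fixedSub σ) with hq
  have hq2 : 2 ≤ q := IsInvol.card_ge_two
  have hξ : (ξ : F) ≠ 0 := ξ.ne_zero
  have hσξ : σ (ξ : F) ≠ 0 := fun h => hξ (IsInvol.apply_eq_zero_iff.1 h)
  have hσpow : σ (ξ : F) = (ξ : F) ^ q := hσ.apply_eq_pow _
  let o : Fin m := if h : 1 < m then ⟨1, h⟩ else 0
  let u : F := if q = 2 then ξ else 1
  let κe : Fin m → F := fun i => if i = 0 then (ξ : F) else if i = o then u else 1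
  let δ : F := (∏ i, κe i)⁻¹ * σ (∏ i, κe i)
  let κ : Idx m 1 → F := Sum.elim (Sum.elim κe fun i => (σ (κe i))⁻¹) (fun _ => δ)
  have hκe : ∀ i, κe i ≠ 0 := fun i => by simp only [κe, u]; split_ifs <;> simp
  have hP : ∏ i, κe i ≠ 0 := Finset.prod_ne_zero_iff.2 fun i _ => hκe i
  have hσP : σ (∏ i, κe i) ≠ 0 := fun h => hP (IsInvol.apply_eq_zero_iff.1 h)
  have hκ : ∀ i, σ (κ i) * κ (inv2 i) = 1 := by
    rintro ((i | i) | j)
    · simp only [κ, inv2, Sum.map_inl, Sum.swap_inl, Sum.elim_inl, Sum.elim_inr]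
      exact mul_inv_cancel₀ fun h => hκe i (IsInvol.apply_eq_zero_iff.1 h)
    · simp only [κ, inv2, Sum.map_inl, Sum.swap_inr, Sum.elim_inl, Sum.elim_inr, map_inv₀, hσ.invol]
      exact inv_mul_cancel₀ (hκe i)
    · simp only [κ, inv2, Sum.map_inr, id, Sum.elim_inr, δ, map_mul, map_inv₀, hσ.invol]
      field_simp
  set a := diagIso hσ κ hκ
  have hdet : a ∈ HSU (mB σ m 1) := det_diagIso hσ κ hκ (by
    rw [Fintype.prod_sum_type, Fintype.prod_sum_type]
    simp only [κ, Sum.elim_inl, Sum.elim_inr, Finset.prod_inv_distrib, ← map_prod, Finset.univ_unique, Finset.prod_singleton, δ]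
    field_simp)
  set w : Idx m 1 → F := wv 0
  have hee : mB σ m 1 (ev 0) (ev 0) = 0 := by rw [B_ev]; simp [ev]
  have hew : ∀ c : F, mB σ m 1 (ev 0) (c • w) = 0 := fun c => by rw [B_ev]; simp [w, wv]
  have hww : mB σ m 1 w w = 1 := by simp [w, B_wv]; simp [wv]
  obtain ⟨a₁, ha₁⟩ := hσ.exists_trace_eq (μ := (-1 : F)) (by simp)
  have hS₁ : a₁ + σ a₁ = -mB σ m 1 w w := by rw [hww, ha₁]
  have hew1 : mB σ m 1 (ev 0) w = 0 := by simpa using hew 1
  set S := hB.eich hee hew1 hS₁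
  set C := cyc hσ hθ0 hθ (m := m) (d := 1)
  refine ⟨a, S * C, le_antisymm ?_ ?_⟩
  · rw [Subgroup.closure_le]
    rintro _ (rfl | rfl)
    exacts [hdet, mul_mem (hB.eich_mem _ _ _) (cyc_mem hσ hθ0 hθ)]
  set H := Subgroup.closure ({a, S * C} : Set (HU (mB σ m 1)))
  have ha : a ∈ H := Subgroup.subset_closure (Or.inl rfl)
  have hb : S * C ∈ H := Subgroup.subset_closure (Or.inr rfl)
  have hae : (a : (Idx m 1 → F) ≃ₗ[F] (Idx m 1 → F)) (ev 0) = (ξ : F) • ev 0 := by
    have := diagIso_single hσ κ hκ (.inl (.inl 0))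
    simpa [κ, κe, ev] using this
  have haw : (a : (Idx m 1 → F) ≃ₗ[F] (Idx m 1 → F)) w = δ • w := diagIso_single hσ κ hκ (.inr 0)
  set μ := σ (ξ : F) * δ with hμdef
  let P : F → HU (mB σ m 1) → Prop := fun c g =>
    ∃ (x : F) (hx : x + σ x = -mB σ m 1 (c • w) (c • w)), g = hB.eich hee (hew c) hx
  have Pmul : ∀ {c c' g g'}, P c g → P c' g' → P (c + c') (g * g') := by
    rintro c c' _ _ ⟨x, hx, rfl⟩ ⟨y, hy, rfl⟩
    exact ⟨x + y - mB σ m 1 (c • w) (c' • w),
      by simp only [map_sub, map_add, add_smul, LinearMap.add_apply, hB.symm]; linear_combination hx + hy,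
      (eich_mul' hB hee (hew c) (hew c') hx hy).trans (eich_congr' hB rfl (add_smul c c' w).symm rfl)⟩
  have Pinv : ∀ {c g}, P c g → P (-c) g⁻¹ := by
    rintro c _ ⟨x, hx, rfl⟩
    exact ⟨σ x, by rw [hσ.invol, add_comm, hx]; simp only [Herm.smul_left, Herm.smul_right, map_neg]; ring,
      (eich_inv' hB hee (hew c) hx).trans (eich_congr' hB rfl (neg_smul c w).symm rfl)⟩
  have Pconj : ∀ (g : HU (mB σ m 1)) (p r : F), (g : (Idx m 1 → F) ≃ₗ[F] (Idx m 1 → F)) (ev 0) = p • ev 0 →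
      (g : (Idx m 1 → F) ≃ₗ[F] (Idx m 1 → F)) w = r • w → ∀ {c k}, P c k → P (σ p * r * c) (g * k * g⁻¹) := by
    rintro g p r h1 h2 c _ ⟨x, hx, rfl⟩
    refine ⟨p * σ p * x, ?_, (eich_conj_scale hB g h1 (x := c • w) (r := r) (by rw [LinearEquiv.map_smul, h2, smul_comm])
      hee (hew c) hx).trans (eich_congr' hB rfl (smul_smul _ _ _) rfl)⟩
    have e := HU.map_eq g w w
    rw [h2, Herm.smul_left, Herm.smul_right, hww] at e
    simp only [Herm.smul_left, Herm.smul_right, map_mul, hσ.invol, hww] at hx ⊢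
    linear_combination (p * σ p) * hx + (c * σ c * p * σ p) * e
  have PS : P 1 S := ⟨a₁, by rw [one_smul]; exact hS₁, eich_congr' hB rfl (one_smul F w).symm rfl⟩
  have Pmem : ∀ {c g}, P c g → g ∈ H → ∃ x, Rt hB H (ev 0) (c • w) x := by
    rintro c _ ⟨x, hx, rfl⟩ hg
    exact ⟨x, Rt.mk hg⟩
  have hscale : ∀ (c x : F), Rt hB H (ev 0) (c • w) x →
      Rt hB H (ev 0) ((μ * c) • w) ((ξ : F) * σ ξ * x) := fun c x h => by
    have h' := h.conj ha
    rw [hae, LinearEquiv.map_smul, haw, smul_smul] at h'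
    exact (h'.smul_left hξ).of_eq rfl (by rw [smul_smul, hμdef]; ring_nf) rfl
  set π := cycPerm (m := m) (d := 1)
  let ν : F := σ (κ (π (.inl (.inl 0)))) * κ (π (.inr 0))
  have hν : ν ≠ 1 := by
    have hν' : ν = δ * (κe (0 - 1))⁻¹ := by
      simp only [ν, π, cycPerm_inl, cycPerm_w, if_true, κ, Sum.elim_inl, Sum.elim_inr, map_inv₀, hσ.invol]
      ring
    have hord : orderOf ξ = q ^ 2 - 1 := by
      rw [orderOf_eq_card_of_forall_mem_zpowers hgen, Nat.card_units, hσ.card_sq]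
    have hpow : ∀ k, 0 < k → k < q ^ 2 - 1 → (ξ : F) ^ k ≠ 1 := fun k h0 hk h => by
      have := Nat.le_of_dvd h0 (orderOf_dvd_of_pow_eq_one (show ξ ^ k = 1 from Units.ext (by simpa using h)))
      omega
    have hqq : 4 ≤ q ^ 2 := Nat.pow_le_pow_left hq2 2
    have hle : q ≤ q ^ 2 := Nat.le_self_pow two_ne_zero q
    rw [hν']
    intro h
    rw [mul_inv_eq_one₀ (hκe _)] at h
    simp only [δ] at h
    by_cases hq' : q = 2
    · have hm1 : m ≠ 1 := fun e => hex e (hq ▸ hq')
      have ho' : o ≠ 0 := by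
        simp only [o, dif_pos (show 1 < m by omega)]
        exact fun e => by have := congrArg Fin.val e; simp at this
      have hP' : ∏ i, κe i = (ξ : F) * ξ := by
        rw [Finset.prod_eq_mul (0 : Fin m) o ho'.symm (fun i _ hi => by simp [κe, hi.1, hi.2]) (by simp) (by simp)]
        simp [κe, ho', u, hq']
      have h2 : (ξ : F) ^ 2 = κe (0 - 1) := by
        rw [← h, hP', map_mul, hσpow, hq']; field_simp
      simp only [κe, u, hq', if_true] at h2
      split_ifs at h2 with e1 e2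
      · exact hpow 1 one_pos (by omega) (by rw [pow_one]; exact mul_right_cancel₀ hξ (by rw [one_mul, ← sq]; exact h2))
      · exact hpow 1 one_pos (by omega) (by rw [pow_one]; exact mul_right_cancel₀ hξ (by rw [one_mul, ← sq]; exact h2))
      · exact hpow 2 two_pos (by omega) h2
    · have hu : u = 1 := if_neg hq'
      have hP' : ∏ i, κe i = (ξ : F) := by
        rw [Finset.prod_eq_single (0 : Fin m) (fun i _ hi => by simp [κe, hi, hu]) (by simp)]
        simp [κe]
      have h2 : (ξ : F) ^ q = κe (0 - 1) * ξ := by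
        rw [← h, hP', hσpow]; field_simp
      simp only [κe, hu, ite_self] at h2
      split_ifs at h2 with e1
      · refine hpow (q - 2) (by omega) (by omega) (mul_right_cancel₀ (pow_ne_zero 2 hξ) ?_)
        rw [← pow_add, Nat.sub_add_cancel hq2, h2]; ring
      · refine hpow (q - 1) (by omega) (Nat.sub_lt_sub_right (by omega) (lt_self_pow₀ (lt_of_lt_of_le one_lt_two hq2) one_lt_two)) (mul_right_cancel₀ hξ ?_)
        rw [← pow_succ, Nat.sub_add_cancel (by omega : 1 ≤ q), h2]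
  -- the first element
  have hd : ∃ x, Rt hB H (ev 0) (((μ - 1) * (1 - ν)) • w) x := by
    have h1 : S * C * a * (S * C)⁻¹ ∈ H := H.mul_mem (H.mul_mem hb ha) (H.inv_mem hb)
    set A := diagIso hσ (fun i => κ (π i)) (fun i => by rw [cycPerm_inv2]; exact hκ _) with hA
    have hCA : C * a * C⁻¹ = A := cyc_conj_diag hσ hθ0 hθ κ hκ
    have hcomm : a * A * a⁻¹ = A := by rw [mul_inv_eq_iff_eq_mul]; exact diagIso_comm hσ _ _ _ _
    have h := H.mul_mem (H.mul_mem (H.mul_mem ha h1) (H.inv_mem ha)) (H.inv_mem h1)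
    have e : a * (S * C * a * (S * C)⁻¹) * a⁻¹ * (S * C * a * (S * C)⁻¹)⁻¹ =
        (a * S * a⁻¹) * ((a * A * a⁻¹) * ((a * S⁻¹ * a⁻¹) * S) * A⁻¹) * S⁻¹ := by rw [← hCA]; group
    rw [e, hcomm] at h
    have haP : ∀ {c k}, P c k → P (μ * c) (a * k * a⁻¹) := fun hk => Pconj a _ _ hae haw hk
    have hP := Pmul (Pmul (haP PS) (Pconj A _ _ (diagIso_single hσ _ _ _) (diagIso_single hσ _ _ _)
      (Pmul (haP (Pinv PS)) PS))) (Pinv PS)
    obtain ⟨x, hx⟩ := Pmem hP h
    exact ⟨x, hx.of_eq rfl (by congr 1; simp only [ν]; ring) rfl⟩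
  have hclo : Subring.closure ({μ} : Set F) = ⊤ := by
    refine closure_eq_top_of_pow (mul_ne_zero hσξ (mul_ne_zero (inv_ne_zero hP) hσP)) fun k hk h j hj hcard => ?_
    have hσu : ∀ i, σ (κe i) = κe i ^ q := fun i => hσ.apply_eq_pow _
    have hcardq : Nat.card F = q ^ 2 := hσ.card_sq
    have hkq : k ≤ q := by
      by_contra hlt
      push Not at hlt
      have h1 : q ^ 2 < k ^ 2 := Nat.pow_lt_pow_left hlt two_ne_zero
      have h2 : k ^ 2 ≤ k ^ j := Nat.pow_le_pow_right (by omega) hj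
      omega
    have hord : orderOf ξ = q ^ 2 - 1 := by
      rw [orderOf_eq_card_of_forall_mem_zpowers hgen, Nat.card_units, hcardq]
    by_cases hq' : q = 2
    · have hm1 : m ≠ 1 := fun e => hex e (hq ▸ hq')
      have ho' : o ≠ 0 := by
        simp only [o, dif_pos (show 1 < m by omega)]
        exact fun e => by have := congrArg Fin.val e; simp at this
      have hP' : ∏ i, κe i = (ξ : F) * ξ := by
        rw [Finset.prod_eq_mul (0 : Fin m) o ho'.symm (fun i _ hi => by simp [κe, hi.1, hi.2]) (by simp) (by simp)]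
        simp [κe, ho', u, hq']
      have hμ' : μ = (ξ : F) ^ 4 := by
        rw [hμdef]; simp only [δ]; rw [hP', map_mul, hσpow, hq']; field_simp
      have h1 : ξ ^ (4 * (k - 1)) = 1 := Units.ext (by rw [Units.val_pow_eq_pow_val, pow_mul, ← hμ']; exact h)
      have := orderOf_dvd_of_pow_eq_one h1
      rw [hord, hq', show k = 2 by omega] at this
      norm_num at this
    · have hu : u = 1 := if_neg hq'
      have hP' : ∏ i, κe i = (ξ : F) := by
        rw [Finset.prod_eq_single (0 : Fin m) (fun i _ hi => by simp [κe, hi, hu]) (by simp)]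
        simp [κe]
      have hμ' : μ * (ξ : F) = (ξ : F) ^ (2 * q) := by
        rw [hμdef]; simp only [δ]; rw [hP', hσpow, two_mul, pow_add]; field_simp
      have h1 : ξ ^ ((2 * q) * (k - 1)) = ξ ^ (k - 1) := Units.ext (by
        rw [Units.val_pow_eq_pow_val, Units.val_pow_eq_pow_val, pow_mul, ← hμ', mul_pow, h, one_mul])
      have h2 : ξ ^ ((2 * q - 1) * (k - 1)) = 1 := by
        rw [show 2 * q * (k - 1) = (2 * q - 1) * (k - 1) + (k - 1) by
          rw [← Nat.add_one_mul, Nat.sub_add_cancel (by omega : 1 ≤ 2 * q)], pow_add] at h1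
        exact mul_eq_right.1 h1
      have hdvd := orderOf_dvd_of_pow_eq_one h2
      rw [hord] at hdvd
      have h3 : q ^ 2 - 1 ∣ 3 * (k - 1) := by
        have hq4 : (2 * q + 1) * ((2 * q - 1) * (k - 1)) = 4 * (q ^ 2 - 1) * (k - 1) + 3 * (k - 1) := by
          have h0 : 1 ≤ q ^ 2 := Nat.one_le_pow _ _ (by omega)
          zify [h0, (by omega : 1 ≤ 2 * q)]
          ring
        exact (Nat.dvd_add_right (dvd_mul_of_dvd_left (Dvd.intro_left _ rfl) _)).1
          (hq4 ▸ dvd_mul_of_dvd_right hdvd _)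
      have h4 := Nat.le_of_dvd (by omega) h3
      have h5 : 4 * q ≤ q ^ 2 + q := by
        have : 3 ≤ q := by omega
        rw [sq]; nlinarith
      omega
  have hμ1 : μ ≠ 1 := fun h => by
    rw [h, Subring.closure_singleton_one] at hclo
    obtain ⟨u, hu⟩ := hσ.exists_ne
    obtain ⟨l, hl⟩ : ∃ l : ℤ, (l : F) = u := Subring.mem_bot.1 (hclo ▸ Subring.mem_top u)
    exact hu (by rw [← hl]; simp)
  have hshort : ∀ c : F, ∃ x, Rt hB H (ev 0) (c • w) x := by
    let A : AddSubgroup F :=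
      { carrier := {c | ∃ x, Rt hB H (ev 0) (c • w) x}
        add_mem' := fun {x y} ⟨p, hp⟩ ⟨r, hr⟩ => ⟨_, (hp.add hr).of_eq rfl (add_smul x y w).symm rfl⟩
        zero_mem' := ⟨0, (rt_zero hee).of_eq rfl (zero_smul F w).symm rfl⟩
        neg_mem' := fun {x} ⟨p, hp⟩ => ⟨_, hp.neg.of_eq rfl (neg_smul x w).symm rfl⟩ }
    refine fun c => mem_of_ring_generator A (mul_ne_zero (sub_ne_zero.2 hμ1) (sub_ne_zero.2 hν.symm)) (show _ ∈ A from hd) (fun x ⟨p, hp⟩ => ?_) hclo c
    exact ⟨_, hscale x p hp⟩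
  have hL : Long hB H (ev 0) := long_of_pair (x := w) (y := w) hee hww hshort
    (by obtain ⟨x, hx⟩ := hshort 1; exact ⟨x, hx.of_eq rfl (one_smul _ _) rfl⟩)
  have hC : C ∈ H := by
    obtain ⟨x, hx⟩ := hshort 1
    have hS : S ∈ H := (hL.any (hx.of_eq rfl (one_smul _ _) rfl) hS₁).mem _ _ _
    have := H.mul_mem (H.inv_mem hS) hb
    rwa [inv_mul_cancel_left] at this
  have hcw : (C : (Idx m 1 → F) ≃ₗ[F] (Idx m 1 → F)) w = w := cyc_w hσ hθ0 hθ 0
  have hpw : ∀ k : ℕ, ((C ^ k : HU (mB σ m 1)) : (Idx m 1 → F) ≃ₗ[F] (Idx m 1 → F)) w = w := fun k => by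
    induction k with
    | zero => rfl
    | succ k ih => rw [pow_succ, Subgroup.coe_mul, LinearEquiv.mul_apply, hcw, ih]
  -- a short root at every coordinate
  have hany : ∀ i : Fin m, ∀ c : F, (∃ x, Rt hB H (ev i) (c • w) x) ∧ ∃ x, Rt hB H (fv i) (c • w) x := by
    intro i c
    refine ⟨?_, ?_⟩
    · obtain ⟨x, hx⟩ := hshort c
      refine ⟨x, (hx.conj (H.pow_mem hC i.val)).of_eq (cyc_pow_ev hσ hθ0 hθ i.val i.isLt).1 ?_ rfl⟩
      rw [LinearEquiv.map_smul, hpw]
    · have hσθ : σ θ ≠ 0 := fun h => hθ0 (IsInvol.apply_eq_zero_iff.1 h)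
      obtain ⟨x, hx⟩ := hshort (c / σ θ)
      have h' := hx.conj (H.pow_mem hC m)
      rw [(cyc_pow_m hσ hθ0 hθ).1, LinearEquiv.map_smul, hpw] at h'
      have h'' := (h'.smul_left hθ0).conj (H.pow_mem hC i.val)
      refine ⟨_, h''.of_eq (cyc_pow_ev hσ hθ0 hθ i.val i.isLt).2.1 ?_ rfl⟩
      rw [LinearEquiv.map_smul, LinearEquiv.map_smul, hpw, smul_smul, mul_div_cancel₀ _ hσθ]
  have hmid : ∀ v : Idx m 1 → F, mB σ m 1 v (ev 0) = 0 → mB σ m 1 w (ev 0) = 0 → mB σ m 1 v w = 0 →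
      (∃ y, Rt hB H v w y) → ∀ c : F, ∃ x, Rt hB H (ev 0) (c • v) x := by
    rintro v h1 h2 h3 ⟨y, hu, hux, hay, hm'⟩ c
    obtain ⟨x, hx⟩ := hshort (-c)
    have hu0 : (hB.eich hu hux hay).1 (ev 0) = ev 0 := by rw [IsHerm.eich_apply, h1, h2]; simp
    have h := (hx.conj hm').of_eq hu0 rfl rfl
    refine ⟨_, (h.add hx.neg).of_eq rfl ?_ rfl⟩
    rw [IsHerm.eich_apply, Herm.smul_right, Herm.smul_right, h3, hww]; module
  have hall : ∀ i : Idx m 1, i ≠ .inl (.inl 0) → i ≠ .inl (.inr 0) → ∀ c : F,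
      ∃ x, Rt hB H (ev 0) (c • (Pi.single i 1 : Idx m 1 → F)) x := by
    rintro ((i | i) | j) h1 h2
    · obtain ⟨x, hx⟩ := (hany i 1).1
      exact hmid (ev i) (by rw [B_ev]; simp [ev]) (by simp [w, B_wv, ev]) (by rw [B_ev]; simp [w, wv])
        ⟨x, hx.of_eq rfl (one_smul _ _) rfl⟩
    · obtain ⟨x, hx⟩ := (hany i 1).2
      refine hmid (fv i) ?_ (by simp [w, B_wv, ev]) (by rw [B_fv]; simp [w, wv]) ⟨x, hx.of_eq rfl (one_smul _ _) rfl⟩
      rw [B_fv]
      simp [ev, Pi.single_apply]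
      exact fun e => h2 (by rw [e])
    · rw [Subsingleton.elim j 0]; exact hshort
  refine hsu_le_of_pair (hB := hB) (by rw [finrank_model]; omega) (fun h3 => hex (by rw [finrank_model] at h3; omega)) hee
    (f := fv 0) ?_ ?_ (rt_all hσ hL hall) (H.pow_mem hC m) hθ0 (cyc_pow_m hσ hθ0 hθ).1 (cyc_pow_m hσ hθ0 hθ).2
  · rw [B_fv]; simp [fv]
  · rw [B_ev]; simp [fv]

omit hσ [Finite F]

/-- The projective special unitary group is generated by two elements. -/
theorem exists_pair_psu {K : Type*} [Field K] [Fintype K] {q : ℕ} (hF : Fintype.card K = q ^ 2) (n : ℕ) (hn : 3 ≤ n)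
    (h32 : n = 3 → q ≠ 2) : ∃ a b : Cfsg.PSU n K q, Subgroup.closure ({a, b} : Set (Cfsg.PSU n K q)) = ⊤ := by
  classical
  have hσ := powHom_isInvol hF
  obtain ⟨m, d, hnd, a, b, hab⟩ : ∃ (m d : ℕ) (_ : 2 * m + d = n) (a b : HU (mB (powHom hF) m d)),
      Subgroup.closure ({a, b} : Set (HU (mB (powHom hF) m d))) = HSU (mB (powHom hF) m d) := by
    rcases Nat.even_or_odd n with ⟨m, hm⟩ | ⟨m, hm⟩
    · obtain ⟨a, b, h⟩ := exists_pair_even (m := m) hσ (by omega)
      exact ⟨m, 0, by omega, a, b, h⟩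
    · obtain ⟨a, b, h⟩ := exists_pair_odd (m := m) hσ (by omega) (fun h1 => by
        rw [card_fixed_powHom hF]; exact h32 (by omega))
      exact ⟨m, 1, by omega, a, b, h⟩
  obtain ⟨e, he⟩ := IsHerm.exists_isometry_of_finrank_eq (mB_herm (m := m) (d := d) hσ) (hermStd_isHerm (n := n) hF)
    (by rw [finrank_model, finrank_std, hnd])
  let ψ : HSU (mB (powHom hF) m d) →* HSU (hermStd n hF) :=
    { toFun := fun g => ⟨⟨e.symm.trans ((g.1 : HU _).1.trans e), fun u v => by
          show hermStd n hF (e (g.1.1 (e.symm u))) (e (g.1.1 (e.symm v))) = hermStd n hF u v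
          rw [he, HU.map_eq, ← he, e.apply_symm_apply, e.apply_symm_apply]⟩, by
        rw [MonoidHom.mem_ker]
        show LinearEquiv.det ((e.symm.trans g.1.1).trans e) = 1
        rw [LinearEquiv.det_conj g.1.1 e]
        exact g.2⟩
      map_one' := Subtype.ext (Subtype.ext (LinearEquiv.ext fun x => by simp))
      map_mul' := fun g h => Subtype.ext (Subtype.ext (LinearEquiv.ext fun x => by simp)) }
  have hψ : Function.Surjective ψ := fun k => by
    refine ⟨⟨⟨e.trans ((k.1 : HU _).1.trans e.symm), fun u v => by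
      show mB (powHom hF) m d (e.symm (k.1.1 (e u))) (e.symm (k.1.1 (e v))) = mB (powHom hF) m d u v
      rw [← he, e.apply_symm_apply, e.apply_symm_apply, HU.map_eq, he]⟩, ?_⟩, ?_⟩
    · rw [MonoidHom.mem_ker]
      have := k.2
      rw [MonoidHom.mem_ker] at this
      show LinearEquiv.det ((e.symm.symm.trans k.1.1).trans e.symm) = 1
      rw [LinearEquiv.det_conj k.1.1 e.symm]
      exact this
    · exact Subtype.ext (Subtype.ext (LinearEquiv.ext fun x => by simp [ψ]))
  let a' : HSU (mB (powHom hF) m d) := ⟨a, hab ▸ Subgroup.subset_closure (Or.inl rfl)⟩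
  let b' : HSU (mB (powHom hF) m d) := ⟨b, hab ▸ Subgroup.subset_closure (Or.inr rfl)⟩
  have h' : Subgroup.closure ({a', b'} : Set (HSU (mB (powHom hF) m d))) = ⊤ := by
    apply Subgroup.map_injective (HSU (mB (powHom hF) m d)).subtype_injective
    rw [MonoidHom.map_closure, Set.image_pair, ← MonoidHom.range_eq_map, Subgroup.range_subtype]
    exact hab
  let φ : HSU (mB (powHom hF) m d) →* Cfsg.PSU n K q :=
    (QuotientGroup.mk' _).comp ((suEquiv n hF).symm.toMonoidHom.comp ψ)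
  refine ⟨φ a', φ b', ?_⟩
  rw [← Set.image_pair φ a' b', ← MonoidHom.map_closure, h']
  exact Subgroup.map_top_of_surjective _
    ((QuotientGroup.mk'_surjective _).comp ((suEquiv n hF).symm.surjective.comp hψ))

end CfsgLib.Classical.ClassTheory.UnitaryGen
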