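import Cfsg.Agent.Lib.Classical.ClassTheory.SpTwoGenerated
import Cfsg.Agent.Lib.Classical.ClassTheory.UnitaryTwoGenerated
import Cfsg.Agent.Lib.Classical.ClassTheory.OmegaTwoGenerated

/-!
# The symplectic group is generated by three conjugate regular unipotent elements

The first element `u` is a Jordan block in the Levi factor times one long root element, the second
is its conjugate by the exchange of the two halves of the basis, and the third is chosen so that
the group contains a transvection.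
-/

set_option autoImplicit false

namespace CfsgLib.Classical.ClassTheory.SpRegularThree

open CfsgLib.Classical CfsgLib.Classical.Symp CfsgLib.Classical.ClassTheory.SpTwoGenerated

variable {F : Type*} [Field F] {m : ℕ}

theorem B_swap (x y : Fin m ⊕ Fin m → F) : (sympBil m F) y x = -(sympBil m F) x y := Symp.swap (sympBil_isAlt m F) x y

theorem B_self (x : Fin m ⊕ Fin m → F) : (sympBil m F) x x = 0 := sympBil_isAlt m F x

theorem conj_mul' {M : Type*} [Group M] (g a b : M) : g * (a * b) * g⁻¹ = (g * a * g⁻¹) * (g * b * g⁻¹) := by group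

/-- A short root element followed by a long one. -/
noncomputable def rel (p q : Fin m ⊕ Fin m → F) (x y : F) : G m F := sh p q x * lo p y

theorem rel_apply {p q : Fin m ⊕ Fin m → F} (h : (sympBil m F) p q = 0) (x y : F) (z : Fin m ⊕ Fin m → F) :
    (rel p q x y).1 z = z + (x * (sympBil m F) z p) • q + (x * (sympBil m F) z q + y * (sympBil m F) z p) • p := by
  rw [rel, Subgroup.coe_mul, LinearEquiv.mul_apply, sh_apply h, lo_apply]
  simp only [map_add, LinearMap.map_smul, LinearMap.add_apply, LinearMap.smul_apply, smul_eq_mul, B_self, h,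
    mul_zero, add_zero]
  module

theorem rel_mul {p q : Fin m ⊕ Fin m → F} (h : (sympBil m F) p q = 0) (x y x' y' : F) :
    rel p q x y * rel p q x' y' = rel p q (x + x') (y + y') := ext_G fun z => by
  have h' : (sympBil m F) q p = 0 := by rw [B_swap, h, neg_zero]
  simp only [Subgroup.coe_mul, LinearEquiv.mul_apply, rel_apply h, map_add, LinearMap.map_smul, LinearMap.add_apply,
    LinearMap.smul_apply, smul_eq_mul, B_self, h, h', mul_zero, add_zero]
  module

theorem rel_zero {p q : Fin m ⊕ Fin m → F} (h : (sympBil m F) p q = 0) : rel p q (0 : F) 0 = 1 := ext_G fun z => by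
  simp [rel_apply h]

theorem rel_inv {p q : Fin m ⊕ Fin m → F} (h : (sympBil m F) p q = 0) (x y : F) : (rel p q x y)⁻¹ = rel p q (-x) (-y) :=
  inv_eq_of_mul_eq_one_right (by rw [rel_mul h, add_neg_cancel, add_neg_cancel, rel_zero h])

theorem rel_right {p q w : Fin m ⊕ Fin m → F} (hpq : (sympBil m F) p q = 0) (hpw : (sympBil m F) p w = 0) (k x y : F) :
    rel p (q + k • w) x y = rel p q x y * rel p w (k * x) (k * x ^ 2 * (sympBil m F) q w) := ext_G fun z => by
  have hq : (sympBil m F) p (q + k • w) = 0 := by simp [hpq, hpw]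
  have hwp : (sympBil m F) w p = 0 := by rw [B_swap, hpw, neg_zero]
  have hwq : (sympBil m F) w q = -(sympBil m F) q w := B_swap q w
  simp only [Subgroup.coe_mul, LinearEquiv.mul_apply, rel_apply hpq, rel_apply hpw, rel_apply hq, map_add,
    LinearMap.map_smul, LinearMap.add_apply, LinearMap.smul_apply, smul_eq_mul, B_self, hwp, hwq, hpq, hpw, mul_zero, add_zero]
  match_scalars <;> ring

theorem rel_comm {p q w : Fin m ⊕ Fin m → F} (hpq : (sympBil m F) p q = 0) (hpw : (sympBil m F) p w = 0) (x y x' y' : F) :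
    rel p q x y * rel p w x' y' = lo p (-(2 * (sympBil m F) q w * x * x')) * (rel p w x' y' * rel p q x y) := ext_G fun z => by
  have hqp : (sympBil m F) q p = 0 := by rw [B_swap, hpq, neg_zero]
  have hwp : (sympBil m F) w p = 0 := by rw [B_swap, hpw, neg_zero]
  have hwq : (sympBil m F) w q = -(sympBil m F) q w := B_swap q w
  simp only [Subgroup.coe_mul, LinearEquiv.mul_apply, rel_apply hpq, rel_apply hpw, lo_apply, map_add,
    LinearMap.map_smul, LinearMap.add_apply, LinearMap.smul_apply, smul_eq_mul, B_self, hqp, hwp, hwq, hpq, hpw,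
    mul_zero, add_zero]
  match_scalars <;> ring

theorem lo_add_smul {p q : Fin m ⊕ Fin m → F} (h : (sympBil m F) p q = 0) (t k : F) :
    lo (q + t • p) k = lo q k * rel p q (t * k) (t ^ 2 * k) := ext_G fun z => by
  have h' : (sympBil m F) q p = 0 := by rw [B_swap, h, neg_zero]
  simp only [Subgroup.coe_mul, LinearEquiv.mul_apply, rel_apply h, lo_apply, map_add, LinearMap.map_smul,
    LinearMap.add_apply, LinearMap.smul_apply, smul_eq_mul, B_self, h', h, mul_zero, add_zero]
  match_scalars <;> ring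

section triple

variable {H : Subgroup (G m F)} {p q w : Fin m ⊕ Fin m → F} {c : F}

/-- Transport of a root element to the other vector of a hyperbolic pair. -/
theorem step (hpq : (sympBil m F) p q = 0) (hpw : (sympBil m F) p w = 0) (hw : lo w c ∈ H) {x y : F} (h : rel p q x y ∈ H) :
    rel p w (c * (sympBil m F) q w * x) (c * (sympBil m F) q w ^ 2 * x ^ 2) ∈ H := by
  have h' := H.mul_mem (H.inv_mem h) (H.mul_mem (H.mul_mem hw h) (H.inv_mem hw))
  have gp : (lo w c).1 p = p := by rw [lo_apply, hpw]; simp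
  have gq : (lo w c).1 q = q + (c * (sympBil m F) q w) • w := lo_apply _ _ _
  have e : lo w c * rel p q x y * (lo w c)⁻¹ = rel p (q + (c * (sympBil m F) q w) • w) x y := by
    rw [rel, conj_mul', conj_sh, conj_lo, gp, gq, ← rel]
  rw [e, rel_right hpq hpw, ← mul_assoc (rel p q x y)⁻¹, inv_mul_cancel, one_mul,
    show c * (sympBil m F) q w * x ^ 2 * (sympBil m F) q w = c * (sympBil m F) q w ^ 2 * x ^ 2 by ring] at h'
  exact h'

variable (hpq : (sympBil m F) p q = 0) (hpw : (sympBil m F) p w = 0) (hp : lo p c ∈ H) (hq : lo q c ∈ H) (hw : lo w c ∈ H)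
  (hs : lo (q + p) c ∈ H) (hc : c ≠ 0) (hb : (sympBil m F) q w ≠ 0)
  (hgen : Subring.closure ({(c * (sympBil m F) q w) ^ 2} : Set F) = ⊤)

include hpq hp hq hs in
theorem rel_start : rel p q c 0 ∈ H := by
  have h := H.mul_mem (H.mul_mem (H.inv_mem hq) hs) (H.inv_mem hp)
  have e : lo (q + p) c = lo q c * rel p q c c := by
    have := lo_add_smul hpq 1 c
    rwa [one_smul, one_mul, one_pow, one_mul] at this
  have e' : rel p q (0 : F) c = lo p c := by
    rw [rel, sh_zero hpq, one_mul]
  rw [e, ← mul_assoc (lo q c)⁻¹, inv_mul_cancel, one_mul, ← e', rel_inv hpq, rel_mul hpq, neg_zero, add_zero,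
    add_neg_cancel] at h
  exact h

include hpq hpw hp hq hw hs hc hb hgen in
theorem rel_all (x : F) : ∃ y, rel p q x y ∈ H := by
  let A : AddSubgroup F :=
    { carrier := {x | ∃ y, rel p q x y ∈ H}
      add_mem' := fun {a a'} ⟨y, h⟩ ⟨y', h'⟩ => ⟨y + y', by rw [← rel_mul hpq]; exact H.mul_mem h h'⟩
      zero_mem' := ⟨0, by rw [rel_zero hpq]; exact H.one_mem⟩
      neg_mem' := fun {a} ⟨y, h⟩ => ⟨-y, by rw [← rel_inv hpq]; exact H.inv_mem h⟩ }
  refine UnitaryGen.mem_of_ring_generator A hc (show c ∈ A from ⟨0, rel_start hpq hp hq hs⟩) (fun a ⟨y, h⟩ => ?_) hgen x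
  have h1 := H.inv_mem (step hpw hpq hq (step hpq hpw hw h))
  rw [rel_inv hpq] at h1
  exact ⟨_, (show (c * (sympBil m F) q w) ^ 2 * a = -(c * (sympBil m F) w q * (c * (sympBil m F) q w * a)) by rw [B_swap q w]; ring) ▸ h1⟩

include hpq hpw hp hq hw hs hc hb hgen in
theorem trans_two (h2 : (2 : F) = 0) (x : F) : rel p q x (x ^ 2 / c) ∈ H := by
  obtain ⟨y, h⟩ := rel_all hpq hpw hp hq hw hs hc hb hgen (x / (c * (sympBil m F) q w) ^ 2)
  have h1 := step hpw hpq hq (step hpq hpw hw h)
  rw [B_swap q w] at h1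
  have hn : ∀ z : F, -z = z := fun z => by linear_combination (-z) * h2
  have e1 : c * -(sympBil m F) q w * (c * (sympBil m F) q w * (x / (c * (sympBil m F) q w) ^ 2)) = x := by rw [hn]; field_simp
  have e2 : c * (-(sympBil m F) q w) ^ 2 * (c * (sympBil m F) q w * (x / (c * (sympBil m F) q w) ^ 2)) ^ 2 = x ^ 2 / c := by field_simp
  rwa [e1, e2] at h1

include hpq hpw hp hq hw hs hc hb hgen in
theorem long_of_triple_two (h2 : (2 : F) = 0) [Finite F] {k₀ k₁ : F} (hk : k₁ ≠ 0) (hkc : k₁ ≠ c)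
    (hD : lo p k₀ * lo q k₁ ∈ H) (a : F) : lo p a ∈ H := by
  have : Fintype F := Fintype.ofFinite F
  have : CharP F 2 := CharTwo.of_one_ne_zero_of_two_eq_zero one_ne_zero h2
  have hne : k₁ + k₁ ^ 2 / c ≠ 0 := fun h => by
    field_simp at h
    have : k₁ * (k₁ - c) = 0 := by linear_combination h - (c * k₁) * h2
    exact hkc (sub_eq_zero.1 ((mul_eq_zero.1 this).resolve_left hk))
  obtain ⟨β, hβ⟩ := FiniteField.isSquare_of_char_two (ringChar.eq_iff.2 this) (a / (k₁ + k₁ ^ 2 / c))
  obtain ⟨y, h⟩ := rel_all hpq hpw hp hq hw hs hc hb hgen (β / (c * (sympBil m F) q w ^ 2))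
  have hg := step hpq hpw hw h
  rw [show c * (sympBil m F) q w * (β / (c * (sympBil m F) q w ^ 2)) = β / (sympBil m F) q w by field_simp] at hg
  generalize c * (sympBil m F) q w ^ 2 * (β / (c * (sympBil m F) q w ^ 2)) ^ 2 = y' at hg
  have gp : (rel p w (β / (sympBil m F) q w) y').1 p = p := by rw [rel_apply hpw, B_self, hpw]; simp
  have gq : (rel p w (β / (sympBil m F) q w) y').1 q = q + β • p := by
    rw [rel_apply hpw, B_swap p q, hpq, neg_zero, div_mul_cancel₀ _ hb]; simp
  have h1 := H.mul_mem (H.inv_mem hD) (H.mul_mem (H.mul_mem hg hD) (H.inv_mem hg))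
  rw [conj_mul', conj_lo, conj_lo, gp, gq, lo_add_smul hpq, ← mul_assoc (lo p k₀), ← mul_assoc (lo p k₀ * lo q k₁)⁻¹,
    inv_mul_cancel, one_mul] at h1
  have h3 := H.mul_mem h1 (trans_two hpq hpw hp hq hw hs hc hb hgen h2 (β * k₁))
  have ha : β ^ 2 * k₁ + (β * k₁) ^ 2 / c = a := by
    rw [show β ^ 2 * k₁ + (β * k₁) ^ 2 / c = β * β * (k₁ + k₁ ^ 2 / c) by ring, ← hβ, div_mul_cancel₀ _ hne]
  rw [rel_mul hpq, show β * k₁ + β * k₁ = 0 by linear_combination (β * k₁) * h2, ha, rel, sh_zero hpq, one_mul] at h3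
  exact h3

include hpq hpw hp hq hw hs hc hb hgen in
theorem long_of_triple_odd (h2 : (2 : F) ≠ 0) (a : F) : lo p a ∈ H := by
  obtain ⟨y, h⟩ := rel_all hpq hpw hp hq hw hs hc hb hgen (-a / (2 * (sympBil m F) q w * (c * (sympBil m F) q w * c)))
  have h' := step hpq hpw hw (rel_start hpq hp hq hs)
  have := H.mul_mem (H.mul_mem h h') (H.inv_mem (H.mul_mem h' h))
  rw [rel_comm hpq hpw, mul_inv_cancel_right] at this
  convert this using 2
  field_simp

end triple

theorem lo_comm {p q : Fin m ⊕ Fin m → F} (h : (sympBil m F) p q = 0) (k k' : F) : lo p k * lo q k' = lo q k' * lo p k :=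
  ext_G fun z => by
    have h' : (sympBil m F) q p = 0 := by rw [B_swap, h, neg_zero]
    simp only [Subgroup.coe_mul, LinearEquiv.mul_apply, lo_apply, map_add, LinearMap.map_smul, LinearMap.add_apply,
      LinearMap.smul_apply, smul_eq_mul, h, h', mul_zero, add_zero]
    module

/-! ### The shift -/

/-- The lower shift. -/
def shM (m : ℕ) (F : Type*) [Field F] : Matrix (Fin m) (Fin m) F :=
  Matrix.of fun i j => if j.val + 1 = i.val then 1 else 0

theorem shM_pow_apply (k : ℕ) (i j : Fin m) : (shM m F ^ k) i j = if j.val + k = i.val then 1 else 0 := by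
  induction k generalizing i with
  | zero => simp [Matrix.one_apply, Fin.ext_iff, eq_comm]
  | succ k ih =>
    rw [pow_succ', Matrix.mul_apply]
    by_cases h : j.val + (k + 1) = i.val
    · rw [if_pos h, Finset.sum_eq_single (⟨j.val + k, by omega⟩ : Fin m)]
      · rw [ih]; simp [shM, show j.val + k + 1 = i.val by omega]
      · intro b _ hb
        rw [ih, if_neg fun e => hb (Fin.ext e.symm), mul_zero]
      · simp
    · rw [if_neg h, Finset.sum_eq_zero]
      intro b _
      rw [ih]
      split_ifs with hb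
      · simp [shM, show ¬ b.val + 1 = i.val by omega]
      · simp

theorem shM_pow_eq_zero : shM m F ^ m = 0 := by
  ext i j
  rw [shM_pow_apply, if_neg (by omega), Matrix.zero_apply]

theorem det_one_add_shM : (1 + shM m F).det = 1 := by
  rw [Matrix.det_of_isLowerTriangular]
  · exact Finset.prod_eq_one fun i _ => by simp [shM]
  · intro i j hij
    have h : i < j := by simpa using hij
    simp [shM, ne_of_lt h, show ¬ j.val + 1 = i.val by have := Fin.lt_def.1 h; omega]

/-- The inverse transpose of the Jordan block. -/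
noncomputable def invT (m : ℕ) (F : Type*) [Field F] : Matrix (Fin m) (Fin m) F := ((1 + shM m F).transpose)⁻¹

theorem invT_mul : invT m F * (1 + shM m F).transpose = 1 :=
  Matrix.nonsing_inv_mul _ (by rw [Matrix.det_transpose, det_one_add_shM]; exact isUnit_one)

theorem mul_invT : (1 + shM m F).transpose * invT m F = 1 :=
  Matrix.mul_nonsing_inv _ (by rw [Matrix.det_transpose, det_one_add_shM]; exact isUnit_one)

theorem invT_commute : Commute (invT m F) (shM m F).transpose := by
  have h1 := invT_mul (m := m) (F := F)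
  have h2 := mul_invT (m := m) (F := F)
  rw [Matrix.transpose_add, Matrix.transpose_one, Matrix.mul_add, mul_one] at h1
  rw [Matrix.transpose_add, Matrix.transpose_one, Matrix.add_mul, one_mul] at h2
  exact add_left_cancel (h1.trans h2.symm)

theorem invT_sub_one : invT m F - 1 = -(invT m F * (shM m F).transpose) := by
  have h1 := invT_mul (m := m) (F := F)
  rw [Matrix.transpose_add, Matrix.transpose_one, Matrix.mul_add, mul_one] at h1
  rw [← h1]; abel

open Matrix in
theorem shM_mulVec_single (i : Fin m) :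
    shM m F *ᵥ Pi.single i 1 = fun k : Fin m => if i.val + 1 = k.val then (1 : F) else 0 := by
  funext k; simp [shM]

open Matrix in
theorem one_add_shM_single {i j : Fin m} (h : i.val + 1 = j.val) :
    (1 + shM m F) *ᵥ Pi.single i 1 = Pi.single i 1 + (Pi.single j 1 : Fin m → F) := by
  rw [Matrix.add_mulVec, Matrix.one_mulVec, shM_mulVec_single]
  funext k
  simp [Pi.single_apply, Fin.ext_iff, ← h, eq_comm]

open Matrix in
theorem one_add_shM_last {l : Fin m} (h : l.val + 1 = m) :
    (1 + shM m F) *ᵥ Pi.single l 1 = (Pi.single l 1 : Fin m → F) := by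
  rw [Matrix.add_mulVec, Matrix.one_mulVec, shM_mulVec_single]
  funext k
  simp [show ¬ l.val + 1 = k.val by omega]

open Matrix in
theorem transpose_one_add_apply (y : Fin m → F) (i : Fin m) :
    ((1 + shM m F).transpose *ᵥ y) i = y i + if h : i.val + 1 < m then y ⟨i.val + 1, h⟩ else 0 := by
  rw [Matrix.transpose_add, Matrix.transpose_one, Matrix.add_mulVec, Matrix.one_mulVec, Pi.add_apply]
  congr 1
  simp only [Matrix.mulVec, dotProduct, Matrix.transpose_apply, shM, Matrix.of_apply, ite_mul, one_mul, zero_mul]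
  split_ifs with h
  · rw [Finset.sum_eq_single (⟨i.val + 1, h⟩ : Fin m)]
    · simp
    · intro b _ hb; rw [if_neg fun e => hb (Fin.ext e.symm)]
    · simp
  · exact Finset.sum_eq_zero fun b _ => if_neg (by omega)

open Matrix in
theorem invT_succ {i j : Fin m} (h : i.val + 1 = j.val) :
    invT m F *ᵥ (Pi.single i 1 + Pi.single j 1) = (Pi.single j 1 : Fin m → F) := by
  have : (1 + shM m F).transpose *ᵥ Pi.single j 1 = Pi.single i 1 + (Pi.single j 1 : Fin m → F) := by
    funext k
    rw [transpose_one_add_apply, Pi.add_apply]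
    rcases eq_or_ne k i with rfl | hk
    · rw [dif_pos (by omega), Pi.single_eq_of_ne (fun e => by rw [e] at h; omega),
        show (⟨k.val + 1, by omega⟩ : Fin m) = j from Fin.ext h, Pi.single_eq_same, Pi.single_eq_same]
      ring
    · rw [Pi.single_eq_of_ne hk]
      split_ifs with h1
      · rw [Pi.single_eq_of_ne (show (⟨k.val + 1, h1⟩ : Fin m) ≠ j from fun e => hk (Fin.ext (by
          have := congrArg Fin.val e; simp only at this; omega)))]
        ring
      · ring
  rw [← this, Matrix.mulVec_mulVec, invT_mul, Matrix.one_mulVec]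

open Matrix in
theorem invT_zero [NeZero m] : invT m F *ᵥ Pi.single 0 1 = (Pi.single 0 1 : Fin m → F) := by
  have : (1 + shM m F).transpose *ᵥ Pi.single 0 1 = (Pi.single 0 1 : Fin m → F) := by
    funext k
    simp [shM, Matrix.one_apply, Pi.single_apply, eq_comm]
  conv_lhs => rw [← this]
  rw [Matrix.mulVec_mulVec, invT_mul, Matrix.one_mulVec]

/-! ### The elements -/

open Matrix

/-- Vectors in the first half. -/
def el (y : Fin m → F) : Fin m ⊕ Fin m → F := Sum.elim y 0

/-- Vectors in the second half. -/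
def fl (y : Fin m → F) : Fin m ⊕ Fin m → F := Sum.elim 0 y

theorem el_single (i : Fin m) : el (Pi.single i 1) = (e i : Fin m ⊕ Fin m → F) := by
  funext x; rcases x with k | k <;> simp [el, e, Pi.single_apply]

theorem fl_single (i : Fin m) : fl (Pi.single i 1) = (f i : Fin m ⊕ Fin m → F) := by
  funext x; rcases x with k | k <;> simp [fl, f, Pi.single_apply]

theorem el_add (y y' : Fin m → F) : el (y + y') = el y + el y' := by
  funext x; rcases x with k | k <;> simp [el]

theorem fl_add (y y' : Fin m → F) : fl (y + y') = fl y + fl y' := by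
  funext x; rcases x with k | k <;> simp [fl]

theorem fl_sub (y y' : Fin m → F) : fl (y - y') = fl y - fl y' := by
  funext x; rcases x with k | k <;> simp [fl]

theorem el_smul (a : F) (y : Fin m → F) : el (a • y) = a • el y := by
  funext x; rcases x with k | k <;> simp [el]

theorem fl_smul (a : F) (y : Fin m → F) : fl (a • y) = a • fl y := by
  funext x; rcases x with k | k <;> simp [fl]

theorem sympBil_elim (x y : Fin m ⊕ Fin m → F) :
    (sympBil m F) x y = (x ∘ Sum.inr) ⬝ᵥ (y ∘ Sum.inl) - (x ∘ Sum.inl) ⬝ᵥ (y ∘ Sum.inr) := by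
  rw [sympBil_apply, sympForm_expand, Finset.sum_sub_distrib]
  rfl

variable (m F) in
theorem exists_levi : ∃ g : G m F, ∀ x : Fin m ⊕ Fin m → F,
    g.1 x = Sum.elim (invT m F *ᵥ (x ∘ Sum.inl)) ((1 + shM m F) *ᵥ (x ∘ Sum.inr)) := by
  let L : (Fin m ⊕ Fin m → F) →ₗ[F] (Fin m ⊕ Fin m → F) :=
    { toFun := fun x => Sum.elim (invT m F *ᵥ (x ∘ Sum.inl)) ((1 + shM m F) *ᵥ (x ∘ Sum.inr))
      map_add' := fun x y => by
        rw [Pi.add_comp, Pi.add_comp, Matrix.mulVec_add, Matrix.mulVec_add]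
        funext z; rcases z with k | k <;> simp
      map_smul' := fun a x => by
        rw [Pi.smul_comp, Pi.smul_comp, Matrix.mulVec_smul, Matrix.mulVec_smul]
        funext z; rcases z with k | k <;> simp }
  have hadj : ∀ a b : Fin m → F, ((1 + shM m F) *ᵥ a) ⬝ᵥ (invT m F *ᵥ b) = a ⬝ᵥ b := fun a b => by
    rw [dotProduct_comm, Matrix.dotProduct_mulVec, ← Matrix.mulVec_transpose, Matrix.mulVec_mulVec, mul_invT,
      Matrix.one_mulVec, dotProduct_comm]
  have hiso : ∀ x y, (sympBil m F) (L x) (L y) = (sympBil m F) x y := fun x y => by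
    show (sympBil m F) (Sum.elim _ _) (Sum.elim _ _) = _
    rw [sympBil_elim, sympBil_elim]
    simp only [Sum.elim_comp_inl, Sum.elim_comp_inr]
    rw [hadj, dotProduct_comm (invT m F *ᵥ _), hadj, dotProduct_comm (y ∘ Sum.inr)]
  have hinj : Function.Injective L := by
    rw [injective_iff_map_eq_zero]
    intro v hv
    refine (sympBil_nondegenerate m F).1 v fun y => ?_
    rw [← hiso, hv]; simp
  exact ⟨⟨LinearEquiv.ofInjectiveEndo L hinj, hiso⟩, fun x => rfl⟩

theorem exists_swap {δ : F} (hδ : δ ≠ 0) : ∃ g : G m F, ∀ x : Fin m ⊕ Fin m → F,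
    g.1 x = Sum.elim (-(δ⁻¹ • (x ∘ Sum.inr))) (δ • (x ∘ Sum.inl)) := by
  let L : (Fin m ⊕ Fin m → F) →ₗ[F] (Fin m ⊕ Fin m → F) :=
    { toFun := fun x => Sum.elim (-(δ⁻¹ • (x ∘ Sum.inr))) (δ • (x ∘ Sum.inl))
      map_add' := fun x y => by
        funext z; rcases z with k | k <;> simp <;> ring
      map_smul' := fun a x => by
        funext z; rcases z with k | k <;> simp <;> ring }
  have hiso : ∀ x y, (sympBil m F) (L x) (L y) = (sympBil m F) x y := fun x y => by
    show (sympBil m F) (Sum.elim _ _) (Sum.elim _ _) = _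
    rw [sympBil_elim, sympBil_elim]
    simp only [Sum.elim_comp_inl, Sum.elim_comp_inr, dotProduct_neg, neg_dotProduct, smul_dotProduct, dotProduct_smul,
      smul_eq_mul]
    field_simp
    rw [dotProduct_comm (x ∘ Sum.inl), dotProduct_comm (x ∘ Sum.inr)]
    ring
  have hinj : Function.Injective L := by
    rw [injective_iff_map_eq_zero]
    intro v hv
    refine (sympBil_nondegenerate m F).1 v fun y => ?_
    rw [← hiso, hv]; simp
  exact ⟨⟨LinearEquiv.ofInjectiveEndo L hinj, hiso⟩, fun x => rfl⟩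

section elements

variable [NeZero m]

/-- The last index. -/
def lst (m : ℕ) [NeZero m] : Fin m := ⟨m - 1, Nat.sub_lt (Nat.pos_of_ne_zero (NeZero.ne m)) one_pos⟩

theorem lst_succ : (lst m).val + 1 = m := by
  have := NeZero.ne m
  simp [lst]; omega

/-- The regular unipotent element. -/
noncomputable def uEl : G m F := (exists_levi F m).choose * lo (e (lst m)) 1

theorem u_el (y : Fin m → F) : (uEl : G m F).1 (el y) = el (invT m F *ᵥ y) := by
  rw [uEl, Subgroup.coe_mul, LinearEquiv.mul_apply, lo_apply, B_e, (exists_levi F m).choose_spec]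
  funext x; rcases x with k | k <;> simp [el, show (Sum.elim y (0 : Fin m → F)) ∘ Sum.inl = y from rfl,
    show (Sum.elim y (0 : Fin m → F)) ∘ Sum.inr = 0 from rfl]

/-- The first half of the image of `f` at the last index. -/
noncomputable def eVec (m : ℕ) [NeZero m] (F : Type*) [Field F] : Fin m → F := invT m F *ᵥ Pi.single (lst m) 1

theorem u_fl (y : Fin m → F) : (uEl : G m F).1 (fl y) = fl ((1 + shM m F) *ᵥ y) + y (lst m) • el (eVec m F) := by
  rw [uEl, Subgroup.coe_mul, LinearEquiv.mul_apply, lo_apply, B_e, map_add, LinearEquiv.map_smul,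
    (exists_levi F m).choose_spec, (exists_levi F m).choose_spec]
  funext x; rcases x with k | k <;> simp [el, fl, eVec, e, show (Sum.elim (0 : Fin m → F) y) ∘ Sum.inl = 0 from rfl,
    show (Sum.elim (0 : Fin m → F) y) ∘ Sum.inr = y from rfl,
    show (Pi.single (Sum.inl (lst m)) 1 : Fin m ⊕ Fin m → F) ∘ Sum.inl = Pi.single (lst m) 1 from by
      funext a; simp [Pi.single_apply],
    show (Pi.single (Sum.inl (lst m)) 1 : Fin m ⊕ Fin m → F) ∘ Sum.inr = 0 from by funext a; simp]

variable {δ : F} (hδ : δ ≠ 0)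

/-- The exchange. -/
noncomputable def jEl : G m F := (exists_swap hδ).choose

theorem j_el (y : Fin m → F) : (jEl hδ : G m F).1 (el y) = δ • fl y := by
  rw [jEl, (exists_swap hδ).choose_spec]
  funext x; rcases x with k | k <;> simp [el, fl]

theorem j_fl (y : Fin m → F) : (jEl hδ : G m F).1 (fl y) = -δ⁻¹ • el y := by
  rw [jEl, (exists_swap hδ).choose_spec]
  funext x; rcases x with k | k <;> simp [el, fl]

/-- The conjugate of the regular unipotent element. -/
noncomputable def vEl : G m F := jEl hδ * uEl * (jEl hδ)⁻¹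

theorem v_el (y : Fin m → F) :
    (vEl hδ : G m F).1 (el y) = el ((1 + shM m F) *ᵥ y) - (δ ^ 2 * y (lst m)) • fl (eVec m F) := by
  have e1 : el y = (jEl hδ : G m F).1 (fl ((-δ) • y)) := by
    rw [j_fl, el_smul, smul_smul, neg_mul_neg, inv_mul_cancel₀ hδ, one_smul]
  have e2 : (vEl hδ : G m F) * jEl hδ = jEl hδ * uEl := by rw [vEl, inv_mul_cancel_right]
  rw [e1, ← LinearEquiv.mul_apply, ← Subgroup.coe_mul, e2, Subgroup.coe_mul, LinearEquiv.mul_apply, u_fl, map_add,
    LinearEquiv.map_smul, j_fl, j_el, Matrix.mulVec_smul, el_smul, smul_smul, neg_mul_neg, inv_mul_cancel₀ hδ,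
    one_smul, smul_smul, Pi.smul_apply, smul_eq_mul]
  module

theorem v_fl (y : Fin m → F) : (vEl hδ : G m F).1 (fl y) = fl (invT m F *ᵥ y) := by
  have e1 : fl y = (jEl hδ : G m F).1 (el (δ⁻¹ • y)) := by
    rw [j_el, fl_smul, smul_smul, mul_inv_cancel₀ hδ, one_smul]
  have e2 : (vEl hδ : G m F) * jEl hδ = jEl hδ * uEl := by rw [vEl, inv_mul_cancel_right]
  rw [e1, ← LinearEquiv.mul_apply, ← Subgroup.coe_mul, e2, Subgroup.coe_mul, LinearEquiv.mul_apply, u_el, j_el,
    Matrix.mulVec_smul, fl_smul, smul_smul, mul_inv_cancel₀ hδ, one_smul]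

theorem eVec_apply (i : Fin m) (k : ℕ) (hk : i.val + k + 1 = m) : eVec m F i = (-1) ^ k := by
  have hM : (1 + shM m F).transpose *ᵥ eVec m F = Pi.single (lst m) 1 := by
    rw [eVec, Matrix.mulVec_mulVec, mul_invT, Matrix.one_mulVec]
  have h := congrFun hM i
  rw [transpose_one_add_apply] at h
  induction k generalizing i with
  | zero =>
    rw [dif_neg (by omega), show i = lst m from Fin.ext (by simp [lst]; omega)] at h
    rw [show i = lst m from Fin.ext (by simp [lst]; omega)]
    simpa using h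
  | succ k ih =>
    have hi : i.val + 1 < m := by omega
    rw [dif_pos hi, ih ⟨i.val + 1, hi⟩ (by simp only; omega) (by
      have := congrFun hM ⟨i.val + 1, hi⟩
      rwa [transpose_one_add_apply] at this),
      Pi.single_eq_of_ne (fun e => by have := congrArg Fin.val e; simp [lst] at this; omega)] at h
    rw [pow_succ]; linear_combination h

theorem eVec_sq (i : Fin m) : eVec m F i ^ 2 = 1 := by
  rw [eVec_apply i (m - 1 - i.val) (by have := i.isLt; omega), ← pow_mul, mul_comm, pow_mul, neg_one_sq, one_pow]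

theorem eVec_ne (i : Fin m) : eVec m F i ≠ 0 := fun h => by
  have := eVec_sq (F := F) i; rw [h] at this; simp at this

theorem eVec_lst : eVec m F (lst m) = 1 := by rw [eVec_apply (lst m) 0 lst_succ, pow_zero]

theorem one_add_shM_eVec : (1 + shM m F) *ᵥ eVec m F = eVec m F 0 • Pi.single 0 1 := by
  funext i
  rw [Matrix.add_mulVec, Matrix.one_mulVec, Pi.add_apply]
  simp only [Matrix.mulVec, dotProduct, shM, Matrix.of_apply, ite_mul, one_mul, zero_mul, Pi.smul_apply, smul_eq_mul]
  by_cases h : i = 0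
  · subst h
    rw [Finset.sum_eq_zero fun b _ => if_neg (by simp)]
    simp
  · have hi : i.val ≠ 0 := fun e => h (Fin.ext (by simp [e]))
    let j : Fin m := ⟨i.val - 1, by omega⟩
    rw [Finset.sum_eq_single j, if_pos (by simp only [j]; omega), Pi.single_eq_of_ne h, mul_zero,
      eVec_apply i (m - 1 - i.val) (by omega), eVec_apply j (m - 1 - i.val + 1) (by simp only [j]; omega), pow_succ]
    · ring
    · intro b _ hb; rw [if_neg fun e => hb (Fin.ext (by simp only [j]; omega))]
    · simp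

theorem u_e0 : (uEl : G m F).1 (e 0) = e 0 := by rw [← el_single, u_el, invT_zero]

theorem u_e_succ {i j : Fin m} (h : i.val + 1 = j.val) : (uEl : G m F).1 (e i + e j) = e j := by
  rw [← el_single, ← el_single, ← el_add, u_el, invT_succ h]

theorem u_f {i j : Fin m} (h : i.val + 1 = j.val) : (uEl : G m F).1 (f i) = f i + f j := by
  rw [← fl_single, u_fl, one_add_shM_single h, fl_add, fl_single j,
    Pi.single_eq_of_ne (fun e => by rw [← e] at h; have := lst_succ (m := m); omega), zero_smul, add_zero]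

theorem u_f_lst : (uEl : G m F).1 (f (lst m)) = f (lst m) + el (eVec m F) := by
  rw [← fl_single, u_fl, one_add_shM_last lst_succ, Pi.single_eq_same, one_smul]

theorem v_e {i j : Fin m} (h : i.val + 1 = j.val) : (vEl hδ : G m F).1 (e i) = e i + e j := by
  rw [← el_single, v_el, one_add_shM_single h, el_add, el_single j,
    Pi.single_eq_of_ne (fun e => by rw [← e] at h; have := lst_succ (m := m); omega), mul_zero, zero_smul, sub_zero]

theorem v_e_lst : (vEl hδ : G m F).1 (e (lst m)) = e (lst m) - δ ^ 2 • fl (eVec m F) := by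
  rw [← el_single, v_el, one_add_shM_last lst_succ, Pi.single_eq_same, mul_one]

theorem v_f_succ {i j : Fin m} (h : i.val + 1 = j.val) : (vEl hδ : G m F).1 (f i + f j) = f j := by
  rw [← fl_single, ← fl_single, ← fl_add, v_fl, invT_succ h]

theorem u_v_e_lst : (uEl : G m F).1 ((vEl hδ : G m F).1 (e (lst m))) =
    (1 - δ ^ 2) • el (eVec m F) - (δ ^ 2 * eVec m F 0) • f 0 := by
  rw [v_e_lst, map_sub, LinearEquiv.map_smul, u_fl, one_add_shM_eVec, fl_smul, fl_single, eVec_lst, one_smul,
    ← el_single, u_el, ← eVec]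
  module

end elements

/-! ### Regularity -/

open Matrix

section regular

variable [NeZero m]

/-- The matrix of the element. -/
noncomputable def uMat : Matrix.symplecticGroup (Fin m) F := (symplecticEquiv m F).symm uEl

/-- Its nilpotent part. -/
noncomputable def nMat : Matrix (Fin m ⊕ Fin m) (Fin m ⊕ Fin m) F :=
  ((uMat : Matrix.symplecticGroup (Fin m) F) : Matrix _ _ F) - 1

theorem nMat_mulVec (x : Fin m ⊕ Fin m → F) : nMat *ᵥ x = (uEl : G m F).1 x - x := by
  rw [nMat, Matrix.sub_mulVec, Matrix.one_mulVec, uMat, symplecticEquiv_symm_mulVec]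

theorem nMat_el (y : Fin m → F) : nMat *ᵥ el y = el (-(invT m F * (shM m F).transpose) *ᵥ y) := by
  rw [nMat_mulVec, u_el, ← invT_sub_one, Matrix.sub_mulVec, Matrix.one_mulVec]
  funext x; rcases x with k | k <;> simp [el]

theorem nMat_pow_el (k : ℕ) (y : Fin m → F) :
    (nMat ^ k) *ᵥ el y = el ((-(invT m F * (shM m F).transpose)) ^ k *ᵥ y) := by
  induction k with
  | zero => simp
  | succ k ih => rw [pow_succ', ← Matrix.mulVec_mulVec, ih, nMat_el, Matrix.mulVec_mulVec, ← pow_succ']

theorem nMat_fl (y : Fin m → F) : ∃ y', nMat *ᵥ fl y = el y' + fl (shM m F *ᵥ y) := by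
  refine ⟨y (lst m) • eVec m F, ?_⟩
  rw [nMat_mulVec, u_fl, Matrix.add_mulVec, Matrix.one_mulVec, el_smul, fl_add]
  abel

theorem nMat_pow_fl (k : ℕ) (y : Fin m → F) : ∃ y', (nMat ^ k) *ᵥ fl y = el y' + fl ((shM m F ^ k) *ᵥ y) := by
  induction k with
  | zero => exact ⟨0, by simp [show el (0 : Fin m → F) = 0 from by funext x; rcases x with i | i <;> rfl]⟩
  | succ k ih =>
    obtain ⟨y', h⟩ := ih
    obtain ⟨y'', h'⟩ := nMat_fl ((shM m F ^ k) *ᵥ y)
    refine ⟨-(invT m F * (shM m F).transpose) *ᵥ y' + y'', ?_⟩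
    rw [pow_succ', ← Matrix.mulVec_mulVec, h, Matrix.mulVec_add, nMat_el, h', el_add, pow_succ', ← Matrix.mulVec_mulVec]
    abel

theorem elim_decomp (x : Fin m ⊕ Fin m → F) : x = el (x ∘ Sum.inl) + fl (x ∘ Sum.inr) := by
  funext z; rcases z with k | k <;> simp [el, fl]

theorem shT_pow : (-(invT m F * (shM m F).transpose)) ^ m = 0 := by
  rw [neg_pow, invT_commute.mul_pow, ← Matrix.transpose_pow, shM_pow_eq_zero]
  simp

theorem nMat_nilpotent : IsNilpotent (nMat : Matrix (Fin m ⊕ Fin m) (Fin m ⊕ Fin m) F) := by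
  refine ⟨m + m, Matrix.ext_iff_mulVec.2 fun x => ?_⟩
  rw [pow_add, ← Matrix.mulVec_mulVec, elim_decomp x, Matrix.mulVec_add]
  obtain ⟨y', h⟩ := nMat_pow_fl m (x ∘ Sum.inr)
  rw [nMat_pow_el, h, shM_pow_eq_zero, Matrix.zero_mulVec,
    show fl (0 : Fin m → F) = 0 from by funext x; rcases x with i | i <;> rfl, add_zero, ← el_add, nMat_pow_el, shT_pow,
    Matrix.zero_mulVec, Matrix.zero_mulVec]
  funext z; rcases z with i | i <;> rfl

theorem nMat_pow_ne : (nMat : Matrix (Fin m ⊕ Fin m) (Fin m ⊕ Fin m) F) ^ (2 * m - 1) ≠ 0 := by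
  intro h
  have hstep : ∀ k, ∀ hk : k < m, (nMat ^ k) *ᵥ (f 0 : Fin m ⊕ Fin m → F) = f ⟨k, hk⟩ := by
    intro k
    induction k with
    | zero => intro hk; rw [pow_zero, Matrix.one_mulVec]; rfl
    | succ k ih =>
      intro hk
      rw [pow_succ', ← Matrix.mulVec_mulVec, ih (by omega), nMat_mulVec, u_f (j := ⟨k + 1, hk⟩) (by simp)]
      abel
  have hm : 0 < m := Nat.pos_of_ne_zero (NeZero.ne m)
  have hlast : (nMat ^ m) *ᵥ (f 0 : Fin m ⊕ Fin m → F) = el (eVec m F) := by
    have e : nMat *ᵥ (f (lst m) : Fin m ⊕ Fin m → F) = el (eVec m F) := by rw [nMat_mulVec, u_f_lst]; abel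
    have e2 : (nMat : Matrix (Fin m ⊕ Fin m) (Fin m ⊕ Fin m) F) ^ m = nMat * nMat ^ (m - 1) := by
      rw [← pow_succ', show m - 1 + 1 = m by omega]
    rw [e2, ← Matrix.mulVec_mulVec, hstep (m - 1) (by omega)]
    exact e
  have hS : ((shM m F).transpose ^ (m - 1)) *ᵥ Pi.single (lst m) 1 = (Pi.single 0 1 : Fin m → F) := by
    funext i
    rw [← Matrix.transpose_pow, Matrix.mulVec_single_one, Matrix.col_apply, Matrix.transpose_apply, shM_pow_apply,
      Pi.single_apply]
    by_cases hi : i = 0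
    · subst hi; simp [lst]
    · have : i.val ≠ 0 := fun e => hi (Fin.ext (by simp [e]))
      rw [if_neg hi, if_neg (by simp [lst]; omega)]
  have hA : ∀ k, (invT m F ^ k) *ᵥ Pi.single 0 1 = (Pi.single 0 1 : Fin m → F) := by
    intro k
    induction k with
    | zero => rw [pow_zero, Matrix.one_mulVec]
    | succ k ih => rw [pow_succ', ← Matrix.mulVec_mulVec, ih, invT_zero]
  have hfin : (nMat ^ (2 * m - 1)) *ᵥ (f 0 : Fin m ⊕ Fin m → F) = el ((-1 : F) ^ (m - 1) • Pi.single 0 1) := by
    rw [show 2 * m - 1 = (m - 1) + m by omega, pow_add, ← Matrix.mulVec_mulVec, hlast, nMat_pow_el, neg_pow,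
      invT_commute.mul_pow, eVec, ← Matrix.mulVec_mulVec, ← Matrix.mulVec_mulVec, Matrix.mulVec_mulVec _ ((shM m F).transpose ^ _),
      ← (invT_commute.pow_right (m - 1)).eq, ← Matrix.mulVec_mulVec, hS, invT_zero, hA]
    rw [show ((-1 : Matrix (Fin m) (Fin m) F) ^ (m - 1)) = ((-1 : F) ^ (m - 1)) • 1 from by
      rw [← neg_one_smul F (1 : Matrix (Fin m) (Fin m) F), smul_pow, one_pow], Matrix.smul_mulVec, Matrix.one_mulVec]
  rw [h, Matrix.zero_mulVec] at hfin
  have := congrFun hfin (Sum.inl 0)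
  simp [el] at this
  exact pow_ne_zero _ (neg_ne_zero.2 (one_ne_zero (α := F))) this.symm

end regular

/-! ### Generation -/

section gen

variable [NeZero m] {H : Subgroup (G m F)} {δ : F} (hδ : δ ≠ 0) (hu : uEl ∈ H) (hv : vEl hδ ∈ H)

theorem conj_mem {g : G m F} (hg : g ∈ H) {x : Fin m ⊕ Fin m → F} {k : F} (h : lo x k ∈ H) : lo (g.1 x) k ∈ H := by
  rw [← conj_lo]; exact H.mul_mem (H.mul_mem hg h) (H.inv_mem hg)

theorem conj_mem' {g : G m F} (hg : g ∈ H) {x : Fin m ⊕ Fin m → F} {k : F} (h : lo (g.1 x) k ∈ H) : lo x k ∈ H := by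
  have := conj_mem (H.inv_mem hg) h
  rwa [← LinearEquiv.mul_apply, ← Subgroup.coe_mul, inv_mul_cancel, Subgroup.coe_one] at this

include hu hv in
theorem es_mem {k : F} (h : lo (e 0) k ∈ H) (i : Fin m) :
    lo (e i) k ∈ H ∧ ∀ j : Fin m, i.val + 1 = j.val → lo (e i + e j) k ∈ H := by
  suffices lo (e i) k ∈ H from ⟨this, fun j hj => v_e hδ hj ▸ conj_mem hv this⟩
  obtain ⟨n, hn⟩ : ∃ n, n = i.val := ⟨_, rfl⟩
  induction n generalizing i with
  | zero => rwa [show i = 0 from Fin.ext (by simp [← hn])]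
  | succ n ih =>
    have h1 := conj_mem hu (conj_mem hv (ih ⟨n, by omega⟩ rfl))
    rwa [v_e hδ (j := i) hn, u_e_succ (i := ⟨n, by omega⟩) (j := i) hn] at h1

include hu hv in
theorem fs_mem {k : F} (h : lo (f 0) k ∈ H) (i : Fin m) : lo (f i) k ∈ H := by
  obtain ⟨n, hn⟩ : ∃ n, n = i.val := ⟨_, rfl⟩
  induction n generalizing i with
  | zero => rwa [show i = 0 from Fin.ext (by simp [← hn])]
  | succ n ih =>
    have h1 := conj_mem hv (conj_mem hu (ih ⟨n, by omega⟩ rfl))
    rwa [u_f (i := ⟨n, by omega⟩) (j := i) hn, v_f_succ hδ (i := ⟨n, by omega⟩) (j := i) hn] at h1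

theorem line {x y : Fin m ⊕ Fin m → F} (hx : ∀ k, lo x k ∈ H) (hy : ∀ k, lo y k ∈ H) (h : (sympBil m F) x y ≠ 0) (a k : F) :
    lo (x + a • y) k ∈ H := by
  have := conj_mem (hy (a / (sympBil m F) x y)) (hx k)
  rwa [lo_apply, div_mul_cancel₀ _ h] at this

include hu hv in
theorem eq_top_of_long (hm : 2 ≤ m) (h : ∀ k, lo (e 0) k ∈ H) : H = ⊤ := by
  have hE : ∀ i k, lo (e i) k ∈ H := fun i k => (es_mem hδ hu hv (h k) i).1
  have hEE : ∀ (i j : Fin m), i.val + 1 = j.val → ∀ k, lo (e i + e j) k ∈ H :=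
    fun i j hij k => (es_mem hδ hu hv (h k) i).2 j hij
  have hy1 : ∀ k, lo (e (lst m) - δ ^ 2 • fl (eVec m F)) k ∈ H := fun k => by
    have := conj_mem hv (hE (lst m) k)
    rwa [v_e_lst] at this
  have hne : (sympBil m F) (e (lst m) - δ ^ 2 • fl (eVec m F)) (e (lst m)) ≠ 0 := by
    rw [B_e, Pi.sub_apply, Pi.smul_apply]
    simp [e, fl, eVec_lst, hδ]
  have hw : ∀ k, lo (fl (eVec m F) - e (lst m)) k ∈ H := fun k => by
    have := line hy1 (hE (lst m)) hne (δ ^ 2 - 1) (k / (δ ^ 2) ^ 2)
    rw [show e (lst m) - δ ^ 2 • fl (eVec m F) + (δ ^ 2 - 1) • e (lst m) =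
      (-(δ ^ 2)) • (fl (eVec m F) - e (lst m)) from by module, lo_smul, neg_sq, mul_div_cancel₀ _ (by simp [hδ])] at this
    exact this
  have hf0 : ∀ k, lo (f 0) k ∈ H := fun k => by
    have := conj_mem hu (hw k)
    rwa [map_sub, u_fl, one_add_shM_eVec, fl_smul, fl_single, eVec_lst, one_smul, ← el_single, u_el, ← eVec,
      add_sub_cancel_right, lo_smul, eVec_sq, one_mul] at this
  have hF : ∀ i k, lo (f i) k ∈ H := fun i k => fs_mem hδ hu hv (hf0 k) i
  have adj : ∀ i j : Fin m, i.val + 1 = j.val ∨ j.val + 1 = i.val → ∀ c, sh (e i) (f j) c ∈ H := by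
    intro i j hij c
    have hne' : i ≠ j := fun e => by rw [e] at hij; omega
    have hsum : ∀ k, lo (e i + e j) k ∈ H := fun k => hij.elim (fun h => hEE i j h k)
      (fun h => by rw [add_comm]; exact hEE j i h k)
    have h1 := fun k => line (hF j) hsum (by rw [map_add, B_fe_self, B_fe hne'.symm]; simp) 1 k
    have h2 := fun k => line h1 (hE j) (by
      rw [map_add, LinearMap.add_apply, one_smul, map_add, LinearMap.add_apply, B_fe_self, B_ee, B_ee]; simp) (-1) k
    have e1 : (f j + (1 : F) • (e i + e j)) + (-1 : F) • e j = (e i + f j : Fin m ⊕ Fin m → F) := by module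
    rw [e1] at h2
    exact H.mul_mem (H.mul_mem (h2 c) (hE i _)) (hF j _)
  have hcyc : ∀ (i : Fin m) (c : F), ∀ j : Fin m, i.val + 1 = j.val → sh (e i) (f j) c ∈ H :=
    fun i c j h => adj i j (Or.inl h) c
  refine eq_top H (fun i j hij c => ?_) hE hF
  rcases Nat.lt_or_ge i.val j.val with h | h
  · exact mem_upper H hcyc h c
  obtain ⟨d, hd⟩ : ∃ d, j.val + (d + 1) = i.val := ⟨i.val - j.val - 1, by
    have : i.val ≠ j.val := fun e => hij (Fin.ext e)
    omega⟩
  clear h hij
  induction d generalizing i c with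
  | zero => exact adj i j (Or.inr hd) c
  | succ d ih =>
    have hlt : j.val + (d + 1) < m := by have := i.2; omega
    refine compose H hcyc (j := ⟨j.val + (d + 1), hlt⟩) (fun e => ?_) (fun e => ?_) (fun e => ?_)
      (fun c' => adj i _ (Or.inr (by simp only; omega)) c') (fun c' => ih _ c' rfl) c
    · have := congrArg Fin.val e; simp only at this; omega
    · have := congrArg Fin.val e; simp only at this; omega
    · have := congrArg Fin.val e; omega

variable [Fintype F]

include hu hv in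
/-- The case of the trivial scaling. -/
theorem eq_top_main (hm : 2 ≤ m) (hδ1 : δ = 1) {c : F} (hc : c ≠ 0) (hT : lo (e 0) c ∈ H)
    (hgen : Subring.closure ({c ^ 2} : Set F) = ⊤) : H = ⊤ := by
  refine eq_top_of_long hδ hu hv hm fun k => ?_
  let o : Fin m := ⟨1, by omega⟩
  have ho : (0 : Fin m) ≠ o := fun e => by have := congrArg Fin.val e; simp [o] at this
  have hE := es_mem hδ hu hv hT
  have hf0 : lo (f 0) c ∈ H := by
    have := conj_mem hu (conj_mem hv (hE (lst m)).1)
    rwa [u_v_e_lst, hδ1, one_pow, one_mul, sub_self, zero_smul, zero_sub, ← neg_smul, lo_smul, neg_sq, eVec_sq,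
      one_mul] at this
  have hF := fs_mem hδ hu hv hf0
  have hs : lo (e o + e 0) c ∈ H := by rw [add_comm]; exact (hE 0).2 o (by simp [o])
  have hb : (sympBil m F) (e o) (f o) ≠ 0 := by rw [B_ef_self]; simp
  have hgen' : Subring.closure ({(c * (sympBil m F) (e o) (f o)) ^ 2} : Set F) = ⊤ := by
    rw [B_ef_self, mul_neg_one, neg_sq]; exact hgen
  by_cases h2 : (2 : F) = 0
  · have : CharP F 2 := CharTwo.of_one_ne_zero_of_two_eq_zero one_ne_zero h2
    by_cases hc1 : c = 1
    · obtain ⟨l, hl⟩ : ∃ l : ℤ, (l : F) = k := Subring.mem_bot.1 (by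
        rw [← Subring.closure_singleton_one, show (1 : F) = c ^ 2 by rw [hc1, one_pow], hgen]; exact Subring.mem_top k)
      obtain ⟨l', rfl | rfl⟩ := Int.even_or_odd' l
      · rw [← hl]; push_cast; rw [h2, zero_mul, lo_zero]; exact H.one_mem
      · rw [← hl]; push_cast; rw [h2, zero_mul, zero_add, ← hc1]; exact hT
    have g1 := trans_two (B_ee (F := F) 0 o) (B_ef (F := F) ho) hT (hE o).1 (hF o) hs hc hb hgen' h2 1
    have g2 := trans_two (B_ee (F := F) o 0) (B_ef (F := F) ho.symm) (hE o).1 hT hf0 (by rw [add_comm]; exact hs) hc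
      (by rw [B_ef_self]; simp) (by rw [B_ef_self, mul_neg_one, neg_sq]; exact hgen) h2 1
    have hD := H.mul_mem (H.inv_mem g1) g2
    rw [rel, rel, sh_comm (B_ee o 0), _root_.mul_inv_rev, mul_assoc, inv_mul_cancel_left, lo, tr_inv] at hD
    refine long_of_triple_two (B_ee (F := F) 0 o) (B_ef (F := F) ho) hT (hE o).1 (hF o) hs hc hb hgen' h2 (by simp [hc]) ?_ hD k
    intro h
    field_simp at h
    refine hc1 ?_
    have : (c - 1) ^ 2 = 0 := by linear_combination (-h) + (1 - c) * h2
    exact sub_eq_zero.1 (pow_eq_zero_iff two_ne_zero |>.1 this)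
  · exact long_of_triple_odd (B_ee (F := F) 0 o) (B_ef (F := F) ho) hT (hE o).1 (hF o) hs hc hb hgen' h2 k

end gen

/-- The field of four elements in rank two. -/
theorem eq_top_four [Fintype F] {H : Subgroup (G 2 F)} {δ : F} (hδ : δ ≠ 0) (hu : uEl ∈ H) (hv : vEl hδ ∈ H)
    (h2 : (2 : F) = 0) {ω : F} (hω : ω ^ 2 + ω + 1 = 0) (hδω : δ ^ 2 = ω)
    (hgen : Subring.closure ({ω ^ 2} : Set F) = ⊤) (hT : lo (e 0) (1 : F) ∈ H) : H = ⊤ := by
  refine eq_top_of_long hδ hu hv le_rfl fun k => ?_
  have hn : ∀ z : F, -z = z := fun z => by linear_combination (-z) * h2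
  have hE := es_mem hδ hu hv hT
  have e1 : lst 2 = (1 : Fin 2) := rfl
  have hE0 : eVec 2 F 0 = -1 := by rw [eVec_apply 0 1 (by simp), pow_one]
  have hE1 : eVec 2 F 1 = 1 := by rw [eVec_apply 1 0 (by simp), pow_zero]
  have hz : lo ((uEl : G 2 F).1 ((vEl hδ : G 2 F).1 (e 1))) (1 : F) ∈ H := conj_mem hu (conj_mem hv (hE 1).1)
  have hy : lo ((vEl hδ : G 2 F).1 ((vEl hδ : G 2 F).1 (e 1))) (1 : F) ∈ H := conj_mem hv (conj_mem hv (hE 1).1)
  set z := (uEl : G 2 F).1 ((vEl hδ : G 2 F).1 (e 1)) with hzdef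
  have hzv : z = (1 - ω) • el (eVec 2 F) + ω • f 0 := by
    rw [hzdef, ← e1, u_v_e_lst, hδω, hE0]
    module
  have hEv : el (eVec 2 F) = e 1 - e 0 := by
    funext x; rcases x with i | i <;> fin_cases i <;> simp [el, e, hE0, hE1]
  have hFv : fl (eVec 2 F) = f 1 - f 0 := by
    funext x; rcases x with i | i <;> fin_cases i <;> simp [fl, f, hE0, hE1]
  have hAE : invT 2 F *ᵥ eVec 2 F = eVec 2 F - Pi.single 0 1 := by
    have e2 : eVec 2 F = (Pi.single 0 1 + Pi.single 1 1) - (2 : F) • Pi.single 0 1 := by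
      funext i; fin_cases i <;> simp [hE0, hE1]; ring
    rw [show invT 2 F *ᵥ eVec 2 F = invT 2 F *ᵥ ((Pi.single 0 1 + Pi.single 1 1) - (2 : F) • Pi.single 0 1) by rw [← e2],
      h2, zero_smul, sub_zero, invT_succ (i := (0 : Fin 2)) (j := 1) (by simp)]
    funext i; fin_cases i <;> simp [hE0, hE1]; linear_combination h2
  have hvv : (vEl hδ : G 2 F).1 ((vEl hδ : G 2 F).1 (e 1)) = e 1 + ω • f 0 := by
    rw [← e1, v_e_lst, hδω, map_sub, LinearEquiv.map_smul, v_e_lst, hδω, v_fl, hAE, fl_sub, fl_single, hFv, e1]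
    match_scalars <;> first | ring1 | linear_combination ω * h2 | linear_combination (-ω) * h2
  have hx : lo (ω • e 1 + (1 + ω) • e 0) (1 : F) ∈ H := by
    have h := conj_mem hz hy
    rw [lo_apply, hvv, hzv, hEv] at h
    have hB : (sympBil 2 F) (e 1 + ω • f 0) ((1 - ω) • (e 1 - e 0) + ω • f 0) = 1 := by
      simp only [map_add, map_sub, LinearMap.map_smul, LinearMap.add_apply, LinearMap.smul_apply, smul_eq_mul, B_ee,
        B_ef (show (1 : Fin 2) ≠ 0 by simp), B_fe (show (0 : Fin 2) ≠ 1 by simp), B_ef (show (0 : Fin 2) ≠ 1 by simp),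
        B_fe (show (1 : Fin 2) ≠ 0 by simp), B_ef_self, B_fe_self, B_ff]
      linear_combination hω + (-ω - 1) * h2
    rw [hB, one_mul, one_smul] at h
    have e2 : e 1 + ω • f 0 + ((1 - ω) • (e 1 - e 0) + ω • f 0) = ω • e 1 + (1 + ω) • (e 0 : Fin 2 ⊕ Fin 2 → F) := by
      match_scalars <;> first | ring1 | linear_combination (1 - ω) * h2 | linear_combination ω * h2 | linear_combination -h2
    rwa [e2] at h
  have hqw : (sympBil 2 F) (e 0) z = ω := by
    rw [hzv, hEv]
    simp only [map_add, map_sub, LinearMap.map_smul, smul_eq_mul, B_ee, B_ef_self]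
    linear_combination (-ω) * h2
  have hω0 : ω ≠ 0 := fun h => by rw [h] at hω; simp at hω
  have hpw : (sympBil 2 F) (e 1) z = 0 := by
    rw [hzv, hEv]
    simp [B_ee, B_ef (show (1 : Fin 2) ≠ 0 by simp)]
  have hs : lo (e 0 + e 1) (1 : F) ∈ H := (hE 0).2 1 (by simp)
  have hgen' : Subring.closure ({(1 * (sympBil 2 F) (e 0) z) ^ 2} : Set F) = ⊤ := by rw [hqw, one_mul]; exact hgen
  have hs1 : rel (e 1) (e 0) (1 : F) 0 ∈ H := rel_start (B_ee (F := F) _ _) (hE 1).1 hT hs
  have hD : lo (e 1) (ω ^ 2) * lo (e 0) ((1 + ω) ^ 2) ∈ H := by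
    have e3 : lo (ω • e 1 + (1 + ω) • e 0 : Fin 2 ⊕ Fin 2 → F) (1 : F) =
        sh (ω • e 1) ((1 + ω) • e 0) 1 * lo ((1 + ω) • e 0) 1 * lo (ω • e 1) 1 := by
      simp only [sh, lo, ← tr_inv]
      group
    rw [e3, lo_smul, lo_smul, sh_smul_left (by simp [B_ee]), sh_smul_right (B_ee _ _), mul_one, mul_one, mul_one,
      show (1 + ω) * ω = 1 by linear_combination hω - h2, mul_assoc, ← lo_comm (B_ee (1 : Fin 2) 0)] at hx
    rw [rel, lo_zero, mul_one] at hs1
    exact (Subgroup.mul_mem_cancel_left _ hs1).1 hx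
  have hk : ∀ k, lo (e 1) k ∈ H := long_of_triple_two (B_ee (F := F) (1 : Fin 2) 0) hpw (hE 1).1 hT hz hs one_ne_zero
    (by rw [hqw]; exact hω0) hgen' h2 (k₁ := (1 + ω) ^ 2) (fun h => hω0 (by linear_combination h - hω))
    (fun h => one_ne_zero (α := F) (by linear_combination (ω + 3) * hω - (ω + 2) * h - h2)) hD
  have h' := conj_mem' hu (x := e 0 + e 1) (by rw [u_e_succ (i := (0 : Fin 2)) (j := 1) (by simp)]; exact hk k)
  exact conj_mem' hv (by rw [v_e hδ (i := (0 : Fin 2)) (j := 1) (by simp)]; exact h')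


/-! ### The transvection -/

theorem conj_odd {a b : Fin m ⊕ Fin m → F} (h : (sympBil m F) b a = 0) (t : F) :
    sh b (a - b) t = sh b a t * lo b (-2 * t) := ext_G fun z => by
  have h' : (sympBil m F) b (a - b) = 0 := by simp [h, B_self]
  simp only [Subgroup.coe_mul, LinearEquiv.mul_apply, sh_apply h, sh_apply h', lo_apply, map_add, map_sub,
    LinearMap.map_smul, LinearMap.add_apply, LinearMap.sub_apply, LinearMap.smul_apply, smul_eq_mul, B_self, h,
    mul_zero, add_zero]
  match_scalars <;> ring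

theorem conj_big {a b d : Fin m ⊕ Fin m → F} (hba : (sympBil m F) b a = 0) (hbd : (sympBil m F) b d = 0) (had : (sympBil m F) a d = 0) (t : F) :
    lo (a - b) t * sh b (d - a + b) (-t) = lo a t * sh b d (-t) * lo b (-t) := ext_G fun z => by
  have h' : (sympBil m F) b (d - a + b) = 0 := by simp [hba, hbd, B_self]
  have hab : (sympBil m F) a b = 0 := by rw [B_swap, hba, neg_zero]
  have hdb : (sympBil m F) d b = 0 := by rw [B_swap, hbd, neg_zero]
  have hda : (sympBil m F) d a = 0 := by rw [B_swap, had, neg_zero]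
  simp only [Subgroup.coe_mul, LinearEquiv.mul_apply, sh_apply hbd, sh_apply h', lo_apply, map_add, map_sub,
    LinearMap.map_smul, LinearMap.add_apply, LinearMap.sub_apply, LinearMap.smul_apply, smul_eq_mul, B_self, hba, hbd,
    had, hab, hdb, hda, mul_zero, add_zero]
  match_scalars <;> ring

theorem conj_two {a b d : Fin m ⊕ Fin m → F} (hba : (sympBil m F) b a = 0) (hbd : (sympBil m F) b d = 0) (had : (sympBil m F) a d = -1) (t : F) :
    lo (a - b) t * sh b (d + a - b) t = lo a t * sh b d t * lo b (-t ^ 2 - t) := ext_G fun z => by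
  have h' : (sympBil m F) b (d + a - b) = 0 := by simp [hba, hbd, B_self]
  have hab : (sympBil m F) a b = 0 := by rw [B_swap, hba, neg_zero]
  have hdb : (sympBil m F) d b = 0 := by rw [B_swap, hbd, neg_zero]
  have hda : (sympBil m F) d a = 1 := by rw [B_swap, had, neg_neg]
  simp only [Subgroup.coe_mul, LinearEquiv.mul_apply, sh_apply hbd, sh_apply h', lo_apply, map_add, map_sub,
    LinearMap.map_smul, LinearMap.add_apply, LinearMap.sub_apply, LinearMap.smul_apply, smul_eq_mul, B_self, hba, hbd,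
    had, hab, hdb, hda, mul_zero, add_zero]
  match_scalars <;> ring

theorem exists_artin [Fintype F] (h2 : (2 : F) = 0) (h8 : 8 ≤ Fintype.card F) :
    ∃ t : F, t ^ 2 + t ≠ 0 ∧ Subring.closure ({(t ^ 2 + t) ^ 2} : Set F) = ⊤ := by
  classical
  have : CharP F 2 := CharTwo.of_one_ne_zero_of_two_eq_zero one_ne_zero h2
  obtain ⟨f, hf, hcard⟩ := FiniteField.card F 2
  by_contra hne
  push Not at hne
  let n : ℕ := f
  have hn : Fintype.card F = 2 ^ n := hcard
  let bad : Finset F := (Finset.Icc 1 (n / 2)).biUnion fun i => Finset.univ.filter fun c => c ^ 2 ^ i = c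
  have hsub : Finset.univ.image (fun t : F => t ^ 2 + t) ⊆ insert 0 bad := by
    intro c hc
    obtain ⟨t, -, rfl⟩ := Finset.mem_image.1 hc
    rw [Finset.mem_insert]
    by_contra hcon
    push Not at hcon
    refine hne t hcon.1 (UnitaryGen.closure_eq_top_of_pow (pow_ne_zero 2 hcon.1) fun k hk h j hj hk2 => hcon.2 ?_)
    rw [Nat.card_eq_fintype_card, hn] at hk2
    obtain ⟨i, -, rfl⟩ := (Nat.dvd_prime_pow Nat.prime_two).1 (hk2 ▸ dvd_pow_self k (by omega) : k ∣ 2 ^ n)
    rw [← pow_mul] at hk2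
    have hij := Nat.pow_right_injective le_rfl hk2
    have hi : 1 ≤ i := Nat.one_le_iff_ne_zero.2 fun e => by rw [e] at hk; simp at hk
    refine Finset.mem_biUnion.2 ⟨i, Finset.mem_Icc.2 ⟨hi, ?_⟩, Finset.mem_filter.2 ⟨Finset.mem_univ _, ?_⟩⟩
    · rw [Nat.le_div_iff_mul_le two_pos, ← hij]; exact Nat.mul_le_mul le_rfl hj
    · set c := t ^ 2 + t
      have h1 : (c ^ (2 ^ i - 1)) ^ 2 = 1 := by rw [← pow_mul, mul_comm, pow_mul]; exact h
      have h3 : c ^ (2 ^ i - 1) = 1 := by
        have : (c ^ (2 ^ i - 1) - 1) ^ 2 = 0 := by linear_combination h1 + (1 - c ^ (2 ^ i - 1)) * h2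
        exact sub_eq_zero.1 ((pow_eq_zero_iff two_ne_zero).1 this)
      calc c ^ 2 ^ i = c ^ (2 ^ i - 1) * c := by rw [← pow_succ, Nat.sub_add_cancel (by omega)]
        _ = c := by rw [h3, one_mul]
  have himg : Fintype.card F ≤ 2 * (Finset.univ.image (fun t : F => t ^ 2 + t)).card := by
    refine Finset.card_le_mul_card_image _ 2 fun c hc => ?_
    obtain ⟨t, -, rfl⟩ := Finset.mem_image.1 hc
    calc _ ≤ ({t, t + 1} : Finset F).card := Finset.card_le_card fun s hs => by
          rw [Finset.mem_filter] at hs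
          have : (s - t) * (s - t - 1) = 0 := by linear_combination hs.2 + (t ^ 2 - s * t + t - s) * h2
          rcases mul_eq_zero.1 this with h | h
          · simp [sub_eq_zero.1 h]
          · simp [show s = t + 1 by linear_combination h]
      _ ≤ 2 := Finset.card_le_two
  have hroot : ∀ i, 1 ≤ i → (Finset.univ.filter fun c : F => c ≠ 0 ∧ c ^ 2 ^ i = c).card ≤ 2 ^ i - 1 := by
    intro i hi
    have hk : 2 ≤ 2 ^ i := Nat.le_self_pow (by omega) 2 |>.trans' le_rfl
    refine le_trans (Finset.card_le_card (t := (Polynomial.nthRoots (2 ^ i - 1) (1 : F)).toFinset) fun c hc => ?_)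
      (le_trans (Multiset.toFinset_card_le _) (Polynomial.card_nthRoots _ _))
    rw [Finset.mem_filter] at hc
    rw [Multiset.mem_toFinset, Polynomial.mem_nthRoots (by omega)]
    exact mul_right_cancel₀ hc.2.1 (by rw [← pow_succ, Nat.sub_add_cancel (by omega), one_mul, hc.2.2])
  have hbad : (bad.erase 0).card ≤ 2 ^ (n / 2 + 1) - 2 := by
    have e : bad.erase 0 ⊆ (Finset.Icc 1 (n / 2)).biUnion fun i => Finset.univ.filter fun c => c ≠ 0 ∧ c ^ 2 ^ i = c := by
      intro c hc
      simp only [bad, Finset.mem_erase, Finset.mem_biUnion, Finset.mem_filter] at hc ⊢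
      obtain ⟨h0, i, hi, -, hci⟩ := hc
      exact ⟨i, hi, Finset.mem_univ _, h0, hci⟩
    refine (Finset.card_le_card e).trans (Finset.card_biUnion_le.trans
      ((Finset.sum_le_sum fun i hi => hroot i (Finset.mem_Icc.1 hi).1).trans ?_))
    generalize n / 2 = r
    induction r with
    | zero => simp
    | succ r ih =>
      rw [Finset.sum_Icc_succ_top (by omega)]
      have := Nat.one_le_two_pow (n := r + 1)
      have : 2 ^ (r + 1 + 1) = 2 ^ (r + 1) + 2 ^ (r + 1) := by ring
      omega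
  have htot : (insert (0 : F) bad).card ≤ 2 ^ (n / 2 + 1) - 1 := by
    rw [show insert (0 : F) bad = insert 0 (bad.erase 0) by ext x; simp; tauto,
      Finset.card_insert_of_notMem (Finset.notMem_erase _ _)]
    have := Nat.one_le_two_pow (n := n / 2 + 1)
    have h2p : 2 ≤ 2 ^ (n / 2 + 1) := Nat.le_self_pow (by omega) 2
    omega
  have hn3 : 3 ≤ n := by
    by_contra h
    have : 2 ^ n ≤ 2 ^ 2 := Nat.pow_le_pow_right two_pos (by omega)
    omega
  have hfin : 2 * 2 ^ (n / 2 + 1) ≤ 2 ^ n + 2 ^ n := by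
    rw [← two_mul]
    exact Nat.mul_le_mul le_rfl (Nat.pow_le_pow_right two_pos (by omega))
  have h4 : 2 ^ n = 2 * 2 ^ (n - 1) := by rw [← pow_succ']; congr 1; omega
  have h5 : 2 ^ (n / 2 + 1) ≤ 2 ^ (n - 1) := Nat.pow_le_pow_right two_pos (by omega)
  have := (Finset.card_le_card hsub).trans htot
  have := Nat.one_le_two_pow (n := n / 2 + 1)
  omega

/-- The symplectic group is generated by three conjugate regular unipotent elements. -/
theorem exists_three [Fintype F] (hm : 2 ≤ m) (h22 : ¬(m = 2 ∧ Fintype.card F = 2)) :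
    ∃ u g h : Matrix.symplecticGroup (Fin m) F,
      IsNilpotent ((u : Matrix (Fin m ⊕ Fin m) (Fin m ⊕ Fin m) F) - 1) ∧
      ((u : Matrix (Fin m ⊕ Fin m) (Fin m ⊕ Fin m) F) - 1) ^ (2 * m - 1) ≠ 0 ∧
      Subgroup.closure ({u, g * u * g⁻¹, h * u * h⁻¹} : Set (Matrix.symplecticGroup (Fin m) F)) = ⊤ := by
  classical
  have : NeZero m := ⟨by omega⟩
  obtain ⟨δ, hδ, h, c, hrel, htop⟩ : ∃ (δ : F) (hδ : δ ≠ 0) (h : G m F) (c : F),
      h⁻¹ * uEl * h * (uEl : G m F)⁻¹ = lo (e 0) c ∧
        ∀ H : Subgroup (G m F), uEl ∈ H → vEl hδ ∈ H → lo (e 0) c ∈ H → H = ⊤ := by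
    let o : Fin m := ⟨1, by omega⟩
    have ho : (0 : Fin m) ≠ o := fun e => by have := congrArg Fin.val e; simp [o] at this
    have huo : (uEl : G m F).1 (e o) = e o - e 0 := by
      have := u_e_succ (F := F) (i := (0 : Fin m)) (j := o) (by simp [o])
      rw [map_add, u_e0] at this
      exact eq_sub_of_add_eq' this
    obtain ⟨ξ, hξ⟩ := IsCyclic.exists_generator (α := Fˣ)
    have hg2 : Subring.closure ({(ξ : F) ^ 2} : Set F) = ⊤ := OmegaGen.closure_sq_eq_top hξ
    by_cases h2 : (2 : F) = 0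
    swap
    · refine ⟨1, one_ne_zero, sh (e 0) (e o) ((ξ : F) / -2), ξ, ?_, fun H hu hv hT =>
        eq_top_main _ hu hv hm rfl ξ.ne_zero hT hg2⟩
      rw [mul_assoc, mul_assoc, ← mul_assoc (uEl : G m F), conj_sh, u_e0, huo, conj_odd (B_ee _ _), inv_mul_cancel_left]
      congr 1
      field_simp
    have hn : ∀ z : F, -z = z := fun z => by linear_combination (-z) * h2
    rcases Nat.lt_or_ge 2 m with hm3 | hm2
    · let w : Fin m := ⟨2, hm3⟩
      have huw : (uEl : G m F).1 (e w) = e w - e o + e 0 := by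
        have := u_e_succ (F := F) (i := o) (j := w) (by simp [o, w])
        rw [map_add, huo] at this
        rw [eq_sub_of_add_eq' this]; module
      refine ⟨1, one_ne_zero, lo (e o) (-ξ : F) * sh (e 0) (e w) (- -(ξ : F)), ξ, ?_, fun H hu hv hT =>
        eq_top_main _ hu hv hm rfl ξ.ne_zero hT hg2⟩
      rw [mul_assoc, mul_assoc, ← mul_assoc (uEl : G m F), conj_mul', conj_sh, conj_lo, u_e0, huo, huw,
        conj_big (B_ee _ _) (B_ee _ _) (B_ee _ _), neg_neg, inv_mul_cancel_left]
    obtain rfl : m = 2 := le_antisymm hm2 hm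
    have huf : (uEl : G 2 F).1 (f o) = f o + e o - e 0 := by
      rw [show o = lst 2 from rfl, u_f_lst, eVec, ← u_el, el_single, show lst 2 = o from rfl, huo]
      abel
    have hq : 3 ≤ Fintype.card F := by
      have := Fintype.one_lt_card (α := F)
      by_contra h
      exact h22 ⟨rfl, by omega⟩
    have conjh : ∀ t : F, (lo (e o) t * sh (e 0) (f o) t)⁻¹ * uEl * (lo (e o) t * sh (e 0) (f o) t) * (uEl : G 2 F)⁻¹ =
        lo (e 0) (-t ^ 2 - t) := fun t => by
      rw [mul_assoc, mul_assoc, ← mul_assoc (uEl : G 2 F), conj_mul', conj_sh, conj_lo, u_e0, huo, huf,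
        conj_two (B_ee _ _) (B_ef ho) (B_ef_self _), inv_mul_cancel_left]
    by_cases h8 : 8 ≤ Fintype.card F
    · obtain ⟨t, ht, htg⟩ := exists_artin h2 h8
      refine ⟨1, one_ne_zero, _, t ^ 2 + t, (conjh t).trans (by rw [show -t ^ 2 - t = t ^ 2 + t by
        linear_combination (-t ^ 2 - t) * h2]), fun H hu hv hT => eq_top_main _ hu hv le_rfl rfl ht hT htg⟩
    have : CharP F 2 := CharTwo.of_one_ne_zero_of_two_eq_zero one_ne_zero h2
    obtain ⟨f', -, hcard⟩ := FiniteField.card F 2
    have hf : Fintype.card F = 4 := by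
      have h1 : (f' : ℕ) < 3 := (Nat.pow_lt_pow_iff_right one_lt_two).1 (by rw [← hcard]; omega)
      have h0 : 2 ≤ (f' : ℕ) := by
        by_contra h
        have : 2 ^ (f' : ℕ) ≤ 2 ^ 1 := Nat.pow_le_pow_right two_pos (by omega)
        omega
      rw [hcard, show (f' : ℕ) = 2 by omega]; norm_num
    have hne1 : (ξ : F) ≠ 1 := fun e => by
      have := hξ
      have h1 : ξ = 1 := Units.ext e
      have hsub : ∀ x : Fˣ, x = 1 := fun x => by
        obtain ⟨k, hk⟩ := hξ x
        simpa [h1] using hk.symm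
      have h' : Nat.card Fˣ = 1 := Nat.card_eq_one_iff_exists.2 ⟨1, hsub⟩
      rw [Nat.card_units, Nat.card_eq_fintype_card] at h'
      omega
    have h3 : (ξ : F) ^ 3 = 1 := by
      have := FiniteField.pow_card_sub_one_eq_one (ξ : F) ξ.ne_zero
      rwa [hf] at this
    have hω : (ξ : F) ^ 2 + ξ + 1 = 0 := by
      have : ((ξ : F) - 1) * ((ξ : F) ^ 2 + ξ + 1) = 0 := by linear_combination h3
      exact (mul_eq_zero.1 this).resolve_left (sub_ne_zero.2 hne1)
    refine ⟨(ξ : F) ^ 2, pow_ne_zero 2 ξ.ne_zero, _, 1, (conjh ξ).trans (by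
        rw [show -(ξ : F) ^ 2 - ξ = 1 by linear_combination (-1 : F) * hω]),
      fun H hu hv hT => eq_top_four _ hu hv h2 hω (by linear_combination (ξ : F) * h3) hg2 hT⟩
  let ψ := (symplecticEquiv m F).symm
  refine ⟨ψ uEl, ψ (jEl hδ), ψ h⁻¹, nMat_nilpotent, nMat_pow_ne, ?_⟩
  have key : Subgroup.closure ({uEl, vEl hδ, h⁻¹ * uEl * h} : Set (G m F)) = ⊤ := by
    refine htop _ (Subgroup.subset_closure (by simp)) (Subgroup.subset_closure (by simp)) ?_
    rw [← hrel]
    exact Subgroup.mul_mem _ (Subgroup.subset_closure (by simp)) (Subgroup.inv_mem _ (Subgroup.subset_closure (by simp)))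
  have := congrArg (Subgroup.map ψ.toMonoidHom) key
  rw [MonoidHom.map_closure, Set.image_insert_eq, Set.image_pair, Subgroup.map_top_of_surjective _ ψ.surjective] at this
  simpa [vEl] using this

end CfsgLib.Classical.ClassTheory.SpRegularThree
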