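import Cfsg.Agent.Lib.Classical.Unitary.Matrix
import Cfsg.Agent.Lib.Classical.Symplectic.Matrix
import Mathlib.RingTheory.AdjoinRoot
import Mathlib.Algebra.Polynomial.SpecificDegree

/-!
# The centralizer of a fixed-point-free symplectic element of order three is a unitary group
-/

set_option autoImplicit false

namespace CfsgLib.Classical.ClassTheory

open Polynomial CfsgLib.Classical.Herm
open LinearMap (BilinForm)
open CfsgLib.Classical.Symp
open scoped Matrix

universe u v

variable {F : Type u} [Field F] [Fintype F] {V : Type v} [AddCommGroup V] [Module F V] [FiniteDimensional F V]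

/-- There is no cube root of unity other than one when `q ≡ 2 (mod 3)`. -/
theorem sq_add_self_add_one_ne_zero {q : ℕ} (hq : Fintype.card F = q) (hq3 : q % 3 = 2) (x : F) :
    x ^ 2 + x + 1 ≠ 0 := by
  intro hx
  have hx3 : x ^ 3 = 1 := by linear_combination (x - 1) * hx
  have hx0 : x ≠ 0 := fun h => by simp [h] at hx3
  have hpow := FiniteField.pow_card_sub_one_eq_one x hx0
  obtain ⟨k, hk⟩ : ∃ k, q - 1 = 3 * k + 1 := ⟨q / 3, by omega⟩
  rw [hq, hk, pow_succ, pow_mul, hx3, one_pow, one_mul] at hpow
  have h3 : (3 : F) = 0 := by rw [hpow] at hx; linear_combination hx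
  have hqz : (q : F) = 0 := hq ▸ FiniteField.cast_card_eq_zero F
  rw [← Nat.div_add_mod q 3, hq3] at hqz
  push_cast at hqz
  exact one_ne_zero (α := F) (by linear_combination h3 - hqz + (↑(q / 3) : F) * h3)

/-- The isometries commuting with an element of order three without fixed points form a unitary group. -/
theorem card_commutant_three {q m : ℕ} (hq : Fintype.card F = q) (hq3 : q % 3 = 2) {b : BilinForm F V}
    (hA : b.IsAlt) (hb : b.Nondegenerate) (hdim : Module.finrank F V = 2 * m) (T : Module.End F V)
    (hT : ∀ v, T (T v) + T v + v = 0) (hTb : ∀ u v, b (T u) (T v) = b u v) :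
    Nat.card {g : V ≃ₗ[F] V // (∀ u v, b (g u) (g v) = b u v) ∧ ∀ v, g (T v) = T (g v)} =
      q ^ (m * (m - 1) / 2) * ∏ i ∈ Finset.range m, (if Even i then q ^ (i + 1) + 1 else q ^ (i + 1) - 1) := by
  classical
  let f : F[X] := X ^ 2 + X + 1
  have hfm : f.Monic := by unfold f; monicity!
  have hfd : f.natDegree = 2 := by unfold f; compute_degree!
  have hnoroot : ∀ x : F, ¬ f.IsRoot x := fun x hx => by
    simp only [IsRoot, f, eval_add, eval_pow, eval_X, eval_one] at hx
    exact sq_add_self_add_one_ne_zero hq hq3 x hx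
  haveI hfi : Fact (Irreducible f) := ⟨(hfm.irreducible_iff_roots_eq_zero_of_degree_le_three hfd.ge
    (by rw [hfd]; norm_num)).2 (Multiset.eq_zero_of_forall_notMem fun x hx => hnoroot x (isRoot_of_mem_roots hx))⟩
  let K := AdjoinRoot f
  set θ : K := AdjoinRoot.root f with hθdef
  have hθ : θ ^ 2 + θ + 1 = 0 := by
    have h := AdjoinRoot.eval₂_root f
    simpa [f] using h
  let pb := AdjoinRoot.powerBasis hfm.ne_zero
  haveI hKfin : Module.Finite F K := pb.finite
  haveI : Finite K := Module.finite_of_finite F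
  have hKrank : Module.finrank F K = 2 := by
    rw [pb.finrank, AdjoinRoot.powerBasis_dim, hfd]
  let c : F →+* K := algebraMap F K
  have hli : ∀ a a' : F, c a + θ * c a' = 0 → a = 0 ∧ a' = 0 := by
    intro a a' h
    by_cases h' : a' = 0
    · subst h'
      exact ⟨c.injective (by simpa using h), rfl⟩
    exfalso
    refine sq_add_self_add_one_ne_zero hq hq3 (-a / a') (c.injective ?_)
    have e : θ = c (-a / a') := by
      rw [map_div₀, map_neg, eq_div_iff (by simpa using h')]
      linear_combination h
    rw [map_add, map_add, map_pow, map_one, map_zero, ← e, hθ]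
  -- the conjugation
  let σa : K →ₐ[F] K := AdjoinRoot.liftAlgHom f (Algebra.ofId F K) (-1 - θ) (by
    simp only [f, eval₂_add, eval₂_pow, eval₂_X, eval₂_one]
    linear_combination hθ)
  let σ : K →+* K := σa.toRingHom
  have hσθ : σ θ = -1 - θ := AdjoinRoot.liftAlgHom_root _ _ _ _
  have hσc : ∀ a, σ (c a) = c a := fun a => σa.commutes a
  have hσ : IsInvol σ := by
    refine ⟨fun h => ?_, fun a => ?_⟩
    · have h1 : σ θ = θ := by rw [h]; rfl
      rw [hσθ] at h1
      have h2 := hli 1 2 (by rw [map_one, map_ofNat]; linear_combination -h1)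
      exact one_ne_zero h2.1
    · have h2 : σa.comp σa = AlgHom.id F K := AdjoinRoot.algHom_ext (by
        show σ (σ θ) = θ
        rw [hσθ, map_sub, map_neg, map_one, hσθ]
        ring)
      exact congrArg (fun φ : K →ₐ[F] K => φ a) h2
  -- the vector space structure
  have hTf : aeval T f = 0 := LinearMap.ext fun v => by
    simp [f, pow_two, hT]
  let φ : K →ₐ[F] Module.End F V := Ideal.Quotient.liftₐ (Ideal.span {f}) (aeval T) (fun g hg => by
    obtain ⟨h, rfl⟩ := Ideal.mem_span_singleton.1 hg
    rw [map_mul, hTf, zero_mul])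
  have hφθ : φ θ = T := by
    show aeval T X = T
    exact aeval_X T
  letI modK : Module K V := Module.compHom V φ.toRingHom
  have hsmul : ∀ (k : K) (v : V), k • v = φ k v := fun k v => rfl
  haveI : IsScalarTower F K V := ⟨fun a k v => by rw [hsmul, hsmul, map_smul]; rfl⟩
  haveI : Module.Finite K V := Module.Finite.of_restrictScalars_finite F K V
  have hθv : ∀ v, θ • v = T v := fun v => by rw [hsmul, hφθ]
  have hKV : Module.finrank K V = m := by
    have h := Module.finrank_mul_finrank F K V
    rw [hKrank, hdim] at h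
    omega
  have hind : ∀ P : K → Prop, (∀ a, P (c a)) → P θ → (∀ x y, P x → P y → P (x + y)) →
      (∀ x y, P x → P y → P (x * y)) → ∀ k, P k := by
    intro P hc hθ' hadd hmul k
    have hk : k ∈ Algebra.adjoin F ({θ} : Set K) := by
      rw [hθdef, AdjoinRoot.adjoinRoot_eq_top]; exact Algebra.mem_top
    induction hk using Algebra.adjoin_induction with
    | mem x hx => exact (Set.mem_singleton_iff.1 hx) ▸ hθ'
    | algebraMap r => exact hc r
    | add x y _ _ hx hy => exact hadd x y hx hy
    | mul x y _ _ hx hy => exact hmul x y hx hy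
  have hcv : ∀ (a : F) (v : V), c a • v = a • v := fun a v => algebraMap_smul K a v
  -- the Hermitian form
  let B₀ : V → V → K := fun u v => c (b u (T v)) + (1 + θ) * c (b u v)
  have hT3 : ∀ v, T (T (T v)) = v := fun v => by
    have h1 := hT (T v)
    have h2 := hT v
    rw [← sub_eq_zero]
    rw [show T (T (T v)) - v = (T (T (T v)) + T (T v) + T v) - (T (T v) + T v + v) by abel, h1, h2, sub_zero]
  have hTT : ∀ v, T (T v) = -(T v + v) := fun v => eq_neg_of_add_eq_zero_left (by rw [← hT v]; abel)
  have hbT : ∀ u v, b (T u) v = b u (T (T v)) := fun u v => by rw [← hTb u (T (T v)), hT3]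
  have addl : ∀ u u' v, B₀ (u + u') v = B₀ u v + B₀ u' v := fun u u' v => by
    simp only [B₀, map_add, LinearMap.add_apply]; ring
  have addr : ∀ u v v', B₀ u (v + v') = B₀ u v + B₀ u v' := fun u v v' => by
    simp only [B₀, map_add]; ring
  have smr : ∀ (k : K) u v, B₀ u (k • v) = k * B₀ u v := by
    intro k
    refine hind (fun k => ∀ u v, B₀ u (k • v) = k * B₀ u v) (fun a u v => ?_) (fun u v => ?_)
      (fun x y hx hy u v => ?_) (fun x y hx hy u v => ?_) k
    · rw [hcv]; simp only [B₀, map_smul, smul_eq_mul, map_mul]; ring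
    · simp only [B₀, hθv, hTT, map_neg, map_add]
      linear_combination -c (b u v) * hθ
    · rw [add_smul, addr, hx, hy, add_mul]
    · rw [mul_smul, hx, hy, mul_assoc]
  have sml : ∀ (k : K) u v, B₀ (k • u) v = σ k * B₀ u v := by
    intro k
    refine hind (fun k => ∀ u v, B₀ (k • u) v = σ k * B₀ u v) (fun a u v => ?_) (fun u v => ?_)
      (fun x y hx hy u v => ?_) (fun x y hx hy u v => ?_) k
    · rw [hcv, hσc]; simp only [B₀, map_smul, LinearMap.smul_apply, smul_eq_mul, map_mul]; ring
    · rw [hθv, hσθ]
      simp only [B₀, hbT, hT3, hTT, map_neg, map_add]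
      linear_combination c (b u v) * hθ
    · rw [add_smul, addl, hx, hy, map_add, add_mul]
    · rw [mul_smul, hx, hy, map_mul, mul_assoc]
  let B : V →ₛₗ[σ] V →ₗ[K] K := LinearMap.mk₂'ₛₗ σ (RingHom.id K) B₀ addl
    (fun k u v => by rw [sml, smul_eq_mul]) addr (fun k u v => by rw [smr, RingHom.id_apply, smul_eq_mul])
  have hB : ∀ u v, B u v = B₀ u v := fun u v => rfl
  have hcoef : ∀ u v u' v', B₀ u v = B₀ u' v' → b u v = b u' v' := by
    intro u v u' v' h
    have h2 := hli (b u (T v) + b u v - (b u' (T v') + b u' v')) (b u v - b u' v') (by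
      simp only [B₀] at h
      rw [map_sub, map_sub, map_add, map_add]
      linear_combination h)
    exact sub_eq_zero.1 h2.2
  have hHerm : IsHerm B := by
    refine ⟨hσ, fun x y => ?_, fun x hx => hb.1 x fun y => ?_⟩
    · rw [hB, hB]
      simp only [B₀, map_add, map_mul, map_one, hσθ, hσc]
      have hsk : ∀ u v : V, b v u = -b u v := fun u v => (hA.neg_eq u v).symm
      rw [hsk x y, show b y (T x) = b x (T y) + b x y by
        rw [hsk (T x) y, hbT, hTT, map_neg, map_add, neg_neg]]
      rw [map_neg, map_add]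
      ring
    · have h := hx y
      rw [hB] at h
      simp only [B₀] at h
      refine (hli (b x (T y) + b x y) (b x y) ?_).2
      rw [map_add]; linear_combination h
  let e : HU B ≃ {g : V ≃ₗ[F] V // (∀ u v, b (g u) (g v) = b u v) ∧ ∀ v, g (T v) = T (g v)} :=
    { toFun := fun g => ⟨(g : V ≃ₗ[K] V).restrictScalars F,
        fun u v => hcoef _ _ _ _ (by rw [← hB, ← hB]; exact g.2 u v),
        fun v => by
          show (g : V ≃ₗ[K] V) (T v) = T ((g : V ≃ₗ[K] V) v)
          rw [← hθv, map_smul, hθv]⟩
      invFun := fun g => ⟨{ g.1.toAddEquiv with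
          map_smul' := fun k v => hind (fun k => ∀ v, g.1 (k • v) = k • g.1 v)
            (fun a v => by rw [hcv, hcv, map_smul])
            (fun v => by rw [hθv, hθv, g.2.2])
            (fun x y hx hy v => by rw [add_smul, add_smul, map_add, hx, hy])
            (fun x y hx hy v => by rw [mul_smul, mul_smul, hx, hy]) k v }, fun u v => by
          show B₀ (g.1 u) (g.1 v) = B₀ u v
          simp only [B₀]
          rw [g.2.1, ← g.2.2, g.2.1]⟩
      left_inv := fun g => Subtype.ext (LinearEquiv.ext fun v => rfl)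
      right_inv := fun g => Subtype.ext (LinearEquiv.ext fun v => rfl) }
  rw [← Nat.card_congr e, hHerm.card_HU m hKV]
  have hfix : Nat.card (fixedSub σ) = q := by
    have h := hσ.card_sq
    rw [Module.natCard_eq_pow_finrank (K := F) (V := K), hKrank, Nat.card_eq_fintype_card, hq] at h
    exact (Nat.pow_left_injective two_ne_zero h).symm
  rw [hfix]

/-- The centralizer of a fixed-point-free element of order three in `Sp`. -/
theorem card_centralizer_three {q m : ℕ} (hq : Fintype.card F = q) (hq3 : q % 3 = 2)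
    (x : Matrix.symplecticGroup (Fin m) F) (hx3 : x ^ 3 = 1)
    (hfpf : IsUnit ((x : Matrix (Fin m ⊕ Fin m) (Fin m ⊕ Fin m) F) - 1)) :
    Nat.card ↥(Subgroup.centralizer ({x} : Set ↥(Matrix.symplecticGroup (Fin m) F))) =
      q ^ (m * (m - 1) / 2) * ∏ i ∈ Finset.range m, (if Even i then q ^ (i + 1) + 1 else q ^ (i + 1) - 1) := by
  classical
  set X := (x : Matrix (Fin m ⊕ Fin m) (Fin m ⊕ Fin m) F) with hX
  have hX3 : X ^ 3 = 1 := by rw [hX, ← SubmonoidClass.coe_pow, hx3]; rfl
  have hrel : X * X + X + 1 = 0 := by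
    obtain ⟨u, hu⟩ := hfpf
    have h0 : (u : Matrix (Fin m ⊕ Fin m) (Fin m ⊕ Fin m) F) * (X * X + X + 1) = 0 := by
      rw [hu, sub_mul, mul_add, mul_add, one_mul, mul_one, ← mul_assoc, ← pow_three', hX3]
      abel
    exact (Units.mul_right_eq_zero u).1 h0
  let T : Module.End F (Fin m ⊕ Fin m → F) := Matrix.toLin' X
  rw [← card_commutant_three hq hq3 (sympBil_isAlt m F) (sympBil_nondegenerate m F) (finrank_sympSpace m F) T
    (fun v => by
      simp only [T, Matrix.toLin'_apply, Matrix.mulVec_mulVec]
      conv_rhs => rw [← Matrix.zero_mulVec v, ← hrel, Matrix.add_mulVec, Matrix.add_mulVec, Matrix.one_mulVec])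
    (fun u v => by
      simp only [T, Matrix.toLin'_apply, sympBil_apply]
      exact mem_symplecticGroup_iff_form.1 x.2 u v)]
  exact Nat.card_congr
    { toFun := fun g => ⟨(symplecticEquiv m F g.1 : _ ≃ₗ[F] _), (symplecticEquiv m F g.1).2, fun v => by
        simp only [T, Matrix.toLin'_apply, symplecticEquiv_apply, Matrix.mulVec_mulVec]
        exact congrArg (fun M : Matrix.symplecticGroup (Fin m) F => (M : Matrix (Fin m ⊕ Fin m) (Fin m ⊕ Fin m) F) *ᵥ v)
          (Subgroup.mem_centralizer_singleton_iff.1 g.2)⟩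
      invFun := fun g => ⟨(symplecticEquiv m F).symm ⟨g.1, g.2.1⟩, Subgroup.mem_centralizer_singleton_iff.2 (by
        apply (symplecticEquiv m F).injective
        apply Subtype.ext
        refine LinearEquiv.ext fun v => ?_
        simp only [map_mul, MulEquiv.apply_symm_apply, Subgroup.coe_mul, LinearEquiv.mul_apply, symplecticEquiv_apply]
        exact g.2.2 v)⟩
      left_inv := fun g => Subtype.ext ((symplecticEquiv m F).symm_apply_apply g.1)
      right_inv := fun g => Subtype.ext (by simp) }

end CfsgLib.Classical.ClassTheory
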