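import Cfsg.Agent.Lib.Classical.ClassTheory.SkewCommutant
import Cfsg.Agent.Lib.Classical.ClassTheory.JordanType
import Cfsg.Agent.Lib.Known.AutPSL.GraphClasses
import Cfsg.Agent.Lib.Classical.Symplectic.Matrix
import Mathlib.FieldTheory.Finite.Basic

/-!
# Classes of elements of order `p` in `Sp` for odd `p`: signed partitions
-/

set_option autoImplicit false

namespace CfsgLib.Classical.ClassTheory

open Matrix CfsgLib.Known

variable {F : Type*} [Field F]

theorem toBilin'_isAlt_of_skew (h2 : (2 : F) ≠ 0) {ι : Type*} [Fintype ι] [DecidableEq ι] {A : Matrix ι ι F}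
    (hA : Aᵀ = -A) : (Matrix.toBilin' A).IsAlt := fun v => by
  rw [Matrix.toBilin'_apply']
  have h : v ⬝ᵥ A *ᵥ v = -(v ⬝ᵥ A *ᵥ v) := by
    conv_lhs => rw [Matrix.dotProduct_mulVec, ← Matrix.mulVec_transpose, hA, Matrix.neg_mulVec, neg_dotProduct,
      dotProduct_comm]
  exact (mul_eq_zero.1 (show (2 : F) * (v ⬝ᵥ A *ᵥ v) = 0 by linear_combination h)).resolve_left h2

/-- Two invertible skew matrices of the same size are congruent. -/
theorem exists_congr_skew (h2 : (2 : F) ≠ 0) {ι κ : Type*} [Fintype ι] [DecidableEq ι] [Fintype κ] [DecidableEq κ]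
    (hcard : Fintype.card ι = Fintype.card κ) {A : Matrix ι ι F} {B : Matrix κ κ F} (hA : Aᵀ = -A) (hB : Bᵀ = -B)
    (hA0 : A.det ≠ 0) (hB0 : B.det ≠ 0) :
    ∃ (P : Matrix κ ι F) (Q : Matrix ι κ F), P * Q = 1 ∧ Q * P = 1 ∧ Pᵀ * B * P = A := by
  obtain ⟨e, he⟩ := Symp.exists_isometry (toBilin'_isAlt_of_skew h2 hA)
    (LinearMap.BilinForm.nondegenerate_toBilin'_of_det_ne_zero' A hA0) (toBilin'_isAlt_of_skew h2 hB)
    (LinearMap.BilinForm.nondegenerate_toBilin'_of_det_ne_zero' B hB0)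
    (by rw [Module.finrank_pi, Module.finrank_pi, hcard])
  set P := LinearMap.toMatrix' (e : (ι → F) →ₗ[F] (κ → F))
  set Q := LinearMap.toMatrix' (e.symm : (κ → F) →ₗ[F] (ι → F))
  refine ⟨P, Q, ?_, ?_, ?_⟩
  · rw [← LinearMap.toMatrix'_comp, LinearEquiv.comp_coe, LinearEquiv.symm_trans_self]
    exact LinearMap.toMatrix'_id
  · rw [← LinearMap.toMatrix'_comp, LinearEquiv.comp_coe, LinearEquiv.self_trans_symm]
    exact LinearMap.toMatrix'_id
  · apply Matrix.toBilin'.injective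
    refine LinearMap.ext fun u => LinearMap.ext fun v => ?_
    rw [Matrix.toBilin'_apply', Matrix.toBilin'_apply', ← Matrix.mulVec_mulVec, ← Matrix.mulVec_mulVec,
      Matrix.dotProduct_mulVec u, Matrix.vecMul_transpose, show P *ᵥ u = e u from LinearMap.toMatrix'_mulVec _ u,
      show P *ᵥ v = e v from LinearMap.toMatrix'_mulVec _ v, ← Matrix.toBilin'_apply', he, Matrix.toBilin'_apply']

/-- An invertible skew matrix of even size. -/
theorem exists_skew (ι : Type*) [Fintype ι] [DecidableEq ι] (h : Even (Fintype.card ι)) :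
    ∃ M : Matrix ι ι F, Mᵀ = -M ∧ M.det ≠ 0 := by
  obtain ⟨r, hr⟩ := h
  let e : ι ≃ Fin r ⊕ Fin r := Fintype.equivOfCardEq (by rw [hr, Fintype.card_sum, Fintype.card_fin])
  refine ⟨(Matrix.J (Fin r) F).submatrix e e, ?_, ?_⟩
  · rw [Matrix.transpose_submatrix, Matrix.J_transpose]
    rfl
  · rw [Matrix.det_submatrix_equiv_self]
    exact (Matrix.isUnit_det_J (Fin r) F).ne_zero

/-- An invertible skew matrix has even size. -/
theorem even_card_of_skew' (h2 : (2 : F) ≠ 0) {ι : Type*} [Fintype ι] [DecidableEq ι] {A : Matrix ι ι F} (hA : Aᵀ = -A)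
    (hA0 : A.det ≠ 0) : Even (Fintype.card ι) := by
  rcases Nat.even_or_odd (Fintype.card ι) with h | h
  · exact h
  · exfalso
    have h1 := congrArg Matrix.det hA
    rw [Matrix.det_transpose, Matrix.det_neg, h.neg_one_pow] at h1
    exact hA0 ((mul_eq_zero.1 (show (2 : F) * A.det = 0 by linear_combination h1)).resolve_left h2)

/-- Blocks of the same symmetry and square class are congruent. -/
theorem exists_congr_block [Finite F] (h2 : (2 : F) ≠ 0) {ι : Type*} [Fintype ι] [DecidableEq ι] {A B : Matrix ι ι F}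
    (hA0 : A.det ≠ 0) (hB0 : B.det ≠ 0)
    (h : (Aᵀ = A ∧ Bᵀ = B ∧ IsSquare (A.det * B.det)) ∨ (Aᵀ = -A ∧ Bᵀ = -B)) :
    ∃ P : Matrix ι ι F, P.det ≠ 0 ∧ Pᵀ * A * P = B := by
  rcases h with ⟨hA, hB, hsq⟩ | ⟨hA, hB⟩
  · rcases isEmpty_or_nonempty ι with hι | hι
    · exact ⟨1, by simp, Subsingleton.elim _ _⟩
    let e := Fintype.equivFin ι
    let f := Matrix.reindexAlgEquiv F F e
    have hft : ∀ M, f Mᵀ = (f M)ᵀ := fun M => rfl
    have hdet : ∀ M, (f M).det = M.det := fun M => Matrix.det_reindexAlgEquiv F F e M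
    obtain ⟨g, hg⟩ := AutPSL.Graph.congr_symm_of_det h2 (Fintype.card_pos (α := ι))
      (Matrix.GeneralLinearGroup.mkOfDetNeZero (f B) (by rw [hdet]; exact hB0))
      (Matrix.GeneralLinearGroup.mkOfDetNeZero (f A) (by rw [hdet]; exact hA0))
      (show (f B)ᵀ = f B by rw [← hft, hB]) (show (f A)ᵀ = f A by rw [← hft, hA])
      (show IsSquare ((f B).det * (f A).det) by rw [hdet, hdet, mul_comm]; exact hsq)
    refine ⟨f.symm ((g : Matrix (Fin (Fintype.card ι)) (Fin (Fintype.card ι)) F)ᵀ), ?_, f.injective ?_⟩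
    · rw [← hdet, AlgEquiv.apply_symm_apply, Matrix.det_transpose]
      exact ((Matrix.isUnit_iff_isUnit_det _).1 g.isUnit).ne_zero
    · rw [map_mul, map_mul, hft, AlgEquiv.apply_symm_apply, Matrix.transpose_transpose]
      exact hg.symm
  · obtain ⟨P, Q, -, hQP, hP⟩ := exists_congr_skew h2 rfl hB hA hB0 hA0
    refine ⟨P, fun h0 => ?_, hP⟩
    have h1 := congrArg Matrix.det hQP
    rw [Matrix.det_mul, h0, mul_zero, Matrix.det_one] at h1
    exact zero_ne_one h1

variable {t : ℕ} (d : Fin t → ℕ)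

theorem topBlk_transpose (hd : ∀ k, 1 ≤ d k) {c : JPar d → F}
    (hc : ∀ x, c (JPar.swap d x) = -(-1) ^ (x.1.2 : ℕ) * c x) (i : Fin (Finset.univ.sup d + 1)) :
    (topBlk d c i)ᵀ = (-1 : F) ^ (i : ℕ) • topBlk d c i := by
  ext k l
  have hk := k.2
  have hl := l.2
  have := hd k.1
  simp only [Matrix.transpose_apply, topBlk, Matrix.of_apply, Matrix.smul_apply, smul_eq_mul, cExt]
  rw [dif_pos ⟨by omega, by omega⟩, dif_pos ⟨by omega, by omega⟩]
  refine (hc ⟨((k.1, l.1), ⟨(i : ℕ) - 1, by omega⟩), by simp only; omega, by simp only; omega⟩).trans ?_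
  simp only
  congr 1
  conv_rhs => rw [show (i : ℕ) = (i : ℕ) - 1 + 1 by omega, pow_succ]
  ring

/-- Forms with congruent top blocks are congruent under the commutant. -/
theorem exists_congr_skMat [Finite F] (hd : ∀ k, 1 ≤ d k) {p : ℕ} [Fact p.Prime] [CharP F p] (hp : p ≠ 2)
    (h2 : (2 : F) ≠ 0) (c c' : JPar d → F) (hc : (skMat d c)ᵀ = -skMat d c) (hc' : (skMat d c')ᵀ = -skMat d c')
    (hu : IsUnit (skMat d c)) (hu' : IsUnit (skMat d c'))
    (hsq : ∀ i : Fin (Finset.univ.sup d + 1), Even (i : ℕ) →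
      IsSquare ((topBlk d c i).det * (topBlk d c' i).det)) :
    ∃ D E, D * E = 1 ∧ E * D = 1 ∧ D * nilMat d F = nilMat d F * D ∧ Dᵀ * skMat d c * D = skMat d c' := by
  have key : ∀ i, ∃ P : Matrix (JBlk d i) (JBlk d i) F, P.det ≠ 0 ∧ Pᵀ * topBlk d c i * P = topBlk d c' i := by
    intro i
    refine exists_congr_block h2 ((isUnit_skMat d hd c).1 hu i) ((isUnit_skMat d hd c').1 hu' i) ?_
    have e := topBlk_transpose d hd ((skMat_alt_iff d c).1 hc) i
    have e' := topBlk_transpose d hd ((skMat_alt_iff d c').1 hc') i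
    rcases Nat.even_or_odd (i : ℕ) with h | h
    · rw [h.neg_one_pow, one_smul] at e e'
      exact Or.inl ⟨e, e', hsq i h⟩
    · rw [h.neg_one_pow, neg_one_smul] at e e'
      exact Or.inr ⟨e, e'⟩
  choose P hP0 hP using key
  set x := (parSplit d hd).symm (P, fun _ => 0) with hx
  have hxtop : ∀ i, topBlk d x i = P i := fun i => by
    have h := congrFun (congrArg Prod.fst ((parSplit d hd).apply_symm_apply (P, fun _ => (0 : F)))) i
    exact h
  have hXu : IsUnit (parMat d x) := (isUnit_parMat d hd x).2 fun i => by rw [hxtop]; exact hP0 i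
  set X := parMat d x with hX
  have hXN : X * nilMat d F = nilMat d F * X := parMat_commute d x
  obtain ⟨c₁, hc₁⟩ := exists_skMat d (H := Xᵀ * skMat d c * X) (by
    have hXT : Xᵀ * (nilMat d F)ᵀ = (nilMat d F)ᵀ * Xᵀ := by
      rw [← Matrix.transpose_mul, ← Matrix.transpose_mul, hXN]
    rw [mul_assoc _ X, hXN, ← mul_assoc, mul_assoc Xᵀ, skMat_commute, mul_neg, ← mul_assoc, hXT, neg_mul]
    simp only [mul_assoc])
  have htop : ∀ i, topBlk d c₁ i = topBlk d c' i := fun i => by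
    rw [topBlk_congr d hd c c₁ x hc₁.symm, hxtop, hP]
  have hc₁a : (skMat d c₁)ᵀ = -skMat d c₁ := by
    rw [hc₁, Matrix.transpose_mul, Matrix.transpose_mul, Matrix.transpose_transpose, hc, neg_mul, mul_neg, mul_assoc]
  have hu₁ : IsUnit (skMat d c₁) := by
    rw [hc₁]
    refine (IsUnit.mul ?_ hu).mul hXu
    rw [Matrix.isUnit_iff_isUnit_det, Matrix.det_transpose]
    exact (Matrix.isUnit_iff_isUnit_det _).1 hXu
  obtain ⟨D, hDu, hDN, hD⟩ := exists_congr_of_topBlk_eq d hd hp c₁ c' hc₁a hc' hu₁ htop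
  refine ⟨X * D, ((hXu.mul hDu).unit⁻¹ : (Matrix _ _ F)ˣ), (hXu.mul hDu).mul_val_inv, (hXu.mul hDu).val_inv_mul, ?_, ?_⟩
  · rw [mul_assoc, hDN, ← mul_assoc, hXN, mul_assoc]
  · rw [← hD, hc₁, Matrix.transpose_mul]
    simp only [mul_assoc]

section Cayley

variable {κ : Type*} [Fintype κ] [DecidableEq κ]

theorem isUnit_one_sub {N : Matrix κ κ F} (hN : IsNilpotent N) : IsUnit (1 - N) := hN.isUnit_one_sub

theorem cayley_mem {J N u : Matrix κ κ F} (hN : IsNilpotent N) (hJ : J * N = -(Nᵀ * J))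
    (hu : u * (1 - N) = 1 + N) : uᵀ * J * u = J := by
  have h1 : (1 + N)ᵀ * J * (1 + N) = (1 - N)ᵀ * J * (1 - N) := by
    simp only [Matrix.transpose_add, Matrix.transpose_sub, Matrix.transpose_one, add_mul, mul_add, sub_mul, mul_sub,
      one_mul, mul_one, hJ]
    abel
  rw [← hu, Matrix.transpose_mul] at h1
  obtain ⟨V, hV⟩ := isUnit_one_sub hN
  rw [← hV] at h1
  have hVt : IsUnit (V : Matrix κ κ F)ᵀ := by
    rw [Matrix.isUnit_iff_isUnit_det, Matrix.det_transpose]
    exact (Matrix.isUnit_iff_isUnit_det _).1 V.isUnit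
  simp only [mul_assoc] at h1
  have h2 := hVt.mul_left_cancel h1
  simp only [← mul_assoc] at h2
  exact V.isUnit.mul_right_cancel h2

theorem cayley_pow {p : ℕ} [Fact p.Prime] [CharP F p] {N u : Matrix κ κ F} (hN : N ^ p = 0)
    (hu : u * (1 - N) = 1 + N) : u ^ p = 1 := by
  rcases isEmpty_or_nonempty κ with hκ | hκ
  · exact Subsingleton.elim _ _
  obtain ⟨V, hV⟩ := isUnit_one_sub ⟨p, hN⟩
  have hc : Commute u (1 - N) := by
    have hu' : u = (1 + N) * ((V⁻¹ : (Matrix κ κ F)ˣ) : Matrix κ κ F) := by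
      rw [← hu, ← hV, Units.mul_inv_cancel_right]
    have hb : Commute (1 + N) (V : Matrix κ κ F) := by
      rw [hV]
      exact ((Commute.one_left _).add_left ((Commute.one_right N).sub_right (Commute.refl N)))
    rw [hu', ← hV]
    exact hb.mul_left ((Commute.refl (V : Matrix κ κ F)).units_inv_left)
  have h := congrArg (· ^ p) hu
  simp only [hc.mul_pow, sub_pow_char_of_commute p (Commute.one_left N),
    add_pow_char_of_commute p (Commute.one_left N), hN, one_pow, sub_zero, add_zero, mul_one] at h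
  exact h

theorem cayley_inverse (h2 : (2 : F) ≠ 0) {p : ℕ} [Fact p.Prime] [CharP F p] {J u : Matrix κ κ F}
    (hJ : uᵀ * J * u = J) (hu : u ^ p = 1) :
    ∃ N, N ^ p = 0 ∧ J * N = -(Nᵀ * J) ∧ u * (1 - N) = 1 + N := by
  rcases isEmpty_or_nonempty κ with hκ | hκ
  · exact ⟨0, Subsingleton.elim _ _, Subsingleton.elim _ _, Subsingleton.elim _ _⟩
  have h0 : (u - 1) ^ p = 0 := by rw [sub_pow_char_of_commute p (Commute.one_right u), hu, one_pow, sub_self]
  have hp1 : IsUnit (u + 1) := by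
    have e : u + 1 = (2 : F) • (1 : Matrix κ κ F) + (u - 1) := by rw [two_smul]; abel
    rw [e, add_comm]
    exact IsNilpotent.isUnit_add_right_of_commute ⟨p, h0⟩ ((isUnit_one).smul (Units.mk0 _ h2))
      ((Commute.one_right _).smul_right _)
  obtain ⟨W, hW⟩ := hp1
  set N := ((W⁻¹ : (Matrix κ κ F)ˣ) : Matrix κ κ F) * (u - 1) with hNdef
  have hc : Commute ((W⁻¹ : (Matrix κ κ F)ˣ) : Matrix κ κ F) (u - 1) := by
    refine Commute.units_inv_left ?_
    rw [hW]
    exact ((Commute.refl u).add_left (Commute.one_left u)).sub_right (Commute.one_right _)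
  have hWN : (u + 1) * N = u - 1 := by rw [hNdef, ← hW, Units.mul_inv_cancel_left]
  refine ⟨N, by rw [hNdef, hc.mul_pow, h0, mul_zero], ?_, ?_⟩
  · have h1 : (u + 1)ᵀ * (J * N + Nᵀ * J) * (u + 1) = 0 := by
      have hNW : N * (u + 1) = u - 1 := by
        rw [hNdef, hc.eq, ← hW, Units.inv_mul_cancel_right]
      calc (u + 1)ᵀ * (J * N + Nᵀ * J) * (u + 1)
          = (u + 1)ᵀ * J * (N * (u + 1)) + ((N * (u + 1))ᵀ * J) * (u + 1) + ((u + 1)ᵀ * Nᵀ - (N * (u + 1))ᵀ) * J * (u + 1) := by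
            noncomm_ring
        _ = (u + 1)ᵀ * J * (u - 1) + (u - 1)ᵀ * J * (u + 1) := by
            rw [← Matrix.transpose_mul N (u + 1), sub_self, zero_mul, zero_mul, add_zero, hNW]
        _ = (2 : F) • (uᵀ * J * u - J) := by
            simp only [Matrix.transpose_add, Matrix.transpose_sub, Matrix.transpose_one, two_smul]
            noncomm_ring
        _ = 0 := by rw [hJ, sub_self, smul_zero]
    have hWt : IsUnit (u + 1)ᵀ := by
      rw [← hW, Matrix.isUnit_iff_isUnit_det, Matrix.det_transpose]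
      exact (Matrix.isUnit_iff_isUnit_det _).1 W.isUnit
    rw [mul_assoc] at h1
    have h2' := (IsUnit.mul_right_eq_zero hWt).1 h1
    rw [← hW, Units.mul_left_eq_zero] at h2'
    exact eq_neg_of_add_eq_zero_left h2'
  · rw [mul_sub, mul_one]
    have e : u * N + N = u - 1 := by rw [← hWN, add_mul, one_mul]
    rw [show u * N = u - 1 - N from eq_sub_of_add_eq e]
    abel

end Cayley

/-- The rank of a product with invertible rectangular factors. -/
theorem rank_conj_rect {κ ι : Type*} [Fintype κ] [DecidableEq κ] [Fintype ι] [DecidableEq ι] {P : Matrix κ ι F}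
    {Q : Matrix ι κ F} (hQP : Q * P = 1) (A : Matrix ι ι F) : (P * A * Q).rank = A.rank := by
  refine le_antisymm ((Matrix.rank_mul_le_left _ _).trans (Matrix.rank_mul_le_right _ _)) ?_
  have e : A = Q * (P * A * Q) * P := by
    calc A = (Q * P) * A * (Q * P) := by rw [hQP, Matrix.one_mul, Matrix.mul_one]
      _ = _ := by simp only [Matrix.mul_assoc]
  conv_lhs => rw [e]
  exact (Matrix.rank_mul_le_left _ _).trans (Matrix.rank_mul_le_right _ _)

theorem pow_conj_rect {κ ι : Type*} [Fintype κ] [DecidableEq κ] [Fintype ι] [DecidableEq ι] {P : Matrix κ ι F}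
    {Q : Matrix ι κ F} (hPQ : P * Q = 1) (hQP : Q * P = 1) {N : Matrix κ κ F} {A : Matrix ι ι F}
    (h : N * P = P * A) (j : ℕ) : N ^ j = P * A ^ j * Q := by
  have hN : N = P * A * Q := by rw [← h, Matrix.mul_assoc, hPQ, Matrix.mul_one]
  induction j with
  | zero => rw [pow_zero, pow_zero, Matrix.mul_one, hPQ]
  | succ j ih =>
    rw [pow_succ, ih, hN]
    calc P * A ^ j * Q * (P * A * Q) = P * A ^ j * (Q * P) * A * Q := by simp only [Matrix.mul_assoc]
      _ = _ := by rw [hQP, Matrix.mul_one, Matrix.mul_assoc P (A ^ j) A, pow_succ]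

/-- The block sizes of a multiset. -/
noncomputable def blockFun (μ : Multiset ℕ) : Fin μ.toList.length → ℕ := fun k => μ.toList.get k

theorem sizes_blockFun (μ : Multiset ℕ) : sizes (blockFun μ) = μ := by
  show (Finset.univ : Finset (Fin μ.toList.length)).val.map _ = μ
  rw [Fin.univ_val_map, show List.ofFn (blockFun μ) = μ.toList from List.ofFn_get _, Multiset.coe_toList]

theorem blockFun_mem (μ : Multiset ℕ) (k : Fin μ.toList.length) : blockFun μ k ∈ μ := by
  rw [← Multiset.mem_toList]; exact List.get_mem _ _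

variable [Fintype F]

open scoped _root_.Classical in
/-- Classes of elements with `u ^ p = 1` of `Sp`, with the signed partitions. -/
theorem sp_order_p_class_count {p : ℕ} [Fact p.Prime] [CharP F p] (hp : p ≠ 2) (m : ℕ) :
    Nat.card {C : ConjClasses ↥(Matrix.symplecticGroup (Fin m) F) //
        ∃ g : Matrix.symplecticGroup (Fin m) F, ConjClasses.mk g = C ∧ orderOf g = p} =
      (∑ μ ∈ Finset.univ.filter (fun μ : Nat.Partition (2 * m) =>
          (∀ a ∈ μ.parts, a ≤ p) ∧ ∀ j : ℕ, Odd j → Even (μ.parts.count j)),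
        2 ^ ((μ.parts.toFinset.filter (fun j : ℕ => Even j)).card)) - 1 := by
  classical
  have hpp := (Fact.out : p.Prime)
  have h2 : (2 : F) ≠ 0 := fun h => hp ((Nat.prime_dvd_prime_iff_eq hpp Nat.prime_two).1
    ((CharP.cast_eq_zero_iff F p 2).1 (by exact_mod_cast h)))
  obtain ⟨δ, hδ⟩ := FiniteField.exists_nonsquare (F := F) (fun h => h2 (by
    haveI := (ringChar.eq_iff).1 h
    exact CharTwo.two_eq_zero))
  have hδ0 : δ ≠ 0 := fun h => hδ (h ▸ IsSquare.zero)
  let G := Matrix.symplecticGroup (Fin m) F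
  let J := Matrix.J (Fin m) F
  have hJt : Jᵀ = -J := Matrix.J_transpose (Fin m) F
  have hJ0 : J.det ≠ 0 := (Matrix.isUnit_det_J (Fin m) F).ne_zero
  let Good := {μ : Nat.Partition (2 * m) // (∀ a ∈ μ.parts, a ≤ p) ∧ ∀ j : ℕ, Odd j → Even (μ.parts.count j)}
  let T := (μ : Good) × ({j // j ∈ μ.1.parts.toFinset.filter (fun j : ℕ => Even j)} → Bool)
  let dd : (μ : Good) → Fin μ.1.parts.toList.length → ℕ := fun μ => blockFun μ.1.parts
  have hd : ∀ (μ : Good) k, 1 ≤ dd μ k := fun μ k => μ.1.parts_pos (blockFun_mem _ k)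
  have hcount : ∀ (μ : Good) (i : Fin (Finset.univ.sup (dd μ) + 1)),
      Fintype.card (JBlk (dd μ) i) = μ.1.parts.count (i : ℕ) := fun μ i => by
    rw [Fintype.card_subtype, ← count_sizes (dd μ), sizes_blockFun]
  -- the top blocks of the models
  let eps : (t : T) → ℕ → Bool := fun t i => if h : i ∈ t.1.1.parts.toFinset.filter (fun j : ℕ => Even j) then t.2 ⟨i, h⟩ else false
  have hblocks : ∀ (t : T) (i : Fin (Finset.univ.sup (dd t.1) + 1)), ∃ M : Matrix (JBlk (dd t.1) i) (JBlk (dd t.1) i) F,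
      M.det ≠ 0 ∧ Mᵀ = (-1 : F) ^ (i : ℕ) • M ∧
        (Even (i : ℕ) → Nonempty (JBlk (dd t.1) i) → (IsSquare M.det ↔ eps t i = false)) := by
    intro t i
    rcases Nat.even_or_odd (i : ℕ) with hev | hodd
    · by_cases hne : Nonempty (JBlk (dd t.1) i)
      · obtain ⟨k₀⟩ := id hne
        refine ⟨Matrix.diagonal fun k => if k = k₀ ∧ eps t i = true then δ else 1, ?_,
          by rw [Matrix.diagonal_transpose, hev.neg_one_pow, one_smul], fun _ _ => ?_⟩
        · rw [Matrix.det_diagonal]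
          exact Finset.prod_ne_zero_iff.2 fun k _ => by split_ifs <;> simp [hδ0]
        · rw [Matrix.det_diagonal, Finset.prod_eq_single k₀ (fun k _ hk => if_neg fun h => hk h.1) (by simp)]
          cases eps t i <;> simp [hδ]
      · refine ⟨1, by simp, by rw [Matrix.transpose_one, hev.neg_one_pow, one_smul], fun _ h => absurd h hne⟩
    · obtain ⟨M, hMt, hM0⟩ := exists_skew (F := F) (JBlk (dd t.1) i) (by rw [hcount]; exact t.1.2.2 _ hodd)
      exact ⟨M, hM0, by rw [hMt, hodd.neg_one_pow, neg_one_smul], fun h => absurd h (Nat.not_even_iff_odd.2 hodd)⟩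
  choose Mb hMb0 hMbt hMbs using hblocks
  let cc : (t : T) → JPar (dd t.1) → F := fun t => (parSplit (dd t.1) (hd t.1)).symm (Mb t, fun _ => 0)
  have hcctop : ∀ t i, topBlk (dd t.1) (cc t) i = Mb t i := fun t i =>
    congrFun (congrArg Prod.fst ((parSplit (dd t.1) (hd t.1)).apply_symm_apply (Mb t, fun _ => (0 : F)))) i
  have hccalt : ∀ t, (skMat (dd t.1) (cc t))ᵀ = -skMat (dd t.1) (cc t) := by
    intro t
    rw [skMat_alt_iff]
    intro x
    by_cases hx : JIsTop (dd t.1) x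
    · obtain ⟨⟨⟨k, l⟩, u⟩, hk, hl⟩ := x
      simp only [JIsTop] at hx
      set i : Fin (Finset.univ.sup (dd t.1) + 1) := ⟨dd t.1 k, d_lt_bound (dd t.1) k⟩ with hi
      have h1 := congrFun (congrFun (hMbt t i) ⟨k, rfl⟩) ⟨l, hx.2.symm.trans hx.1⟩
      rw [Matrix.transpose_apply, Matrix.smul_apply, ← hcctop, smul_eq_mul] at h1
      simp only [topBlk, Matrix.of_apply] at h1
      rw [show (i : ℕ) - 1 = (u : ℕ) by rw [hi]; simp only; omega] at h1
      rw [← cExt_self (dd t.1) (cc t) (JPar.swap (dd t.1) ⟨((k, l), u), hk, hl⟩),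
        ← cExt_self (dd t.1) (cc t) ⟨((k, l), u), hk, hl⟩]
      simp only [JPar.swap]
      rw [h1, show (i : ℕ) = (u : ℕ) + 1 by rw [hi]; simp only; omega, pow_succ]
      ring
    · show cc t (JPar.swap (dd t.1) x) = _
      simp only [cc, parSplit, Equiv.coe_fn_symm_mk]
      rw [dif_neg fun h => hx ((JIsTop.swap_iff (dd t.1) x).1 h), dif_neg hx, mul_zero]
  have hccu : ∀ t, IsUnit (skMat (dd t.1) (cc t)) := fun t =>
    (isUnit_skMat (dd t.1) (hd t.1) (cc t)).2 fun i => by rw [hcctop]; exact hMb0 t i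
  -- frames
  have hframe : ∀ t : T, ∃ (P : Matrix (Fin m ⊕ Fin m) ((k : Fin t.1.1.parts.toList.length) × Fin (dd t.1 k)) F)
      (Q : Matrix ((k : Fin t.1.1.parts.toList.length) × Fin (dd t.1 k)) (Fin m ⊕ Fin m) F),
      P * Q = 1 ∧ Q * P = 1 ∧ Pᵀ * J * P = skMat (dd t.1) (cc t) := fun t =>
    exists_congr_skew h2 (by
      rw [Fintype.card_sigma, Fintype.card_sum, Fintype.card_fin]
      simp only [Fintype.card_fin]
      rw [← sizes_sum (dd t.1), sizes_blockFun, t.1.1.parts_sum, two_mul]) (hccalt t) hJt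
      ((Matrix.isUnit_iff_isUnit_det _).1 (hccu t)).ne_zero hJ0
  choose P Q hPQ hQP hPJ using hframe
  let Nt : (t : T) → Matrix (Fin m ⊕ Fin m) (Fin m ⊕ Fin m) F := fun t => P t * nilMat (dd t.1) F * Q t
  have hNP : ∀ t, Nt t * P t = P t * nilMat (dd t.1) F := fun t => by
    simp only [Nt, Matrix.mul_assoc, hQP, Matrix.mul_one]
  have hprof : ∀ (μ : Good) j, ((nilMat (dd μ) F) ^ j).rank = Jordan.prof μ.1.parts j := fun μ j => by
    rw [← jordanType_sub_one, rank_jordanType_pow, sizes_blockFun]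
  have hNrank : ∀ t j, (Nt t ^ j).rank = Jordan.prof t.1.1.parts j := fun t j => by
    rw [pow_conj_rect (hPQ t) (hQP t) (hNP t), rank_conj_rect (hQP t), hprof]
  have hNp : ∀ t, Nt t ^ p = 0 := fun t => by
    have h := hNrank t p
    rw [(UnipotentClasses.prof_eq_zero_iff _ _).2 t.1.2.1] at h
    rw [Matrix.rank, Submodule.finrank_eq_zero, LinearMap.range_eq_bot] at h
    exact Matrix.toLin'.injective (h.trans (map_zero Matrix.toLin').symm)
  have hJrect : ∀ t, J = (Q t)ᵀ * skMat (dd t.1) (cc t) * Q t := fun t => by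
    rw [← hPJ]
    calc J = (P t * Q t)ᵀ * J * (P t * Q t) := by rw [hPQ]; simp
      _ = _ := by simp only [Matrix.transpose_mul, Matrix.mul_assoc]
  have hNskew : ∀ t, J * Nt t = -((Nt t)ᵀ * J) := fun t => by
    calc J * Nt t = (Q t)ᵀ * skMat (dd t.1) (cc t) * (Q t * P t) * nilMat (dd t.1) F * Q t := by
          conv_lhs => rw [hJrect t]
          simp only [Nt, Matrix.mul_assoc]
      _ = -((Q t)ᵀ * (nilMat (dd t.1) F)ᵀ * skMat (dd t.1) (cc t) * Q t) := by
          rw [hQP, Matrix.mul_one, Matrix.mul_assoc (Q t)ᵀ, skMat_commute, Matrix.mul_neg, Matrix.neg_mul,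
            ← Matrix.mul_assoc]
      _ = _ := by
          congr 1
          simp only [Nt, Matrix.transpose_mul]
          rw [← hPJ]
          calc (Q t)ᵀ * (nilMat (dd t.1) F)ᵀ * ((P t)ᵀ * J * P t) * Q t
              = (Q t)ᵀ * (nilMat (dd t.1) F)ᵀ * (P t)ᵀ * J * (P t * Q t) := by simp only [Matrix.mul_assoc]
            _ = _ := by rw [hPQ, Matrix.mul_one]; simp only [Matrix.mul_assoc]
  have helt : ∀ t, ∃ g : G, (g : Matrix (Fin m ⊕ Fin m) (Fin m ⊕ Fin m) F) * (1 - Nt t) = 1 + Nt t ∧ g ^ p = 1 := fun t => by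
    obtain ⟨V, hV⟩ := isUnit_one_sub (N := Nt t) ⟨p, hNp t⟩
    set u := (1 + Nt t) * ((V⁻¹ : (Matrix (Fin m ⊕ Fin m) (Fin m ⊕ Fin m) F)ˣ) : Matrix (Fin m ⊕ Fin m) (Fin m ⊕ Fin m) F)
    have hu : u * (1 - Nt t) = 1 + Nt t := by rw [← hV, Units.inv_mul_cancel_right]
    refine ⟨⟨u, SymplecticGroup.mem_iff'.2 (cayley_mem ⟨p, hNp t⟩ (hNskew t) hu)⟩, hu, Subtype.ext ?_⟩
    rw [SubmonoidClass.coe_pow]
    exact cayley_pow (hNp t) hu
  choose elt helt heltp using helt
  let S := {C : ConjClasses ↥G // ∃ g : ↥G, ConjClasses.mk g = C ∧ g ^ p = 1}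
  let Φ : T → S := fun t => ⟨ConjClasses.mk (elt t), elt t, rfl, heltp t⟩
  -- the nilpotent part is determined by the element
  have huniq : ∀ {u : Matrix (Fin m ⊕ Fin m) (Fin m ⊕ Fin m) F} {N N' : Matrix (Fin m ⊕ Fin m) (Fin m ⊕ Fin m) F},
      IsNilpotent N → u * (1 - N) = 1 + N → u * (1 - N') = 1 + N' → N = N' := by
    intro u N N' hN h h'
    have e : ∀ X, u * (1 - X) = 1 + X → (u + 1) * X = u - 1 := fun X hX => by
      rw [mul_sub, mul_one] at hX
      rw [add_mul, one_mul]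
      calc u * X + X = u - (u - u * X) + X := by abel
        _ = u - 1 := by rw [hX]; abel
    have hu : IsUnit (u + 1) := by
      have h1 : (u + 1) * (1 - N) = (2 : F) • 1 := by rw [add_mul, one_mul, h, two_smul]; abel
      rw [Matrix.isUnit_iff_isUnit_det]
      refine isUnit_of_mul_isUnit_left (y := (1 - N).det) ?_
      rw [← Matrix.det_mul, h1, Matrix.det_smul, Matrix.det_one, mul_one]
      exact (isUnit_iff_ne_zero.2 h2).pow _
    exact hu.mul_left_cancel ((e N h).trans (e N' h').symm)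
  have hΦ : Function.Bijective Φ := by
    constructor
    · intro s t hst
      obtain ⟨g, hg⟩ := isConj_iff.1 (ConjClasses.mk_eq_mk_iff_isConj.1 (congrArg Subtype.val hst))
      set Gm := (g : Matrix (Fin m ⊕ Fin m) (Fin m ⊕ Fin m) F) with hGm
      set Gi := ((g⁻¹ : ↥G) : Matrix (Fin m ⊕ Fin m) (Fin m ⊕ Fin m) F) with hGi
      have hgg : Gm * Gi = 1 := congrArg Subtype.val (mul_inv_cancel g)
      have hgg' : Gi * Gm = 1 := congrArg Subtype.val (inv_mul_cancel g)
      have hgJ : Gmᵀ * J * Gm = J := SymplecticGroup.mem_iff'.1 g.2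
      have hN : Nt t = Gm * Nt s * Gi := by
        refine huniq ⟨p, hNp t⟩ (helt t) ?_
        have hv : (elt t : Matrix (Fin m ⊕ Fin m) (Fin m ⊕ Fin m) F) =
            Gm * (elt s : Matrix (Fin m ⊕ Fin m) (Fin m ⊕ Fin m) F) * Gi := congrArg Subtype.val hg.symm
        calc (elt t : Matrix (Fin m ⊕ Fin m) (Fin m ⊕ Fin m) F) * (1 - Gm * Nt s * Gi)
            = Gm * (elt s : Matrix (Fin m ⊕ Fin m) (Fin m ⊕ Fin m) F) * Gi * (Gm * (1 - Nt s) * Gi) := by
              rw [hv, mul_sub Gm, mul_one, sub_mul Gm, hgg]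
          _ = Gm * (elt s : Matrix (Fin m ⊕ Fin m) (Fin m ⊕ Fin m) F) * (Gi * Gm) * (1 - Nt s) * Gi := by
              simp only [mul_assoc]
          _ = Gm * ((elt s : Matrix (Fin m ⊕ Fin m) (Fin m ⊕ Fin m) F) * (1 - Nt s)) * Gi := by
              rw [hgg', mul_one]; simp only [mul_assoc]
          _ = 1 + Gm * Nt s * Gi := by rw [helt, mul_add, mul_one, add_mul, hgg]
      have hμ : s.1 = t.1 := Subtype.ext (Nat.Partition.ext (Jordan.prof_injective (fun a ha => s.1.1.parts_pos ha)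
        (fun a ha => t.1.1.parts_pos ha) fun j => by
          rw [← hNrank, ← hNrank, hN]
          have hpow := pow_conj_rect (P := Gm) (Q := Gi) hgg hgg' (N := Gm * Nt s * Gi) (A := Nt s)
            (by rw [mul_assoc, hgg', mul_one]) j
          rw [hpow, rank_conj_rect hgg']))
      obtain ⟨μ, ε⟩ := s
      obtain ⟨μ', ε'⟩ := t
      have hμ2 : μ = μ' := hμ
      subst hμ2
      set s : T := ⟨μ, ε⟩
      set t : T := ⟨μ, ε'⟩
      let X : Matrix ((k : Fin μ.1.parts.toList.length) × Fin (dd μ k)) ((k : Fin μ.1.parts.toList.length) × Fin (dd μ k)) F :=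
        Q t * Gm * P s
      have hXN : X * nilMat (dd μ) F = nilMat (dd μ) F * X := by
        show Q t * Gm * P s * nilMat (dd s.1) F = nilMat (dd t.1) F * (Q t * Gm * P s)
        have e1 : nilMat (dd t.1) F * Q t = Q t * Nt t := by
          simp only [Nt]; rw [← Matrix.mul_assoc, ← Matrix.mul_assoc, hQP, Matrix.one_mul]
        rw [Matrix.mul_assoc (Q t * Gm), ← hNP s, ← Matrix.mul_assoc (nilMat _ F), ← Matrix.mul_assoc (nilMat _ F), e1, hN]
        calc Q t * Gm * (Nt s * P s) = Q t * (Gm * Nt s * (Gi * Gm)) * P s := by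
              rw [hgg', mul_one]; simp only [Matrix.mul_assoc]
          _ = _ := by simp only [Matrix.mul_assoc]
      have hXH : Xᵀ * skMat (dd μ) (cc t) * X = skMat (dd μ) (cc s) := by
        show (Q t * Gm * P s)ᵀ * skMat (dd t.1) (cc t) * (Q t * Gm * P s) = skMat (dd s.1) (cc s)
        rw [← hPJ s]
        calc (Q t * Gm * P s)ᵀ * skMat (dd t.1) (cc t) * (Q t * Gm * P s)
            = (P s)ᵀ * (Gmᵀ * ((Q t)ᵀ * skMat (dd t.1) (cc t) * Q t) * Gm) * P s := by
              simp only [Matrix.transpose_mul, Matrix.mul_assoc]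
          _ = _ := by rw [← hJrect t, hgJ]
      obtain ⟨x, hx⟩ := exists_parMat (dd μ) hXN
      suffices hεε : ε = ε' by simp only [s, t, hεε]
      funext ⟨j, hj⟩
      obtain ⟨hjm, hje⟩ := Finset.mem_filter.1 hj
      rw [Multiset.mem_toFinset] at hjm
      obtain ⟨k, hk⟩ : ∃ k, dd μ k = j := by
        obtain ⟨k, hk⟩ := List.get_of_mem (Multiset.mem_toList.2 hjm)
        exact ⟨k, hk⟩
      set i : Fin (Finset.univ.sup (dd μ) + 1) := ⟨j, hk ▸ d_lt_bound (dd μ) k⟩ with hi
      have hne : Nonempty (JBlk (dd μ) i) := ⟨⟨k, hk⟩⟩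
      have htop := topBlk_congr (dd μ) (hd μ) (cc t) (cc s) x (by rw [hx]; exact hXH) i
      have hdet : (Mb s i).det = (topBlk (dd μ) x i).det ^ 2 * (Mb t i).det := by
        have h1 := congrArg Matrix.det htop
        rw [Matrix.det_mul, Matrix.det_mul, Matrix.det_transpose] at h1
        rw [← hcctop, ← hcctop]
        refine h1.trans ?_
        ring
      have hx0 : (topBlk (dd μ) x i).det ≠ 0 := fun h0 => hMb0 s i (by rw [hdet, h0]; ring)
      have hsq : IsSquare (Mb s i).det ↔ IsSquare (Mb t i).det := by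
        rw [hdet]
        refine ⟨fun ⟨r, hr⟩ => ⟨r / (topBlk (dd μ) x i).det, ?_⟩, fun ⟨r, hr⟩ => ⟨(topBlk (dd μ) x i).det * r, ?_⟩⟩
        · field_simp
          linear_combination hr
        · rw [hr]; ring
      have e1 : eps s i = ε ⟨j, hj⟩ := dif_pos hj
      have e2 : eps t i = ε' ⟨j, hj⟩ := dif_pos hj
      rw [hMbs s i hje hne, hMbs t i hje hne, e1, e2] at hsq
      cases h1 : ε ⟨j, hj⟩ <;> cases h2 : ε' ⟨j, hj⟩ <;> simp_all
    · rintro ⟨C, g, rfl, hgp⟩
      set u := (g : Matrix (Fin m ⊕ Fin m) (Fin m ⊕ Fin m) F) with hu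
      obtain ⟨N, hNp', hNs, hNu⟩ := cayley_inverse (J := J) h2 (SymplecticGroup.mem_iff'.1 g.2)
        (show (g : Matrix (Fin m ⊕ Fin m) (Fin m ⊕ Fin m) F) ^ p = 1 by rw [← SubmonoidClass.coe_pow, hgp]; rfl)
      let A := Matrix.toLinAlgEquiv' (R := F) (n := Fin m ⊕ Fin m)
      obtain ⟨μ₀, hμpos, hμsum, hμprof⟩ := Jordan.exists_blocks (2 * m) (A N) ((show IsNilpotent N from ⟨p, hNp'⟩).map A)
        (by rw [Module.finrank_pi, Fintype.card_sum, Fintype.card_fin, two_mul])
      have hAr : ∀ j, Module.finrank F (LinearMap.range (A N ^ j)) = (N ^ j).rank := fun j => by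
        rw [← map_pow]; rfl
      let d₀ := blockFun μ₀
      have hd₀ : ∀ k, 1 ≤ d₀ k := fun k => hμpos _ (blockFun_mem _ k)
      let A' := Matrix.toLinAlgEquiv' (R := F) (n := (k : Fin μ₀.toList.length) × Fin (d₀ k))
      have hnil₀ : IsNilpotent (nilMat d₀ F) := by
        refine ⟨p, Matrix.toLin'.injective ?_⟩
        have h : ((nilMat d₀ F) ^ p).rank = 0 := by
          rw [← jordanType_sub_one, rank_jordanType_pow, sizes_blockFun, ← hμprof, hAr, hNp', Matrix.rank_zero]
        rw [Matrix.rank, Submodule.finrank_eq_zero, LinearMap.range_eq_bot] at h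
        exact h.trans (map_zero Matrix.toLin').symm
      obtain ⟨e, he⟩ := Jordan.exists_conj (2 * m) (A N) (A' (nilMat d₀ F)) ((show IsNilpotent N from ⟨p, hNp'⟩).map A)
        (hnil₀.map A') (by rw [Module.finrank_pi, Fintype.card_sum, Fintype.card_fin, two_mul]) (fun j => by
          rw [hμprof, ← map_pow]
          show _ = ((nilMat d₀ F) ^ j).rank
          rw [← jordanType_sub_one, rank_jordanType_pow, sizes_blockFun])
      set Q₀ := LinearMap.toMatrix' (e : (Fin m ⊕ Fin m → F) →ₗ[F] ((k : Fin μ₀.toList.length) × Fin (d₀ k) → F))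
      set P₀ := LinearMap.toMatrix' (e.symm : ((k : Fin μ₀.toList.length) × Fin (d₀ k) → F) →ₗ[F] (Fin m ⊕ Fin m → F))
      have hPQ₀ : P₀ * Q₀ = 1 := by
        rw [← LinearMap.toMatrix'_comp, LinearEquiv.comp_coe, LinearEquiv.self_trans_symm]
        exact LinearMap.toMatrix'_id
      have hQP₀ : Q₀ * P₀ = 1 := by
        rw [← LinearMap.toMatrix'_comp, LinearEquiv.comp_coe, LinearEquiv.symm_trans_self]
        exact LinearMap.toMatrix'_id
      have hQN₀ : Q₀ * N = nilMat d₀ F * Q₀ := by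
        apply Matrix.toLin'.injective
        refine LinearMap.ext fun v => ?_
        simp only [Matrix.toLin'_mul, LinearMap.comp_apply, Matrix.toLin'_apply]
        have hQ : ∀ w, Q₀ *ᵥ w = e w := fun w => LinearMap.toMatrix'_mulVec _ w
        rw [hQ, hQ]
        exact (he v).symm
      have hNP₀ : N * P₀ = P₀ * nilMat d₀ F := by
        calc N * P₀ = P₀ * Q₀ * N * P₀ := by rw [hPQ₀, Matrix.one_mul]
          _ = P₀ * (Q₀ * N) * P₀ := by rw [Matrix.mul_assoc P₀ Q₀ N]
          _ = P₀ * nilMat d₀ F * (Q₀ * P₀) := by rw [hQN₀]; simp only [Matrix.mul_assoc]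
          _ = _ := by rw [hQP₀, Matrix.mul_one]
      obtain ⟨c₀, hc₀⟩ := exists_skMat d₀ (H := P₀ᵀ * J * P₀) (by
        calc P₀ᵀ * J * P₀ * nilMat d₀ F = P₀ᵀ * (J * N) * P₀ := by
              rw [Matrix.mul_assoc _ P₀, ← hNP₀]; simp only [Matrix.mul_assoc]
          _ = -((N * P₀)ᵀ * J * P₀) := by
              rw [hNs]; simp only [Matrix.transpose_mul, Matrix.mul_neg, Matrix.neg_mul, Matrix.mul_assoc]
          _ = _ := by rw [hNP₀]; simp only [Matrix.transpose_mul, Matrix.mul_assoc])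
      have hc₀a : (skMat d₀ c₀)ᵀ = -skMat d₀ c₀ := by
        rw [hc₀]
        simp only [Matrix.transpose_mul, Matrix.transpose_transpose, hJt, Matrix.neg_mul, Matrix.mul_neg, Matrix.mul_assoc]
      have hJeq : J = Q₀ᵀ * skMat d₀ c₀ * Q₀ := by
        rw [hc₀]
        calc J = (P₀ * Q₀)ᵀ * J * (P₀ * Q₀) := by rw [hPQ₀]; simp
          _ = _ := by simp only [Matrix.transpose_mul, Matrix.mul_assoc]
      have hc₀u : IsUnit (skMat d₀ c₀) := by
        obtain ⟨Ju, hJu⟩ := (Matrix.isUnit_iff_isUnit_det _).2 (isUnit_iff_ne_zero.2 hJ0)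
        set Ji := ((Ju⁻¹ : (Matrix (Fin m ⊕ Fin m) (Fin m ⊕ Fin m) F)ˣ) : Matrix (Fin m ⊕ Fin m) (Fin m ⊕ Fin m) F)
        have hJi : J * Ji = 1 := by rw [← hJu]; exact Ju.mul_inv
        refine (⟨⟨skMat d₀ c₀, Q₀ * Ji * Q₀ᵀ, ?_, ?_⟩, rfl⟩ : IsUnit (skMat d₀ c₀))
        · rw [hc₀]
          calc P₀ᵀ * J * P₀ * (Q₀ * Ji * Q₀ᵀ) = P₀ᵀ * (J * (P₀ * Q₀) * Ji) * Q₀ᵀ := by simp only [Matrix.mul_assoc]
            _ = _ := by rw [hPQ₀, Matrix.mul_one, hJi, Matrix.mul_one, ← Matrix.transpose_mul, hQP₀, Matrix.transpose_one]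
        · rw [hc₀]
          calc Q₀ * Ji * Q₀ᵀ * (P₀ᵀ * J * P₀) = Q₀ * (Ji * (P₀ * Q₀)ᵀ * J) * P₀ := by
                simp only [Matrix.transpose_mul, Matrix.mul_assoc]
            _ = _ := by rw [hPQ₀, Matrix.transpose_one, Matrix.mul_one, mul_eq_one_comm.1 hJi, Matrix.mul_one, hQP₀]
      have hle : ∀ a ∈ μ₀, a ≤ p := by
        rw [← UnipotentClasses.prof_eq_zero_iff, ← hμprof, hAr, hNp', Matrix.rank_zero]
      have hpar : ∀ j : ℕ, Odd j → Even (μ₀.count j) := by
        intro j hj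
        by_cases hjm : j ∈ μ₀
        · obtain ⟨k, hk⟩ := List.get_of_mem (Multiset.mem_toList.2 hjm)
          have hk' : d₀ k = j := hk
          set i : Fin (Finset.univ.sup d₀ + 1) := ⟨j, hk' ▸ d_lt_bound d₀ k⟩
          have ht := topBlk_transpose d₀ hd₀ ((skMat_alt_iff d₀ c₀).1 hc₀a) i
          rw [show (i : ℕ) = j from rfl, hj.neg_one_pow, neg_one_smul] at ht
          have hev := even_card_of_skew' h2 ht ((isUnit_skMat d₀ hd₀ c₀).1 hc₀u i)
          rw [Fintype.card_subtype, ← count_sizes d₀, sizes_blockFun] at hev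
          exact hev
        · rw [Multiset.count_eq_zero_of_notMem hjm]; exact ⟨0, rfl⟩
      let μg : Good := ⟨⟨μ₀, fun {a} ha => hμpos a ha, hμsum⟩, hle, hpar⟩
      let εf : {j // j ∈ μg.1.parts.toFinset.filter (fun j : ℕ => Even j)} → Bool := fun j =>
        if h : j.1 < Finset.univ.sup d₀ + 1 then
          if IsSquare (topBlk d₀ c₀ ⟨j.1, h⟩).det then false else true
        else false
      let t : T := ⟨μg, εf⟩
      refine ⟨t, Subtype.ext (ConjClasses.mk_eq_mk_iff_isConj.2 ?_)⟩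
      obtain ⟨D, E, hDE, hED, hDN, hD⟩ := exists_congr_skMat d₀ hd₀ hp h2 c₀ (cc t) hc₀a (hccalt t) hc₀u (hccu t) (by
        intro i hi
        rw [show topBlk d₀ (cc t) i = Mb t i from hcctop t i]
        have hc0 : (topBlk d₀ c₀ i).det ≠ 0 := (isUnit_skMat d₀ hd₀ c₀).1 hc₀u i
        have hc1 : (Mb t i).det ≠ 0 := hMb0 t i
        by_cases hne : Nonempty (JBlk d₀ i)
        · have hjm : (i : ℕ) ∈ μg.1.parts.toFinset.filter (fun j : ℕ => Even j) := by
            obtain ⟨⟨k, hk⟩⟩ := hne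
            exact Finset.mem_filter.2 ⟨Multiset.mem_toFinset.2 (hk ▸ blockFun_mem μ₀ k), hi⟩
          have hs := hMbs t i hi hne
          have he' : eps t i = if IsSquare (topBlk d₀ c₀ i).det then false else true :=
            (dif_pos hjm).trans (dif_pos i.2)
          by_cases hsq : IsSquare (topBlk d₀ c₀ i).det
          · rw [he', if_pos hsq] at hs
            exact hsq.mul (hs.2 rfl)
          · rw [he', if_neg hsq] at hs
            have hns : ¬ IsSquare (Mb t i).det := fun h => Bool.noConfusion (hs.1 h)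
            rw [← quadraticChar_one_iff_isSquare (mul_ne_zero hc0 hc1), map_mul,
              quadraticChar_neg_one_iff_not_isSquare.2 hsq, quadraticChar_neg_one_iff_not_isSquare.2 hns]
            ring
        · haveI : IsEmpty (JBlk d₀ i) := not_nonempty_iff.1 hne
          rw [Matrix.det_isEmpty, Matrix.det_isEmpty]
          exact ⟨1, rfl⟩)
      let W : Matrix (Fin m ⊕ Fin m) (Fin m ⊕ Fin m) F := P₀ * D * Q t
      have hW : W ∈ G := by
        refine SymplecticGroup.mem_iff'.2 ?_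
        show (P₀ * D * Q t)ᵀ * J * (P₀ * D * Q t) = J
        calc (P₀ * D * Q t)ᵀ * J * (P₀ * D * Q t) = (Q t)ᵀ * (Dᵀ * (P₀ᵀ * J * P₀) * D) * Q t := by
              simp only [Matrix.transpose_mul, Matrix.mul_assoc]
          _ = J := by rw [← hc₀, hD]; exact (hJrect t).symm
      have hWN : N * W = W * Nt t := by
        show N * (P₀ * D * Q t) = P₀ * D * Q t * Nt t
        have e1 : nilMat (dd t.1) F * Q t = Q t * Nt t := by
          simp only [Nt]; rw [← Matrix.mul_assoc, ← Matrix.mul_assoc, hQP, Matrix.one_mul]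
        calc N * (P₀ * D * Q t) = P₀ * (nilMat d₀ F * D) * Q t := by
              simp only [← Matrix.mul_assoc]; rw [hNP₀]
          _ = P₀ * D * (nilMat (dd t.1) F * Q t) := by
              rw [← hDN]; simp only [Matrix.mul_assoc]; rfl
          _ = _ := by rw [e1]; simp only [Matrix.mul_assoc]
      refine isConj_iff.2 ⟨⟨W, hW⟩, mul_inv_eq_iff_eq_mul.2 (Subtype.ext ?_)⟩
      show W * (elt t : Matrix (Fin m ⊕ Fin m) (Fin m ⊕ Fin m) F) = u * W
      have hcancel : IsUnit (1 - Nt t) := isUnit_one_sub ⟨p, hNp t⟩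
      refine hcancel.mul_right_cancel ?_
      calc W * (elt t : Matrix (Fin m ⊕ Fin m) (Fin m ⊕ Fin m) F) * (1 - Nt t) = W * (1 + Nt t) := by
            rw [mul_assoc, helt]
        _ = (1 + N) * W := by rw [mul_add, add_mul, hWN, mul_one, one_mul]
        _ = u * (1 - N) * W := by rw [hNu]
        _ = u * W * (1 - Nt t) := by rw [mul_assoc u, mul_assoc u, sub_mul, one_mul, hWN, mul_sub W, mul_one]
  have hT : Nat.card T = ∑ μ ∈ Finset.univ.filter (fun μ : Nat.Partition (2 * m) =>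
      (∀ a ∈ μ.parts, a ≤ p) ∧ ∀ j : ℕ, Odd j → Even (μ.parts.count j)),
      2 ^ ((μ.parts.toFinset.filter (fun j : ℕ => Even j)).card) := by
    rw [Nat.card_eq_fintype_card, Fintype.card_sigma]
    simp only [Fintype.card_fun, Fintype.card_bool, Fintype.card_coe]
    exact (Finset.sum_subtype _ (fun μ => by simp) fun μ : Nat.Partition (2 * m) =>
      2 ^ ((μ.parts.toFinset.filter (fun j : ℕ => Even j)).card)).symm
  rw [← hT, Nat.card_congr (Equiv.ofBijective Φ hΦ)]
  let one : S := ⟨ConjClasses.mk 1, 1, rfl, one_pow p⟩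
  haveI : Finite S := Finite.of_surjective Φ hΦ.2
  haveI := Fintype.ofFinite S
  rw [Nat.card_congr (β := {C : S // ¬ C = one})
    { toFun := fun C => ⟨⟨C.1, by
          obtain ⟨g, hg, ho⟩ := C.2
          exact ⟨g, hg, ho ▸ pow_orderOf_eq_one g⟩⟩, fun h => by
          obtain ⟨g, hg, ho⟩ := C.2
          have h' : C.1 = ConjClasses.mk 1 := congrArg Subtype.val h
          rw [← hg, ConjClasses.mk_eq_mk_iff_isConj, isConj_one_left] at h'
          rw [h', orderOf_one] at ho
          exact hpp.ne_one ho.symm⟩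
      invFun := fun C => ⟨C.1.1, by
        obtain ⟨g, hg, hgp⟩ := C.1.2
        exact ⟨g, hg, orderOf_eq_prime hgp fun h1 => C.2 (Subtype.ext (by rw [← hg, h1]))⟩⟩
      left_inv := fun C => rfl
      right_inv := fun C => rfl },
    Nat.card_eq_fintype_card, Fintype.card_subtype_compl, Fintype.card_subtype_eq, Nat.card_eq_fintype_card]

end CfsgLib.Classical.ClassTheory
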