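import Cfsg.Agent.Lib.Classical.ClassTheory.SpUnipotentSeries
import Cfsg.Agent.Lib.Classical.Symplectic.Geometry
import Cfsg.Agent.Lib.Classical.Symplectic.Matrix

/-!
# The number of unipotent elements of the symplectic group

The unipotent elements are counted against the Möbius function of the totally isotropic subspaces of
their fixed spaces, whose sum vanishes unless the fixed space is non-degenerate.
-/

set_option autoImplicit false

namespace CfsgLib.Classical.ClassTheory.SpUnipotentCount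

open LinearMap (BilinForm)
open CfsgLib.Classical.Symp

universe u v

variable {F : Type u} [Field F] {V : Type v} [AddCommGroup V] [Module F V] {B : BilinForm F V}

/-- `g` is unipotent. -/
def IsUni (g : Sp B) : Prop := IsNilpotent (((g : V ≃ₗ[F] V) : V →ₗ[F] V) - 1)

/-- The exponent of `q` in the number of lifts. -/
def ex : ℕ → ℕ → ℕ
  | _, 0 => 0
  | m, w + 1 => 2 * m - (w + 1) + ex (m - 1) w

theorem ex_eq : ∀ {m w : ℕ}, w ≤ m → w * (w - 1) / 2 + ex m w + 2 * (m - w) ^ 2 = (m - w) ^ 2 + m ^ 2 := by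
  intro m w
  induction w generalizing m with
  | zero => intro _; simp [ex]; ring
  | succ w ih =>
    intro h
    obtain ⟨k, rfl⟩ : ∃ k, m = k + 1 := ⟨m - 1, by omega⟩
    have e : (w + 1) * (w + 1 - 1) / 2 = w + w * (w - 1) / 2 := by
      rw [← Finset.sum_range_id, ← Finset.sum_range_id, Finset.sum_range_succ, add_comm]
    have := ih (m := k) (by omega)
    have e2 : (k + 1) ^ 2 = k ^ 2 + 2 * k + 1 := by ring
    rw [e, e2, show k + 1 - (w + 1) = k - w by omega, ex, show k + 1 - 1 = k by omega]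
    omega

variable [Finite F] [FiniteDimensional F V]

/-- The reduction step: fix one more isotropic vector. -/
theorem card_fix_step (hA : B.IsAlt) (hB : B.Nondegenerate) {m w : ℕ} (hm : Module.finrank F V = 2 * m)
    {W : Submodule F V} (hW : ∀ x ∈ W, ∀ y ∈ W, B x y = 0) (hw : Module.finrank F W = w + 1) :
    ∃ (U : Submodule F V) (WU : Submodule F U),
      Module.finrank F U = 2 * (m - 1) ∧ (∀ x ∈ U, (∀ y ∈ U, B x y = 0) → x = 0) ∧
      (∀ x ∈ WU, ∀ y ∈ WU, (B.restrict U) x y = 0) ∧ Module.finrank F WU = w ∧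
      Nat.card {g : Sp B // IsUni g ∧ ∀ x ∈ W, (g : V ≃ₗ[F] V) x = x} =
        Nat.card {h : Sp (B.restrict U) // IsUni h ∧ ∀ x ∈ WU, (h : U ≃ₗ[F] U) x = x} *
          Nat.card F ^ (2 * m - (w + 1)) := by
  obtain ⟨v, hvW, hv0⟩ := Submodule.exists_mem_ne_zero_of_ne_bot (p := W) fun h => by
    rw [h, finrank_bot] at hw; omega
  obtain ⟨f, -, hvf⟩ := exists_partner (nondeg_top hB) (Submodule.mem_top (x := v)) hv0
  have hfv : B f v = -1 := by rw [swap hA v f, hvf]
  obtain ⟨hc, hUn⟩ := nondeg_orthogonal hA hB (nondeg_pair hA hvf)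
  set U := B.orthogonal (Submodule.span F ({v, f} : Set V)) with hU
  have hrW : Module.finrank F (Submodule.span F ({v, f} : Set V)) = 2 := by
    have h := finrank_span_eq_card (linearIndependent_pair_of_one hA hvf)
    rwa [Matrix.range_cons_cons_empty, Fintype.card_fin] at h
  have hUdim : Module.finrank F U = 2 * (m - 1) := by
    have hr := Submodule.finrank_add_eq_of_isCompl hc; omega
  have hmemU : ∀ z, z ∈ U ↔ B v z = 0 ∧ B f z = 0 := fun z => by
    rw [hU, mem_orthogonal]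
    refine ⟨fun h => ⟨h v (Submodule.subset_span (by simp)), h f (Submodule.subset_span (by simp))⟩, fun h p hp => ?_⟩
    obtain ⟨a, b, rfl⟩ := Submodule.mem_span_pair.1 hp
    simp [h.1, h.2]
  have huv : ∀ u : U, B v u = 0 ∧ B f u = 0 ∧ B (u : V) v = 0 ∧ B (u : V) f = 0 := fun u => by
    obtain ⟨h1, h2⟩ := (hmemU u).1 u.2
    exact ⟨h1, h2, by rw [swap hA v u, h1, neg_zero], by rw [swap hA f u, h2, neg_zero]⟩
  let π : V →ₗ[F] U := LinearMap.codRestrict U (LinearMap.id - (B.flip f).smulRight v + (B.flip v).smulRight f)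
    fun x => (hmemU _).2 ⟨by simp [hA v, hvf, swap hA v x], by simp [hA f, hfv, swap hA f x]⟩
  have hdec : ∀ x, x = B x f • v + (-(B x v)) • f + (π x : V) := fun x => by
    simp [π]; abel
  have hπU : ∀ u : U, π u = u := fun u => Subtype.ext (by simp [π, (huv u).2.2.1, (huv u).2.2.2])
  have hπv : π v = 0 := Subtype.ext (by simp [π, hA v, hvf])
  have hπf : π f = 0 := Subtype.ext (by simp [π, hA f, hfv])
  let WU : Submodule F U := W.comap U.subtype
  have hWdec : ∀ x ∈ W, x = B x f • v + (π x : V) ∧ π x ∈ WU := fun x hx => by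
    have e := hdec x
    rw [hW x hx v hvW, neg_zero, zero_smul, add_zero] at e
    refine ⟨e, ?_⟩
    show (π x : V) ∈ W
    rw [show (π x : V) = x - B x f • v from eq_sub_of_add_eq' e.symm]
    exact W.sub_mem hx (W.smul_mem _ hvW)
  have hWU : Module.finrank F WU = w := by
    let φ : W →ₗ[F] F × WU := ((B.flip f).comp W.subtype).prod
      (LinearMap.codRestrict WU (π.comp W.subtype) fun x => (hWdec x x.2).2)
    have hφ : Function.Bijective φ := by
      refine ⟨fun x y h => Subtype.ext ?_, fun p => ⟨⟨p.1 • v + ((p.2 : U) : V), W.add_mem (W.smul_mem _ hvW) p.2.2⟩, ?_⟩⟩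
      · rw [(hWdec x x.2).1, (hWdec y y.2).1]
        have h1 : B (x : V) f = B (y : V) f := congrArg Prod.fst h
        have h2 : π (x : V) = π (y : V) := congrArg (fun z : F × WU => (z.2 : U)) h
        rw [h1, h2]
      · refine Prod.ext ?_ (Subtype.ext ?_)
        · simp [φ, hvf, (huv p.2.1).2.2.2]
        · show π (p.1 • v + ((p.2 : U) : V)) = (p.2 : U)
          rw [map_add, map_smul, hπv, smul_zero, zero_add, hπU]
    have := (LinearEquiv.ofBijective φ hφ).finrank_eq
    rw [Module.finrank_prod, Module.finrank_self, hw] at this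
    omega
  refine ⟨U, WU, hUdim, hUn, fun x hx y hy => hW _ hx _ hy, hWU, ?_⟩
  have : Finite V := Module.finite_of_finite F
  let C : Submodule F U := (B.restrict U).orthogonal WU
  have hC : ∀ c : U, c ∈ C ↔ ∀ x ∈ WU, B (x : V) c = 0 := fun c => mem_orthogonal
  have hbuild : ∀ (h : Sp (B.restrict U)) (c : U) (t : F), ∃ g : Sp B, ∀ x, (g : V ≃ₗ[F] V) x =
      (B x f + (-(B x v)) * t + B (c : V) ((h : U ≃ₗ[F] U) (π x))) • v + (-(B x v)) • (f + (c : V))
        + ((h : U ≃ₗ[F] U) (π x) : V) := by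
    intro h c t
    let H : V →ₗ[F] V := U.subtype.comp (((h : U ≃ₗ[F] U) : U →ₗ[F] U).comp π)
    let L : V →ₗ[F] V :=
      (B.flip f + t • (-(B.flip v)) + (B (c : V)).comp H).smulRight v + (-(B.flip v)).smulRight (f + (c : V)) + H
    have hL : ∀ x, L x = (B x f + (-(B x v)) * t + B (c : V) ((h : U ≃ₗ[F] U) (π x))) • v
        + (-(B x v)) • (f + (c : V)) + ((h : U ≃ₗ[F] U) (π x) : V) := fun x => by
      simp only [L, LinearMap.add_apply, LinearMap.smulRight_apply, LinearMap.smul_apply, LinearMap.neg_apply,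
        LinearMap.flip_apply, LinearMap.comp_apply, smul_eq_mul]
      rw [mul_comm t]
      rfl
    have hiso : ∀ x y, B (L x) (L y) = B x y := fun x y => by
      have hh : B (((h : U ≃ₗ[F] U) (π x) : U) : V) ((h : U ≃ₗ[F] U) (π y) : V) = B (π x : V) (π y) :=
        h.2 (π x) (π y)
      have hxy : B x y = B x f * -(B y v) - (-(B x v)) * B y f + B (π x : V) (π y) := by
        conv_lhs => rw [hdec x, hdec y]
        simp [hA v, hA f, hvf, hfv, (huv (π x)).2.2.1, (huv (π x)).2.2.2, (huv (π y)).1, (huv (π y)).2.1]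
      rw [hL, hL, hxy]
      obtain ⟨c1, c2, c3, c4⟩ := huv c
      obtain ⟨x1, x2, x3, x4⟩ := huv ((h : U ≃ₗ[F] U) (π x))
      obtain ⟨y1, y2, y3, y4⟩ := huv ((h : U ≃ₗ[F] U) (π y))
      simp [hA v, hA f, hA (c : V), hvf, hfv, c1, c2, c3, c4, x1, x2, x3, x4, y1, y2, y3, y4, hh,
        swap hA (c : V) ((h : U ≃ₗ[F] U) (π x) : V)]
      ring
    have hinj : Function.Injective L := by
      rw [injective_iff_map_eq_zero]
      intro x hx
      refine hB.1 x fun y => ?_
      rw [← hiso, hx]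
      simp
    exact ⟨⟨LinearEquiv.ofInjectiveEndo L hinj, hiso⟩, hL⟩
  choose mk hmk using hbuild
  have hmkv : ∀ h c t, (mk h c t : V ≃ₗ[F] V) v = v := fun h c t => by simp [hmk, hvf, hA v, hπv]
  have hmkU : ∀ h c t (u : U), (mk h c t : V ≃ₗ[F] V) u = B (c : V) ((h : U ≃ₗ[F] U) u) • v + ((h : U ≃ₗ[F] U) u : V) :=
    fun h c t u => by simp [hmk, (huv u).2.2.1, (huv u).2.2.2, hπU]
  have hmkf : ∀ h c t, (mk h c t : V ≃ₗ[F] V) f = t • v + (f + (c : V)) := fun h c t => by
    simp [hmk, hA f, hfv, hπf]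
  -- unipotence is read off the quotient
  have huni : ∀ h c t, IsUni (mk h c t) ↔ IsUni h := fun h c t => by
    set D : V →ₗ[F] V := ((mk h c t : V ≃ₗ[F] V) : V →ₗ[F] V) - 1 with hD
    set E : U →ₗ[F] U := ((h : U ≃ₗ[F] U) : U →ₗ[F] U) - 1 with hE
    have hperp : ∀ x, B (D x) v = 0 := fun x => by
      show B ((mk h c t : V ≃ₗ[F] V) x - x) v = 0
      rw [map_sub, LinearMap.sub_apply]
      conv_lhs => arg 1; rw [← hmkv h c t]
      exact sub_eq_zero.2 ((mk h c t).2 x v)
    have hcomm : ∀ x, B x v = 0 → π (D x) = E (π x) := fun x hx => by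
      show π ((mk h c t : V ≃ₗ[F] V) x - x) = (h : U ≃ₗ[F] U) (π x) - π x
      rw [map_sub, hmk, hx]
      simp [hπv, hπU]
    have hpow : ∀ k x, B x v = 0 → π ((D ^ k) x) = (E ^ k) (π x) ∧ B ((D ^ k) x) v = 0 := fun k => by
      induction k with
      | zero => exact fun x hx => ⟨rfl, hx⟩
      | succ k ih =>
        intro x hx
        obtain ⟨h1, h2⟩ := ih x hx
        rw [pow_succ', pow_succ', Module.End.mul_apply, Module.End.mul_apply, hcomm _ h2, h1]
        exact ⟨rfl, hperp _⟩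
    constructor
    · rintro ⟨k, hk⟩
      refine ⟨k, LinearMap.ext fun u => ?_⟩
      have := (hpow k u (huv u).2.2.1).1
      rw [← hD] at hk
      rw [hk, hπU] at this
      simpa using this.symm
    · rintro ⟨k, hk⟩
      refine ⟨k + 2, LinearMap.ext fun x => ?_⟩
      obtain ⟨h1, h2⟩ := hpow k _ (hperp x)
      rw [← hE] at hk
      rw [hk, LinearMap.zero_apply] at h1
      rw [← hD, show k + 2 = (k + 1) + 1 from rfl, pow_succ', pow_succ, Module.End.mul_apply, Module.End.mul_apply]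
      rw [hdec ((D ^ k) (D x)), h1, h2]
      show D _ = 0
      rw [neg_zero, zero_smul, add_zero, Submodule.coe_zero, add_zero, map_smul]
      show _ • ((mk h c t : V ≃ₗ[F] V) v - v) = 0
      rw [hmkv, sub_self, smul_zero]
  have hfix : ∀ h c t, (∀ x ∈ W, (mk h c t : V ≃ₗ[F] V) x = x) ↔ (∀ x ∈ WU, (h : U ≃ₗ[F] U) x = x) ∧ c ∈ C := by
    intro h c t
    constructor
    · intro hx
      have key : ∀ u : U, u ∈ WU → (h : U ≃ₗ[F] U) u = u ∧ B (c : V) u = 0 := fun u hu => by
        have e := hx u hu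
        rw [hmkU] at e
        have e1 : B (c : V) ((h : U ≃ₗ[F] U) u) = 0 := by
          have := congrArg (fun z => B z f) e
          simpa [hvf, (huv u).2.2.2, (huv ((h : U ≃ₗ[F] U) u)).2.2.2] using this
        rw [e1, zero_smul, zero_add] at e
        exact ⟨Subtype.ext e, by rwa [Subtype.ext e] at e1⟩
      exact ⟨fun u hu => (key u hu).1, (hC c).2 fun u hu => by rw [swap hA (c : V) u, (key u hu).2, neg_zero]⟩
    · rintro ⟨h1, h2⟩ x hx
      obtain ⟨e, hu⟩ := hWdec x hx
      conv_lhs => rw [e]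
      rw [map_add, map_smul, hmkv, hmkU, h1 _ hu, swap hA (π x : V) c, (hC c).1 h2 _ hu, neg_zero, zero_smul, zero_add,
        ← e]
  have hsurj : ∀ g : Sp B, (g : V ≃ₗ[F] V) v = v → ∃ h c t, mk h c t = g := fun g hg => by
    have hgv : ∀ x, B ((g : V ≃ₗ[F] V) x) v = B x v := fun x => by
      conv_lhs => arg 2; rw [← hg]
      exact g.2 x v
    have hgU : ∀ u : U, ((g : V ≃ₗ[F] V) u) = B ((g : V ≃ₗ[F] V) u) f • v + (π ((g : V ≃ₗ[F] V) u) : V) := fun u => by
      have e := hdec ((g : V ≃ₗ[F] V) u)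
      rwa [hgv, (huv u).2.2.1, neg_zero, zero_smul, add_zero] at e
    let hl : U →ₗ[F] U := π.comp (((g : V ≃ₗ[F] V) : V →ₗ[F] V).comp U.subtype)
    have hiso : ∀ x y : U, B (hl x : V) (hl y) = B (x : V) y := fun x y => by
      have e : B ((g : V ≃ₗ[F] V) (x : V)) ((g : V ≃ₗ[F] V) (y : V)) = B (x : V) y := g.2 _ _
      rw [hgU x, hgU y] at e
      show B (π ((g : V ≃ₗ[F] V) (x : V)) : V) (π ((g : V ≃ₗ[F] V) (y : V)) : V) = _
      simpa [hA v, (huv (π ((g : V ≃ₗ[F] V) (x : V)))).2.2.1, (huv (π ((g : V ≃ₗ[F] V) (y : V)))).1] using e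
    have hinj : Function.Injective hl := by
      rw [injective_iff_map_eq_zero]
      intro x hx
      refine Subtype.ext (hUn x x.2 fun y hy => ?_)
      rw [← hiso x ⟨y, hy⟩, hx]
      simp
    let h : Sp (B.restrict U) := ⟨LinearEquiv.ofInjectiveEndo hl hinj, hiso⟩
    refine ⟨h, π ((g : V ≃ₗ[F] V) f), B ((g : V ≃ₗ[F] V) f) f, Subtype.ext (LinearEquiv.ext fun x => ?_)⟩
    have hgf : (g : V ≃ₗ[F] V) f = B ((g : V ≃ₗ[F] V) f) f • v + f + (π ((g : V ≃ₗ[F] V) f) : V) := by
      have e := hdec ((g : V ≃ₗ[F] V) f)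
      rwa [hgv, hfv, neg_neg, one_smul] at e
    have hφ : ∀ u : U, B ((g : V ≃ₗ[F] V) u) f = B (π ((g : V ≃ₗ[F] V) f) : V) (π ((g : V ≃ₗ[F] V) u) : V) := fun u => by
      have e : B ((g : V ≃ₗ[F] V) f) ((g : V ≃ₗ[F] V) u) = 0 := (g.2 f u).trans (huv u).2.1
      rw [hgU u, hgf] at e
      simp [hA v, hfv, (huv (π ((g : V ≃ₗ[F] V) (u : V)))).1, (huv (π ((g : V ≃ₗ[F] V) (u : V)))).2.1,
        (huv (π ((g : V ≃ₗ[F] V) f))).2.2.1] at e
      linear_combination -e
    conv_rhs => rw [hdec x, map_add, map_add, map_smul, map_smul, hg, hgf, hgU (π x), hφ (π x)]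
    rw [hmk]
    show (_ + B (π ((g : V ≃ₗ[F] V) f) : V) (π ((g : V ≃ₗ[F] V) (π x)) : V)) • v + _ +
      (π ((g : V ≃ₗ[F] V) (π x)) : V) = _
    module
  let e : {g : Sp B // IsUni g ∧ ∀ x ∈ W, (g : V ≃ₗ[F] V) x = x} ≃
      {h : Sp (B.restrict U) // IsUni h ∧ ∀ x ∈ WU, (h : U ≃ₗ[F] U) x = x} × C × F :=
    (Equiv.ofBijective (fun p : {h : Sp (B.restrict U) // IsUni h ∧ ∀ x ∈ WU, (h : U ≃ₗ[F] U) x = x} × C × F =>
      (⟨mk p.1.1 p.2.1.1 p.2.2, (huni _ _ _).2 p.1.2.1, (hfix _ _ _).2 ⟨p.1.2.2, p.2.1.2⟩⟩ :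
        {g : Sp B // IsUni g ∧ ∀ x ∈ W, (g : V ≃ₗ[F] V) x = x})) (by
      constructor
      · rintro ⟨h, c, t⟩ ⟨h', c', t'⟩ e
        have e0 : mk h.1 c.1 t = mk h'.1 c'.1 t' := congrArg Subtype.val e
        have ef : t • v + (f + (c.1 : V)) = t' • v + (f + (c'.1 : V)) := by rw [← hmkf h.1, ← hmkf h'.1, e0]
        have et : t = t' := by
          have := congrArg (fun z => B z f) ef
          simpa [hvf, hA f, (huv c.1).2.2.2, (huv c'.1).2.2.2] using this
        subst et
        have ec : c = c' := Subtype.ext (Subtype.ext (add_left_cancel (add_left_cancel ef)))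
        subst ec
        refine Prod.ext (Subtype.ext (Subtype.ext (LinearEquiv.ext fun u => Subtype.ext ?_))) rfl
        have eu : B (c.1 : V) ((h.1 : U ≃ₗ[F] U) u) • v + ((h.1 : U ≃ₗ[F] U) u : V) =
            B (c.1 : V) ((h'.1 : U ≃ₗ[F] U) u) • v + ((h'.1 : U ≃ₗ[F] U) u : V) := by
          rw [← hmkU h.1 c.1 t, ← hmkU h'.1 c.1 t, e0]
        have := congrArg (fun z => (π z : V)) eu
        simpa [hπv, hπU] using this
      · rintro ⟨g, hg1, hg2⟩
        obtain ⟨h, c, t, rfl⟩ := hsurj g (hg2 v hvW)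
        obtain ⟨hf1, hf2⟩ := (hfix h c t).1 hg2
        exact ⟨⟨⟨h, (huni h c t).1 hg1, hf1⟩, ⟨c, hf2⟩, t⟩, rfl⟩)).symm
  rw [Nat.card_congr e, Nat.card_prod, Nat.card_prod, Module.natCard_eq_pow_finrank (K := F) (V := C),
    LinearMap.BilinForm.finrank_orthogonal (restrict_nondegenerate hA hUn), hWU, hUdim, ← pow_succ]
  have hle : w + 1 ≤ m := by
    have h1 : W ≤ B.orthogonal W := fun x hx y hy => hW y hy x hx
    have h2 := Submodule.finrank_mono h1
    rw [LinearMap.BilinForm.finrank_orthogonal hB, hm, hw] at h2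
    omega
  congr 2
  omega

theorem card_fix {m w : ℕ} {u : ℕ} (hu : ∀ (V' : Type v) [AddCommGroup V'] [Module F V'] [FiniteDimensional F V']
      (B' : BilinForm F V'), B'.IsAlt → B'.Nondegenerate → Module.finrank F V' = 2 * (m - w) →
      Nat.card {g : Sp B' // IsUni g} = u)
    (hA : B.IsAlt) (hB : B.Nondegenerate) (hm : Module.finrank F V = 2 * m) (W : Submodule F V)
    (hW : ∀ x ∈ W, ∀ y ∈ W, B x y = 0) (hw : Module.finrank F W = w) :
    Nat.card {g : Sp B // IsUni g ∧ ∀ x ∈ W, (g : V ≃ₗ[F] V) x = x} = u * Nat.card F ^ ex m w := by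
  induction w generalizing V m with
  | zero =>
    rw [ex, pow_zero, mul_one, ← hu V B hA hB (by simpa using hm)]
    refine Nat.card_congr (Equiv.subtypeEquivRight fun g => and_iff_left fun x hx => ?_)
    rw [Submodule.finrank_eq_zero.1 hw] at hx
    rw [(Submodule.mem_bot F).1 hx, map_zero]
  | succ w ih =>
    obtain ⟨U, WU, hUdim, hUn, hWUiso, hWU, hcard⟩ := card_fix_step hA hB hm hW hw
    rw [hcard, ih (m := m - 1) (B := B.restrict U) (fun V' _ _ _ B' h1 h2 h3 => hu V' B' h1 h2 (by omega))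
      (restrict_isAlt hA U) (restrict_nondegenerate hA hUn) hUdim WU hWUiso hWU, mul_assoc, ← pow_add, ex,
      add_comm (ex _ _)]

/-- The Möbius weight. -/
noncomputable def mu (W : Submodule F V) : ℚ :=
  (-1) ^ Module.finrank F W * (Nat.card F : ℚ) ^ (Module.finrank F W * (Module.finrank F W - 1) / 2)

open scoped _root_.Classical in
/-- The sum over the isotropic subspaces of a degenerate space vanishes. -/
theorem sum_mu_eq_zero [Fintype (Submodule F V)] (hA : B.IsAlt) (K : Submodule F V) {r : V} (hr : r ∈ K) (hr0 : r ≠ 0)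
    (hrad : ∀ y ∈ K, B r y = 0) :
    ∑ W ∈ Finset.univ.filter (fun W : Submodule F V => W ≤ K ∧ ∀ x ∈ W, ∀ y ∈ W, B x y = 0), mu W = 0 := by
  set L := F ∙ r
  set S := Finset.univ.filter (fun W : Submodule F V => W ≤ K ∧ ∀ x ∈ W, ∀ y ∈ W, B x y = 0)
  rw [← Finset.sum_fiberwise S (fun W => W ⊔ L) mu]
  refine Finset.sum_eq_zero fun Z _ => ?_
  rcases (S.filter fun W => W ⊔ L = Z).eq_empty_or_nonempty with he | ⟨W₀, hW₀⟩
  · rw [he, Finset.sum_empty]
  simp only [Finset.mem_filter, S, Finset.mem_univ, true_and] at hW₀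
  obtain ⟨⟨hW₀K, hW₀i⟩, rfl⟩ := hW₀
  set Z := W₀ ⊔ L
  have hrZ : r ∈ Z := Submodule.mem_sup_right (Submodule.mem_span_singleton_self r)
  have hZK : Z ≤ K := sup_le hW₀K ((Submodule.span_singleton_le_iff_mem _ _).2 hr)
  have hZi : ∀ x ∈ Z, ∀ y ∈ Z, B x y = 0 := by
    intro x hx y hy
    obtain ⟨a, ha, b, hb, rfl⟩ := Submodule.mem_sup.1 hx
    obtain ⟨c, hc, d, hd, rfl⟩ := Submodule.mem_sup.1 hy
    obtain ⟨s, rfl⟩ := Submodule.mem_span_singleton.1 hb
    obtain ⟨s', rfl⟩ := Submodule.mem_span_singleton.1 hd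
    simp [hW₀i a ha c hc, hA r, hrad c (hW₀K hc), show B a r = 0 by rw [swap hA r a, hrad a (hW₀K ha), neg_zero]]
  have hfil : S.filter (fun W => W ⊔ L = Z) =
      insert Z (Finset.univ.filter fun W : Submodule F V => W ⊔ L = Z ∧ r ∉ W) := by
    ext W
    simp only [Finset.mem_filter, S, Finset.mem_univ, true_and, Finset.mem_insert]
    constructor
    · rintro ⟨-, hWZ⟩
      by_cases hrW : r ∈ W
      · left; rw [← hWZ, sup_of_le_left ((Submodule.span_singleton_le_iff_mem _ _).2 hrW)]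
      · right; exact ⟨hWZ, hrW⟩
    · rintro (rfl | ⟨hWZ, -⟩)
      · exact ⟨⟨hZK, hZi⟩, sup_of_le_left le_sup_right⟩
      · have hle : W ≤ Z := hWZ ▸ le_sup_left
        exact ⟨⟨hle.trans hZK, fun x hx y hy => hZi x (hle hx) y (hle hy)⟩, hWZ⟩
  rw [hfil, Finset.sum_insert (by simp [hrZ])]
  obtain ⟨C, hC⟩ : ∃ C : Submodule F Z, IsCompl (F ∙ (⟨r, hrZ⟩ : Z)) C :=
    exists_isCompl _
  have hCdim : Module.finrank F C + 1 = Module.finrank F Z := by
    have := Submodule.finrank_add_eq_of_isCompl hC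
    rw [finrank_span_singleton (K := F) (show (⟨r, hrZ⟩ : Z) ≠ 0 from fun h => hr0 (congrArg Subtype.val h))] at this
    omega
  have hdec : ∀ z : Z, ∃ (c : C) (a : F), z = (c : Z) + a • ⟨r, hrZ⟩ := fun z => by
    obtain ⟨b, hb, c, hc, e⟩ := Submodule.mem_sup.1 (hC.sup_eq_top.ge (Submodule.mem_top (x := z)))
    obtain ⟨a, rfl⟩ := Submodule.mem_span_singleton.1 hb
    exact ⟨⟨c, hc⟩, a, by rw [← e]; abel⟩
  have hind : ∀ (c : C) (a : F), (c : Z) + a • (⟨r, hrZ⟩ : Z) = 0 → c = 0 ∧ a = 0 := fun c a h => by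
    have h1 : (c : Z) ∈ (F ∙ (⟨r, hrZ⟩ : Z)) := by
      rw [eq_neg_of_add_eq_zero_left h]
      exact Submodule.neg_mem _ (Submodule.smul_mem _ a (Submodule.mem_span_singleton_self _))
    have h2 : (c : Z) = 0 := (Submodule.disjoint_def.1 hC.disjoint) _ h1 c.2
    rw [h2, zero_add, smul_eq_zero] at h
    exact ⟨Subtype.ext h2, h.resolve_right fun h' => hr0 (congrArg Subtype.val h')⟩
  let gr : (C →ₗ[F] F) → Submodule F V := fun φ =>
    LinearMap.range (Z.subtype.comp (C.subtype + φ.smulRight (⟨r, hrZ⟩ : Z)))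
  have hgr : ∀ φ, gr φ ⊔ L = Z ∧ r ∉ gr φ ∧ Module.finrank F (gr φ) = Module.finrank F C := fun φ => by
    refine ⟨le_antisymm (sup_le ?_ le_sup_right) fun z hz => ?_, ?_, LinearMap.finrank_range_of_inj ?_⟩
    · rintro _ ⟨c, rfl⟩
      exact ((C.subtype + φ.smulRight (⟨r, hrZ⟩ : Z)) c).2
    · obtain ⟨c, a, e⟩ := hdec ⟨z, hz⟩
      rw [show z = ((c : Z) : V) + a • r from congrArg Subtype.val e,
        show ((c : Z) : V) + a • r = (((c : Z) : V) + φ c • r) + (a - φ c) • r by module]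
      exact Submodule.add_mem_sup ⟨c, rfl⟩ (Submodule.smul_mem _ _ (Submodule.mem_span_singleton_self r))
    · rintro ⟨c, hc⟩
      have := hind c (φ c - 1) (Subtype.ext (by
        show ((c : Z) : V) + (φ c - 1) • r = 0
        have hc' : ((c : Z) : V) + φ c • r = r := hc
        rw [sub_smul, one_smul, ← add_sub_assoc, hc', sub_self]))
      obtain ⟨rfl, h2⟩ := this
      simp at h2
    · rw [injective_iff_map_eq_zero]
      intro c hc
      exact (hind c (φ c) (Subtype.ext hc)).1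
  have himg : (Finset.univ.filter fun W : Submodule F V => W ⊔ L = Z ∧ r ∉ W) = Set.toFinset (Set.range gr) := by
    ext W
    simp only [Finset.mem_filter, Finset.mem_univ, true_and, Set.mem_toFinset, Set.mem_range]
    constructor
    · rintro ⟨hWZ, hrW⟩
      have hle : W ≤ Z := hWZ ▸ le_sup_left
      have hex : ∀ c : C, ∃ a : F, ((c : Z) : V) + a • r ∈ W := fun c => by
        obtain ⟨b, hb, d, hd, e⟩ := Submodule.mem_sup.1 (hWZ.ge (c : Z).2)
        obtain ⟨a, rfl⟩ := Submodule.mem_span_singleton.1 hd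
        exact ⟨-a, by rw [← e, neg_smul, add_neg_cancel_right]; exact hb⟩
      have huniq : ∀ (x : V) (a b : F), x + a • r ∈ W → x + b • r ∈ W → a = b := fun x a b ha hb => by
        by_contra hne
        refine hrW ?_
        have := W.smul_mem (a - b)⁻¹ (W.sub_mem ha hb)
        rwa [add_sub_add_left_eq_sub, ← sub_smul, inv_smul_smul₀ (sub_ne_zero.2 hne)] at this
      choose φ hφ using hex
      let φl : C →ₗ[F] F :=
        { toFun := φ
          map_add' := fun c d => huniq _ _ _ (hφ (c + d)) (by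
            have := W.add_mem (hφ c) (hφ d)
            convert this using 1
            simp only [Submodule.coe_add]; module)
          map_smul' := fun s c => huniq _ _ _ (hφ (s • c)) (by
            have := W.smul_mem s (hφ c)
            convert this using 1
            simp only [Submodule.coe_smul, RingHom.id_apply, smul_eq_mul]; module) }
      refine ⟨φl, le_antisymm ?_ fun x hx => ?_⟩
      · rintro _ ⟨c, rfl⟩
        exact hφ c
      · obtain ⟨c, a, e⟩ := hdec ⟨x, hle hx⟩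
        have e' : x = ((c : Z) : V) + a • r := congrArg Subtype.val e
        rw [e'] at hx ⊢
        rw [huniq _ _ _ hx (hφ c)]
        exact ⟨c, rfl⟩
    · rintro ⟨φ, rfl⟩
      exact ⟨(hgr φ).1, (hgr φ).2.1⟩
  have hgrinj : Function.Injective gr := fun φ ψ h => LinearMap.ext fun c => by
    obtain ⟨d, hd⟩ : ((c : Z) : V) + φ c • r ∈ gr ψ := h ▸ ⟨c, rfl⟩
    have hd' : ((d : Z) : V) + ψ d • r = ((c : Z) : V) + φ c • r := hd
    obtain ⟨h1, h2⟩ := hind (d - c) (ψ d - φ c) (Subtype.ext (by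
      show ((d : Z) : V) - ((c : Z) : V) + (ψ d - φ c) • r = 0
      rw [sub_smul, add_comm, sub_add_sub_comm, add_comm (ψ d • r), hd', add_comm, sub_self]))
    rw [sub_eq_zero] at h1 h2
    rw [← h2, h1]
  have : Finite V := Module.finite_of_finite F
  have : Finite (C →ₗ[F] F) := Module.finite_of_finite F
  have hcount : (Set.toFinset (Set.range gr)).card = Nat.card F ^ Module.finrank F C := by
    rw [Set.toFinset_card, ← Nat.card_eq_fintype_card, Nat.card_range_of_injective hgrinj,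
      Module.natCard_eq_pow_finrank (K := F), Module.finrank_linearMap, Module.finrank_self, mul_one]
  rw [himg, Finset.sum_congr rfl (g := fun _ => (-1 : ℚ) ^ Module.finrank F C *
    (Nat.card F : ℚ) ^ (Module.finrank F C * (Module.finrank F C - 1) / 2)) fun W hW => by
      obtain ⟨φ, rfl⟩ := Set.mem_range.1 (Set.mem_toFinset.1 hW)
      rw [mu, (hgr φ).2.2], Finset.sum_const, hcount, nsmul_eq_mul, mu, ← hCdim]
  set z := Module.finrank F C
  rw [show (z + 1) * (z + 1 - 1) / 2 = z + z * (z - 1) / 2 by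
    rw [← Finset.sum_range_id, ← Finset.sum_range_id, Finset.sum_range_succ, add_comm], pow_add, pow_succ]
  push_cast
  ring

omit [Finite F] [FiniteDimensional F V] in
/-- A non-trivial unipotent isometry fixes a radical vector of its fixed space. -/
theorem exists_radical {g : Sp B} (hg : IsUni g) (hne : g ≠ 1) :
    ∃ r, r ≠ 0 ∧ (g : V ≃ₗ[F] V) r = r ∧ ∀ y, (g : V ≃ₗ[F] V) y = y → B r y = 0 := by
  classical
  set N : V →ₗ[F] V := ((g : V ≃ₗ[F] V) : V →ₗ[F] V) - 1 with hN
  have hN0 : N ≠ 0 := fun h => hne (Subtype.ext (LinearEquiv.ext fun x => sub_eq_zero.1 (LinearMap.congr_fun h x)))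
  have hex : ∃ k, N ^ k = 0 := hg
  have h2 : 2 ≤ Nat.find hex := by
    by_contra hlt
    push Not at hlt
    have := Nat.find_spec hex
    interval_cases h : Nat.find hex
    · refine hN0 (LinearMap.ext fun x => ?_)
      rw [pow_zero] at this
      exact (LinearMap.congr_fun this (N x)).trans rfl
    · exact hN0 (by simpa using this)
  obtain ⟨k, hk⟩ : ∃ k, Nat.find hex = k + 2 := ⟨Nat.find hex - 2, by omega⟩
  have hk0 := Nat.find_spec hex
  rw [hk] at hk0
  obtain ⟨x, hx⟩ : ∃ x, (N ^ (k + 1)) x ≠ 0 := by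
    by_contra hne'
    push Not at hne'
    exact Nat.find_min hex (show k + 1 < Nat.find hex by omega) (LinearMap.ext hne')
  refine ⟨(N ^ (k + 1)) x, hx, sub_eq_zero.1 ?_, fun y hy => ?_⟩
  · have := LinearMap.congr_fun hk0 x
    rwa [pow_succ', Module.End.mul_apply] at this
  · rw [pow_succ', Module.End.mul_apply]
    show B ((g : V ≃ₗ[F] V) ((N ^ k) x) - (N ^ k) x) y = 0
    rw [map_sub, LinearMap.sub_apply]
    conv_lhs => arg 1; rw [← hy]
    exact sub_eq_zero.2 (g.2 _ _)

open scoped _root_.Classical in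
theorem card_iso_of_finrank (hA : B.IsAlt) (hB : B.Nondegenerate) [Fintype (Submodule F V)] {m w : ℕ}
    (hm : Module.finrank F V = 2 * m) (hw : w ≤ m) :
    ((Finset.univ.filter fun W : Submodule F V => (∀ x ∈ W, ∀ y ∈ W, B x y = 0) ∧ Module.finrank F W = w).card : ℚ) *
        (Dw (Nat.card F : ℚ) w * Pw (Nat.card F : ℚ) (m - w)) = Pw (Nat.card F : ℚ) m := by
  have : Fintype F := Fintype.ofFinite F
  have : Finite V := Module.finite_of_finite F
  set S := Finset.univ.filter fun W : Submodule F V => (∀ x ∈ W, ∀ y ∈ W, B x y = 0) ∧ Module.finrank F W = w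
  have hspan : ∀ s : isoTuples B w, Submodule.span F (Set.range s.1) ∈ S := fun s => by
    refine Finset.mem_filter.2 ⟨Finset.mem_univ _, fun x hx y hy => ?_, ?_⟩
    · refine Submodule.span_induction ?_ (by simp) (fun a b _ _ ha hb => by simp [ha, hb])
        (fun c a _ ha => by simp [ha]) hx
      rintro _ ⟨i, rfl⟩
      refine Submodule.span_induction ?_ (by simp) (fun a b _ _ ha hb => by simp [ha, hb])
        (fun c a _ ha => by simp [ha]) hy
      rintro _ ⟨j, rfl⟩
      exact s.2.2 i j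
    · rw [finrank_span_eq_card s.2.1, Fintype.card_fin]
  have hcard : Nat.card (isoTuples B w) = S.card * ∏ i : Fin w, (Nat.card F ^ w - Nat.card F ^ (i : ℕ)) := by
    rw [← Nat.card_congr (Equiv.sigmaFiberEquiv fun s : isoTuples B w =>
      (⟨Submodule.span F (Set.range s.1), hspan s⟩ : S)), Nat.card_sigma]
    refine (Finset.sum_congr rfl fun W _ => ?_).trans (by rw [Finset.sum_const, Finset.card_univ, Fintype.card_coe, smul_eq_mul])
    obtain ⟨hWi, hWw⟩ := (Finset.mem_filter.1 W.2).2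
    have h2 := card_linearIndependent (K := F) (V := W.1) (k := w) hWw.ge
    rw [hWw] at h2
    rw [Nat.card_eq_fintype_card (α := F), ← h2]
    exact Nat.card_congr
      { toFun := fun s => ⟨fun i => ⟨s.1.1 i, (congrArg Subtype.val s.2).le (Submodule.subset_span ⟨i, rfl⟩)⟩,
          LinearIndependent.of_comp W.1.subtype s.1.2.1⟩
        invFun := fun t => ⟨⟨fun i => (t.1 i : V), t.2.map' _ W.1.ker_subtype, fun i j => hWi _ (t.1 i).2 _ (t.1 j).2⟩,
          Subtype.ext (Submodule.eq_of_le_of_finrank_le (Submodule.span_le.2 (by rintro _ ⟨i, rfl⟩; exact (t.1 i).2))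
            (hWw.trans ((finrank_span_eq_card (R := F) (b := fun i => (t.1 i : V))
              (t.2.map' _ W.1.ker_subtype)).trans (Fintype.card_fin w)).symm).le)⟩
        left_inv := fun s => rfl
        right_inv := fun t => rfl }
  have h := card_isoTuples hA hB hm hw
  rw [hcard] at h
  have h' := congrArg (Nat.cast (R := ℚ)) h
  have hq : 1 ≤ Nat.card F := Nat.card_pos
  have e1 : ∀ k, ((ordProd (Nat.card F) k : ℕ) : ℚ) = Pw (Nat.card F : ℚ) k := fun k => by
    rw [ordProd, Pw, Nat.cast_prod]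
    exact Finset.prod_congr rfl fun i _ => by rw [Nat.cast_sub (Nat.one_le_pow _ _ hq)]; push_cast; rfl
  have e2 : ((∏ i : Fin w, (Nat.card F ^ w - Nat.card F ^ (i : ℕ)) : ℕ) : ℚ) =
      (Nat.card F : ℚ) ^ (w * (w - 1) / 2) * Dw (Nat.card F : ℚ) w := by
    rw [← Finset.sum_range_id, ← Finset.prod_pow_eq_pow_sum, Dw,
      ← Finset.prod_range_reflect (fun i => ((Nat.card F : ℚ) ^ (i + 1) - 1)), ← Finset.prod_mul_distrib,
      Fin.prod_univ_eq_prod_range (fun i => Nat.card F ^ w - Nat.card F ^ i), Nat.cast_prod]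
    refine Finset.prod_congr rfl fun i hi => ?_
    rw [Finset.mem_range] at hi
    rw [Nat.cast_sub (Nat.pow_le_pow_right hq hi.le), show w - 1 - i + 1 = w - i by omega, mul_sub, mul_one,
      ← pow_add, Nat.add_sub_cancel' hi.le]
    push_cast
    rfl
  rw [Nat.cast_mul, Nat.cast_mul, Nat.cast_mul, e1, e1, e2, Nat.cast_pow] at h'
  have hne : (Nat.card F : ℚ) ^ (w * (w - 1) / 2) ≠ 0 := pow_ne_zero _ (Nat.cast_ne_zero.2 (by omega))
  refine mul_left_cancel₀ hne ?_
  linear_combination h'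

/-- Steinberg's count for the symplectic group. -/
theorem card_uni (m : ℕ) : ∀ (V : Type v) [AddCommGroup V] [Module F V] [FiniteDimensional F V]
    (B : BilinForm F V), B.IsAlt → B.Nondegenerate → Module.finrank F V = 2 * m →
    Nat.card {g : Sp B // IsUni g} = Nat.card F ^ (2 * m ^ 2) := by
  induction m using Nat.strong_induction_on with
  | _ m ih =>
  intro V _ _ _ B hA hB hm
  classical
  have : Fintype F := Fintype.ofFinite F
  have : Finite V := Module.finite_of_finite F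
  have : Finite (V ≃ₗ[F] V) := Finite.of_injective _ DFunLike.coe_injective
  have : Fintype {g : Sp B // IsUni g} := Fintype.ofFinite _
  have : Finite (Submodule F V) := Finite.of_injective _ SetLike.coe_injective
  have : Fintype (Submodule F V) := Fintype.ofFinite _
  set q : ℚ := (Nat.card F : ℚ) with hqdef
  have hq : 1 < q := by
    rw [hqdef, Nat.one_lt_cast]
    exact Finite.one_lt_card
  let Iso := Finset.univ.filter fun W : Submodule F V => ∀ x ∈ W, ∀ y ∈ W, B x y = 0
  have hle : ∀ W ∈ Iso, Module.finrank F W ∈ Finset.range (m + 1) := fun W hW => by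
    have h1 : W ≤ B.orthogonal W := fun x hx y hy => (Finset.mem_filter.1 hW).2 y hy x hx
    have h2 := Submodule.finrank_mono h1
    rw [LinearMap.BilinForm.finrank_orthogonal hB, hm] at h2
    rw [Finset.mem_range]; omega
  have group : ∀ φ : ℕ → ℚ, ∑ W ∈ Iso, φ (Module.finrank F W) =
      ∑ w ∈ Finset.range (m + 1), Pw q m / (Dw q w * Pw q (m - w)) * φ w := fun φ => by
    rw [← Finset.sum_fiberwise_of_maps_to hle]
    refine Finset.sum_congr rfl fun w hw => ?_
    rw [Finset.mem_range] at hw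
    rw [Finset.sum_congr rfl fun W hW => by rw [(Finset.mem_filter.1 hW).2], Finset.sum_const, nsmul_eq_mul,
      ← card_iso_of_finrank hA hB hm (show w ≤ m by omega), mul_div_cancel_right₀ _ (mul_ne_zero (Dw_ne hq w) (Pw_ne hq _))]
    congr 3
    ext W
    simp [Iso]
  -- the double count
  have hswap : ∑ W ∈ Iso, mu W * (Nat.card {g : Sp B // IsUni g ∧ ∀ x ∈ W, (g : V ≃ₗ[F] V) x = x} : ℚ) =
      ∑ W ∈ Iso, mu W := by
    have hcount : ∀ W : Submodule F V, (Nat.card {g : Sp B // IsUni g ∧ ∀ x ∈ W, (g : V ≃ₗ[F] V) x = x} : ℚ) =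
        ∑ g : {g : Sp B // IsUni g}, if ∀ x ∈ W, (g.1 : V ≃ₗ[F] V) x = x then (1 : ℚ) else 0 := fun W => by
      rw [Finset.sum_boole, Nat.card_congr (Equiv.subtypeSubtypeEquivSubtypeInter (fun g : Sp B => IsUni g)
        (fun g => ∀ x ∈ W, (g : V ≃ₗ[F] V) x = x)).symm, Nat.card_eq_fintype_card, Fintype.card_subtype]
    simp only [hcount, Finset.mul_sum, mul_ite, mul_one, mul_zero]
    rw [Finset.sum_comm]
    let one : {g : Sp B // IsUni g} := ⟨1, ⟨1, by rw [pow_one]; exact sub_self _⟩⟩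
    rw [Finset.sum_eq_single one]
    · exact Finset.sum_congr rfl fun W _ => if_pos fun x _ => rfl
    · intro g _ hg
      obtain ⟨r, hr0, hr, hrad⟩ := exists_radical g.2 fun h => hg (Subtype.ext h)
      let K : Submodule F V := LinearMap.eqLocus ((g.1 : V ≃ₗ[F] V) : V →ₗ[F] V) LinearMap.id
      rw [← Finset.sum_filter]
      convert sum_mu_eq_zero hA K (r := r) hr hr0 hrad using 2
      ext W
      simp only [Finset.mem_filter, Iso, Finset.mem_univ, true_and]
      exact ⟨fun h => ⟨fun x hx => h.2 x hx, h.1⟩, fun h => ⟨h.2, fun x hx => h.1 hx⟩⟩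
    · simp
  set u : ℚ := (Nat.card {g : Sp B // IsUni g} : ℚ) with hu
  have hval : ∀ W ∈ Iso, mu W * (Nat.card {g : Sp B // IsUni g ∧ ∀ x ∈ W, (g : V ≃ₗ[F] V) x = x} : ℚ) =
      (fun w => if w = 0 then u else (-1) ^ w * q ^ ((m - w) ^ 2 + m ^ 2)) (Module.finrank F W) := fun W hW => by
    have hWi := (Finset.mem_filter.1 hW).2
    have hwm := hle W hW
    rw [Finset.mem_range] at hwm
    simp only
    split_ifs with h0
    · rw [mu, h0, hu, pow_zero, Nat.zero_mul, Nat.zero_div, pow_zero, one_mul, one_mul, Nat.cast_inj]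
      refine Nat.card_congr (Equiv.subtypeEquivRight fun g => and_iff_left fun x hx => ?_)
      rw [Submodule.finrank_eq_zero.1 h0] at hx
      rw [(Submodule.mem_bot F).1 hx, map_zero]
    · rw [card_fix (u := Nat.card F ^ (2 * (m - Module.finrank F W) ^ 2))
        (fun V' _ _ _ B' h1 h2 h3 => ih (m - Module.finrank F W) (by omega) V' B' h1 h2 h3) hA hB hm W hWi rfl, mu,
        ← ex_eq (show Module.finrank F W ≤ m by omega)]
      push_cast
      ring
  rw [Finset.sum_congr rfl hval, group (fun w => if w = 0 then u else (-1) ^ w * q ^ ((m - w) ^ 2 + m ^ 2)),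
    show ∑ W ∈ Iso, mu W = ∑ W ∈ Iso, (fun w => (-1 : ℚ) ^ w * q ^ (w * (w - 1) / 2)) (Module.finrank F W) from rfl,
    group (fun w => (-1 : ℚ) ^ w * q ^ (w * (w - 1) / 2))] at hswap
  have h2 : ∑ w ∈ Finset.range (m + 1), Pw q m / (Dw q w * Pw q (m - w)) * ((-1) ^ w * q ^ (w * (w - 1) / 2)) =
      (-1) ^ m * q ^ (m ^ 2) := by
    calc _ = Pw q m * ∑ w ∈ Finset.range (m + 1), (-1) ^ w * q ^ (w * (w - 1) / 2) / Dw q w * (1 / Pw q (m - w)) := by
          rw [Finset.mul_sum]
          exact Finset.sum_congr rfl fun w _ => by field_simp [Dw_ne hq w, Pw_ne hq (m - w)]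
      _ = _ := by rw [identity_two hq, mul_div_cancel₀ _ (Pw_ne hq m)]
  have h1 : ∑ w ∈ Finset.range (m + 1), Pw q m / (Dw q w * Pw q (m - w)) * ((-1) ^ w * q ^ ((m - w) ^ 2 + m ^ 2)) =
      (-1) ^ m * q ^ (m ^ 2) := by
    calc _ = Pw q m * q ^ (m ^ 2) *
          ∑ w ∈ Finset.range (m + 1), (-1) ^ w / Dw q w * (q ^ ((m - w) ^ 2) / Pw q (m - w)) := by
          rw [Finset.mul_sum]
          exact Finset.sum_congr rfl fun w _ => by rw [pow_add]; field_simp [Dw_ne hq w, Pw_ne hq (m - w)]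
      _ = _ := by rw [identity_one hq]; field_simp [Pw_ne hq m]
  rw [h2, ← h1, Finset.sum_range_succ', Finset.sum_range_succ'] at hswap
  simp only [Nat.succ_ne_zero, if_false, if_true, Nat.sub_zero, pow_zero, add_right_inj] at hswap
  have hone : Pw q m / (Dw q 0 * Pw q m) = 1 := by rw [Dw, Finset.prod_range_zero, one_mul, div_self (Pw_ne hq m)]
  rw [hone, one_mul, one_mul, one_mul, ← two_mul] at hswap
  rw [hu, hqdef, ← Nat.cast_pow, Nat.cast_inj] at hswap
  exact hswap

/-- Steinberg's count for the symplectic matrix group. -/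
theorem card_symplectic_uni {F : Type u} [Field F] [Fintype F] (p : ℕ) [Fact p.Prime] [CharP F p] (m : ℕ) :
    Nat.card {g : ↥(Matrix.symplecticGroup (Fin m) F) // ∃ k : ℕ, orderOf g = p ^ k} =
      Fintype.card F ^ (2 * m ^ 2) := by
  rw [← Nat.card_eq_fintype_card,
    ← card_uni m (Fin m ⊕ Fin m → F) (sympBil m F) (sympBil_isAlt m F) (sympBil_nondegenerate m F) (finrank_sympSpace m F)]
  refine Nat.card_congr ((symplecticEquiv m F).toEquiv.subtypeEquiv fun g => ?_)
  have hp : p.Prime := Fact.out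
  rcases Nat.eq_zero_or_pos m with rfl | hm0
  · refine iff_of_true ⟨0, ?_⟩ ⟨0, Subsingleton.elim _ _⟩
    rw [pow_zero, orderOf_eq_one_iff]
    exact Subtype.ext (Subsingleton.elim _ _)
  have : Nonempty (Fin m ⊕ Fin m) := ⟨.inl ⟨0, hm0⟩⟩
  set M : Matrix (Fin m ⊕ Fin m) (Fin m ⊕ Fin m) F := (g : Matrix (Fin m ⊕ Fin m) (Fin m ⊕ Fin m) F)
  have key : ∀ k : ℕ, (M - 1) ^ p ^ k = M ^ p ^ k - 1 := fun k => by
    rw [sub_pow_char_pow_of_commute (p := p) (h := Commute.one_right _), one_pow]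
  have hMat : IsUni (symplecticEquiv m F g) ↔ IsNilpotent (M - 1) := by
    have e : Matrix.toLinAlgEquiv' (M - 1) =
        ((symplecticEquiv m F g : (Fin m ⊕ Fin m → F) ≃ₗ[F] (Fin m ⊕ Fin m → F)) :
          (Fin m ⊕ Fin m → F) →ₗ[F] (Fin m ⊕ Fin m → F)) - 1 := by
      rw [map_sub, map_one]
      rfl
    rw [IsUni, ← e]
    exact IsNilpotent.map_iff (Matrix.toLinAlgEquiv' (R := F)).injective
  rw [show (symplecticEquiv m F).toEquiv g = symplecticEquiv m F g from rfl, hMat]
  constructor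
  · rintro ⟨k, hk⟩
    refine ⟨p ^ k, ?_⟩
    rw [key, sub_eq_zero, ← hk]
    show M ^ orderOf g = 1
    rw [← SubmonoidClass.coe_pow, pow_orderOf_eq_one]
    rfl
  · rintro ⟨n, hn⟩
    have h1 : (M - 1) ^ p ^ n = 0 := pow_eq_zero_of_le (Nat.lt_pow_self hp.one_lt).le hn
    rw [key, sub_eq_zero] at h1
    have h2 : g ^ p ^ n = 1 := Subtype.ext (by rw [SubmonoidClass.coe_pow]; exact h1)
    obtain ⟨k, -, hk⟩ := (Nat.dvd_prime_pow hp).1 (orderOf_dvd_of_pow_eq_one h2)
    exact ⟨k, hk⟩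

end CfsgLib.Classical.ClassTheory.SpUnipotentCount
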