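import Mathlib

/-!
# Two `q`-series identities for the count of unipotent elements of the symplectic group
-/

set_option autoImplicit false

namespace CfsgLib.Classical.ClassTheory.SpUnipotentCount

open PowerSeries

variable {q : ℚ}

/-- `∏ (q ^ (i+1) - 1)`. -/
def Dw (q : ℚ) (w : ℕ) : ℚ := ∏ i ∈ Finset.range w, (q ^ (i + 1) - 1)

/-- `∏ (q ^ (2 (i+1)) - 1)`. -/
def Pw (q : ℚ) (k : ℕ) : ℚ := ∏ i ∈ Finset.range k, (q ^ (2 * (i + 1)) - 1)

theorem pow_sub_one_ne (hq : 1 < q) {i : ℕ} (hi : i ≠ 0) : q ^ i - 1 ≠ 0 :=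
  (sub_pos.2 (one_lt_pow₀ hq hi)).ne'

theorem Dw_ne (hq : 1 < q) (w : ℕ) : Dw q w ≠ 0 :=
  Finset.prod_ne_zero_iff.2 fun i _ => pow_sub_one_ne hq (by omega)

theorem Pw_ne (hq : 1 < q) (k : ℕ) : Pw q k ≠ 0 :=
  Finset.prod_ne_zero_iff.2 fun i _ => pow_sub_one_ne hq (by omega)

theorem Dw_succ (w : ℕ) : Dw q (w + 1) = Dw q w * (q ^ (w + 1) - 1) := Finset.prod_range_succ _ _

theorem Pw_succ (w : ℕ) : Pw q (w + 1) = Pw q w * (q ^ (2 * (w + 1)) - 1) := Finset.prod_range_succ _ _

theorem coeff_lin_mul (a : ℚ) (A : PowerSeries ℚ) (n : ℕ) :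
    coeff (n + 1) ((1 + C a * X) * A) = coeff (n + 1) A + a * coeff n A := by
  rw [add_mul, one_mul, map_add, mul_assoc, coeff_C_mul, coeff_succ_X_mul]

theorem coeff_zero_lin_mul (a : ℚ) (A : PowerSeries ℚ) : coeff 0 ((1 + C a * X) * A) = coeff 0 A := by
  simp [add_mul, mul_assoc]

/-- A series with `rescale r A = (1 + c X) A` is determined by its constant term. -/
theorem eq_of_eqn {r c : ℚ} (hr : ∀ n : ℕ, r ^ (n + 1) - 1 ≠ 0) {A B : PowerSeries ℚ}
    (hA : rescale r A = (1 + C c * X) * A) (hB : rescale r B = (1 + C c * X) * B) (h0 : coeff 0 A = coeff 0 B) :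
    A = B := by
  ext n
  induction n with
  | zero => exact h0
  | succ n ih =>
    have e1 := congrArg (coeff (n + 1)) hA
    have e2 := congrArg (coeff (n + 1)) hB
    rw [coeff_rescale, coeff_lin_mul] at e1 e2
    refine mul_left_cancel₀ (hr n) ?_
    rw [ih] at e1
    linear_combination e1 - e2

/-- A series with `A = (1 + c X) rescale r A` is determined by its constant term. -/
theorem eq_of_eqn' {r c : ℚ} (hr : ∀ n : ℕ, r ^ (n + 1) - 1 ≠ 0) {A B : PowerSeries ℚ}
    (hA : A = (1 + C c * X) * rescale r A) (hB : B = (1 + C c * X) * rescale r B) (h0 : coeff 0 A = coeff 0 B) :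
    A = B := by
  ext n
  induction n with
  | zero => exact h0
  | succ n ih =>
    have e1 := congrArg (coeff (n + 1)) hA
    have e2 := congrArg (coeff (n + 1)) hB
    rw [coeff_lin_mul, coeff_rescale, coeff_rescale] at e1 e2
    refine mul_left_cancel₀ (hr n) ?_
    rw [ih] at e1
    linear_combination e2 - e1

theorem rescale_lin (r a : ℚ) : rescale r (1 + C a * X) = 1 + C (a * r) * X := by
  have h : rescale r (C a) = C a := by
    ext n
    rcases n with _ | n <;> simp [coeff_rescale, coeff_C]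
  rw [map_add, map_one, map_mul, h, rescale_X, map_mul, mul_assoc]

theorem sq_ne (hq : 1 < q) (n : ℕ) : (q ^ 2) ^ (n + 1) - 1 ≠ 0 := by
  rw [← pow_mul]
  exact pow_sub_one_ne hq (by omega)

theorem identity_one (hq : 1 < q) (m : ℕ) :
    ∑ w ∈ Finset.range (m + 1), (-1) ^ w / Dw q w * (q ^ ((m - w) ^ 2) / Pw q (m - w)) = (-1) ^ m / Pw q m := by
  let A : PowerSeries ℚ := mk fun w => (-1) ^ w / Dw q w
  let B : PowerSeries ℚ := mk fun k => q ^ (k ^ 2) / Pw q k
  let T : PowerSeries ℚ := mk fun k => (-1) ^ k / Pw q k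
  have hA : rescale q A = (1 + C (-1) * X) * A := by
    ext n
    rcases n with _ | n
    · first
        | rw [coeff_zero_lin_mul, coeff_rescale, pow_zero, one_mul]
        | rw [coeff_rescale, coeff_zero_lin_mul, pow_zero, one_mul]
    · rw [coeff_rescale, coeff_lin_mul]
      simp only [A, coeff_mk, Dw_succ]
      have := Dw_ne hq n
      have := pow_sub_one_ne hq (i := n + 1) (by omega)
      field_simp
      ring
  have hB : (1 + C (-q) * X) * rescale (q ^ 2) B = B := by
    ext n
    rcases n with _ | n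
    · rw [coeff_zero_lin_mul, coeff_rescale, pow_zero, one_mul]
    · rw [coeff_lin_mul, coeff_rescale, coeff_rescale]
      simp only [B, coeff_mk, Pw_succ]
      have := Pw_ne hq n
      have := pow_sub_one_ne hq (i := 2 * (n + 1)) (by omega)
      field_simp
      ring
  have hT : rescale (q ^ 2) T = (1 + C (-1) * X) * T := by
    ext n
    rcases n with _ | n
    · first
        | rw [coeff_zero_lin_mul, coeff_rescale, pow_zero, one_mul]
        | rw [coeff_rescale, coeff_zero_lin_mul, pow_zero, one_mul]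
    · rw [coeff_rescale, coeff_lin_mul]
      simp only [T, coeff_mk, Pw_succ]
      have := Pw_ne hq n
      have := pow_sub_one_ne hq (i := 2 * (n + 1)) (by omega)
      field_simp
      ring
  have hA2 : rescale (q ^ 2) A = (1 + C (-q) * X) * ((1 + C (-1) * X) * A) := by
    rw [pow_two, ← rescale_rescale, hA, map_mul, rescale_lin, hA]
    congr 3
    simp
  have hAB : rescale (q ^ 2) (A * B) = (1 + C (-1) * X) * (A * B) := by
    rw [map_mul, hA2]
    calc _ = (1 + C (-1) * X) * A * ((1 + C (-q) * X) * rescale (q ^ 2) B) := by ring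
      _ = _ := by rw [hB]; ring
  have h := congrArg (coeff m) (eq_of_eqn (sq_ne hq) hAB hT (by simp [A, B, T, Dw, Pw]))
  rw [coeff_mul, Finset.Nat.sum_antidiagonal_eq_sum_range_succ_mk] at h
  simpa [A, B, T] using h

theorem identity_two (hq : 1 < q) (m : ℕ) :
    ∑ w ∈ Finset.range (m + 1), (-1) ^ w * q ^ (w * (w - 1) / 2) / Dw q w * (1 / Pw q (m - w)) =
      (-1) ^ m * q ^ (m ^ 2) / Pw q m := by
  let A : PowerSeries ℚ := mk fun w => (-1) ^ w * q ^ (w * (w - 1) / 2) / Dw q w
  let B : PowerSeries ℚ := mk fun k => 1 / Pw q k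
  let T : PowerSeries ℚ := mk fun k => (-1) ^ k * q ^ (k ^ 2) / Pw q k
  have hA : A = (1 + C 1 * X) * rescale q A := by
    ext n
    rcases n with _ | n
    · first
        | rw [coeff_zero_lin_mul, coeff_rescale, pow_zero, one_mul]
        | rw [coeff_rescale, coeff_zero_lin_mul, pow_zero, one_mul]
    · rw [coeff_lin_mul, coeff_rescale, coeff_rescale]
      simp only [A, coeff_mk, Dw_succ]
      have e : (n + 1) * (n + 1 - 1) / 2 = n + n * (n - 1) / 2 := by
        rw [← Finset.sum_range_id, ← Finset.sum_range_id, Finset.sum_range_succ, add_comm]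
      rw [e, pow_add]
      have := Dw_ne hq n
      have := pow_sub_one_ne hq (i := n + 1) (by omega)
      field_simp
      ring
  have hB : rescale (q ^ 2) B = (1 + C 1 * X) * B := by
    ext n
    rcases n with _ | n
    · first
        | rw [coeff_zero_lin_mul, coeff_rescale, pow_zero, one_mul]
        | rw [coeff_rescale, coeff_zero_lin_mul, pow_zero, one_mul]
    · rw [coeff_rescale, coeff_lin_mul]
      simp only [B, coeff_mk, Pw_succ]
      have := Pw_ne hq n
      have := pow_sub_one_ne hq (i := 2 * (n + 1)) (by omega)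
      field_simp
      ring
  have hT : T = (1 + C q * X) * rescale (q ^ 2) T := by
    ext n
    rcases n with _ | n
    · first
        | rw [coeff_zero_lin_mul, coeff_rescale, pow_zero, one_mul]
        | rw [coeff_rescale, coeff_zero_lin_mul, pow_zero, one_mul]
    · rw [coeff_lin_mul, coeff_rescale, coeff_rescale]
      simp only [T, coeff_mk, Pw_succ]
      have := Pw_ne hq n
      have := pow_sub_one_ne hq (i := 2 * (n + 1)) (by omega)
      field_simp
      ring
  have hA2 : A = (1 + C 1 * X) * ((1 + C q * X) * rescale (q ^ 2) A) := by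
    conv_lhs => rw [hA, hA, map_mul, rescale_lin, rescale_rescale, ← pow_two, one_mul]
  have hAB : A * B = (1 + C q * X) * rescale (q ^ 2) (A * B) := by
    rw [map_mul, hB]
    conv_lhs => rw [hA2]
    ring
  have h := congrArg (coeff m) (eq_of_eqn' (sq_ne hq) hAB hT (by simp [A, B, T, Dw, Pw]))
  rw [coeff_mul, Finset.Nat.sum_antidiagonal_eq_sum_range_succ_mk] at h
  simpa [A, B, T] using h

end CfsgLib.Classical.ClassTheory.SpUnipotentCount
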