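import Cfsg.Agent.Lib.Fusion.PSLn
import Mathlib.GroupTheory.Sylow

/-!
# Two Sylow 2-subgroups of an extension of `SL n 2` by an outer automorphism of order two meet
-/

set_option autoImplicit false

namespace CfsgLib.Classical.ClassTheory.SylowMeetGraph

open Matrix
open CfsgLib.Known.AutPSL (SL PSL proj upperUni mem_upperUni card_upperUni)
open scoped Pointwise

variable {n : ℕ} {F : Type*} [Field F] [Fintype F] (hF : Fintype.card F = 2)
include hF

theorem eq_one {c : F} (hc : c ≠ 0) : c = 1 := by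
  classical
  by_contra h
  have h1 : ({0, 1, c} : Finset F).card = 3 :=
    Finset.card_eq_three.2 ⟨0, 1, c, zero_ne_one, hc.symm, Ne.symm h, rfl⟩
  have h2 := Finset.card_le_univ ({0, 1, c} : Finset F)
  omega

theorem charTwo : CharP F 2 := by
  have h := Nat.cast_card_eq_zero F
  rw [hF] at h
  exact CharTwo.of_one_ne_zero_of_two_eq_zero one_ne_zero (by exact_mod_cast h)

theorem proj_injective (hn : 1 ≤ n) : Function.Injective (proj n F) := by
  intro A B h
  have : Nonempty (Fin n) := ⟨⟨0, hn⟩⟩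
  obtain ⟨c, hc0, hc⟩ := (CfsgLib.Known.AutPSL.proj_eq_iff _ _).1 h
  exact Subtype.ext (by rw [hc, eq_one hF hc0, one_smul])

/-- The unitriangular group is a Sylow subgroup. -/
theorem exists_sylow (hn : 1 ≤ n) : ∃ S : Sylow 2 (SL n F), (S : Subgroup (SL n F)) = upperUni n F := by
  have := charTwo hF
  have : Fact (Nat.Prime 2) := ⟨Nat.prime_two⟩
  obtain ⟨S, hS⟩ := CfsgLib.Known.AutPSL.exists_sylow_eq (F := F) hn 2
  refine ⟨S.comapOfInjective (proj n F) (proj_injective hF hn) (by rw [hS]; exact Subgroup.map_le_range _ _), ?_⟩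
  show Subgroup.comap (proj n F) S = _
  rw [hS, Subgroup.comap_map_eq_self_of_injective (proj_injective hF hn)]

/-- The unitriangular group is its own normalizer. -/
theorem mem_of_normalizes (hn : 1 ≤ n) {g : SL n F}
    (hg : g ∈ Subgroup.normalizer (upperUni n F : Set (SL n F))) : g ∈ upperUni n F := by
  have := charTwo hF
  have : Fact (Nat.Prime 2) := ⟨Nat.prime_two⟩
  have hπ : CfsgLib.Fusion.PSLn.IsProj (MonoidHom.id (SL n F)) :=
    ⟨Function.surjective_id, fun A B => ⟨fun h => ⟨1, one_ne_zero, by rw [one_smul]; exact congrArg Subtype.val h.symm⟩,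
      fun ⟨c, hc0, hc⟩ => show A = B from Subtype.ext (by rw [hc, eq_one hF hc0, one_smul])⟩⟩
  have h := CfsgLib.Fusion.PSLn.normalizer_upper (p := 2) hπ hn (g := g) (by rw [Subgroup.map_id]; exact hg)
  refine ⟨fun i j hij => h i j hij, fun i => eq_one hF ?_⟩
  have hd := g.2
  rw [Matrix.det_of_upperTriangular (fun i j hij => h i j hij)] at hd
  exact fun h0 => one_ne_zero (hd.symm.trans (Finset.prod_eq_zero (Finset.mem_univ i) h0))

/-- The reversal permutation matrix. -/
theorem exists_rev : ∃ w : SL n F, ∀ i j : Fin n, w.1 i j = if j = i.rev then 1 else 0 := by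
  refine ⟨⟨Fin.revPerm.permMatrix F, ?_⟩, fun i j => ?_⟩
  · rw [Matrix.det_permutation]
    have h0 : ((Equiv.Perm.sign (Fin.revPerm (n := n)) : ℤ) : F) ≠ 0 := by
      rcases Int.units_eq_one_or (Equiv.Perm.sign (Fin.revPerm (n := n))) with h | h <;> rw [h] <;> simp
    exact eq_one hF h0
  · show Fin.revPerm.permMatrix F i j = _
    simp [Equiv.Perm.permMatrix, PEquiv.toMatrix_apply, eq_comm]

/-- A conjugate of the unitriangular group meeting it trivially comes from the longest Weyl element. -/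
theorem exists_factor {g w : SL n F} (hw : ∀ i j : Fin n, w.1 i j = if j = i.rev then 1 else 0)
    (h : upperUni n F ⊓ MulAut.conj g • upperUni n F = ⊥) :
    ∃ u ∈ upperUni n F, ∃ u' ∈ upperUni n F, g = u * w * u' := by
  classical
  have hginv : ∀ v : Fin n → F, g.1 *ᵥ ((g⁻¹).1 *ᵥ v) = v := fun v => by
    rw [Matrix.mulVec_mulVec, ← Matrix.SpecialLinearGroup.coe_mul, mul_inv_cancel,
      Matrix.SpecialLinearGroup.coe_one, Matrix.one_mulVec]
  let V : ℕ → Submodule F (Fin n → F) := fun i =>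
    { carrier := {v | ∀ a : Fin n, i ≤ (a : ℕ) → v a = 0}
      add_mem' := fun {v v'} h h' a ha => by simp [h a ha, h' a ha]
      zero_mem' := fun a _ => rfl
      smul_mem' := fun c v h a ha => by simp [h a ha] }
  let W : ℕ → Submodule F (Fin n → F) := fun i => (V i).map (Matrix.mulVecLin g.1)
  have hdimV : ∀ i, i ≤ n → i ≤ Module.finrank F (V i) := fun i hi => by
    let φ : (Fin i → F) →ₗ[F] V i :=
      { toFun := fun v => ⟨fun a => if ha : (a : ℕ) < i then v ⟨a, ha⟩ else 0, fun a ha => dif_neg (by omega)⟩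
        map_add' := fun v v' => Subtype.ext (funext fun a => by simp only [Submodule.coe_add, Pi.add_apply]; split <;> simp)
        map_smul' := fun c v => Subtype.ext (funext fun a => by
          simp only [Submodule.coe_smul, Pi.smul_apply, RingHom.id_apply]; split <;> simp) }
    have hφ : Function.Injective φ := fun v v' e => funext fun a => by
      have := congrFun (congrArg Subtype.val e) ⟨a, by omega⟩
      simpa [φ] using this
    have := LinearMap.finrank_le_finrank_of_injective hφ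
    rwa [Module.finrank_fin_fun] at this
  have hdimW : ∀ i, i ≤ n → i ≤ Module.finrank F (W i) := fun i hi => by
    have hinj : Function.Injective (Matrix.mulVecLin g.1) :=
      Matrix.mulVec_injective_iff_isUnit.2 ((Matrix.isUnit_iff_isUnit_det _).2 (by rw [g.2]; exact isUnit_one))
    rw [← (Submodule.equivMapOfInjective _ hinj (V i)).finrank_eq]
    exact hdimV i hi
  -- transversality
  have htr : ∀ i, i ≤ n → V i ⊓ W (n - i) = ⊥ := by
    intro i hi
    by_contra hne
    obtain ⟨v, ⟨hvV, hvW⟩, hv0⟩ := Submodule.exists_mem_ne_zero_of_ne_bot hne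
    have hlt : Module.finrank F ↥(V i ⊔ W (n - i)) < n := by
      have h1 := Submodule.finrank_sup_add_finrank_inf_eq (V i) (W (n - i))
      have h2 : 1 ≤ Module.finrank F ↥(V i ⊓ W (n - i)) := Submodule.one_le_finrank_iff.2 hne
      have h3 : ∀ k, k ≤ n → Module.finrank F (V k) ≤ k := fun k hk => by
        let ψ : V k →ₗ[F] (Fin k → F) := (LinearMap.funLeft F F (Fin.castLE hk)).comp (V k).subtype
        have hψ : Function.Injective ψ := fun v v' e => Subtype.ext (funext fun a => by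
          rcases lt_or_ge (a : ℕ) k with ha | ha
          · exact congrFun e ⟨a, ha⟩
          · rw [v.2 a ha, v'.2 a ha])
        have := LinearMap.finrank_le_finrank_of_injective hψ
        rwa [Module.finrank_fin_fun] at this
      have h4 : Module.finrank F (W (n - i)) ≤ n - i := (Submodule.finrank_map_le _ _).trans (h3 _ (by omega))
      have h5 := h3 i hi
      omega
    have hne' : V i ⊔ W (n - i) ≠ ⊤ := fun h0 => by
      rw [h0, finrank_top, Module.finrank_fin_fun] at hlt; omega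
    obtain ⟨f, hf0, hf⟩ := Submodule.exists_le_ker_of_lt_top _ (lt_top_iff_ne_top.2 hne')
    set φ : Fin n → F := fun a => f (Pi.single a 1) with hφdef
    have hφ : ∀ x, φ ⬝ᵥ x = f x := fun x => by
      conv_rhs => rw [pi_eq_sum_univ' x]
      rw [map_sum]
      simp only [dotProduct, map_smul, smul_eq_mul, hφdef]
      exact Finset.sum_congr rfl fun a _ => mul_comm _ _
    have hkill : ∀ x ∈ V i ⊔ W (n - i), φ ⬝ᵥ x = 0 := fun x hx => by rw [hφ]; exact LinearMap.mem_ker.1 (hf hx)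
    let t : SL n F := ⟨1 + vecMulVec v φ, by
      rw [vecMulVec_eq Unit, det_one_add_replicateCol_mul_replicateRow,
        hkill v (Submodule.mem_sup_left hvV), add_zero]⟩
    have hcommon : ∀ (k : ℕ) (x ψ : Fin n → F), x ∈ V k → (∀ y ∈ V k, ψ ⬝ᵥ y = 0) → ∀ a b : Fin n, b ≤ a →
        vecMulVec x ψ a b = 0 := fun k x ψ hx hψ a b hba => by
      rw [vecMulVec_apply]
      rcases le_or_gt k (a : ℕ) with ha | ha
      · rw [hx a ha, zero_mul]
      · have := hψ (Pi.single b 1) (fun c hc => Pi.single_eq_of_ne (fun e => by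
          subst e; exact absurd hc (by have : (c : ℕ) ≤ a := hba; omega)) _)
        rw [dotProduct_single, mul_one] at this
        rw [this, mul_zero]
    have hU : ∀ M : SL n F, (∀ a b : Fin n, b ≤ a → (M.1 - 1) a b = 0) → M ∈ upperUni n F := fun M hM =>
      ⟨fun a b hab => by simpa [Matrix.one_apply, hab.ne'] using hM a b hab.le, fun a => by
        simpa [sub_eq_zero] using hM a a le_rfl⟩
    have ht1 : t ∈ upperUni n F := hU t fun a b hab => by
      show ((1 + vecMulVec v φ) - 1) a b = 0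
      rw [add_sub_cancel_left]
      exact hcommon i v φ hvV (fun y hy => hkill y (Submodule.mem_sup_left hy)) a b hab
    have ht2 : g⁻¹ * t * g ∈ upperUni n F := hU _ fun a b hab => by
      rw [show (g⁻¹ * t * g).1 - 1 = vecMulVec ((g⁻¹).1 *ᵥ v) (φ ᵥ* g.1) by
        show (g⁻¹).1 * (1 + vecMulVec v φ) * g.1 - 1 = _
        rw [Matrix.mul_add, Matrix.add_mul, Matrix.mul_one, ← Matrix.SpecialLinearGroup.coe_mul, inv_mul_cancel,
          Matrix.SpecialLinearGroup.coe_one, add_sub_cancel_left, mul_vecMulVec, vecMulVec_mul]]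
      refine hcommon (n - i) _ _ ?_ (fun y hy => ?_) a b hab
      · obtain ⟨y, hy, rfl⟩ := hvW
        rw [Matrix.mulVecLin_apply, Matrix.mulVec_mulVec, ← Matrix.SpecialLinearGroup.coe_mul, inv_mul_cancel,
          Matrix.SpecialLinearGroup.coe_one, Matrix.one_mulVec]
        exact hy
      · rw [← dotProduct_mulVec]
        exact hkill _ (Submodule.mem_sup_right ⟨y, hy, rfl⟩)
    have ht : t ∈ (⊥ : Subgroup (SL n F)) := h ▸ ⟨ht1, (Subgroup.mem_smul_pointwise_iff_exists _ _ _).2
      ⟨g⁻¹ * t * g, ht2, by rw [MulAut.smul_def, MulAut.conj_apply]; group⟩⟩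
    have hz := congrArg (fun M : SL n F => M.1) (Subgroup.mem_bot.1 ht)
    change 1 + vecMulVec v φ = 1 at hz
    rw [add_eq_left] at hz
    obtain ⟨a, ha⟩ := Function.ne_iff.1 hv0
    refine hf0 (LinearMap.ext fun x => ?_)
    have : φ = 0 := funext fun b => by
      have := congrFun (congrFun hz a) b
      rw [vecMulVec_apply, Matrix.zero_apply, mul_eq_zero] at this
      exact this.resolve_left ha
    rw [← hφ, this, zero_dotProduct]
    rfl
  -- the common basis
  have hcol : ∀ j : Fin n, ∃ a : Fin n → F, a ∈ V (j + 1) ∧ a ∈ W (n - j) ∧ a j = 1 := by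
    intro j
    obtain ⟨a, ⟨haV, haW⟩, ha0⟩ := Submodule.exists_mem_ne_zero_of_ne_bot (p := V (j + 1) ⊓ W (n - j)) fun h0 => by
      have h1 := Submodule.finrank_sup_add_finrank_inf_eq (V (j + 1)) (W (n - j))
      have h2 := Submodule.finrank_le (V (j + 1) ⊔ W (n - j))
      have h3 := hdimV (j + 1) j.2
      have h4 := hdimW (n - j) (Nat.sub_le _ _)
      rw [h0, finrank_bot] at h1
      rw [Module.finrank_fin_fun] at h2
      omega
    refine ⟨a, haV, haW, eq_one hF fun hj => ha0 ?_⟩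
    rw [← Submodule.mem_bot F, ← htr j j.2.le]
    refine ⟨fun b hb => ?_, haW⟩
    rcases eq_or_lt_of_le hb with hb' | hb'
    · rwa [show b = j from Fin.ext hb'.symm]
    · exact haV b hb'
  choose a haV haW haj using hcol
  let u : SL n F := ⟨Matrix.of fun i j => a j i, by
    rw [Matrix.det_of_upperTriangular (M := Matrix.of fun i j => a j i) (fun i j hij => haV j i hij)]
    exact Finset.prod_eq_one fun i _ => haj i⟩
  have hu : u ∈ upperUni n F := ⟨fun i j hij => haV j i hij, fun i => haj i⟩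
  let u₁ : SL n F := g⁻¹ * u * w
  have hu₁ : ∀ i k : Fin n, k < i → u₁.1 i k = 0 := by
    intro i k hik
    have hcolk : (fun i => u₁.1 i k) = (g⁻¹).1 *ᵥ a k.rev := funext fun i => by
      show ((g⁻¹).1 * u.1 * w.1) i k = _
      rw [Matrix.mul_apply, Finset.sum_eq_single k.rev]
      · rw [hw, if_pos (Fin.rev_rev k).symm, mul_one]
        rfl
      · intro b _ hb
        rw [hw, if_neg (fun e => hb (by rw [e, Fin.rev_rev])), mul_zero]
      · simp
    obtain ⟨y, hy, hya⟩ := haW k.rev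
    rw [congrFun hcolk i, ← hya, Matrix.mulVecLin_apply, Matrix.mulVec_mulVec, ← Matrix.SpecialLinearGroup.coe_mul,
      inv_mul_cancel, Matrix.SpecialLinearGroup.coe_one, Matrix.one_mulVec]
    refine hy i ?_
    rw [Fin.val_rev]
    have : (k : ℕ) < i := hik
    omega
  have hu₁' : u₁ ∈ upperUni n F := ⟨hu₁, fun i => eq_one hF fun h0 => one_ne_zero (α := F) (by
    rw [← u₁.2, Matrix.det_of_upperTriangular (fun i j hij => hu₁ i j hij)]
    exact Finset.prod_eq_zero (Finset.mem_univ i) h0)⟩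
  exact ⟨u, hu, u₁⁻¹, (upperUni n F).inv_mem hu₁', by simp only [u₁, _root_.mul_inv_rev, inv_inv]; group⟩

/-- The Sylow subgroups meeting a given one trivially are conjugate under it. -/
theorem exists_conj_opposite (hn : 1 ≤ n) (P₁ P₂ P₃ : Sylow 2 (SL n F))
    (h₂ : (P₁ : Subgroup (SL n F)) ⊓ P₂ = ⊥) (h₃ : (P₁ : Subgroup (SL n F)) ⊓ P₃ = ⊥) :
    ∃ z ∈ P₁, MulAut.conj z • (P₂ : Subgroup (SL n F)) = P₃ := by
  obtain ⟨S, hS⟩ := exists_sylow hF hn
  obtain ⟨w, hw⟩ := exists_rev (n := n) hF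
  have : Fact (Nat.Prime 2) := ⟨Nat.prime_two⟩
  have hex : ∀ P : Sylow 2 (SL n F), ∃ a : SL n F, (P : Subgroup (SL n F)) = MulAut.conj a • upperUni n F := fun P => by
    obtain ⟨a, ha⟩ := MulAction.exists_smul_eq (SL n F) S P
    exact ⟨a, by rw [← hS, ← ha]; rfl⟩
  obtain ⟨a, ha⟩ := hex P₁
  obtain ⟨b, hb⟩ := hex P₂
  obtain ⟨c, hc⟩ := hex P₃
  have key : ∀ d : SL n F, (P₁ : Subgroup (SL n F)) ⊓ MulAut.conj d • upperUni n F = ⊥ →
      ∃ u ∈ upperUni n F, MulAut.conj d • upperUni n F = MulAut.conj (a * u * w) • upperUni n F := fun d hd => by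
    obtain ⟨u, hu, u', hu', e⟩ := exists_factor hF hw (g := a⁻¹ * d) (by
      rw [ha] at hd
      have := congrArg (MulAut.conj a⁻¹ • ·) hd
      simp only [Subgroup.smul_inf, smul_smul, ← map_mul, inv_mul_cancel, map_one, one_smul,
        Subgroup.smul_bot] at this
      exact this)
    refine ⟨u, hu, ?_⟩
    rw [show d = a * u * w * u' by rw [mul_assoc a, mul_assoc a, ← e, mul_inv_cancel_left], map_mul, ← smul_smul,
      Subgroup.conj_smul_eq_self_of_mem hu']
  rw [hb] at h₂
  rw [hc] at h₃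
  obtain ⟨u, hu, eu⟩ := key b h₂
  obtain ⟨v, hv, ev⟩ := key c h₃
  refine ⟨a * (v * u⁻¹) * a⁻¹, ?_, ?_⟩
  · show _ ∈ (P₁ : Subgroup (SL n F))
    rw [ha]
    exact (Subgroup.mem_smul_pointwise_iff_exists _ _ _).2
      ⟨v * u⁻¹, (upperUni n F).mul_mem hv ((upperUni n F).inv_mem hu), by rw [MulAut.smul_def, MulAut.conj_apply]⟩
  · rw [hb, hc, eu, ev, smul_smul, ← map_mul]
    congr 2
    group

/-- Sylow subgroups are their own normalizers. -/
theorem mem_of_conj_eq (hn : 1 ≤ n) (P : Sylow 2 (SL n F)) {g : SL n F}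
    (hg : MulAut.conj g • (P : Subgroup (SL n F)) = P) : g ∈ P := by
  obtain ⟨S, hS⟩ := exists_sylow hF hn
  have : Fact (Nat.Prime 2) := ⟨Nat.prime_two⟩
  obtain ⟨a, ha⟩ := MulAction.exists_smul_eq (SL n F) S P
  have ha' : (P : Subgroup (SL n F)) = MulAut.conj a • upperUni n F := by rw [← hS, ← ha]; rfl
  rw [ha'] at hg
  have h1 : MulAut.conj (a⁻¹ * g * a) • upperUni n F = upperUni n F := by
    rw [map_mul, map_mul, ← smul_smul, ← smul_smul, hg, smul_smul, ← map_mul, inv_mul_cancel, map_one, one_smul]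
  have h2 : a⁻¹ * g * a ∈ upperUni n F := mem_of_normalizes hF hn
    (Subgroup.mem_normalizer_iff.2 fun x => ⟨fun hx => by
      rw [← h1]
      exact (Subgroup.mem_smul_pointwise_iff_exists _ _ _).2 ⟨x, hx, rfl⟩, fun hx => by
      rw [← h1] at hx
      obtain ⟨y, hy, e⟩ := (Subgroup.mem_smul_pointwise_iff_exists _ _ _).1 hx
      rw [MulAut.smul_def, MulAut.conj_apply] at e
      rwa [← mul_left_cancel (mul_right_cancel e)]⟩)
  show g ∈ (P : Subgroup (SL n F))
  rw [ha']
  exact (Subgroup.mem_smul_pointwise_iff_exists _ _ _).2 ⟨_, h2, by rw [MulAut.smul_def, MulAut.conj_apply]; group⟩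

theorem sylow_meet (hn : 1 ≤ n) {G : Type*} [Group G] [Finite G] (N : Subgroup G) [N.Normal] (e : N ≃* SL n F)
    (hidx : N.index = 2) (H : Sylow 2 G) (x : G) :
    (H : Subgroup G) ⊓ MulAut.conj x • (H : Subgroup G) ≠ ⊥ := by
  intro hbot
  have : Fact (Nat.Prime 2) := ⟨Nat.prime_two⟩
  have hcl : ∀ K : Sylow 2 G, ∃ P : Sylow 2 (SL n F), ∀ m, m ∈ (P : Subgroup (SL n F)) ↔ ((e.symm m : N) : G) ∈ K := by
    intro K
    obtain ⟨Q, hQ⟩ := ((IsPGroup.comap_of_injective K.isPGroup' N.subtype Subtype.val_injective).map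
      e.toMonoidHom).exists_le_sylow
    have hQ' : IsPGroup 2 ((Q : Subgroup (SL n F)).map (N.subtype.comp e.symm.toMonoidHom)) := Q.isPGroup'.map _
    obtain ⟨T, hT⟩ := hQ'.exists_le_sylow
    obtain ⟨g, hg⟩ := MulAction.exists_smul_eq G K T
    have hle : Nat.card (Q : Subgroup (SL n F)) ≤
        Nat.card ((((K : Subgroup G).comap N.subtype).map e.toMonoidHom : Subgroup (SL n F))) := by
      refine Nat.card_le_card_of_injective
        (fun q => ⟨e ⟨g⁻¹ * (e.symm q.1).1 * g, by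
          simpa using (inferInstance : N.Normal).conj_mem _ (e.symm q.1).2 g⁻¹⟩, ⟨⟨_, _⟩, ?_, rfl⟩⟩) ?_
      · show g⁻¹ * (e.symm q.1).1 * g ∈ (K : Subgroup G)
        have hq : (e.symm q.1).1 ∈ (T : Subgroup G) := hT ⟨q.1, q.2, rfl⟩
        rw [← hg] at hq
        obtain ⟨y, hy, ey⟩ := (Subgroup.mem_smul_pointwise_iff_exists _ _ _).1 hq
        rw [MulAut.smul_def, MulAut.conj_apply] at ey
        rwa [← ey, show g⁻¹ * (g * y * g⁻¹) * g = y by group]
      · intro q q' hqq
        have := congrArg (fun z : N => (z : G)) (e.injective (congrArg Subtype.val hqq))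
        simp only at this
        exact Subtype.ext (e.symm.injective (Subtype.ext (mul_left_cancel (mul_right_cancel this))))
    have heq := Subgroup.eq_of_le_of_card_ge hQ hle
    refine ⟨Q, fun m => ?_⟩
    rw [← heq, Subgroup.mem_map_equiv]
    rfl
  let K := x • H
  have hKG : (K : Subgroup G) = MulAut.conj x • (H : Subgroup G) := rfl
  obtain ⟨P₁, hP₁⟩ := hcl H
  obtain ⟨P₂, hP₂⟩ := hcl K
  have hout : ∀ S : Sylow 2 G, ∃ s ∈ S, s ∉ N := fun S => by
    by_contra hne
    push Not at hne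
    have h1 := Subgroup.index_dvd_of_le (show (S : Subgroup G) ≤ N from hne)
    rw [hidx] at h1
    exact Sylow.not_dvd_index S h1
  obtain ⟨h, hh, hhN⟩ := hout H
  have hdis : (P₁ : Subgroup (SL n F)) ⊓ P₂ = ⊥ := by
    refine (Subgroup.eq_bot_iff_forall _).2 fun m hm => ?_
    have h1 : ((e.symm m : N) : G) ∈ (⊥ : Subgroup G) := hbot ▸ ⟨(hP₁ m).1 hm.1, (hP₂ m).1 hm.2⟩
    rw [Subgroup.mem_bot, OneMemClass.coe_eq_one, MulEquiv.map_eq_one_iff] at h1
    exact h1
  let σ : SL n F ≃* SL n F := (e.symm.trans (MulAut.conjNormal h)).trans e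
  have hσ : ∀ m, ((e.symm (σ m) : N) : G) = h * (e.symm m : N) * h⁻¹ := fun m => by
    simp [σ, MulAut.conjNormal_apply]
  have hσ₁ : ∀ m, m ∈ (P₁ : Subgroup (SL n F)) → σ m ∈ (P₁ : Subgroup (SL n F)) := fun m hm => by
    rw [hP₁, hσ]
    exact H.mul_mem (H.mul_mem hh ((hP₁ m).1 hm)) (H.inv_mem hh)
  let P₃ : Sylow 2 (SL n F) := P₂.comapOfInjective σ.symm.toMonoidHom σ.symm.injective
    (fun y _ => ⟨σ y, σ.symm_apply_apply y⟩)
  have hP₃ : ∀ m, m ∈ (P₃ : Subgroup (SL n F)) ↔ σ.symm m ∈ (P₂ : Subgroup (SL n F)) := fun m => Iff.rfl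
  have hdis₃ : (P₁ : Subgroup (SL n F)) ⊓ P₃ = ⊥ := by
    refine (Subgroup.eq_bot_iff_forall _).2 fun m hm => ?_
    have h1 : σ.symm m ∈ (P₁ : Subgroup (SL n F)) := by
      rw [hP₁]
      have h2 := hσ (σ.symm m)
      rw [σ.apply_symm_apply] at h2
      have h3 : ((e.symm (σ.symm m) : N) : G) = h⁻¹ * (e.symm m : N) * h := by rw [h2]; group
      rw [h3]
      exact H.mul_mem (H.mul_mem (H.inv_mem hh) ((hP₁ m).1 hm.1)) hh
    have h2 : σ.symm m ∈ (⊥ : Subgroup (SL n F)) := hdis ▸ ⟨h1, (hP₃ m).1 hm.2⟩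
    rwa [Subgroup.mem_bot, MulEquiv.map_eq_one_iff] at h2
  obtain ⟨z, hz, hz₃⟩ := exists_conj_opposite hF hn P₁ P₂ P₃ hdis hdis₃
  let k : G := ((e.symm z : N) : G)⁻¹ * h
  have hkH : k ∈ H := H.mul_mem (H.inv_mem ((hP₁ z).1 hz)) hh
  have hkN : k ∉ N := fun hk => hhN (by
    have := N.mul_mem (e.symm z).2 hk
    rwa [mul_inv_cancel_left] at this)
  have hk : ∀ m ∈ (P₂ : Subgroup (SL n F)), ∃ m' ∈ (P₂ : Subgroup (SL n F)),
      ((e.symm m' : N) : G) = k * (e.symm m : N) * k⁻¹ := fun m hm => by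
    have h1 : σ m ∈ MulAut.conj z • (P₂ : Subgroup (SL n F)) := by
      rw [hz₃]; exact (hP₃ _).2 (by rw [σ.symm_apply_apply]; exact hm)
    obtain ⟨y, hy, ey⟩ := (Subgroup.mem_smul_pointwise_iff_exists _ _ _).1 h1
    rw [MulAut.smul_def, MulAut.conj_apply] at ey
    refine ⟨y, hy, ?_⟩
    have h2 := hσ m
    rw [← ey, map_mul, map_mul, map_inv, Subgroup.coe_mul, Subgroup.coe_mul, Subgroup.coe_inv] at h2
    simp only [k, _root_.mul_inv_rev, inv_inv]
    rw [show ((e.symm y : N) : G) = ((e.symm z : N) : G)⁻¹ *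
      (((e.symm z : N) : G) * (e.symm y : N) * ((e.symm z : N) : G)⁻¹) * (e.symm z : N) by group, h2]
    group
  obtain ⟨h', hh', hh'N⟩ := hout K
  have hmem : k * h'⁻¹ ∈ N :=
    (Subgroup.mul_mem_iff_of_index_two hidx).2 ⟨fun hk' => absurd hk' hkN, fun hi => absurd (inv_mem_iff.1 hi) hh'N⟩
  let m₀ := e ⟨k * h'⁻¹, hmem⟩
  have hm₀ : m₀ ∈ P₂ := by
    refine mem_of_conj_eq hF hn P₂ (Subgroup.eq_of_le_of_card_ge ?_ ?_)
    · intro y hy
      obtain ⟨m, hm, em⟩ := (Subgroup.mem_smul_pointwise_iff_exists _ _ _).1 hy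
      rw [← em, MulAut.smul_def, MulAut.conj_apply]
      let m₁ : N := (MulAut.conjNormal h'⁻¹ : MulAut N) (e.symm m)
      have hm₁ : e m₁ ∈ (P₂ : Subgroup (SL n F)) := by
        rw [hP₂, e.symm_apply_apply, MulAut.conjNormal_apply, inv_inv]
        exact K.mul_mem (K.mul_mem (K.inv_mem hh') ((hP₂ m).1 hm)) hh'
      obtain ⟨m', hm', em'⟩ := hk _ hm₁
      convert hm' using 1
      apply e.symm.injective
      apply Subtype.ext
      rw [em', e.symm_apply_apply, MulAut.conjNormal_apply]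
      simp only [m₀, map_mul, map_inv, e.symm_apply_apply, Subgroup.coe_mul, Subgroup.coe_inv]
      group
    · exact (Nat.card_congr (Subgroup.equivSMul _ _).toEquiv).le
  have hkK : k ∈ K := by
    have h1 := (hP₂ m₀).1 hm₀
    simp only [m₀, e.symm_apply_apply] at h1
    have := K.mul_mem h1 hh'
    rwa [inv_mul_cancel_right] at this
  have : k ∈ (⊥ : Subgroup G) := hbot ▸ ⟨hkH, hkK⟩
  exact hkN ((Subgroup.mem_bot.1 this) ▸ N.one_mem)

end CfsgLib.Classical.ClassTheory.SylowMeetGraph
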