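import Cfsg.Agent.Lib.Classical.Quad.StandardForms

/-!
# Two Sylow 2-subgroups of the plus type orthogonal group over two elements always meet
-/

set_option autoImplicit false

namespace CfsgLib.Classical.ClassTheory.SylowMeetOrth

open QuadraticMap (polar polarBilin)
open CfsgLib.Classical.Quad

variable {F : Type*} [Field F] {V : Type*} [AddCommGroup V] [Module F V] {Q : QuadraticForm F V}

theorem eq_zero_or_one [Fintype F] (hF : Fintype.card F = 2) (a : F) : a = 0 ∨ a = 1 := by
  classical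
  by_contra h
  push Not at h
  have h1 : ({0, 1, a} : Finset F).card = 3 :=
    Finset.card_eq_three.2 ⟨0, 1, a, zero_ne_one, h.1.symm, h.2.symm, rfl⟩
  have h2 := Finset.card_le_univ ({0, 1, a} : Finset F)
  omega

theorem two_eq_zero [Fintype F] (hF : Fintype.card F = 2) : (2 : F) = 0 := by
  have := Nat.cast_card_eq_zero F
  rw [hF] at this
  exact_mod_cast this

theorem mem_perp {W : Submodule F V} {x : V} :
    x ∈ LinearMap.BilinForm.orthogonal (polarBilin Q) W ↔ ∀ u ∈ W, polar Q u x = 0 := Iff.rfl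

/-- A 2-group fixes something between two invariant subspaces. -/
theorem fix_mod [Fintype F] (hF : Fintype.card F = 2) [FiniteDimensional F V] {H : Subgroup (OQ Q)}
    (hH : IsPGroup 2 H) {A B : Submodule F V} (hBA : B < A)
    (hA : ∀ h ∈ H, ∀ v ∈ A, (h : V ≃ₗ[F] V) v ∈ A) (hB : ∀ h ∈ H, ∀ v ∈ B, (h : V ≃ₗ[F] V) v ∈ B) :
    ∃ x ∈ A, x ∉ B ∧ ∀ h ∈ H, (h : V ≃ₗ[F] V) x - x ∈ B := by
  classical
  have : Fact (Nat.Prime 2) := ⟨Nat.prime_two⟩
  let f : H → V ⧸ B →ₗ[F] V ⧸ B := fun h =>
    B.mapQ B ((h.1 : V ≃ₗ[F] V) : V →ₗ[F] V) (fun v hv => hB _ h.2 v hv)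
  let S := A.map B.mkQ
  have hS : ∀ (h : H) (s : V ⧸ B), s ∈ S → f h s ∈ S := by
    rintro h _ ⟨v, hv, rfl⟩
    exact ⟨(h.1 : V ≃ₗ[F] V) v, hA _ h.2 v hv, rfl⟩
  letI : MulAction H ↥S :=
    { smul := fun h s => ⟨f h s.1, hS h s.1 s.2⟩
      one_smul := fun s => Subtype.ext (by
        show f 1 s.1 = s.1
        obtain ⟨v, hv⟩ := B.mkQ_surjective s.1
        rw [← hv]
        rfl)
      mul_smul := fun h h' s => Subtype.ext (by
        show f (h * h') s.1 = f h (f h' s.1)
        obtain ⟨v, hv⟩ := B.mkQ_surjective s.1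
        rw [← hv]
        rfl) }
  have : Finite ↥S := Module.finite_of_finite F
  have hpos : Module.finrank F ↥S ≠ 0 := by
    intro h0
    rw [Submodule.finrank_eq_zero] at h0
    refine hBA.not_ge fun v hv => (Submodule.Quotient.mk_eq_zero B).1 ?_
    have hv' : B.mkQ v ∈ S := Submodule.mem_map_of_mem hv
    rw [h0, Submodule.mem_bot] at hv'
    exact hv'
  have hdvd : 2 ∣ Nat.card ↥S := by
    rw [Module.natCard_eq_pow_finrank (K := F), Nat.card_eq_fintype_card, hF]
    exact dvd_pow_self 2 hpos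
  have h0 : (0 : ↥S) ∈ MulAction.fixedPoints H ↥S := fun h => Subtype.ext (map_zero (f h))
  obtain ⟨s, hs, hs0⟩ := hH.exists_fixed_point_of_prime_dvd_card_of_fixed_point ↥S hdvd h0
  obtain ⟨x, hxA, hx⟩ := Submodule.mem_map.1 s.2
  refine ⟨x, hxA, fun hxB => hs0 (Subtype.ext ?_), fun h hh => ?_⟩
  · rw [← hx]
    exact ((Submodule.Quotient.mk_eq_zero B).2 hxB).symm
  · have h1 : f ⟨h, hh⟩ s.1 = s.1 := congrArg Subtype.val (hs ⟨h, hh⟩)
    rw [← hx] at h1
    exact (Submodule.Quotient.eq B).1 h1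

variable [Fintype F] (hF : Fintype.card F = 2) [FiniteDimensional F V] (hQ : (polarBilin Q).Nondegenerate)
include hF hQ

theorem polar_self_zero (x : V) : polar Q x x = 0 := by rw [polar_self', two_eq_zero hF, zero_mul]

omit hF in
theorem finrank_perp (W : Submodule F V) :
    Module.finrank F (LinearMap.BilinForm.orthogonal (polarBilin Q) W) = Module.finrank F V - Module.finrank F W :=
  LinearMap.BilinForm.finrank_orthogonal hQ _

/-- An invariant totally singular subspace of each small dimension. -/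
theorem exists_invariant_singular {m : ℕ} (hdim : Module.finrank F V = 2 * m) {H : Subgroup (OQ Q)}
    (hH : IsPGroup 2 H) (k : ℕ) (hk : k + 1 ≤ m) :
    ∃ W : Submodule F V, Module.finrank F W = k ∧ (∀ v ∈ W, Q v = 0) ∧
      ∀ h ∈ H, ∀ v ∈ W, (h : V ≃ₗ[F] V) v ∈ W := by
  induction k with
  | zero => exact ⟨⊥, finrank_bot F V, fun v hv => by rw [(Submodule.mem_bot F).1 hv, QuadraticMap.map_zero],
      fun h _ v hv => by rw [(Submodule.mem_bot F).1 hv, map_zero]; exact zero_mem _⟩
  | succ k ih =>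
    obtain ⟨W, hWk, hWQ, hWH⟩ := ih (by omega)
    let P := LinearMap.BilinForm.orthogonal (polarBilin Q) W
    have hPH : ∀ h ∈ H, ∀ v ∈ P, (h : V ≃ₗ[F] V) v ∈ P := fun h hh v hv u hu => by
      show polar Q u _ = 0
      obtain ⟨u', rfl⟩ := (h : V ≃ₗ[F] V).surjective u
      rw [OQ.map_polar]
      refine hv u' ?_
      have := hWH _ (H.inv_mem hh) _ hu
      rwa [show ((h⁻¹ : OQ Q) : V ≃ₗ[F] V) ((h : V ≃ₗ[F] V) u') = u' from
        LinearEquiv.symm_apply_apply _ _] at this
    have hWperp : ∀ u ∈ W, ∀ v ∈ W, polar Q u v = 0 := fun u hu v hv => by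
      rw [polar, hWQ _ (W.add_mem hu hv), hWQ u hu, hWQ v hv, sub_zero, sub_zero]
    have hWP : W < P := SetLike.lt_iff_le_and_exists.2 ⟨fun v hv u hu => hWperp u hu v hv, by
      by_contra hne
      push Not at hne
      have := Submodule.finrank_mono (show P ≤ W from hne)
      rw [finrank_perp hQ, hdim, hWk] at this
      omega⟩
    -- enlarging by a singular vector fixed modulo `W`
    have key : ∀ x, x ∈ P → x ∉ W → Q x = 0 → (∀ h ∈ H, (h : V ≃ₗ[F] V) x - x ∈ W) →
        ∃ W' : Submodule F V, Module.finrank F W' = k + 1 ∧ (∀ v ∈ W', Q v = 0) ∧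
          ∀ h ∈ H, ∀ v ∈ W', (h : V ≃ₗ[F] V) v ∈ W' := by
      intro x hxP hxW hx hfix
      refine ⟨W ⊔ F ∙ x, ?_, fun v hv => ?_, fun h hh v hv => ?_⟩
      · have h1 := Submodule.finrank_sup_add_finrank_inf_eq W (F ∙ x)
        have h2 : W ⊓ (F ∙ x) = ⊥ := (Submodule.disjoint_span_singleton' (show x ≠ 0 from fun e => hxW (e ▸ W.zero_mem))).2 hxW |>.eq_bot
        rw [h2, finrank_bot, finrank_span_singleton (show x ≠ 0 from fun e => hxW (e ▸ W.zero_mem)), hWk] at h1
        omega
      · obtain ⟨w, hw, y, hy, rfl⟩ := Submodule.mem_sup.1 hv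
        obtain ⟨c, rfl⟩ := Submodule.mem_span_singleton.1 hy
        rw [apply_add, hWQ w hw, apply_smul, hx, polar_smul_right', mem_perp.1 hxP w hw]
        ring
      · obtain ⟨w, hw, y, hy, rfl⟩ := Submodule.mem_sup.1 hv
        obtain ⟨c, rfl⟩ := Submodule.mem_span_singleton.1 hy
        rw [map_add, map_smul, ← sub_add_cancel ((h : V ≃ₗ[F] V) x) x, smul_add, ← add_assoc]
        exact Submodule.add_mem_sup (W.add_mem (hWH h hh w hw) (W.smul_mem c (hfix h hh)))
          (Submodule.smul_mem _ c (Submodule.mem_span_singleton_self x))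
    obtain ⟨x, hxP, hxW, hx⟩ := fix_mod hF hH hWP hPH hWH
    rcases eq_zero_or_one hF (Q x) with hx0 | hx1
    · exact key x hxP hxW hx0 hx
    let A := P ⊓ LinearMap.BilinForm.orthogonal (polarBilin Q) (F ∙ x)
    let B := W ⊔ F ∙ x
    have hAmem : ∀ v, v ∈ A ↔ v ∈ P ∧ polar Q x v = 0 := fun v => by
      constructor
      · exact fun hv => ⟨hv.1, hv.2 x (Submodule.mem_span_singleton_self x)⟩
      · refine fun hv => ⟨hv.1, fun u hu => ?_⟩
        obtain ⟨c, rfl⟩ := Submodule.mem_span_singleton.1 hu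
        show polar Q (c • x) v = 0
        rw [polar_smul_left', hv.2, mul_zero]
    have hBH : ∀ h ∈ H, ∀ v ∈ B, (h : V ≃ₗ[F] V) v ∈ B := fun h hh v hv => by
      obtain ⟨w, hw, y, hy, rfl⟩ := Submodule.mem_sup.1 hv
      obtain ⟨c, rfl⟩ := Submodule.mem_span_singleton.1 hy
      rw [map_add, map_smul, ← sub_add_cancel ((h : V ≃ₗ[F] V) x) x, smul_add, ← add_assoc]
      exact Submodule.add_mem_sup (W.add_mem (hWH h hh w hw) (W.smul_mem c (hx h hh)))
        (Submodule.smul_mem _ c (Submodule.mem_span_singleton_self x))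
    have hperpx : ∀ h ∈ H, ∀ v ∈ P, polar Q ((h : V ≃ₗ[F] V) x) v = polar Q x v := fun h hh v hv => by
      conv_lhs => rw [← sub_add_cancel ((h : V ≃ₗ[F] V) x) x, polar_add_left', mem_perp.1 hv _ (hx h hh), zero_add]
    have hAH : ∀ h ∈ H, ∀ v ∈ A, (h : V ≃ₗ[F] V) v ∈ A := fun h hh v hv => by
      obtain ⟨hvP, hvx⟩ := (hAmem v).1 hv
      refine (hAmem _).2 ⟨hPH h hh v hvP, ?_⟩
      rw [← hperpx h hh _ (hPH h hh v hvP), OQ.map_polar, hvx]
    have hBA : B < A := by
      refine SetLike.lt_iff_le_and_exists.2 ⟨fun v hv => ?_, ?_⟩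
      · obtain ⟨w, hw, y, hy, rfl⟩ := Submodule.mem_sup.1 hv
        obtain ⟨c, rfl⟩ := Submodule.mem_span_singleton.1 hy
        refine (hAmem _).2 ⟨P.add_mem (hWP.le hw) (P.smul_mem c hxP), ?_⟩
        rw [polar_add_right', polar_smul_right', polar_self_zero hF hQ, mul_zero, add_zero,
          QuadraticMap.polar_comm, mem_perp.1 hxP w hw]
      · by_contra hne
        push Not at hne
        have h1 := Submodule.finrank_mono (show A ≤ B from hne)
        have h2 : Module.finrank F B ≤ k + 1 := by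
          have := Submodule.finrank_sup_add_finrank_inf_eq W (F ∙ x)
          have := finrank_span_singleton (K := F) (show x ≠ 0 from fun e => hxW (e ▸ W.zero_mem))
          show Module.finrank F ↥(W ⊔ F ∙ x) ≤ k + 1
          omega
        have h3 := Submodule.finrank_sup_add_finrank_inf_eq P (LinearMap.BilinForm.orthogonal (polarBilin Q) (F ∙ x))
        have h4 := Submodule.finrank_le (P ⊔ LinearMap.BilinForm.orthogonal (polarBilin Q) (F ∙ x))
        have h5 : Module.finrank F P = 2 * m - k := by rw [finrank_perp hQ, hdim, hWk]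
        rw [finrank_perp hQ, finrank_perp hQ, hdim, hWk,
          finrank_span_singleton (K := F) (show x ≠ 0 from fun e => hxW (e ▸ W.zero_mem))] at h3
        rw [hdim] at h4
        change Module.finrank F ↥(P ⊓ LinearMap.BilinForm.orthogonal (polarBilin Q) (F ∙ x)) ≤ _ at h1
        omega
    obtain ⟨y, hyA, hyB, hy⟩ := fix_mod hF hH hBA hAH hBH
    obtain ⟨hyP, hyx⟩ := (hAmem y).1 hyA
    have hyW : ∀ h ∈ H, (h : V ≃ₗ[F] V) y - y ∈ W := fun h hh => by
      obtain ⟨w, hw, z, hz, e⟩ := Submodule.mem_sup.1 (hy h hh)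
      obtain ⟨c, rfl⟩ := Submodule.mem_span_singleton.1 hz
      have e1 : (h : V ≃ₗ[F] V) y = y + (w + c • x) := by rw [e]; abel
      have h1 := OQ.map_apply h y
      rw [e1, apply_add, apply_add, hWQ w hw, apply_smul, hx1, polar_add_right', polar_smul_right',
        polar_smul_right', QuadraticMap.polar_comm (⇑Q) y w, mem_perp.1 hyP w hw, QuadraticMap.polar_comm (⇑Q) y x, hyx,
        mem_perp.1 hxP w hw] at h1
      have hc : c * c = 0 := by linear_combination h1
      rw [mul_self_eq_zero.1 hc, zero_smul, add_zero] at e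
      exact e ▸ hw
    rcases eq_zero_or_one hF (Q y) with hy0 | hy1
    · exact key y hyP (fun h => hyB (Submodule.mem_sup_left h)) hy0 hyW
    · refine key (x + y) (P.add_mem hxP hyP) (fun h => hyB ?_) ?_ fun h hh => ?_
      · rw [show y = (x + y) + (-1 : F) • x by module]
        exact Submodule.add_mem_sup h (Submodule.smul_mem _ _ (Submodule.mem_span_singleton_self x))
      · rw [apply_add, hx1, hy1, hyx, add_zero]
        linear_combination two_eq_zero hF
      · rw [map_add, add_sub_add_comm]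
        exact W.add_mem (hx h hh) (hyW h hh)

/-- The elements fixing a totally singular subspace of dimension `m - 1` pointwise have 2-power order. -/
theorem pow_eight {m : ℕ} (hdim : Module.finrank F V = 2 * m) (hm : 1 ≤ m) {L : Submodule F V}
    (hL : Module.finrank F L = m) (hLQ : ∀ v ∈ L, Q v = 0) {W : Submodule F V} (hW : Module.finrank F W + 1 = m)
    (hWQ : ∀ v ∈ W, Q v = 0) {g : OQ Q} (hg : ∀ v ∈ W, (g : V ≃ₗ[F] V) v = v) : g ^ 8 = 1 := by
  let P := LinearMap.BilinForm.orthogonal (polarBilin Q) W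
  have hWperp : ∀ u ∈ W, ∀ v ∈ W, polar Q u v = 0 := fun u hu v hv => by
    rw [polar, hWQ _ (W.add_mem hu hv), hWQ u hu, hWQ v hv, sub_zero, sub_zero]
  have hWP : W ≤ P := fun v hv u hu => hWperp u hu v hv
  have hP : Module.finrank F P = m + 1 := by rw [finrank_perp hQ, hdim]; omega
  obtain ⟨z, hzP, hzQ, hzW⟩ : ∃ z ∈ P, Q z = 0 ∧ z ∉ W := by
    by_contra hne
    push Not at hne
    have hle : L ⊓ P ≤ L ⊓ W := fun v hv => ⟨hv.1, hne v hv.2 (hLQ v hv.1)⟩
    let φ : L →ₗ[F] Module.Dual F ↥W := ((polarBilin Q).compl₂ W.subtype).comp L.subtype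
    have hker : ∀ v : L, φ v = 0 → (v : V) ∈ L ⊓ W := fun v hv => hle ⟨v.2, fun u hu => by
      show polar Q u v = 0
      rw [QuadraticMap.polar_comm]
      exact LinearMap.congr_fun hv ⟨u, hu⟩⟩
    have hrange : LinearMap.range φ ≤ ((L ⊓ W).comap W.subtype).dualAnnihilator := by
      rintro _ ⟨v, rfl⟩
      refine (Submodule.mem_dualAnnihilator _).2 fun u hu => ?_
      show polar Q (v : V) (u : V) = 0
      have hu1 : (u : V) ∈ L := hu.1
      rw [polar, hLQ _ (L.add_mem v.2 hu1), hLQ _ v.2, hLQ _ hu1, sub_zero, sub_zero]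
    have h1 := LinearMap.finrank_range_add_finrank_ker φ
    have h2 := Submodule.finrank_mono hrange
    have h3 := Subspace.finrank_add_finrank_dualAnnihilator_eq ((L ⊓ W).comap W.subtype)
    have h4 : Module.finrank F (LinearMap.ker φ) ≤ Module.finrank F ↥(L ⊓ W) :=
      LinearMap.finrank_le_finrank_of_injective (f := ((L.subtype.comp (LinearMap.ker φ).subtype).codRestrict _
        fun v => hker v.1 v.2)) fun a b e => Subtype.ext (Subtype.ext (congrArg (Subtype.val (p := fun v => v ∈ L ⊓ W)) e))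
    have h6 := Subspace.dual_finrank_eq (K := F) (V := ↥W)
    have h5 : Module.finrank F ↥((L ⊓ W).comap W.subtype) = Module.finrank F ↥(L ⊓ W) :=
      (Submodule.comapSubtypeEquivOfLe inf_le_right).finrank_eq
    omega
  obtain ⟨z', hz'Q, hzz', hz'W⟩ := exists_singular_partner hQ hzQ (fun u hu => hzP u hu) hzW
  have hz'P : z' ∈ P := hz'W
  have hd2 : ∀ v ∈ P, ∃ a b : F, v - (a • z + b • z') ∈ W := by
    have hle : W ⊔ Submodule.span F {z, z'} ≤ P :=
      sup_le hWP (Submodule.span_le.2 (by intro v hv; rcases hv with rfl | rfl <;> assumption))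
    have heq : W ⊔ Submodule.span F {z, z'} = P := by
      refine Submodule.eq_of_le_of_finrank_le hle ?_
      have hindep : LinearIndependent F ![z, z'] := by
        rw [LinearIndependent.pair_iff]
        intro s t hst
        have e1 := congrArg (fun v => polar Q z v) hst
        have e2 := congrArg (fun v => polar Q z' v) hst
        simp only [polar_add_right', polar_smul_right', hzz', polar_self_zero hF hQ, QuadraticMap.polar_zero_right,
          QuadraticMap.polar_comm (⇑Q) z' z, mul_zero, mul_one, zero_add, add_zero] at e1 e2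
        exact ⟨e2, e1⟩
      have h2 : Module.finrank F (Submodule.span F {z, z'}) = 2 := by
        have := finrank_span_eq_card hindep
        rwa [Matrix.range_cons_cons_empty, Fintype.card_fin] at this
      have hinf : W ⊓ Submodule.span F {z, z'} = ⊥ := by
        refine (Submodule.eq_bot_iff _).2 fun v hv => ?_
        obtain ⟨a, b, rfl⟩ := Submodule.mem_span_pair.1 hv.2
        have e1 : polar Q (a • z + b • z') z = 0 := hzP _ hv.1
        have e2 : polar Q (a • z + b • z') z' = 0 := hz'W _ hv.1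
        simp only [polar_add_left', polar_smul_left', hzz', polar_self_zero hF hQ,
          QuadraticMap.polar_comm (⇑Q) z' z, mul_zero, mul_one, zero_add, add_zero] at e1 e2
        rw [e1, e2, zero_smul, zero_smul, add_zero]
      have h3 := Submodule.finrank_sup_add_finrank_inf_eq W (Submodule.span F {z, z'})
      rw [hinf, finrank_bot, h2] at h3
      omega
    intro v hv
    rw [← heq] at hv
    obtain ⟨w, hw, y, hy, rfl⟩ := Submodule.mem_sup.1 hv
    obtain ⟨a, b, rfl⟩ := Submodule.mem_span_pair.1 hy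
    exact ⟨a, b, by rw [add_sub_cancel_right]; exact hw⟩
  let T : V →ₗ[F] V := ((g : V ≃ₗ[F] V) : V →ₗ[F] V)
  have hVP : ∀ v, T v - v ∈ P := fun v u hu => by
    show polar Q u (T v - v) = 0
    rw [show T v - v = T v + (-1 : F) • v by module, polar_add_right', polar_smul_right',
      show polar Q u (T v) = polar Q u v by
        conv_lhs => rw [← hg u hu]
        exact OQ.map_polar g u v]
    ring
  have hTP : ∀ v ∈ P, T v ∈ P := fun v hv => by
    rw [show T v = (T v - v) + v by abel]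
    exact P.add_mem (hVP v) hv
  have hform : ∀ v ∈ P, ∀ a b : F, v - (a • z + b • z') ∈ W → Q v = a * b := fun v hv a b hab => by
    rw [show v = (a • z + b • z') + (v - (a • z + b • z')) by abel, apply_add, hWQ _ hab,
      QuadraticMap.polar_comm (⇑Q) (a • z + b • z'),
      mem_perp.1 (P.add_mem (P.smul_mem a hzP) (P.smul_mem b hz'P)) _ hab, apply_add, apply_smul, apply_smul,
      hzQ, hz'Q, polar_smul_left', polar_smul_right', hzz']
    ring
  have hTWW : ∀ u ∈ W, T u = u := hg
  obtain ⟨a₁, b₁, h₁⟩ := hd2 _ (hTP z hzP)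
  obtain ⟨a₂, b₂, h₂⟩ := hd2 _ (hTP z' hz'P)
  have q₁ : a₁ * b₁ = 0 := by
    rw [← hform _ (hTP z hzP) _ _ h₁]; exact (OQ.map_apply g z).trans hzQ
  have q₂ : a₂ * b₂ = 0 := by
    rw [← hform _ (hTP z' hz'P) _ _ h₂]; exact (OQ.map_apply g z').trans hz'Q
  have q₃ : a₁ * b₂ + b₁ * a₂ = 1 := by
    have e := (OQ.map_polar g z z').trans hzz'
    change polar Q (T z) (T z') = 1 at e
    have hc : a₁ • z + b₁ • z' ∈ P := P.add_mem (P.smul_mem _ hzP) (P.smul_mem _ hz'P)
    have e0 : polar Q (a₁ • z + b₁ • z') (T z' - (a₂ • z + b₂ • z')) = 0 := by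
      rw [QuadraticMap.polar_comm]; exact mem_perp.1 hc _ h₂
    rw [show T z = (a₁ • z + b₁ • z') + (T z - (a₁ • z + b₁ • z')) by abel, polar_add_left',
      mem_perp.1 (hTP z' hz'P) _ h₁, show T z' = (a₂ • z + b₂ • z') + (T z' - (a₂ • z + b₂ • z')) by abel, polar_add_right',
      e0] at e
    simp only [polar_add_left', polar_add_right', polar_smul_left', polar_smul_right', hzz',
      polar_self_zero hF hQ, QuadraticMap.polar_comm (⇑Q) z' z] at e
    linear_combination e
  have hTW : ∀ v ∈ P, T (T v) - v ∈ W := by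
    intro v hv
    obtain ⟨a, b, hab⟩ := hd2 v hv
    have hz2 : T (T z) - z ∈ W ∧ T (T z') - z' ∈ W := by
      have e : ∀ (x : V) (c d : F), T x - (c • z + d • z') ∈ W →
          T (T x) - ((c * a₁ + d * a₂) • z + (c * b₁ + d * b₂) • z') ∈ W := fun x c d h => by
        rw [show T (T x) - ((c * a₁ + d * a₂) • z + (c * b₁ + d * b₂) • z') =
          T (T x - (c • z + d • z')) + c • (T z - (a₁ • z + b₁ • z')) + d • (T z' - (a₂ • z + b₂ • z')) by
            simp only [map_sub, map_add, map_smul]; module, hTWW _ h]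
        exact W.add_mem (W.add_mem h (W.smul_mem _ h₁)) (W.smul_mem _ h₂)
      have e1 := e z a₁ b₁ h₁
      have e2 := e z' a₂ b₂ h₂
      rcases eq_zero_or_one hF a₁ with rfl | rfl <;> rcases eq_zero_or_one hF b₁ with rfl | rfl <;>
        rcases eq_zero_or_one hF a₂ with rfl | rfl <;> rcases eq_zero_or_one hF b₂ with rfl | rfl <;>
        simp_all
    have hlin : T (T v) - v =
        (T (T (v - (a • z + b • z'))) - (v - (a • z + b • z'))) + a • (T (T z) - z) + b • (T (T z') - z') := by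
      simp only [map_sub, map_add, map_smul]; module
    rw [hlin, hTWW _ hab, hTWW _ hab, sub_self, zero_add]
    exact W.add_mem (W.smul_mem _ hz2.1) (W.smul_mem _ hz2.2)
  let N : V →ₗ[F] V := T * T - 1
  have hN3 : N * (N * N) = 0 := LinearMap.ext fun v => by
    have h1 : ∀ v, N v = T (T v) - v := fun v => rfl
    have h2 : N v ∈ P := by
      rw [h1, show T (T v) - v = (T (T v) - T v) + (T v - v) by abel]
      exact P.add_mem (hVP _) (hVP v)
    have h3 : N (N v) ∈ W := h1 _ ▸ hTW _ h2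
    show N (N (N v)) = 0
    rw [h1, show T (N (N v)) = N (N v) from hg _ h3, show T (N (N v)) = N (N v) from hg _ h3, sub_self]
  have hT8 : T ^ 8 = 1 := by
    have hN4 : N ^ 4 = 0 := by rw [show N ^ 4 = N * (N * N) * N by noncomm_ring, hN3, zero_mul]
    have h2' : ∀ f : V →ₗ[F] V, f + f = 0 := fun f => by
      rw [← two_smul F f, two_eq_zero hF, zero_smul]
    have hneg : ∀ f : V →ₗ[F] V, -f = f := fun f => (eq_neg_of_add_eq_zero_left (h2' f)).symm
    have e2 : ∀ f : V →ₗ[F] V, (f + 1) * (f + 1) = f * f + 1 := fun f => by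
      rw [show (f + 1) * (f + 1) = f * f + 1 + (f + f) by noncomm_ring, h2' f, add_zero]
    have hNT : T * T = N + 1 := by simp [N]
    calc T ^ 8 = (T * T) * (T * T) * ((T * T) * (T * T)) := by noncomm_ring
      _ = (N * N + 1) * (N * N + 1) := by rw [hNT, e2]
      _ = N * N * (N * N) + 1 := e2 _
      _ = 1 := by rw [show N * N * (N * N) = N ^ 4 by noncomm_ring, hN4, zero_add]
  refine Subtype.ext (LinearEquiv.ext fun v => ?_)
  exact LinearMap.congr_fun hT8 v

/-- Maximal 2-subgroups of the isometry group meet all their conjugates. -/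
theorem exists_common {m : ℕ} (hdim : Module.finrank F V = 2 * m) (hm : 2 ≤ m) {L : Submodule F V}
    (hL : Module.finrank F L = m) (hLQ : ∀ v ∈ L, Q v = 0) {H : Subgroup (OQ Q)} (hH : IsPGroup 2 H)
    (hmax : ∀ K : Subgroup (OQ Q), IsPGroup 2 K → H ≤ K → K = H) (x : OQ Q) :
    ∃ g ∈ H, x⁻¹ * g * x ∈ H ∧ g ≠ 1 := by
  obtain ⟨W, hW, hWQ, hWH⟩ := exists_invariant_singular hF hQ hdim hH (m - 1) (by omega)
  let K : Subgroup (OQ Q) :=
    { carrier := {g | ∀ v ∈ W, (g : V ≃ₗ[F] V) v = v}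
      mul_mem' := fun {a b} ha hb v hv => by
        show (a : V ≃ₗ[F] V) ((b : V ≃ₗ[F] V) v) = v
        rw [hb v hv, ha v hv]
      one_mem' := fun v _ => rfl
      inv_mem' := fun {a} ha v hv => by
        show (a : V ≃ₗ[F] V).symm v = v
        rw [LinearEquiv.symm_apply_eq, ha v hv] }
  have hK : IsPGroup 2 K := fun g => ⟨3, Subtype.ext (pow_eight hF hQ hdim (by omega) hL hLQ (by omega) hWQ g.2)⟩
  have hnorm : H ≤ Subgroup.normalizer (K : Set (OQ Q)) := by
    intro h hh
    refine Subgroup.mem_normalizer_iff.2 fun g => ⟨fun hg v hv => ?_, fun hg v hv => ?_⟩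
    · show (h : V ≃ₗ[F] V) ((g : V ≃ₗ[F] V) ((h : V ≃ₗ[F] V).symm v)) = v
      have hv' : (h : V ≃ₗ[F] V).symm v ∈ W := hWH _ (H.inv_mem hh) v hv
      rw [hg _ hv']
      exact LinearEquiv.apply_symm_apply _ _
    · have := hg _ (hWH h hh v hv)
      change (h : V ≃ₗ[F] V) ((g : V ≃ₗ[F] V) ((h : V ≃ₗ[F] V).symm ((h : V ≃ₗ[F] V) v))) = _ at this
      rw [LinearEquiv.symm_apply_apply] at this
      exact (h : V ≃ₗ[F] V).injective this
  have hKH : K ≤ H := by
    have := hmax (H ⊔ K) (hH.to_sup_of_normal_right' hK hnorm) le_sup_left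
    exact this ▸ le_sup_right
  let U := W ⊔ W.map ((x : V ≃ₗ[F] V) : V →ₗ[F] V)
  let X := LinearMap.BilinForm.orthogonal (polarBilin Q) U
  have hX : 2 ≤ Module.finrank F X := by
    have h1 := Submodule.finrank_sup_add_finrank_inf_eq W (W.map ((x : V ≃ₗ[F] V) : V →ₗ[F] V))
    have h2 : Module.finrank F (W.map ((x : V ≃ₗ[F] V) : V →ₗ[F] V)) = m - 1 := by
      rw [← hW]; exact LinearEquiv.finrank_map_eq (x : V ≃ₗ[F] V) W
    have h3 : Module.finrank F X = 2 * m - Module.finrank F U := by rw [finrank_perp hQ, hdim]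
    change Module.finrank F U + _ = _ at h1
    omega
  have fin : ∀ g : OQ Q, (∀ v ∈ U, (g : V ≃ₗ[F] V) v = v) → g ∈ H ∧ x⁻¹ * g * x ∈ H := fun g hg =>
    ⟨hKH fun v hv => hg v (Submodule.mem_sup_left hv), hKH fun v hv => by
      show (x : V ≃ₗ[F] V).symm ((g : V ≃ₗ[F] V) ((x : V ≃ₗ[F] V) v)) = v
      have hv' : (x : V ≃ₗ[F] V) v ∈ U := Submodule.mem_sup_right ⟨v, hv, rfl⟩
      rw [hg _ hv']
      exact LinearEquiv.symm_apply_apply _ _⟩
  by_cases hns : ∃ z ∈ X, Q z ≠ 0
  · obtain ⟨z, hzX, hz⟩ := hns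
    have h := fin (refl hz) fun v hv => by rw [refl_apply, mem_perp.1 hzX v hv, mul_zero, zero_smul, sub_zero]
    refine ⟨refl hz, h.1, h.2, fun e => ?_⟩
    obtain ⟨y, hy, -⟩ := exists_sep_polar hQ (U := ⊥) (x := z)
      (fun h0 => hz (by rw [(Submodule.mem_bot F).1 h0, QuadraticMap.map_zero]))
    have h1 : (refl hz : V ≃ₗ[F] V) y = y := by rw [e]; rfl
    rw [refl_apply, sub_eq_self, QuadraticMap.polar_comm, hy, mul_one] at h1
    rcases smul_eq_zero.1 h1 with h1 | h1
    · exact hz (inv_eq_zero.1 h1)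
    · exact hz (by rw [h1, QuadraticMap.map_zero])
  push Not at hns
  obtain ⟨b, hbX, hb0⟩ : ∃ b ∈ X, b ≠ 0 := Submodule.exists_mem_ne_zero_of_ne_bot fun h => by
    rw [h, finrank_bot] at hX; omega
  obtain ⟨a, haX, hab⟩ : ∃ a ∈ X, a ∉ (F ∙ b) := by
    by_contra hne
    push Not at hne
    have := Submodule.finrank_mono (show X ≤ F ∙ b from hne)
    rw [finrank_span_singleton hb0] at this
    omega
  have hperp : polar Q a b = 0 := by
    rw [polar, hns _ (X.add_mem haX hbX), hns _ haX, hns _ hbX, sub_zero, sub_zero]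
  obtain ⟨g, hg⟩ := exists_eichler hQ (hns a haX) hperp
  have h := fin g fun v hv => by rw [hg, mem_perp.1 hbX v hv, mem_perp.1 haX v hv, mul_zero, sub_zero, zero_smul, neg_zero, zero_smul,
    add_zero, add_zero]
  refine ⟨g, h.1, h.2, fun e => ?_⟩
  obtain ⟨y, hy1, hy2⟩ := exists_sep_polar hQ hab
  have h1 : (g : V ≃ₗ[F] V) y = y := by rw [e]; rfl
  rw [hg, hns b hbX, zero_mul, sub_zero, QuadraticMap.polar_comm (⇑Q) y a, hy1,
    QuadraticMap.polar_comm (⇑Q) y b, hy2 b (Submodule.mem_span_singleton_self b), zero_smul, add_zero, neg_smul,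
    one_smul, add_eq_left, neg_eq_zero] at h1
  exact hb0 h1

omit hQ in
open scoped Pointwise in
/-- Two Sylow 2-subgroups of the plus type orthogonal group over two elements meet. -/
theorem sylow_meet {m : ℕ} (hm : 2 ≤ m) (H : Sylow 2 (Cfsg.isometryGroup F (Cfsg.quadFormPlus m F)))
    (x : Cfsg.isometryGroup F (Cfsg.quadFormPlus m F)) :
    (H : Subgroup (Cfsg.isometryGroup F (Cfsg.quadFormPlus m F))) ⊓
      MulAut.conj x • (H : Subgroup (Cfsg.isometryGroup F (Cfsg.quadFormPlus m F))) ≠ ⊥ := by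
  classical
  revert H x
  rw [← coe_qPlus]
  intro H x
  let e := oEquiv (qPlus m F)
  let L : Submodule F (Fin m ⊕ Fin m → F) := LinearMap.range (LinearMap.funLeft F F
    (Sum.elim (fun i => some i) (fun _ => none) : Fin m ⊕ Fin m → Option (Fin m)) ∘ₗ
      LinearMap.pi (fun o => o.elim 0 LinearMap.proj))
  have hL : Module.finrank F L = m := by
    rw [LinearMap.finrank_range_of_inj, Module.finrank_fin_fun]
    intro a b hab
    funext i
    simpa [LinearMap.funLeft_apply] using congrFun hab (Sum.inl i)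
  have hLQ : ∀ v ∈ L, qPlus m F v = 0 := by
    rintro _ ⟨a, rfl⟩
    simp [coe_qPlus, Cfsg.quadFormPlus, LinearMap.funLeft_apply]
  obtain ⟨g, hgH, hgx, hg1⟩ := exists_common hF (qPlus_nondeg m)
    (by rw [Module.finrank_pi, Fintype.card_sum, Fintype.card_fin, two_mul]) hm hL hLQ
    (H := (H : Subgroup _).map e.toMonoidHom) (H.isPGroup'.map _)
    (fun K hK hle => by
      have h := H.is_maximal' (hK.comap_of_injective e.toMonoidHom e.injective) (Subgroup.map_le_iff_le_comap.1 hle)
      rw [← h, Subgroup.map_comap_eq_self_of_surjective e.surjective]) (e x)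
  intro hbot
  obtain ⟨g₀, hg₀, rfl⟩ := hgH
  obtain ⟨g₁, hg₁, he⟩ := hgx
  have he' : g₁ = x⁻¹ * g₀ * x := e.injective (by rw [map_mul, map_mul, map_inv]; exact he)
  refine hg1 ?_
  have : g₀ = 1 := by
    rw [← Subgroup.mem_bot, ← hbot]
    refine ⟨hg₀, (Subgroup.mem_smul_pointwise_iff_exists _ _ _).2 ⟨g₁, hg₁, ?_⟩⟩
    rw [MulAut.smul_def, MulAut.conj_apply, he']
    group
  rw [this, map_one]

end CfsgLib.Classical.ClassTheory.SylowMeetOrth
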