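import Mathlib

/-!
# Classes and centralizers in the fixed group of `g ↦ (τ g)⁻¹`

`G` is embedded as the set `τ g * g = 1` for an involutive anti-automorphism `τ`. For an element with
abelian centralizer the classes in one ambient class correspond to fixed elements of the centralizer
modulo norms.
-/

set_option autoImplicit false

namespace CfsgLib.Classical.ClassTheory

variable {W : Type*} [Group W] [Finite W] (τ : W → W) (hmul : ∀ a b, τ (a * b) = τ b * τ a)
  (hτ : ∀ a, τ (τ a) = a) {x : W} (hx : τ x * x = 1)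
  (hab : ∀ a ∈ Subgroup.centralizer ({x} : Set W), ∀ b ∈ Subgroup.centralizer ({x} : Set W), a * b = b * a)

include hmul in
omit [Finite W] in
theorem anti_one : τ 1 = 1 := by
  have h := hmul 1 1
  rw [mul_one] at h
  exact left_eq_mul.1 h

include hmul in
omit [Finite W] in
theorem anti_inv (a : W) : τ a⁻¹ = (τ a)⁻¹ := by
  refine eq_inv_of_mul_eq_one_right ?_
  rw [← hmul, inv_mul_cancel, anti_one τ hmul]

include hmul hτ hx in
omit [Finite W] in
theorem centralizer_stable {a : W} (ha : a ∈ Subgroup.centralizer ({x} : Set W)) :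
    τ a ∈ Subgroup.centralizer ({x} : Set W) := by
  rw [Subgroup.mem_centralizer_singleton_iff] at ha ⊢
  have hxi : τ x = x⁻¹ := eq_inv_of_mul_eq_one_left hx
  have h := congrArg τ ha
  rw [hmul, hmul, hxi] at h
  calc τ a * x = x * (x⁻¹ * τ a) * x := by group
    _ = x * τ a := by rw [h]; group

/-- The fixed elements of the centralizer. -/
def symSubgroup : Subgroup W where
  carrier := {c | c ∈ Subgroup.centralizer ({x} : Set W) ∧ τ c = c}
  one_mem' := ⟨Subgroup.one_mem _, anti_one τ hmul⟩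
  mul_mem' {a b} ha hb := ⟨Subgroup.mul_mem _ ha.1 hb.1, by rw [hmul, ha.2, hb.2, hab _ hb.1 _ ha.1]⟩
  inv_mem' {a} ha := ⟨Subgroup.inv_mem _ ha.1, by rw [anti_inv τ hmul, ha.2]⟩

/-- The norm map on the centralizer. -/
def normHom : Subgroup.centralizer ({x} : Set W) →* W where
  toFun z := τ z * z
  map_one' := by simp [anti_one τ hmul]
  map_mul' a b := by
    have h1 := hab _ (centralizer_stable τ hmul hτ hx b.2) _
      (Subgroup.mul_mem _ (centralizer_stable τ hmul hτ hx a.2) a.2)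
    calc τ ((a : W) * b) * ((a : W) * b) = τ b * (τ a * a) * b := by rw [hmul]; group
      _ = τ a * a * (τ b * b) := by rw [h1]; group

theorem range_normHom_le :
    (normHom τ hmul hτ hx hab).range ≤ symSubgroup τ hmul hab := by
  rintro _ ⟨z, rfl⟩
  refine ⟨Subgroup.mul_mem _ (centralizer_stable τ hmul hτ hx z.2) z.2, ?_⟩
  show τ (τ z * z) = τ z * z
  rw [hmul, hτ]

variable {G : Type*} [Group G] (j : G →* W) (hj : Function.Injective j)
  (hmem : ∀ w, w ∈ Set.range j ↔ τ w * w = 1)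

include hj hmem in
/-- The order of the centralizer in the fixed group. -/
theorem card_centralizer_twisted (g : G) (hg : j g = x) :
    Nat.card (Subgroup.centralizer ({g} : Set G)) * Nat.card (normHom τ hmul hτ hx hab).range =
      Nat.card (Subgroup.centralizer ({x} : Set W)) := by
  set φ := normHom τ hmul hτ hx hab
  have hk := φ.ker.card_mul_index
  rw [Subgroup.index_ker] at hk
  rw [← hk]
  congr 1
  have hmemC : ∀ h : G, h ∈ Subgroup.centralizer ({g} : Set G) ↔ j h ∈ Subgroup.centralizer ({x} : Set W) := by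
    intro h
    rw [Subgroup.mem_centralizer_singleton_iff, Subgroup.mem_centralizer_singleton_iff, ← hg, ← map_mul,
      ← map_mul, hj.eq_iff]
  refine Nat.card_congr (Equiv.ofBijective (fun h => ⟨⟨j h, (hmemC h).1 h.2⟩, (hmem _).1 ⟨_, rfl⟩⟩)
    ⟨fun a b e => Subtype.ext (hj (congrArg (fun z : φ.ker => ((z : Subgroup.centralizer ({x} : Set W)) : W)) e)),
      fun z => ?_⟩)
  obtain ⟨h, hh⟩ := (hmem _).2 z.2
  exact ⟨⟨h, (hmemC h).2 (hh ▸ z.1.2)⟩, Subtype.ext (Subtype.ext hh)⟩

include hj hmem in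
/-- Classes inside one ambient class. -/
theorem card_classes_twisted (hsurj : ∀ c ∈ symSubgroup τ hmul hab, ∃ w : W, τ w * w = c) :
    Nat.card {C : ConjClasses G // ∃ u : G, ConjClasses.mk u = C ∧ IsConj x (j u)} *
      Nat.card (normHom τ hmul hτ hx hab).range = Nat.card (symSubgroup τ hmul hab) := by
  classical
  set φ := normHom τ hmul hτ hx hab
  set S := symSubgroup τ hmul hab
  set R := φ.range.subgroupOf S
  choose w hw using hsurj
  -- the conjugate of `x` attached to a fixed element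
  have hxw : ∀ c (hc : c ∈ S), τ (w c hc * x * (w c hc)⁻¹) * (w c hc * x * (w c hc)⁻¹) = 1 := by
    intro c hc
    have hxi : τ x = x⁻¹ := eq_inv_of_mul_eq_one_left hx
    rw [hmul, hmul, anti_inv τ hmul, hxi]
    have hcx : c * x = x * c := Subgroup.mem_centralizer_singleton_iff.1 hc.1
    calc (τ (w c hc))⁻¹ * (x⁻¹ * τ (w c hc)) * (w c hc * x * (w c hc)⁻¹)
        = (τ (w c hc))⁻¹ * x⁻¹ * ((τ (w c hc) * w c hc) * x) * (w c hc)⁻¹ := by group
      _ = (τ (w c hc))⁻¹ * (τ (w c hc) * w c hc) * (w c hc)⁻¹ := by rw [hw c hc, hcx]; group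
      _ = 1 := by group
  choose u hu using fun c hc => (hmem _).2 (hxw c hc)
  let cls : S → {C : ConjClasses G // ∃ u : G, ConjClasses.mk u = C ∧ IsConj x (j u)} := fun c =>
    ⟨ConjClasses.mk (u c c.2), u c c.2, rfl, isConj_iff.2 ⟨w c c.2, (hu c c.2).symm⟩⟩
  have hrel : ∀ c d : S, cls c = cls d ↔ (QuotientGroup.mk c : S ⧸ R) = QuotientGroup.mk d := by
    intro c d
    rw [QuotientGroup.eq, Subgroup.mem_subgroupOf, Subtype.ext_iff]
    show ConjClasses.mk (u c c.2) = ConjClasses.mk (u d d.2) ↔ _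
    rw [ConjClasses.mk_eq_mk_iff_isConj, isConj_iff]
    constructor
    · rintro ⟨h, hh⟩
      have hh' := congrArg j hh
      rw [map_mul, map_mul, map_inv, hu, hu] at hh'
      have hjh := (hmem (j h)).1 ⟨h, rfl⟩
      set z := (w d d.2)⁻¹ * (j h * w c c.2) with hz
      have hzC : z ∈ Subgroup.centralizer ({x} : Set W) := by
        rw [Subgroup.mem_centralizer_singleton_iff]
        calc z * x = (w d d.2)⁻¹ * (j h * (w c c.2 * x * (w c c.2)⁻¹) * (j h)⁻¹) * (j h * w c c.2) := by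
              rw [hz]; group
          _ = x * z := by rw [hh', hz]; group
      have e : (c : W) = τ z * d * z := by
        rw [← hw c c.2, ← hw d d.2, ← mul_assoc (τ z), ← hmul, mul_assoc,
          show w d d.2 * z = j h * w c c.2 by rw [hz]; group, hmul]
        calc τ (w c c.2) * w c c.2 = τ (w c c.2) * (τ (j h) * j h) * w c c.2 := by rw [hjh]; group
          _ = τ (w c c.2) * τ (j h) * (j h * w c c.2) := by group
      have hzτ := centralizer_stable τ hmul hτ hx hzC
      have e2 : (c : W) = d * (τ z * z) := by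
        rw [e, hab _ hzτ _ d.2.1, mul_assoc]
      refine ⟨⟨z, hzC⟩⁻¹, ?_⟩
      rw [map_inv]
      show (τ z * z)⁻¹ = ((c⁻¹ * d : S) : W)
      rw [Subgroup.coe_mul, Subgroup.coe_inv, e2]
      group
    · rintro ⟨z, hz⟩
      have e : (d : W) = c * (τ z * z) := by
        rw [show τ (z : W) * z = ((c⁻¹ * d : S) : W) from hz, Subgroup.coe_mul, Subgroup.coe_inv]
        group
      have e' : (d : W) = τ z * c * z := by
        rw [e, hab _ c.2.1 _ (Subgroup.mul_mem _ (centralizer_stable τ hmul hτ hx z.2) z.2), mul_assoc,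
          ← hab _ c.2.1 _ z.2, ← mul_assoc]
      have hmem' : τ (w d d.2 * (z : W)⁻¹ * (w c c.2)⁻¹) * (w d d.2 * (z : W)⁻¹ * (w c c.2)⁻¹) = 1 := by
        rw [hmul, hmul, anti_inv τ hmul, anti_inv τ hmul]
        calc (τ (w c c.2))⁻¹ * ((τ (z : W))⁻¹ * τ (w d d.2)) * (w d d.2 * (z : W)⁻¹ * (w c c.2)⁻¹)
            = (τ (w c c.2))⁻¹ * (τ (z : W))⁻¹ * (τ (w d d.2) * w d d.2) * (z : W)⁻¹ * (w c c.2)⁻¹ := by group
          _ = (τ (w c c.2))⁻¹ * (τ (w c c.2) * w c c.2) * (w c c.2)⁻¹ := by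
              rw [hw d d.2, e', hw c c.2]; group
          _ = 1 := by group
      obtain ⟨h, hh⟩ := (hmem _).2 hmem'
      refine ⟨h, hj ?_⟩
      rw [map_mul, map_mul, map_inv, hu, hu, hh]
      have hzx : (z : W) * x = x * z := Subgroup.mem_centralizer_singleton_iff.1 z.2
      calc w d d.2 * (z : W)⁻¹ * (w c c.2)⁻¹ * (w c c.2 * x * (w c c.2)⁻¹) *
            (w d d.2 * (z : W)⁻¹ * (w c c.2)⁻¹)⁻¹
          = w d d.2 * (z : W)⁻¹ * (x * z) * (w d d.2)⁻¹ := by group
        _ = w d d.2 * x * (w d d.2)⁻¹ := by rw [← hzx]; group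
  have hsur : Function.Surjective cls := by
    rintro ⟨C, v, rfl, hv⟩
    obtain ⟨g, hg⟩ := isConj_iff.1 hv
    have hv1 : τ (g * x * g⁻¹) * (g * x * g⁻¹) = 1 := (hmem _).1 ⟨v, hg.symm⟩
    have hxi : τ x = x⁻¹ := eq_inv_of_mul_eq_one_left hx
    rw [hmul, hmul, anti_inv τ hmul, hxi] at hv1
    have hc : τ g * g ∈ S := by
      refine ⟨Subgroup.mem_centralizer_singleton_iff.2 ?_, by rw [hmul, hτ]⟩
      calc τ g * g * x = x * τ g * ((τ g)⁻¹ * (x⁻¹ * τ g) * (g * x * g⁻¹)) * g := by group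
        _ = x * (τ g * g) := by rw [hv1]; group
    refine ⟨⟨_, hc⟩, Subtype.ext ?_⟩
    show ConjClasses.mk (u (τ g * g) hc) = ConjClasses.mk v
    rw [ConjClasses.mk_eq_mk_iff_isConj, isConj_iff]
    have hm : τ (g * (w _ hc)⁻¹) * (g * (w _ hc)⁻¹) = 1 := by
      rw [hmul, anti_inv τ hmul]
      calc (τ (w _ hc))⁻¹ * τ g * (g * (w _ hc)⁻¹) = (τ (w _ hc))⁻¹ * (τ g * g) * (w _ hc)⁻¹ := by group
        _ = (τ (w _ hc))⁻¹ * (τ (w _ hc) * w _ hc) * (w _ hc)⁻¹ := by rw [hw]
        _ = 1 := by group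
    obtain ⟨h, hh⟩ := (hmem _).2 hm
    refine ⟨h, hj ?_⟩
    rw [map_mul, map_mul, map_inv, hu, hh, ← hg]
    group
  have e : (S ⧸ R) ≃ {C : ConjClasses G // ∃ u : G, ConjClasses.mk u = C ∧ IsConj x (j u)} :=
    Equiv.ofBijective (fun q => cls (Quotient.out q))
      ⟨fun a b h => by
        rw [hrel, QuotientGroup.out_eq', QuotientGroup.out_eq'] at h
        exact h,
      fun D => by
        obtain ⟨c, rfl⟩ := hsur D
        exact ⟨QuotientGroup.mk c, (hrel _ _).2 (QuotientGroup.out_eq' _)⟩⟩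
  rw [← Nat.card_congr e, ← Subgroup.index_eq_card,
    ← Nat.card_congr (Subgroup.subgroupOfEquivOfLe (range_normHom_le τ hmul hτ hx hab)).toEquiv, mul_comm]
  exact Subgroup.card_mul_index R

end CfsgLib.Classical.ClassTheory
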