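import Cfsg.Agent.Lib.Classical.ClassTheory.UnipotentType

/-!
# Symplectic and orthogonal models of unipotent types
-/

set_option autoImplicit false

namespace CfsgLib.Classical.ClassTheory

open LinearMap (BilinForm)
open CfsgLib.Known

variable (F : Type*) [Field F]

/-- A symplectic space with a unipotent isometry of type `μ`. -/
def SpModel (μ : Multiset ℕ) : Prop :=
  ∃ (b : BilinForm F (Fin μ.sum → F)) (a : (Fin μ.sum → F) ≃ₗ[F] (Fin μ.sum → F)),
    b.IsAlt ∧ b.Nondegenerate ∧ (∀ u v, b (a u) (a v) = b u v) ∧ HasType a μ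

/-- A quadratic space with a unipotent isometry of type `μ`. -/
def OModel (μ : Multiset ℕ) : Prop :=
  ∃ (Q : QuadraticForm F (Fin μ.sum → F)) (a : (Fin μ.sum → F) ≃ₗ[F] (Fin μ.sum → F)),
    (QuadraticMap.polarBilin Q).Nondegenerate ∧ (∀ v, Q (a v) = Q v) ∧ HasType a μ

variable {F}

section Transport

variable {V : Type*} [AddCommGroup V] [Module F V] [FiniteDimensional F V] {μ : Multiset ℕ}

theorem spModel_of {b : BilinForm F V} (hA : b.IsAlt) (hb : b.Nondegenerate) (a : V ≃ₗ[F] V)
    (ha : ∀ u v, b (a u) (a v) = b u v) (hμ : HasType a μ) (hd : Module.finrank F V = μ.sum) :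
    SpModel F μ := by
  let e : V ≃ₗ[F] (Fin μ.sum → F) := LinearEquiv.ofFinrankEq _ _ (by rw [hd, Module.finrank_fin_fun])
  refine ⟨b.compl₁₂ (e.symm : (Fin μ.sum → F) →ₗ[F] V) (e.symm : (Fin μ.sum → F) →ₗ[F] V),
    e.symm.trans (a.trans e), fun v => hA _, ⟨fun x hx => e.symm.map_eq_zero_iff.1 (hb.1 _ fun y => ?_),
    fun x hx => e.symm.map_eq_zero_iff.1 (hb.2 _ fun y => ?_)⟩, fun u v => ?_, hμ.conj e⟩
  · simpa using hx (e y)
  · simpa using hx (e y)
  · simp [ha]

theorem oModel_of {Q : QuadraticForm F V} (hQ : (QuadraticMap.polarBilin Q).Nondegenerate) (a : V ≃ₗ[F] V)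
    (ha : ∀ v, Q (a v) = Q v) (hμ : HasType a μ) (hd : Module.finrank F V = μ.sum) :
    OModel F μ := by
  let e : V ≃ₗ[F] (Fin μ.sum → F) := LinearEquiv.ofFinrankEq _ _ (by rw [hd, Module.finrank_fin_fun])
  refine ⟨Q.comp (e.symm : (Fin μ.sum → F) →ₗ[F] V), e.symm.trans (a.trans e), ?_,
    fun v => by simp [ha], hμ.conj e⟩
  refine ⟨fun x hx => e.symm.map_eq_zero_iff.1 (hQ.1 _ fun y => ?_),
    fun x hx => e.symm.map_eq_zero_iff.1 (hQ.2 _ fun y => ?_)⟩
  · simpa [QuadraticMap.polar, map_add] using hx (e y)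
  · simpa [QuadraticMap.polar, map_add] using hx (e y)

end Transport

theorem SpModel.add {μ ν : Multiset ℕ} (h : SpModel F μ) (h' : SpModel F ν) : SpModel F (μ + ν) := by
  obtain ⟨b, a, hA, hb, ha, hμ⟩ := h
  obtain ⟨b', a', hA', hb', ha', hν⟩ := h'
  let X := Fin μ.sum → F
  let Y := Fin ν.sum → F
  refine spModel_of (b := b.compl₁₂ (LinearMap.fst F X Y) (LinearMap.fst F X Y) +
    b'.compl₁₂ (LinearMap.snd F X Y) (LinearMap.snd F X Y)) (fun v => ?_) ⟨fun x hx => ?_, fun x hx => ?_⟩
    (a.prodCongr a') (fun u v => ?_) (hμ.prod hν) (by simp [Module.finrank_prod, X, Y])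
  · simp [hA v.1, hA' v.2]
  · exact Prod.ext (hb.1 _ fun y => by simpa using hx (y, 0)) (hb'.1 _ fun y => by simpa using hx (0, y))
  · exact Prod.ext (hb.2 _ fun y => by simpa using hx (y, 0)) (hb'.2 _ fun y => by simpa using hx (0, y))
  · simp [ha, ha']

theorem OModel.add {μ ν : Multiset ℕ} (h : OModel F μ) (h' : OModel F ν) : OModel F (μ + ν) := by
  obtain ⟨Q, a, hQ, ha, hμ⟩ := h
  obtain ⟨Q', a', hQ', ha', hν⟩ := h'
  let X := Fin μ.sum → F
  let Y := Fin ν.sum → F
  refine oModel_of (Q := Q.prod Q') ⟨fun x hx => ?_, fun x hx => ?_⟩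
    (a.prodCongr a') (fun v => by simp [ha, ha']) (hμ.prod hν) (by simp [Module.finrank_prod])
  · refine Prod.ext (hQ.1 _ fun y => ?_) (hQ'.1 _ fun y => ?_)
    · simpa [QuadraticMap.polar] using hx (y, 0)
    · simpa [QuadraticMap.polar] using hx (0, y)
  · refine Prod.ext (hQ.2 _ fun y => ?_) (hQ'.2 _ fun y => ?_)
    · simpa [QuadraticMap.polar] using hx (y, 0)
    · simpa [QuadraticMap.polar] using hx (0, y)

section Pieces

variable {k : ℕ}

/-- `1 + N` for the shift `N`. -/
theorem exists_shift_equiv (k : ℕ) : ∃ T : (Fin k → F) ≃ₗ[F] (Fin k → F),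
    (∀ v, T v = v + Jordan.shift F k v) ∧ HasType T {k} ∧ HasType T.symm {k} := by
  have hnil : IsNilpotent (Jordan.shift F k) := ⟨k, LinearMap.ext fun v => funext fun i => by
    rw [Jordan.shift_pow_apply, dif_neg (by omega)]; rfl⟩
  have hu : IsUnit (1 + Jordan.shift F k) := hnil.isUnit_one_add
  let T : (Fin k → F) ≃ₗ[F] (Fin k → F) := LinearEquiv.ofBijective _ ((Module.End.isUnit_iff _).1 hu)
  have hT : (T : (Fin k → F) →ₗ[F] (Fin k → F)) = 1 + Jordan.shift F k := LinearMap.ext fun v => rfl
  have hc : Commute (T : (Fin k → F) →ₗ[F] (Fin k → F)) (Jordan.shift F k) := by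
    rw [hT]; exact (Commute.one_left _).add_left (Commute.refl _)
  have hcs : Commute (T.symm : (Fin k → F) →ₗ[F] (Fin k → F)) (Jordan.shift F k) := by
    refine LinearMap.ext fun v => T.injective ?_
    show T (T.symm (Jordan.shift F k v)) = T (Jordan.shift F k (T.symm v))
    rw [T.apply_symm_apply]
    have := LinearMap.congr_fun hc.eq (T.symm v)
    simp only [Module.End.mul_apply, LinearEquiv.coe_coe, T.apply_symm_apply] at this
    exact this.symm
  refine ⟨T, fun v => rfl, HasType.singleton_of_shift isUnit_one (Commute.one_right _)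
    (by rw [hT, add_sub_cancel_left, mul_one]), HasType.singleton_of_shift
    ((isUnit_symm T).neg) hcs.symm.neg_right ?_⟩
  refine LinearMap.ext fun v => ?_
  show T.symm v - v = Jordan.shift F k (-(T.symm v))
  rw [map_neg, eq_neg_iff_add_eq_zero]
  have : T (T.symm v) = T.symm v + Jordan.shift F k (T.symm v) := rfl
  rw [T.apply_symm_apply] at this
  nth_rw 2 [this]
  abel

/-- The hyperbolic pair of blocks. -/
theorem exists_pair (k : ℕ) : SpModel F {k, k} ∧ OModel F {k, k} := by
  obtain ⟨T, hT, ht, ht'⟩ := exists_shift_equiv (F := F) k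
  let β := hankel k (k - 1) (fun _ => (1 : F))
  have hβ : β.Nondegenerate := hankel_nondegenerate fun _ => one_ne_zero
  have hTT : ∀ u w, β (T u) (T.symm w) = β u w := fun u w => by
    conv_rhs => rw [← T.apply_symm_apply w]
    generalize T.symm w = z
    rw [hT, hT, map_add, map_add, LinearMap.add_apply, hankel_self_adjoint]
  let X := Fin k → F
  let g : BilinForm F (X × X) := β.compl₁₂ (LinearMap.fst F X X) (LinearMap.snd F X X)
  have hg : ∀ u v, g u v = β u.1 v.2 := fun u v => rfl
  have hd : Module.finrank F (X × X) = ({k, k} : Multiset ℕ).sum := by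
    rw [show ({k, k} : Multiset ℕ) = k ::ₘ {k} from rfl, Multiset.sum_cons, Multiset.sum_singleton]
    simp [X, Module.finrank_prod]
  constructor
  · refine spModel_of (b := g - g.flip) (fun v => sub_self _) ⟨fun x hx => ?_, fun x hx => ?_⟩
      (T.prodCongr T.symm) (fun u v => ?_) (ht.prod ht') hd
    · refine Prod.ext (hβ.1 _ fun y => ?_) (hβ.2 _ fun y => ?_)
      · simpa [hg] using hx (0, y)
      · simpa [hg] using hx (y, 0)
    · refine Prod.ext (hβ.1 _ fun y => ?_) (hβ.2 _ fun y => ?_)
      · simpa [hg] using hx (0, y)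
      · simpa [hg] using hx (y, 0)
    · simp [hg, hTT]
  · have hp : ∀ u v, QuadraticMap.polarBilin (LinearMap.BilinMap.toQuadraticMap g) u v =
        g u v + g v u := fun u v => by
      rw [LinearMap.BilinMap.polarBilin_toQuadraticMap]; rfl
    refine oModel_of (Q := LinearMap.BilinMap.toQuadraticMap g) ⟨fun x hx => ?_, fun x hx => ?_⟩
      (T.prodCongr T.symm) (fun v => ?_) (ht.prod ht') hd
    · refine Prod.ext (hβ.1 _ fun y => ?_) (hβ.2 _ fun y => ?_)
      · have h := hx (0, y)
        rw [hp] at h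
        simpa [hg] using h
      · have h := hx (y, 0)
        rw [hp] at h
        simpa [hg] using h
    · refine Prod.ext (hβ.1 _ fun y => ?_) (hβ.2 _ fun y => ?_)
      · have h := hx (0, y)
        rw [hp] at h
        simpa [hg] using h
      · have h := hx (y, 0)
        rw [hp] at h
        simpa [hg] using h
    · show g _ _ = g _ _
      simp [hg, hTT]

/-- The regular element on `W × W`. -/
def regMap (k : ℕ) : ((Fin k → F) × (Fin k → F)) ≃ₗ[F] ((Fin k → F) × (Fin k → F)) where
  toFun z := (-z.2, z.1 + Jordan.shift F k z.2 + (2 : F) • z.2)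
  invFun z := (z.2 + Jordan.shift F k z.1 + (2 : F) • z.1, -z.1)
  map_add' u v := by
    refine Prod.ext ?_ ?_
    · simp [add_comm]
    · simp only [Prod.fst_add, Prod.snd_add, map_add, smul_add]; abel
  map_smul' c u := by
    refine Prod.ext ?_ ?_
    · simp
    · simp only [Prod.smul_fst, Prod.smul_snd, map_smul, RingHom.id_apply, smul_add, smul_comm c (2 : F)]
  left_inv z := by
    refine Prod.ext ?_ ?_
    · simp only [map_neg, smul_neg]; abel
    · simp
  right_inv z := by
    refine Prod.ext ?_ ?_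
    · simp
    · simp only [map_neg, smul_neg]; abel

theorem regMap_apply (z : (Fin k → F) × (Fin k → F)) :
    regMap k z = (-z.2, z.1 + Jordan.shift F k z.2 + (2 : F) • z.2) := rfl

theorem hasType_regMap (hk : 0 < k) : HasType (regMap (F := F) k) {2 * k} := by
  set a := regMap (F := F) k
  refine HasType.single (by simp [Module.finrank_prod]; omega) (by omega) ?_ ?_
  · let s : Module.End F ((Fin k → F) × (Fin k → F)) := (Jordan.shift F k).prodMap (Jordan.shift F k)
    have hsq : ((a : _ →ₗ[F] _) - 1) ^ 2 = s * (a : _ →ₗ[F] _) := by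
      refine LinearMap.ext fun z => ?_
      simp only [pow_two, Module.End.mul_apply, LinearMap.sub_apply, Module.End.one_apply, map_sub,
        LinearEquiv.coe_coe, s, LinearMap.prodMap_apply, a, regMap_apply]
      refine Prod.ext ?_ ?_
      · simp only [Prod.fst_sub, map_neg, two_smul]; abel
      · simp only [Prod.snd_sub, map_add, map_neg, map_smul, two_smul]; abel
    have hc : Commute s (a : _ →ₗ[F] _) := LinearMap.ext fun z => by
      simp only [Module.End.mul_apply, LinearEquiv.coe_coe, s, LinearMap.prodMap_apply, a, regMap_apply,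
        map_add, map_neg, map_smul]
    have hs : ∀ j, s ^ j = (Jordan.shift F k ^ j).prodMap (Jordan.shift F k ^ j) := by
      intro j
      induction j with
      | zero => rfl
      | succ j ih => rw [pow_succ, pow_succ, ih]; rfl
    have hp : Jordan.shift F k ^ k = 0 := LinearMap.ext fun v => funext fun i => by
      rw [Jordan.shift_pow_apply, dif_neg (by omega)]; rfl
    rw [pow_mul, hsq, hc.mul_pow, hs, hp, LinearMap.prodMap_zero, zero_mul]
  · -- the kernel is spanned by one vector
    let z0 : (Fin k → F) × (Fin k → F) := (-Pi.single ⟨0, hk⟩ 1, Pi.single ⟨0, hk⟩ 1)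
    refine le_trans (Submodule.finrank_mono (t := Submodule.span F {z0}) ?_)
      (le_trans (finrank_span_le_card _) (by simp))
    intro z hz
    rw [LinearMap.mem_ker, LinearMap.sub_apply, Module.End.one_apply, sub_eq_zero] at hz
    have h1 : z.1 = -z.2 := (congrArg Prod.fst hz).symm
    have h2 : Jordan.shift F k z.2 = 0 := by
      have h := congrArg Prod.snd hz
      simp only [LinearEquiv.coe_coe, a, regMap_apply, h1, two_smul] at h
      calc Jordan.shift F k z.2 = (-z.2 + Jordan.shift F k z.2 + (z.2 + z.2)) - z.2 := by abel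
        _ = 0 := by rw [h, sub_self]
    refine Submodule.mem_span_singleton.2 ⟨z.2 ⟨0, hk⟩, ?_⟩
    have h3 : z.2 = z.2 ⟨0, hk⟩ • (Pi.single ⟨0, hk⟩ 1 : Fin k → F) := by
      funext i
      by_cases hi : i = ⟨0, hk⟩
      · subst hi; simp
      · have hi0 : (i : ℕ) ≠ 0 := fun e => hi (Fin.ext e)
        have := congrFun h2 ⟨(i : ℕ) - 1, by omega⟩
        rw [Jordan.shift_apply, dif_pos (show (i : ℕ) - 1 + 1 < k by omega), Pi.zero_apply] at this
        rw [Pi.smul_apply, Pi.single_eq_of_ne hi, smul_zero, ← this]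
        exact congrArg z.2 (Fin.ext (show (i : ℕ) = (i : ℕ) - 1 + 1 by omega))
    refine Prod.ext ?_ ?_
    · show z.2 ⟨0, hk⟩ • -(Pi.single ⟨0, hk⟩ 1 : Fin k → F) = z.1
      rw [h1, smul_neg, ← h3]
    · exact h3.symm

/-- A single even block is symplectic. -/
theorem spModel_even (hk : 0 < k) : SpModel F {2 * k} := by
  let β := hankel k (k - 1) (fun _ => (1 : F))
  have hβ : β.Nondegenerate := hankel_nondegenerate fun _ => one_ne_zero
  let X := Fin k → F
  let g : BilinForm F (X × X) := β.compl₁₂ (LinearMap.snd F X X) (LinearMap.fst F X X)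
  have hg : ∀ u v, g u v = β u.2 v.1 := fun u v => rfl
  refine spModel_of (b := g - g.flip) (fun v => sub_self _) ⟨fun x hx => ?_, fun x hx => ?_⟩
    (regMap k) (fun u v => ?_) (hasType_regMap hk) (by simp [X, Module.finrank_prod]; omega)
  · refine Prod.ext (hβ.2 _ fun y => ?_) (hβ.1 _ fun y => ?_)
    · simpa [hg] using hx (0, y)
    · simpa [hg] using hx (y, 0)
  · refine Prod.ext (hβ.2 _ fun y => ?_) (hβ.1 _ fun y => ?_)
    · simpa [hg] using hx (0, y)
    · simpa [hg] using hx (y, 0)
  · show g _ _ - g _ _ = g _ _ - g _ _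
    rw [hg, hg, hg, hg, regMap_apply u, regMap_apply v]
    simp only [map_add, map_neg, map_smul,
      LinearMap.add_apply, LinearMap.smul_apply, LinearMap.neg_apply, smul_eq_mul, β, hankel_self_adjoint,
      hankel_symm (k - 1) v.2 u.2, hankel_symm (k - 1) v.2 u.1, hankel_symm (k - 1) v.2 (Jordan.shift F k u.2),
      hankel_symm (k - 1) v.1 u.2]
    ring

/-- A single even block is orthogonal in characteristic two. -/
theorem oModel_even [CharP F 2] (hk : 0 < k) : OModel F {2 * k} := by
  let β := hankel k (k - 1) (fun _ => (1 : F))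
  have hβ : β.Nondegenerate := hankel_nondegenerate fun _ => one_ne_zero
  let X := Fin k → F
  let R : BilinForm F X := ∑ i : Fin k, if 2 * (i : ℕ) + 2 = k then
    (LinearMap.proj (R := F) (φ := fun _ : Fin k => F) i).smulRight (LinearMap.proj (R := F) (φ := fun _ : Fin k => F) i) else 0
  have hR : ∀ u v, R u v = ∑ i : Fin k, if 2 * (i : ℕ) + 2 = k then u i * v i else 0 := fun u v => by
    simp only [R, LinearMap.sum_apply]
    refine Finset.sum_congr rfl fun i _ => ?_
    split_ifs <;> simp <;> rfl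
  have hRsymm : ∀ u v, R u v = R v u := fun u v => by simp only [hR, mul_comm]
  have hRs : ∀ b : X, R (Jordan.shift F k b) (Jordan.shift F k b) = β b (Jordan.shift F k b) := fun b => by
    show _ = hankel k (k - 1) _ b _
    rw [hankel_shift_right, hankel_diag, hR]
    rcases Nat.even_or_odd' k with ⟨l, hl | hl⟩
    · rw [Finset.sum_eq_single ⟨l - 1, by omega⟩, Finset.sum_eq_single ⟨l, by omega⟩, if_pos hl.symm,
        if_pos (show 2 * (l - 1) + 2 = k by omega), Jordan.shift_apply,
        dif_pos (show l - 1 + 1 < k by omega)]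
      · congr 2 <;> exact Fin.ext (show l - 1 + 1 = l by omega)
      · intro j _ hj
        exact if_neg fun e => hj (Fin.ext (show (j : ℕ) = l by omega))
      · simp
      · intro j _ hj
        exact if_neg fun e => hj (Fin.ext (show (j : ℕ) = l - 1 by omega))
      · simp
    · rw [Finset.sum_eq_zero fun j _ => if_neg (by omega), Finset.sum_eq_zero fun j _ => if_neg (by omega)]
  let g : BilinForm F (X × X) := β.compl₁₂ (LinearMap.fst F X X) (LinearMap.snd F X X) +
    R.compl₁₂ (LinearMap.fst F X X) (LinearMap.fst F X X) + R.compl₁₂ (LinearMap.snd F X X) (LinearMap.snd F X X)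
  have hg : ∀ u v, g u v = β u.1 v.2 + R u.1 v.1 + R u.2 v.2 := fun u v => rfl
  have hp : ∀ u v, QuadraticMap.polarBilin (LinearMap.BilinMap.toQuadraticMap g) u v =
      β u.1 v.2 + β v.1 u.2 := fun u v => by
    rw [LinearMap.BilinMap.polarBilin_toQuadraticMap]
    show g u v + g v u = _
    rw [hg, hg, hRsymm v.1, hRsymm v.2]
    have e1 := CharTwo.add_self_eq_zero (R u.1 v.1)
    have e2 := CharTwo.add_self_eq_zero (R u.2 v.2)
    linear_combination e1 + e2
  refine oModel_of (Q := LinearMap.BilinMap.toQuadraticMap g) ⟨fun x hx => ?_, fun x hx => ?_⟩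
    (regMap k) (fun v => ?_) (hasType_regMap hk) (by simp [X, Module.finrank_prod]; omega)
  · refine Prod.ext (hβ.1 _ fun y => ?_) (hβ.2 _ fun y => ?_)
    · simpa [hp] using hx (0, y)
    · simpa [hp] using hx (y, 0)
  · refine Prod.ext (hβ.1 _ fun y => ?_) (hβ.2 _ fun y => ?_)
    · simpa [hp] using hx (0, y)
    · simpa [hp] using hx (y, 0)
  · show g (regMap k v) (regMap k v) = g v v
    have h2 : (2 : F) = 0 := CharTwo.two_eq_zero
    have hRn : ∀ w : X, R (-w) (-w) = R w w := fun w => by simp
    simp only [hg, regMap_apply, h2, zero_smul, add_zero, map_neg, LinearMap.neg_apply, CharTwo.neg_eq, map_add, LinearMap.add_apply,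
      hRsymm (Jordan.shift F k v.2) v.1, hRs, β, hankel_symm (k - 1) v.2 v.1]
    linear_combination (hankel k (k - 1) (fun _ => (1 : F)) v.2 (Jordan.shift F k v.2) + R v.1 (Jordan.shift F k v.2)) * h2 + hRn v.2

/-- A single odd block is orthogonal in odd characteristic. -/
theorem oModel_odd (h2 : (2 : F) ≠ 0) (l : ℕ) : OModel F {2 * l + 1} := by
  set k := 2 * l + 1 with hk
  let g : BilinForm F (Fin k → F) := hankel k (k - 1) (fun i => (-1 : F) ^ i)
  have hgnd : g.Nondegenerate := hankel_nondegenerate fun i => pow_ne_zero _ (neg_ne_zero.2 one_ne_zero)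
  have hsym : ∀ u v, g u v = g v u := fun u v => by
    show hankel k (k - 1) _ u v = hankel k (k - 1) _ v u
    rw [hankel_swap]
    refine congrFun (congrArg DFunLike.coe (congrFun (congrArg DFunLike.coe (hankel_congr ?_)) v)) u
    intro i j _ _ e
    have hc : k - 1 - i = j := by omega
    rw [hc]
    have hev : Even (i + j) := ⟨l, by omega⟩
    exact neg_one_pow_congr (by rw [Nat.even_add] at hev; exact hev.symm)
  set N := Jordan.shift F k
  have hskew : ∀ u v, g (N u) v + g u (N v) = 0 := fun u v => by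
    show hankel k (k - 1) _ (Jordan.shift F k u) v + hankel k (k - 1) _ u (Jordan.shift F k v) = 0
    rw [hankel_shift_left, hankel_shift_right, hankel_apply, hankel_apply, ← Finset.sum_add_distrib]
    refine Finset.sum_eq_zero fun i _ => ?_
    rw [← Finset.sum_add_distrib]
    refine Finset.sum_eq_zero fun j _ => ?_
    split_ifs with e
    · obtain ⟨i', hi'⟩ : ∃ i', (i : ℕ) = i' + 1 := ⟨(i : ℕ) - 1, by have := j.2; omega⟩
      rw [hi', Nat.add_sub_cancel, pow_succ]
      ring
    · rw [add_zero]
  have hnil : IsNilpotent N := ⟨k, LinearMap.ext fun v => funext fun i => by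
    rw [Jordan.shift_pow_apply, dif_neg (by omega)]; rfl⟩
  let P : (Fin k → F) ≃ₗ[F] (Fin k → F) :=
    LinearEquiv.ofBijective _ ((Module.End.isUnit_iff _).1 (hnil.isUnit_one_sub))
  let M : (Fin k → F) ≃ₗ[F] (Fin k → F) :=
    LinearEquiv.ofBijective _ ((Module.End.isUnit_iff _).1 (hnil.isUnit_one_add))
  let a := P.symm.trans M
  have hiso : ∀ u v, g (a u) (a v) = g u v := fun u v => by
    obtain ⟨x, rfl⟩ := P.surjective u
    obtain ⟨y, rfl⟩ := P.surjective v
    simp only [a, LinearEquiv.trans_apply, LinearEquiv.symm_apply_apply]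
    show g (x + N x) (y + N y) = g (x - N x) (y - N y)
    simp only [map_add, map_sub, LinearMap.add_apply, LinearMap.sub_apply]
    linear_combination 2 * hskew x y
  have hW : IsUnit ((P.symm : (Fin k → F) →ₗ[F] (Fin k → F)) + (P.symm : (Fin k → F) →ₗ[F] (Fin k → F))) := by
    rw [← two_smul F]
    exact (isUnit_symm P).smul (Units.mk0 (2 : F) h2)
  have hNP : Commute N (P.symm : (Fin k → F) →ₗ[F] (Fin k → F)) := by
    refine LinearMap.ext fun v => P.injective ?_
    show P (N (P.symm v)) = P (P.symm (N v))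
    rw [P.apply_symm_apply]
    show N (P.symm v) - N (N (P.symm v)) = N v
    conv_rhs => rw [← P.apply_symm_apply v]
    show _ = N (P.symm v - N (P.symm v))
    rw [map_sub]
  have htype : HasType a {k} := by
    refine HasType.singleton_of_shift hW (hNP.add_right hNP) (LinearMap.ext fun v => ?_)
    obtain ⟨x, rfl⟩ := P.surjective v
    simp only [LinearMap.sub_apply, Module.End.one_apply, LinearEquiv.coe_coe, a, LinearEquiv.trans_apply,
      LinearEquiv.symm_apply_apply, Module.End.mul_apply, LinearMap.add_apply, map_add]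
    show x + N x - (x - N x) = N x + N x
    abel
  have hp : ∀ u v, QuadraticMap.polarBilin (LinearMap.BilinMap.toQuadraticMap g) u v = 2 * g u v := fun u v => by
    rw [LinearMap.BilinMap.polarBilin_toQuadraticMap]
    show g u v + g v u = _
    rw [hsym v u, two_mul]
  refine oModel_of (Q := LinearMap.BilinMap.toQuadraticMap g) ⟨fun x hx => hgnd.1 x fun y => ?_,
    fun x hx => hgnd.2 x fun y => ?_⟩ a (fun v => hiso v v) htype (by simp)
  · exact (mul_eq_zero.1 (hp x y ▸ hx y)).resolve_left h2
  · exact (mul_eq_zero.1 (hp y x ▸ hx y)).resolve_left h2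

end Pieces

/-- Building up a type from single blocks with a property and from pairs. -/
theorem model_induction {P : Multiset ℕ → Prop} (h0 : P 0) (hadd : ∀ μ ν, P μ → P ν → P (μ + ν))
    (good : ℕ → Prop) (hsingle : ∀ j, 0 < j → good j → P {j}) (hpair : ∀ j, P {j, j}) :
    ∀ μ : Multiset ℕ, (∀ a ∈ μ, 0 < a) → (∀ j, 0 < j → ¬ good j → Even (μ.count j)) → P μ := by
  classical
  intro μ
  induction hc : Multiset.card μ using Nat.strong_induction_on generalizing μ with
  | _ c ih =>
  subst hc
  intro hpos heven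
  by_cases hμ : μ = 0
  · exact hμ ▸ h0
  obtain ⟨j, hj⟩ := Multiset.exists_mem_of_ne_zero hμ
  have hstep : ∀ π ν : Multiset ℕ, μ = π + ν → 0 < Multiset.card π → P π →
      (∀ i, 0 < i → ¬ good i → Even (π.count i)) → P μ := by
    intro π ν h hπ hP hπe
    subst h
    refine hadd _ _ hP (ih _ (by rw [Multiset.card_add]; omega) ν rfl
      (fun a ha => hpos a (Multiset.mem_add.2 (Or.inr ha))) fun i hi hg => ?_)
    have := heven i hi hg
    rw [Multiset.count_add, Nat.even_add] at this
    exact this.1 (hπe i hi hg)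
  by_cases hg : good j
  · obtain ⟨ν, rfl⟩ := Multiset.exists_cons_of_mem hj
    refine hstep {j} ν (Multiset.singleton_add j ν).symm (by simp) (hsingle j (hpos j hj) hg) fun i _ hi => ?_
    rw [Multiset.count_singleton, if_neg (fun e => hi (by rw [e]; exact hg))]
    exact Even.zero
  · obtain ⟨c, hc⟩ := heven j (hpos j hj) hg
    have h2 : Multiset.replicate 2 j ≤ μ := by
      rw [← Multiset.le_count_iff_replicate_le]
      have := Multiset.one_le_count_iff_mem.2 hj
      omega
    obtain ⟨ν, hν⟩ := Multiset.le_iff_exists_add.1 h2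
    refine hstep {j, j} ν (by rw [hν]; rfl) (by simp) (hpair j) fun i _ _ => ?_
    rw [show ({j, j} : Multiset ℕ) = Multiset.replicate 2 j from rfl, Multiset.count_replicate]
    split_ifs
    · exact even_two
    · exact Even.zero

theorem spModel_zero : SpModel F 0 := by
  refine spModel_of (V := Fin 0 → F) (b := 0) (fun v => rfl) ⟨fun x _ => Subsingleton.elim _ _,
    fun x _ => Subsingleton.elim _ _⟩ (LinearEquiv.refl F _) (fun u v => rfl) ?_ (by simp)
  refine ⟨⟨1, Subsingleton.elim _ _⟩, fun k => ?_⟩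
  rw [Subsingleton.elim ((((LinearEquiv.refl F (Fin 0 → F)) : (Fin 0 → F) →ₗ[F] (Fin 0 → F)) - 1) ^ k) 0,
    LinearMap.range_zero, finrank_bot]
  simp [Jordan.prof]

theorem oModel_zero : OModel F 0 := by
  refine oModel_of (V := Fin 0 → F) (Q := 0) ⟨fun x _ => Subsingleton.elim _ _,
    fun x _ => Subsingleton.elim _ _⟩ (LinearEquiv.refl F _) (fun v => rfl) ?_ (by simp)
  refine ⟨⟨1, Subsingleton.elim _ _⟩, fun k => ?_⟩
  rw [Subsingleton.elim ((((LinearEquiv.refl F (Fin 0 → F)) : (Fin 0 → F) →ₗ[F] (Fin 0 → F)) - 1) ^ k) 0,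
    LinearMap.range_zero, finrank_bot]
  simp [Jordan.prof]

theorem spModel_of_parity (μ : Multiset ℕ) (hpos : ∀ a ∈ μ, 0 < a)
    (h : ∀ j, Odd j → Even (μ.count j)) : SpModel F μ :=
  model_induction spModel_zero (fun _ _ => SpModel.add) Even
    (fun j hj he => by obtain ⟨k, rfl⟩ := he; rw [← two_mul]; exact spModel_even (by omega))
    (fun j => (exists_pair j).1) μ hpos fun j _ hj => h j (Nat.not_even_iff_odd.1 hj)

theorem oModel_of_parity_odd (h2 : (2 : F) ≠ 0) (μ : Multiset ℕ) (hpos : ∀ a ∈ μ, 0 < a)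
    (h : ∀ j, Even j → 0 < j → Even (μ.count j)) : OModel F μ :=
  model_induction oModel_zero (fun _ _ => OModel.add) Odd
    (fun j _ ho => by obtain ⟨l, rfl⟩ := ho; exact oModel_odd h2 l)
    (fun j => (exists_pair j).2) μ hpos fun j hj ho => h j (Nat.not_odd_iff_even.1 ho) hj

theorem oModel_of_parity_two [CharP F 2] (μ : Multiset ℕ) (hpos : ∀ a ∈ μ, 0 < a)
    (h : ∀ j, Odd j → Even (μ.count j)) : OModel F μ :=
  model_induction oModel_zero (fun _ _ => OModel.add) Even
    (fun j hj he => by obtain ⟨k, rfl⟩ := he; rw [← two_mul]; exact oModel_even (by omega))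
    (fun j => (exists_pair j).2) μ hpos fun j _ hj => h j (Nat.not_even_iff_odd.1 hj)

end CfsgLib.Classical.ClassTheory
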