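import Cfsg.Agent.Lib.Classical.ClassTheory.JordanType

/-!
# Which unipotent types occur in symplectic and orthogonal groups: parity and models
-/

set_option autoImplicit false

namespace CfsgLib.Classical.ClassTheory

open LinearMap (BilinForm)
open CfsgLib.Known

variable {F : Type*} [Field F]
variable {V : Type*} [AddCommGroup V] [Module F V] [FiniteDimensional F V]

section Parity

variable {b : BilinForm F V} (a : V ≃ₗ[F] V)

/-- `a + a⁻¹ - 2`. -/
def sOp : Module.End F V := (a : V →ₗ[F] V) + (a.symm : V →ₗ[F] V) - 2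

omit [FiniteDimensional F V] in
theorem sOp_apply (u : V) : sOp a u = a u + a.symm u - (2 : F) • u := by
  show a u + a.symm u - (2 : Module.End F V) u = _
  rw [show (2 : Module.End F V) = 1 + 1 from (one_add_one_eq_two).symm, LinearMap.add_apply,
    Module.End.one_apply, two_smul]

omit [FiniteDimensional F V] in
theorem sOp_eq : sOp a = ((a : V →ₗ[F] V) - 1) ^ 2 * (a.symm : V →ₗ[F] V) := by
  refine LinearMap.ext fun u => ?_
  rw [sOp_apply, pow_two, Module.End.mul_apply, Module.End.mul_apply]
  simp only [LinearMap.sub_apply, Module.End.one_apply, LinearEquiv.coe_coe, map_sub,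
    LinearEquiv.apply_symm_apply]
  rw [two_smul]
  abel

omit [FiniteDimensional F V] in
theorem commute_sub_one : Commute ((a : V →ₗ[F] V) - 1) (a.symm : V →ₗ[F] V) := by
  refine Commute.sub_left ?_ (Commute.one_left _)
  exact LinearMap.ext fun u => (a.apply_symm_apply u).trans (a.symm_apply_apply u).symm

omit [FiniteDimensional F V] in
theorem finrank_range_mul_unit {T U : Module.End F V} (hU : IsUnit U) :
    Module.finrank F (LinearMap.range (T * U)) = Module.finrank F (LinearMap.range T) := by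
  rw [show T * U = T ∘ₗ U from rfl,
    LinearMap.range_comp_of_range_eq_top _ (LinearMap.range_eq_top.2 ((Module.End.isUnit_iff U).1 hU).2)]

omit [FiniteDimensional F V] in
theorem isUnit_symm : IsUnit (a.symm : V →ₗ[F] V) := (Module.End.isUnit_iff _).2 a.symm.bijective

omit [FiniteDimensional F V] in
theorem sOp_pow_selfadjoint (ha : ∀ u v, b (a u) (a v) = b u v) (i : ℕ) :
    ∀ u v, b ((sOp a ^ i) u) v = b u ((sOp a ^ i) v) := by
  have h1 : ∀ u v, b (a u) v = b u (a.symm v) := fun u v => by
    conv_lhs => rw [← a.apply_symm_apply v, ha]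
  have h2 : ∀ u v, b (a.symm u) v = b u (a v) := fun u v => by
    conv_rhs => rw [← a.apply_symm_apply u, ha]
  have hs : ∀ u v, b (sOp a u) v = b u (sOp a v) := fun u v => by
    rw [sOp_apply, sOp_apply]
    simp only [map_add, map_sub, map_smul, LinearMap.add_apply, LinearMap.sub_apply, LinearMap.smul_apply,
      h1, h2]
    ring
  induction i with
  | zero => intro u v; rfl
  | succ i ih =>
    intro u v
    rw [pow_succ, Module.End.mul_apply, Module.End.mul_apply, ih, hs, ← Module.End.mul_apply,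
      ← Module.End.mul_apply, ← pow_succ, ← pow_succ']

/-- Even powers of `a - 1` have even rank in the symplectic group. -/
theorem even_rank_alt (hb : b.Nondegenerate) (hA : b.IsAlt) (ha : ∀ u v, b (a u) (a v) = b u v) (i : ℕ) :
    Even (Module.finrank F (LinearMap.range (((a : V →ₗ[F] V) - 1) ^ (2 * i)))) := by
  have hr : Module.finrank F (LinearMap.range (sOp a ^ i)) =
      Module.finrank F (LinearMap.range (((a : V →ₗ[F] V) - 1) ^ (2 * i))) := by
    rw [sOp_eq, ((commute_sub_one a).pow_left 2).mul_pow, ← pow_mul,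
      finrank_range_mul_unit ((isUnit_symm a).pow i)]
  rw [← hr]
  refine even_finrank_range_of_alt hb _ fun u => ?_
  rcases Nat.even_or_odd' i with ⟨l, rfl | rfl⟩
  · rw [two_mul, pow_add, Module.End.mul_apply, ← sOp_pow_selfadjoint a ha]
    exact hA _
  · rw [show 2 * l + 1 = l + (1 + l) by ring, pow_add, Module.End.mul_apply, ← sOp_pow_selfadjoint a ha,
      pow_add, pow_one, Module.End.mul_apply]
    generalize (sOp a ^ l) u = w
    have h1 : b w (a.symm w) = - b w (a w) := by
      rw [LinearMap.IsAlt.neg hA w (a w)]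
      conv_rhs => rw [← a.apply_symm_apply w]
      rw [ha, a.apply_symm_apply]
    rw [sOp_apply, map_sub, map_add, map_smul, h1, hA w, smul_zero, sub_zero, add_neg_cancel]

/-- Odd powers of `a - 1` have even rank in odd characteristic orthogonal groups. -/
theorem even_rank_symm (hb : b.Nondegenerate) (hsym : ∀ u v, b u v = b v u) (h2 : (2 : F) ≠ 0)
    (ha : ∀ u v, b (a u) (a v) = b u v) (hnil : IsNilpotent ((a : V →ₗ[F] V) - 1)) (i : ℕ) :
    Even (Module.finrank F (LinearMap.range (((a : V →ₗ[F] V) - 1) ^ (2 * i + 1)))) := by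
  let δ : Module.End F V := (a : V →ₗ[F] V) - (a.symm : V →ₗ[F] V)
  have hδu : IsUnit (((a : V →ₗ[F] V) - 1) + 2) := by
    have h2u : IsUnit (2 : Module.End F V) := by
      have := (IsUnit.mk0 (2 : F) h2).map (algebraMap F (Module.End F V))
      rwa [map_ofNat] at this
    exact hnil.isUnit_add_right_of_commute h2u (Nat.cast_commute 2 _).symm
  have hδ : δ = ((a : V →ₗ[F] V) - 1) * ((((a : V →ₗ[F] V) - 1) + 2) * (a.symm : V →ₗ[F] V)) := by
    refine LinearMap.ext fun u => ?_
    simp only [δ, Module.End.mul_apply, LinearMap.sub_apply, LinearMap.add_apply, Module.End.one_apply,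
      LinearEquiv.coe_coe, show (2 : Module.End F V) = 1 + 1 from (one_add_one_eq_two).symm, map_add, map_sub,
      LinearEquiv.apply_symm_apply]
    abel
  have hcom : Commute ((a : V →ₗ[F] V) - 1) (((((a : V →ₗ[F] V) - 1) + 2) * (a.symm : V →ₗ[F] V))) :=
    ((Commute.refl _).add_right (Nat.cast_commute 2 _).symm).mul_right (commute_sub_one a)
  have hr : Module.finrank F (LinearMap.range (sOp a ^ i * δ)) =
      Module.finrank F (LinearMap.range (((a : V →ₗ[F] V) - 1) ^ (2 * i + 1))) := by
    have hc : Commute ((a.symm : V →ₗ[F] V) ^ i) ((a : V →ₗ[F] V) - 1) := ((commute_sub_one a).pow_right i).symm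
    rw [sOp_eq, ((commute_sub_one a).pow_left 2).mul_pow, ← pow_mul, hδ, mul_assoc, ← mul_assoc (_ ^ i),
      hc.eq, mul_assoc, ← mul_assoc, ← pow_succ,
      finrank_range_mul_unit (((isUnit_symm a).pow i).mul (hδu.mul (isUnit_symm a)))]
  rw [← hr]
  refine even_finrank_range_of_alt hb _ fun u => ?_
  have hskew : ∀ u v, b (δ u) v = - b u (δ v) := fun u v => by
    have h1 : b (a u) v = b u (a.symm v) := by
      conv_lhs => rw [← a.apply_symm_apply v, ha]
    have h3 : b (a.symm u) v = b u (a v) := by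
      conv_rhs => rw [← a.apply_symm_apply u, ha]
    simp only [δ, LinearMap.sub_apply, LinearEquiv.coe_coe, map_sub, h1, h3, neg_sub]
  have hsδ : Commute (sOp a) δ := by
    have hts : Commute (a : V →ₗ[F] V) (a.symm : V →ₗ[F] V) :=
      LinearMap.ext fun u => (a.apply_symm_apply u).trans (a.symm_apply_apply u).symm
    have two : ∀ X : Module.End F V, Commute (2 : Module.End F V) X := fun X => Nat.cast_commute 2 X
    exact ((((Commute.refl _).add_left hts.symm).sub_left (two _))).sub_right
      ((hts.add_left (Commute.refl _)).sub_left (two _))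
  have key : b u ((sOp a ^ i * δ) u) = - b u ((sOp a ^ i * δ) u) := by
    conv_lhs => rw [Module.End.mul_apply, hsym, sOp_pow_selfadjoint a ha, hskew, ← Module.End.mul_apply,
      ← (hsδ.pow_left i).eq]
  rw [eq_neg_iff_add_eq_zero, ← two_mul] at key
  exact (mul_eq_zero.1 key).resolve_left h2

end Parity

section Types

variable {U : Type*} [AddCommGroup U] [Module F U] [FiniteDimensional F U]

theorem HasType.prod {a : V ≃ₗ[F] V} {a' : U ≃ₗ[F] U} {μ ν : Multiset ℕ} (h : HasType a μ) (h' : HasType a' ν) :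
    HasType (a.prodCongr a') (μ + ν) := by
  have e : ((a.prodCongr a' : (V × U) ≃ₗ[F] (V × U)) : (V × U) →ₗ[F] (V × U)) - 1 =
      ((a : V →ₗ[F] V) - 1).prodMap ((a' : U →ₗ[F] U) - 1) := LinearMap.ext fun z => rfl
  have hk : ∀ k, (((a : V →ₗ[F] V) - 1).prodMap ((a' : U →ₗ[F] U) - 1) : Module.End F (V × U)) ^ k =
      (((a : V →ₗ[F] V) - 1) ^ k).prodMap (((a' : U →ₗ[F] U) - 1) ^ k) := by
    intro k
    induction k with
    | zero => rfl
    | succ k ih => rw [pow_succ, pow_succ, pow_succ, ih]; rfl
  refine ⟨?_, fun k => ?_⟩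
  · obtain ⟨i, hi⟩ := h.1
    obtain ⟨j, hj⟩ := h'.1
    refine ⟨i + j, ?_⟩
    rw [e, hk, pow_add, hi, zero_mul, pow_add _ i j, hj, mul_zero, LinearMap.prodMap_zero]
  · rw [e, Jordan.range_pow_prodMap, h.2, h'.2]
    simp [Jordan.prof]

omit [FiniteDimensional F V] [FiniteDimensional F U] in
theorem HasType.conj {a : V ≃ₗ[F] V} {μ : Multiset ℕ} (h : HasType a μ) (e : V ≃ₗ[F] U) :
    HasType (e.symm.trans (a.trans e)) μ := by
  have hs : ∀ z, (((e.symm.trans (a.trans e)) : U →ₗ[F] U) - 1) (e z) = e (((a : V →ₗ[F] V) - 1) z) := fun z => by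
    simp
  refine ⟨?_, fun k => by rw [Jordan.range_pow_of_equiv _ _ e hs k, h.2]⟩
  obtain ⟨i, hi⟩ := h.1
  refine ⟨i, LinearMap.range_eq_bot.1 ?_⟩
  rw [eq_bot_iff]
  rintro _ ⟨w, rfl⟩
  obtain ⟨z, rfl⟩ := e.surjective w
  have hk : ∀ (k : ℕ) z, (((((e.symm.trans (a.trans e)) : U →ₗ[F] U) - 1) ^ k : Module.End F U)) (e z) =
      e (((((a : V →ₗ[F] V) - 1) ^ k : Module.End F V)) z) := by
    intro k
    induction k with
    | zero => intro z; rfl
    | succ k ih => intro z; rw [pow_succ, pow_succ, Module.End.mul_apply, Module.End.mul_apply, hs, ih]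
  rw [hk, hi]
  simp

theorem HasType.single {a : V ≃ₗ[F] V} {n : ℕ} (hn : Module.finrank F V = n) (h0 : 0 < n)
    (hnil : ((a : V →ₗ[F] V) - 1) ^ n = 0)
    (hker : Module.finrank F (LinearMap.ker ((a : V →ₗ[F] V) - 1)) ≤ 1) : HasType a {n} := by
  obtain ⟨μ, hpos, hsum, hprof⟩ := Jordan.exists_blocks n _ ⟨n, hnil⟩ hn
  refine ⟨⟨n, hnil⟩, fun k => ?_⟩
  have h1 := hprof 1
  have h2 := Jordan.prof_eq_succ_add μ 0
  rw [Jordan.prof_zero_arg, hsum, Multiset.countP_eq_card.2 hpos, zero_add, ← h1, pow_one] at h2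
  have h3 := LinearMap.finrank_range_add_finrank_ker ((a : V →ₗ[F] V) - 1)
  have hμ : μ ≠ 0 := by rintro rfl; simp at hsum; omega
  have h4 : 0 < Multiset.card μ := Multiset.card_pos.2 hμ
  obtain ⟨x, rfl⟩ := Multiset.card_eq_one.1 (show Multiset.card μ = 1 by omega)
  rw [Multiset.sum_singleton] at hsum
  rw [hprof, hsum]

theorem HasType.singleton_of_shift {k : ℕ} {a : (Fin k → F) ≃ₗ[F] (Fin k → F)} {W : Module.End F (Fin k → F)}
    (hW : IsUnit W) (hc : Commute (Jordan.shift F k) W)
    (ha : ((a : (Fin k → F) →ₗ[F] (Fin k → F)) - 1) = Jordan.shift F k * W) : HasType a {k} := by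
  have hp : Jordan.shift F k ^ k = 0 := by
    refine LinearMap.ext fun v => funext fun i => ?_
    rw [Jordan.shift_pow_apply, dif_neg (by omega)]
    rfl
  refine ⟨⟨k, by rw [ha, hc.mul_pow, hp, zero_mul]⟩, fun j => ?_⟩
  rw [ha, hc.mul_pow, finrank_range_mul_unit (hW.pow j), Jordan.finrank_range_shift]
  simp [Jordan.prof]

end Types

section Hankel

variable {k : ℕ}

/-- The weighted Hankel form on `F ^ k`. -/
def hankel (k c : ℕ) (w : ℕ → F) : BilinForm F (Fin k → F) :=
  ∑ i : Fin k, ∑ j : Fin k, if (i : ℕ) + j = c then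
    w i • (LinearMap.proj (R := F) (φ := fun _ : Fin k => F) i).smulRight (LinearMap.proj (R := F) (φ := fun _ : Fin k => F) j) else 0

theorem hankel_apply (c : ℕ) (w : ℕ → F) (u v : Fin k → F) :
    hankel k c w u v = ∑ i : Fin k, ∑ j : Fin k, if (i : ℕ) + j = c then w i * (u i * v j) else 0 := by
  simp only [hankel, LinearMap.sum_apply]
  refine Finset.sum_congr rfl fun i _ => Finset.sum_congr rfl fun j _ => ?_
  split_ifs <;> simp

theorem hankel_apply' (c : ℕ) (w : ℕ → F) (u v : Fin k → F) :
    hankel k c w u v = ∑ i : Fin k,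
      if h : (i : ℕ) ≤ c ∧ c - i < k then w i * (u i * v ⟨c - i, h.2⟩) else 0 := by
  rw [hankel_apply]
  refine Finset.sum_congr rfl fun i _ => ?_
  split_ifs with h
  · rw [Finset.sum_eq_single ⟨c - i, h.2⟩ (fun j _ hj => if_neg fun e => hj (Fin.ext (by
      show (j : ℕ) = c - i; omega))) (by simp), if_pos (by show (i : ℕ) + (c - i) = c; omega)]
  · exact Finset.sum_eq_zero fun j _ => if_neg fun e => h ⟨by omega, by have := j.2; omega⟩

theorem hankel_swap (c : ℕ) (w : ℕ → F) (u v : Fin k → F) :
    hankel k c w u v = hankel k c (fun i => w (c - i)) v u := by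
  rw [hankel_apply, hankel_apply, Finset.sum_comm]
  refine Finset.sum_congr rfl fun i _ => Finset.sum_congr rfl fun j _ => ?_
  rw [add_comm (j : ℕ)]
  split_ifs with h
  · rw [show c - (i : ℕ) = j by omega]; ring
  · rfl

theorem hankel_congr {c : ℕ} {w w' : ℕ → F} (h : ∀ i j, i < k → j < k → i + j = c → w i = w' i) :
    hankel k c w = hankel k c w' := by
  refine LinearMap.ext fun u => LinearMap.ext fun v => ?_
  rw [hankel_apply, hankel_apply]
  refine Finset.sum_congr rfl fun i _ => Finset.sum_congr rfl fun j _ => ?_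
  split_ifs with e
  · rw [h i j i.2 j.2 e]
  · rfl

theorem hankel_symm (c : ℕ) (u v : Fin k → F) :
    hankel k c (fun _ => (1 : F)) u v = hankel k c (fun _ => (1 : F)) v u := hankel_swap c _ u v

theorem hankel_nondegenerate {w : ℕ → F} (hw : ∀ i, w i ≠ 0) :
    (hankel k (k - 1) w).Nondegenerate := by
  have hleft : ∀ w : ℕ → F, (∀ i, w i ≠ 0) → ∀ u, (∀ v, hankel k (k - 1) w u v = 0) → u = 0 := by
    intro w hw u hu
    funext i
    have h := hu (Pi.single (Fin.rev i) 1)
    rw [hankel_apply', Finset.sum_eq_single i, dif_pos ⟨by omega, by omega⟩] at h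
    · rw [show (⟨k - 1 - (i : ℕ), _⟩ : Fin k) = Fin.rev i from Fin.ext (by rw [Fin.val_rev]; show k - 1 - (i : ℕ) = _; omega),
        Pi.single_eq_same, mul_one] at h
      exact (mul_eq_zero.1 h).resolve_left (hw _)
    · intro j _ hj
      split_ifs with hjc
      · rw [Pi.single_eq_of_ne, mul_zero, mul_zero]
        intro e
        apply hj
        have he := congrArg Fin.val e
        rw [Fin.val_rev] at he
        have hji : k - 1 - (j : ℕ) = k - ((i : ℕ) + 1) := he
        exact Fin.ext (by have hj2 := j.2; have hi2 := i.2; omega)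
      · rfl
    · simp
  exact ⟨hleft w hw, fun u hu => hleft (fun i => w (k - 1 - i)) (fun i => hw _) u fun v => by
    rw [← hankel_swap]; exact hu v⟩

theorem hankel_shift_right (w : ℕ → F) (u v : Fin k → F) :
    hankel k (k - 1) w u (Jordan.shift F k v) = hankel k k w u v := by
  rw [hankel_apply', hankel_apply']
  refine Finset.sum_congr rfl fun i _ => ?_
  have := i.2
  rw [dif_pos ⟨by omega, by omega⟩, Jordan.shift_apply]
  by_cases h0 : (i : ℕ) = 0
  · rw [dif_neg (by simp only; omega), dif_neg (fun h => by omega), mul_zero, mul_zero]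
  · rw [dif_pos (by simp only; omega), dif_pos ⟨by omega, by omega⟩]
    congr 3
    exact Fin.ext (by simp only; omega)

theorem hankel_shift_left (w : ℕ → F) (u v : Fin k → F) :
    hankel k (k - 1) w (Jordan.shift F k u) v = hankel k k (fun i => w (i - 1)) u v := by
  rw [hankel_swap, hankel_shift_right, hankel_swap]
  refine congrFun (congrArg DFunLike.coe (congrFun (congrArg DFunLike.coe (hankel_congr ?_)) u)) v
  intro i j hi hj e
  show w (k - 1 - (k - i)) = w (i - 1)
  congr 1
  omega

theorem hankel_self_adjoint (u v : Fin k → F) :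
    hankel k (k - 1) (fun _ => (1 : F)) (Jordan.shift F k u) v =
      hankel k (k - 1) (fun _ => (1 : F)) u (Jordan.shift F k v) := by
  rw [hankel_shift_left, hankel_shift_right]

/-- In characteristic two only the middle term of the diagonal survives. -/
theorem hankel_diag [CharP F 2] (c : ℕ) (b : Fin k → F) :
    hankel k c (fun _ => (1 : F)) b b = ∑ i : Fin k, if 2 * (i : ℕ) = c then b i * b i else 0 := by
  have key : ∀ G : Fin k → Fin k → F, (∀ i j, G i j = G j i) → ∑ i, ∑ j, G i j = ∑ i, G i i := by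
    intro G hG
    rw [← Finset.sum_product', Finset.univ_product_univ,
      ← Finset.sum_filter_add_sum_filter_not Finset.univ (fun z : Fin k × Fin k => z.1 = z.2)]
    have h0 : ∑ z ∈ Finset.univ.filter (fun z : Fin k × Fin k => ¬ z.1 = z.2), G z.1 z.2 = 0 := by
      refine Finset.sum_involution (fun z _ => (z.2, z.1)) ?_ ?_ ?_ ?_
      · intro z _
        rw [hG z.2 z.1, CharTwo.add_self_eq_zero]
      · intro z hz _ e
        exact (Finset.mem_filter.1 hz).2 (congrArg Prod.fst e).symm
      · intro z hz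
        exact Finset.mem_filter.2 ⟨Finset.mem_univ _, fun e => (Finset.mem_filter.1 hz).2 e.symm⟩
      · intro z _; rfl
    rw [h0, add_zero]
    refine Finset.sum_bij' (fun z _ => z.1) (fun i _ => (i, i)) (fun z _ => Finset.mem_univ _)
      (fun i _ => Finset.mem_filter.2 ⟨Finset.mem_univ _, rfl⟩) ?_ (fun i _ => rfl) ?_
    · intro z hz
      exact Prod.ext rfl (Finset.mem_filter.1 hz).2
    · intro z hz
      rw [(Finset.mem_filter.1 hz).2]
  rw [hankel_apply, key _ fun i j => by rw [add_comm (i : ℕ), mul_comm (b i)]]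
  simp only [one_mul, two_mul]

end Hankel

end CfsgLib.Classical.ClassTheory
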