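import Cfsg.Agent.Lib.Classical.ClassTheory.UnitaryRegularSmall

/-!
# Regular unipotent generators of the special unitary groups of odd dimension

The parameters of the two generators in dimension three and the passage to matrices.
-/

set_option autoImplicit false

namespace CfsgLib.Classical.ClassTheory.UnitaryRegular

open Matrix CfsgLib.Classical CfsgLib.Classical.Herm CfsgLib.Classical.ClassTheory.UnitaryGen

/-! ### Arithmetic -/

theorem not_dvd_subfield {q k j : ℕ} (hq : IsPrimePow q) (hq' : ¬ q.Prime) (h8 : q ≠ 8) (hk : 1 < k) (hj : 2 ≤ j)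
    (hkj : k ^ j = q ^ 2) : ¬ q + 1 ∣ 18 * (k - 1) := by
  intro hdvd
  obtain ⟨p, e, hp, he, rfl⟩ := (isPrimePow_nat_iff q).1 hq
  have he2 : 2 ≤ e := by
    by_contra h
    exact hq' (by rw [show e = 1 by omega, pow_one]; exact hp)
  obtain ⟨d, -, rfl⟩ := (Nat.dvd_prime_pow hp).1
    ((show k ^ j = p ^ (e * 2) by rw [hkj, pow_mul]) ▸ dvd_pow_self k (by omega) : k ∣ p ^ (e * 2))
  rw [← pow_mul, ← pow_mul] at hkj
  have hdj : d * j = e * 2 := Nat.pow_right_injective hp.two_le hkj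
  rcases Nat.even_or_odd' j with ⟨i, rfl | rfl⟩
  · have hde : p ^ d - 1 ∣ p ^ e - 1 := by
      rw [show e = d * i by rw [mul_comm 2 i, ← mul_assoc] at hdj; omega, pow_mul]
      exact Nat.sub_one_dvd_pow_sub_one (p ^ d) i
    have h36 : p ^ e + 1 ∣ 36 := by
      have h1 := hdvd.trans (Nat.mul_dvd_mul_left 18 hde)
      have h2 : p ^ e + 1 ∣ 18 * (p ^ e + 1) := Dvd.intro_left 18 rfl
      have h3 := Nat.dvd_sub h2 h1
      rwa [← Nat.mul_sub, show p ^ e + 1 - (p ^ e - 1) = 2 by have := Nat.one_le_pow e p hp.pos; omega] at h3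
    have hle : p ^ e ≤ 35 := by have := Nat.le_of_dvd (by norm_num) h36; omega
    have hp6 : p < 6 := by
      by_contra h
      have : 6 ^ 2 ≤ p ^ e := (Nat.pow_le_pow_left (by omega) 2).trans (Nat.pow_le_pow_right hp.pos he2)
      omega
    have he6 : e < 6 := by
      by_contra h
      have : 2 ^ 6 ≤ p ^ e := (Nat.pow_le_pow_right two_pos (by omega)).trans (Nat.pow_le_pow_left hp.two_le e)
      omega
    have := hp.two_le
    interval_cases p <;> interval_cases e <;> revert h36 hle h8 hp <;> norm_num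
  · obtain ⟨d', rfl⟩ : 2 ∣ d := by
      have : 2 ∣ d * (2 * i + 1) := hdj ▸ Dvd.intro_left e rfl
      exact (Nat.prime_two.dvd_mul.1 this).resolve_right (by omega)
    obtain rfl : e = d' * (2 * i + 1) := by
      have : 2 * (d' * (2 * i + 1)) = 2 * e := by rw [← mul_assoc, hdj, mul_comm]
      omega
    have hi : 1 ≤ i := by omega
    rw [mul_comm 2 d', pow_mul, pow_mul] at hdvd
    rw [pow_mul] at h8
    have hQ : 2 ≤ p ^ d' := by
      rw [mul_comm 2 d', pow_mul] at hk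
      by_contra h
      have := Nat.pow_le_pow_left (show p ^ d' ≤ 1 by omega) 2
      omega
    generalize p ^ d' = Q at hdvd hQ h8
    have hpos : 0 < Q ^ 2 - 1 := by have : 2 ^ 2 ≤ Q ^ 2 := Nat.pow_le_pow_left hQ 2; omega
    have hle := Nat.le_of_dvd (by omega) hdvd
    have h3 : Q ^ 3 ≤ Q ^ (2 * i + 1) := Nat.pow_le_pow_right (by omega) (by omega)
    have hQ18 : Q < 18 := by
      by_contra h
      have : 18 * Q ^ 2 ≤ Q ^ 3 := by rw [pow_succ' Q 2]; exact Nat.mul_le_mul_right _ (by omega)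
      omega
    have hi4 : i < 3 := by
      by_contra h
      have h7 : Q ^ 7 ≤ Q ^ (2 * i + 1) := Nat.pow_le_pow_right (by omega) (by omega)
      have : 2 ^ 5 * Q ^ 2 ≤ Q ^ 7 := by
        rw [show Q ^ 7 = Q ^ 5 * Q ^ 2 by ring]; exact Nat.mul_le_mul_right _ (Nat.pow_le_pow_left hQ 5)
      omega
    interval_cases i <;> interval_cases Q <;> revert hdvd h8 <;> norm_num

/-! ### Dimension three -/

variable {F : Type*} [Field F] {σ : F →+* F} (hσ : IsInvol σ)
include hσ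

theorem isPrimePow_fixed [Finite F] : IsPrimePow (Nat.card (fixedSub σ)) := by
  have := Fintype.ofFinite (fixedSub σ)
  rw [Nat.card_eq_fintype_card]
  exact FiniteField.isPrimePow_card _

/-- Two conjugate regular unipotent elements generate in dimension three. -/
theorem exists_two_model [Finite F] (hq2 : Nat.card (fixedSub σ) ≠ 2) :
    ∃ (a : F) (ha : a + σ a = -1) (M : HU (mB σ 1 1)), M ∈ HSU (mB σ 1 1) ∧ ∀ H : Subgroup (HU (mB σ 1 1)),
      uEl (m := 1) hσ ha ∈ H → M * uEl (m := 1) hσ ha * M⁻¹ ∈ H → HSU (mB σ 1 1) ≤ H := by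
  classical
  have : Fintype F := Fintype.ofFinite F
  obtain ⟨p, e, hp, he, hpe⟩ := (isPrimePow_nat_iff _).1 (isPrimePow_fixed hσ)
  have : Fact p.Prime := ⟨hp⟩
  have hchar : CharP F p := charP_of_card_eq_prime_pow (f := e * 2) (by
    rw [← Nat.card_eq_fintype_card, hσ.card_sq, ← hpe, pow_mul])
  set q := Nat.card (fixedSub σ) with hq
  have hq3 : 3 ≤ q := by have := (isPrimePow_fixed hσ).two_le; omega
  by_cases hsmall : q = 3 ∨ q = 5 ∨ q = 11 ∨ q = 8
  · rcases hsmall with h | h | h | h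
    all_goals
      have hdiv : p ∣ q := hpe ▸ dvd_pow_self p (by omega)
      rw [h] at hdiv
    · obtain rfl := (Nat.prime_dvd_prime_iff_eq hp Nat.prime_three).1 hdiv
      exact Small.exists_pair_three hσ h
    · obtain rfl := (Nat.prime_dvd_prime_iff_eq hp Nat.prime_five).1 hdiv
      exact Small.exists_pair_five hσ h
    · obtain rfl := (Nat.prime_dvd_prime_iff_eq hp (by norm_num : Nat.Prime 11)).1 hdiv
      exact Small.exists_pair_eleven hσ h
    · obtain rfl := (Nat.prime_dvd_prime_iff_eq hp Nat.prime_two).1 (hp.dvd_of_dvd_pow (n := 3) hdiv)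
      exact Small.exists_pair_eight hσ h
  push Not at hsmall
  obtain ⟨h3, h5, h11, h8⟩ := hsmall
  obtain ⟨ξ, hξ⟩ := IsCyclic.exists_generator (α := Fˣ)
  have hord : orderOf (ξ : F) = q ^ 2 - 1 := by
    rw [orderOf_units, orderOf_eq_card_of_forall_mem_zpowers hξ, Nat.card_units, hσ.card_sq]
  obtain ⟨ε, hε⟩ : ∃ ε, ε = (ξ : F) ^ (q - 1) := ⟨_, rfl⟩
  have hprod : (q - 1) * (q + 1) = q ^ 2 - 1 := by rw [mul_comm, ← Nat.sq_sub_sq, one_pow]
  have hε1 : ε ^ (q + 1) = 1 := by rw [hε, ← pow_mul, hprod, ← hord, pow_orderOf_eq_one]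
  have hεd : ∀ k, ε ^ k = 1 → q + 1 ∣ k := fun k hk => by
    rw [hε, ← pow_mul] at hk
    have := orderOf_dvd_of_pow_eq_one hk
    rw [hord, ← hprod] at this
    exact Nat.dvd_of_mul_dvd_mul_left (by omega) this
  have hε0 : ε ≠ 0 := hε ▸ pow_ne_zero _ ξ.ne_zero
  have hσε : σ ε = ε⁻¹ := by
    rw [hσ.apply_eq_pow]; exact eq_inv_of_mul_eq_one_left (by rw [← pow_succ]; exact hε1)
  obtain ⟨ρ, hρ⟩ : ∃ ρ, ρ = ε ^ 3 := ⟨_, rfl⟩
  have hρ0 : ρ ≠ 0 := hρ ▸ pow_ne_zero _ hε0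
  have hρ4 : ρ ^ 4 ≠ 1 := fun h => by
    rw [hρ, ← pow_mul] at h
    have h12 := hεd _ h
    have h13 : q ≤ 11 := by have := Nat.le_of_dvd (by norm_num) h12; omega
    rcases (by omega : q = 4 ∨ q = 6 ∨ q = 7 ∨ q = 9 ∨ q = 10) with hv | hv | hv | hv | hv <;>
      rw [hv] at h12 <;> norm_num at h12
  have hρ1 : 1 + ρ ≠ 0 := fun h => hρ4 (by rw [eq_neg_of_add_eq_zero_right h]; ring)
  have hρ1' : ρ + 1 ≠ 0 := by rwa [add_comm]
  have hσρ : σ ρ = ρ⁻¹ := by rw [hρ, map_pow, hσε, inv_pow]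
  obtain ⟨a, hadef⟩ : ∃ a, a = -(1 + ρ)⁻¹ := ⟨_, rfl⟩
  have hρa : σ a = ρ * a := by
    rw [hadef, map_neg, map_inv₀, map_add, map_one, hσρ]; field_simp; ring
  have ha : a + σ a = -1 := by rw [hρa, hadef]; field_simp; ring
  have ha0 : a ≠ 0 := a_ne ha
  have hl : (ε * a)⁻¹ ≠ 0 := inv_ne_zero (mul_ne_zero hε0 ha0)
  obtain ⟨M, hM, hMe⟩ := exists_conj_opposite hσ ha hl (r := -(σ a)⁻¹) (b := (σ a)⁻¹)
    (by rw [map_inv₀, map_mul, hσε, hρa, hρ]; field_simp)
    (by rw [map_inv₀, map_mul, hσε, hρa]; field_simp)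
  refine ⟨a, ha, M, hM, fun H hu hv => hsu_le_of_two hσ ha hu ?_ hρa hρ4 hq2 ?_⟩
  · rw [vTwo, hMe]; exact hv
  by_cases hqp : q.Prime
  · refine Or.inl fun A h1 hγ x => ?_
    have : Fact q.Prime := ⟨hqp⟩
    obtain rfl : p = q := (Nat.prime_dvd_prime_iff_eq hp hqp).1 (hpe ▸ dvd_pow_self p (by omega))
    refine Small.mem_of_indep hσ hq.symm A h1 hγ (fun h => hρ4 ?_) x
    rw [map_inv₀, map_pow, hσρ, inv_pow, inv_inv] at h
    field_simp at h
    linear_combination h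
  · refine Or.inr fun μ hμ0 hμ => closure_eq_top_of_pow hμ0 fun k hk hk1 j hj hkj => ?_
    rw [hσ.card_sq] at hkj
    refine not_dvd_subfield (isPrimePow_fixed hσ) hqp h8 hk hj hkj (hεd _ ?_)
    have hk2 := hk1
    rw [hμ, mul_pow, ← map_pow, hk1, map_one, mul_one] at hk2
    calc ε ^ (18 * (k - 1)) = ((-ρ ^ 3) ^ (k - 1)) ^ 2 := by
          rw [← pow_mul, mul_comm (k - 1) 2, pow_mul _ 2, neg_sq, ← pow_mul, ← pow_mul, hρ, ← pow_mul]; ring_nf
      _ = 1 := by rw [hk2, one_pow]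

/-! ### Matrices -/

omit hσ in
/-- The special unitary group of the model as a matrix group. -/
theorem exists_model_hom {K : Type*} [Field K] [Fintype K] {q : ℕ} (hF : Fintype.card K = q ^ 2) {m n : ℕ}
    (hnd : 2 * m + 1 = n) :
    ∃ Φ : HSU (mB (powHom hF) m 1) →* Cfsg.SU n K q, Function.Surjective Φ ∧ ∀ x k,
      ((((Φ x : Cfsg.SU n K q) : Matrix.SpecialLinearGroup (Fin n) K) : Matrix (Fin n) (Fin n) K) - 1) ^ k = 0 ↔
        (((((x : HU (mB (powHom hF) m 1)) : (Idx m 1 → K) ≃ₗ[K] (Idx m 1 → K)) :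
          (Idx m 1 → K) →ₗ[K] (Idx m 1 → K))) - 1) ^ k = 0 := by
  classical
  have hσ := powHom_isInvol hF
  obtain ⟨e, he⟩ := IsHerm.exists_isometry_of_finrank_eq (mB_herm (m := m) (d := 1) hσ) (hermStd_isHerm (n := n) hF)
    (by rw [finrank_model, finrank_std, hnd])
  let ψ : HSU (mB (powHom hF) m 1) →* HSU (hermStd n hF) :=
    { toFun := fun g => ⟨⟨e.symm.trans ((g.1 : HU _).1.trans e), fun u v => by
          show hermStd n hF (e (g.1.1 (e.symm u))) (e (g.1.1 (e.symm v))) = hermStd n hF u v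
          rw [he, HU.map_eq, ← he, e.apply_symm_apply, e.apply_symm_apply]⟩, by
        rw [MonoidHom.mem_ker]
        show LinearEquiv.det ((e.symm.trans g.1.1).trans e) = 1
        rw [LinearEquiv.det_conj g.1.1 e]
        exact g.2⟩
      map_one' := Subtype.ext (Subtype.ext (LinearEquiv.ext fun x => by simp))
      map_mul' := fun g h => Subtype.ext (Subtype.ext (LinearEquiv.ext fun x => by simp)) }
  have hψ : Function.Surjective ψ := fun k => by
    refine ⟨⟨⟨e.trans ((k.1 : HU _).1.trans e.symm), fun u v => by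
      show mB (powHom hF) m 1 (e.symm (k.1.1 (e u))) (e.symm (k.1.1 (e v))) = mB (powHom hF) m 1 u v
      rw [← he, e.apply_symm_apply, e.apply_symm_apply, HU.map_eq, he]⟩, ?_⟩, ?_⟩
    · rw [MonoidHom.mem_ker]
      have := k.2
      rw [MonoidHom.mem_ker] at this
      show LinearEquiv.det ((e.symm.symm.trans k.1.1).trans e.symm) = 1
      rw [LinearEquiv.det_conj k.1.1 e.symm]
      exact this
    · exact Subtype.ext (Subtype.ext (LinearEquiv.ext fun x => by simp [ψ]))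
  refine ⟨(suEquiv n hF).symm.toMonoidHom.comp ψ, (suEquiv n hF).symm.surjective.comp hψ, fun x k => ?_⟩
  set A := ((((suEquiv n hF).symm (ψ x) : Cfsg.SU n K q) : Matrix.SpecialLinearGroup (Fin n) K) : Matrix (Fin n) (Fin n) K)
  set T := (((x : HU (mB (powHom hF) m 1)) : (Idx m 1 → K) ≃ₗ[K] (Idx m 1 → K)) : (Idx m 1 → K) →ₗ[K] (Idx m 1 → K))
  have hA : Matrix.toLinAlgEquiv' A = e.conjAlgEquiv K T := by
    refine LinearMap.ext fun v => ?_
    rw [Matrix.toLinAlgEquiv'_apply, ← suEquiv_apply hF, MulEquiv.apply_symm_apply]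
    rfl
  show (A - 1) ^ k = 0 ↔ _
  rw [← map_eq_zero_iff _ (Matrix.toLinAlgEquiv' (R := K) (n := Fin n)).injective, map_pow, map_sub, map_one, hA,
    ← map_one (e.conjAlgEquiv K), ← map_sub, ← map_pow, map_eq_zero_iff _ (e.conjAlgEquiv K).injective]

omit hσ in
theorem regular_of_model {K : Type*} [Field K] [Fintype K] {q : ℕ} (hF : Fintype.card K = q ^ 2) {m n : ℕ} [NeZero m]
    (hnd : 2 * m + 1 = n) {Φ : HSU (mB (powHom hF) m 1) →* Cfsg.SU n K q}
    (hΦ : ∀ x k,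
      ((((Φ x : Cfsg.SU n K q) : Matrix.SpecialLinearGroup (Fin n) K) : Matrix (Fin n) (Fin n) K) - 1) ^ k = 0 ↔
        (((((x : HU (mB (powHom hF) m 1)) : (Idx m 1 → K) ≃ₗ[K] (Idx m 1 → K)) :
          (Idx m 1 → K) →ₗ[K] (Idx m 1 → K))) - 1) ^ k = 0)
    {a : K} (ha : a + powHom hF a = -1) :
    IsNilpotent ((((Φ ⟨_, uEl_mem (m := m) (powHom_isInvol hF) ha⟩ : Cfsg.SU n K q) :
        Matrix.SpecialLinearGroup (Fin n) K) : Matrix (Fin n) (Fin n) K) - 1) ∧
      ((((Φ ⟨_, uEl_mem (m := m) (powHom_isInvol hF) ha⟩ : Cfsg.SU n K q) :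
        Matrix.SpecialLinearGroup (Fin n) K) : Matrix (Fin n) (Fin n) K) - 1) ^ (n - 1) ≠ 0 := by
  refine ⟨⟨m + 1 + m, (hΦ _ _).2 (nEl_pow_eq_zero _ _)⟩, fun h => ?_⟩
  rw [show n - 1 = 2 * m by omega, hΦ] at h
  exact nEl_pow_ne (powHom_isInvol hF) ha h

omit hσ in
/-- The special unitary group in dimension three. -/
theorem exists_two_su {K : Type*} [Field K] [Fintype K] {q : ℕ} (hF : Fintype.card K = q ^ 2) (hq : 3 ≤ q) :
    ∃ u g : ↥(Cfsg.SU 3 K q),
      (IsNilpotent (((u : Matrix.SpecialLinearGroup (Fin 3) K) : Matrix (Fin 3) (Fin 3) K) - 1) ∧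
        (((u : Matrix.SpecialLinearGroup (Fin 3) K) : Matrix (Fin 3) (Fin 3) K) - 1) ^ (3 - 1) ≠ 0) ∧
      Subgroup.closure ({u, g * u * g⁻¹} : Set ↥(Cfsg.SU 3 K q)) = ⊤ := by
  have hσ := powHom_isInvol hF
  obtain ⟨a, ha, M, hM, htop⟩ := exists_two_model hσ (by rw [card_fixed_powHom hF]; omega)
  obtain ⟨Φ, hΦs, hΦ⟩ := exists_model_hom (m := 1) (n := 3) hF (by norm_num)
  let u' : HSU (mB (powHom hF) 1 1) := ⟨_, uEl_mem (m := 1) hσ ha⟩
  refine ⟨Φ u', Φ ⟨M, hM⟩, regular_of_model hF (by norm_num) hΦ ha, ?_⟩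
  rw [← map_inv, ← map_mul, ← map_mul, ← Set.image_pair Φ, ← MonoidHom.map_closure]
  refine (congrArg (Subgroup.map Φ) ?_).trans (Subgroup.map_top_of_surjective Φ hΦs)
  apply Subgroup.map_injective (HSU (mB (powHom hF) 1 1)).subtype_injective
  rw [MonoidHom.map_closure, Set.image_pair, ← MonoidHom.range_eq_map, Subgroup.range_subtype]
  refine le_antisymm ?_ (htop _ (Subgroup.subset_closure (Or.inl rfl)) (Subgroup.subset_closure (Or.inr rfl)))
  rw [Subgroup.closure_le]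
  rintro _ (rfl | rfl)
  · exact u'.2
  · exact mul_mem (mul_mem hM u'.2) (inv_mem hM)

omit hσ in
/-- The special unitary group in odd dimension. -/
theorem exists_three_su {K : Type*} [Field K] [Fintype K] {q : ℕ} (hF : Fintype.card K = q ^ 2) (n : ℕ) (hn : 3 ≤ n)
    (hodd : Odd n) (h32 : ¬ (n = 3 ∧ q = 2)) :
    ∃ u g h : ↥(Cfsg.SU n K q),
      (IsNilpotent (((u : Matrix.SpecialLinearGroup (Fin n) K) : Matrix (Fin n) (Fin n) K) - 1) ∧
        (((u : Matrix.SpecialLinearGroup (Fin n) K) : Matrix (Fin n) (Fin n) K) - 1) ^ (n - 1) ≠ 0) ∧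
      Subgroup.closure ({u, g * u * g⁻¹, h * u * h⁻¹} : Set ↥(Cfsg.SU n K q)) = ⊤ := by
  have hσ := powHom_isInvol hF
  obtain ⟨m, rfl⟩ := hodd
  rcases Nat.lt_or_ge m 2 with hm | hm
  · obtain rfl : m = 1 := by omega
    have hq : 3 ≤ q := by
      have hq2 : 2 ≤ q := by
        by_contra h
        have := Fintype.one_lt_card (α := K)
        interval_cases q <;> simp at hF <;> omega
      by_contra h
      exact h32 ⟨rfl, by omega⟩
    obtain ⟨u, g, hu, htop⟩ := exists_two_su hF hq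
    refine ⟨u, g, 1, hu, top_le_iff.1 (htop ▸ Subgroup.closure_mono ?_)⟩
    simp [Set.insert_subset_iff]
  have : NeZero m := ⟨by omega⟩
  obtain ⟨a, ha, g, h, hg, hh, htop⟩ := exists_three_model (m := m) hσ hm
  obtain ⟨Φ, hΦs, hΦ⟩ := exists_model_hom (m := m) (n := 2 * m + 1) hF rfl
  let u' : HSU (mB (powHom hF) m 1) := ⟨_, uEl_mem (m := m) hσ ha⟩
  refine ⟨Φ u', Φ ⟨g, hg⟩, Φ ⟨h, hh⟩, regular_of_model hF rfl hΦ ha, ?_⟩
  rw [← map_inv, ← map_mul, ← map_mul, ← map_inv, ← map_mul, ← map_mul, ← Set.image_pair Φ, ← Set.image_insert_eq,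
    ← MonoidHom.map_closure]
  refine (congrArg (Subgroup.map Φ) ?_).trans (Subgroup.map_top_of_surjective Φ hΦs)
  apply Subgroup.map_injective (HSU (mB (powHom hF) m 1)).subtype_injective
  rw [MonoidHom.map_closure, Set.image_insert_eq, Set.image_pair, ← MonoidHom.range_eq_map, Subgroup.range_subtype]
  exact htop

end CfsgLib.Classical.ClassTheory.UnitaryRegular
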