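import Cfsg.Agent.Lib.Classical.ClassTheory.UnitaryRegularTwo

/-!
# Two regular unipotent generators of the three-dimensional special unitary groups over small fields

For `q = 3, 5, 11` and `8` explicit words in the two generators move one centre to the other; their
action is evaluated in a concrete model of the field and carried over along a map respecting the
operations.
-/

set_option autoImplicit false

namespace CfsgLib.Classical.ClassTheory.UnitaryRegular.Small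

open Matrix CfsgLib.Classical CfsgLib.Classical.Herm CfsgLib.Classical.ClassTheory.UnitaryGen
open CfsgLib.Classical.ClassTheory.UnitaryRegular
open CfsgLib.Classical.ClassTheory.SpRegularThree (lst)

/-! ### Evaluation of words -/

/-- Operations on a carrier. -/
structure Ops (K : Type*) where
  add : K → K → K
  mul : K → K → K
  neg : K → K
  conj : K → K
  zero : K
  one : K

/-- The operations of a field with an automorphism. -/
def fieldOps {F : Type*} [Field F] (σ : F →+* F) : Ops F := ⟨(· + ·), (· * ·), Neg.neg, σ, 0, 1⟩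

/-- A map respecting the operations. -/
structure IsMap {K F : Type*} (P : Ops K) (Q : Ops F) (φ : K → F) : Prop where
  add : ∀ x y, φ (P.add x y) = Q.add (φ x) (φ y)
  mul : ∀ x y, φ (P.mul x y) = Q.mul (φ x) (φ y)
  neg : ∀ x, φ (P.neg x) = Q.neg (φ x)
  conj : ∀ x, φ (P.conj x) = Q.conj (φ x)
  zero : φ P.zero = Q.zero
  one : φ P.one = Q.one

/-- The four letters: the generators and their inverses. -/
inductive Letter
  | u | U | v | V
  deriving DecidableEq

variable {K : Type*}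

/-- One letter acting on a vector `(y, ω, φ)`; `p = (a, r, b)`. -/
def act (P : Ops K) (p : K × K × K) : Letter → K × K × K → K × K × K
  | .u, (y, o, f) => (P.add y (P.add (P.mul p.1 f) (P.neg o)), P.add o f, f)
  | .U, (y, o, f) => (P.add y (P.add (P.mul (P.conj p.1) f) o), P.add o (P.neg f), f)
  | .v, (y, o, f) => (y, P.add o (P.mul p.2.1 y), P.add f (P.add (P.mul p.2.2 y) (P.neg (P.mul (P.conj p.2.1) o))))
  | .V, (y, o, f) => (y, P.add o (P.neg (P.mul p.2.1 y)), P.add f (P.add (P.mul (P.conj p.2.2) y) (P.mul (P.conj p.2.1) o)))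

/-- A word acting on a vector. -/
def run (P : Ops K) (p : K × K × K) : List Letter → K × K × K → K × K × K
  | [], x => x
  | l :: w, x => act P p l (run P p w x)

/-- A map applied to the three coordinates. -/
def map3 {F : Type*} (φ : K → F) (x : K × K × K) : F × F × F := (φ x.1, φ x.2.1, φ x.2.2)

theorem run_map {F : Type*} {P : Ops K} {Q : Ops F} {φ : K → F} (h : IsMap P Q φ) (p : K × K × K)
    (w : List Letter) (x : K × K × K) : map3 φ (run P p w x) = run Q (map3 φ p) w (map3 φ x) := by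
  induction w with
  | nil => rfl
  | cons l w ih =>
    rw [run, run, ← ih]
    cases l <;> simp [act, map3, h.add, h.mul, h.neg, h.conj]

variable {F : Type*} [Field F] {σ : F →+* F} (hσ : IsInvol σ)
include hσ

/-- A vector of the model by three scalars. -/
def vec (x : F × F × F) : Idx 1 1 → F := tri (fun _ => x.1) x.2.1 (fun _ => x.2.2)

omit hσ in
theorem vec_e : vec ((1 : F), 0, 0) = ev 0 := by
  funext i; rcases i with (i | i) | i <;> simp [vec, tri, ev, Subsingleton.elim i 0]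

omit hσ in
theorem vec_w : vec ((0 : F), 1, 0) = wv 0 := by
  funext i; rcases i with (i | i) | i <;> simp [vec, tri, wv, Subsingleton.elim i 0]

omit hσ in
theorem vec_eq (y o f : F) : vec (y, o, f) = y • ev 0 + o • wv 0 + f • fv 0 := by
  funext i; rcases i with (i | i) | i <;> simp [vec, tri, ev, wv, fv, Subsingleton.elim i 0]

/-- The word is realised in the group. -/
theorem exists_run {H : Subgroup (HU (mB σ 1 1))} {a r b : F} (ha : a + σ a = -1) (hu : uEl (m := 1) hσ ha ∈ H)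
    {hff : mB σ 1 1 (fv 0) (fv 0) = 0} {hfx : mB σ 1 1 (fv 0) (r • wv 0) = 0}
    {htr : b + σ b = -mB σ 1 1 (r • wv 0) (r • wv 0)} (hv : (mB_herm hσ).eich hff hfx htr ∈ H) (w : List Letter) :
    ∃ g ∈ H, ∀ x, (g : (Idx 1 1 → F) ≃ₗ[F] (Idx 1 1 → F)) (vec x) = vec (run (fieldOps σ) (a, r, b) w x) := by
  induction w with
  | nil => exact ⟨1, H.one_mem, fun x => rfl⟩
  | cons l w ih =>
    obtain ⟨g, hg, hgx⟩ := ih
    suffices ∃ k ∈ H, ∀ x, (k : (Idx 1 1 → F) ≃ₗ[F] (Idx 1 1 → F)) (vec x) = vec (act (fieldOps σ) (a, r, b) l x) by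
      obtain ⟨k, hk, hkx⟩ := this
      exact ⟨k * g, H.mul_mem hk hg, fun x => by rw [Subgroup.coe_mul, LinearEquiv.mul_apply, hgx, hkx]; rfl⟩
    have hu' : (mB_herm hσ).eich (B_ev_self (lst 1)) (B_ev_w (lst 1)) (short_trace ha) ∈ H := by
      rwa [uEl_one, sEl] at hu
    have hl : lst 1 = (0 : Fin 1) := Subsingleton.elim _ _
    cases l
    case u =>
      refine ⟨_, hu', fun x => ?_⟩
      obtain ⟨y, o, f⟩ := x
      rw [IsHerm.eich_apply, B_ev, B_wv, hl]
      funext i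
      rcases i with (i | i) | i <;> simp [vec, tri, act, fieldOps, ev, wv, Subsingleton.elim i 0] <;> ring
    case U =>
      refine ⟨_, H.inv_mem hu', fun x => ?_⟩
      obtain ⟨y, o, f⟩ := x
      rw [eich_inv', IsHerm.eich_apply, map_neg, LinearMap.neg_apply, B_ev, B_wv, hl]
      funext i
      rcases i with (i | i) | i <;> simp [vec, tri, act, fieldOps, ev, wv, Subsingleton.elim i 0] <;> ring
    case v =>
      refine ⟨_, hv, fun x => ?_⟩
      obtain ⟨y, o, f⟩ := x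
      rw [IsHerm.eich_apply, B_fv, Herm.smul_left, B_wv]
      funext i
      rcases i with (i | i) | i <;> simp [vec, tri, act, fieldOps, fv, wv, Subsingleton.elim i 0] <;> ring
    case V =>
      refine ⟨_, H.inv_mem hv, fun x => ?_⟩
      obtain ⟨y, o, f⟩ := x
      rw [eich_inv', IsHerm.eich_apply, map_neg, LinearMap.neg_apply, B_fv, Herm.smul_left, B_wv]
      funext i
      rcases i with (i | i) | i <;> simp [vec, tri, act, fieldOps, fv, wv, Subsingleton.elim i 0] <;> ring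

variable {P : Ops K} {φ : K → F}

/-- A word moving one centre to the other, evaluated in the concrete model. -/
theorem exists_move (h : IsMap P (fieldOps σ) φ) {H : Subgroup (HU (mB σ 1 1))} {a r b : K}
    (ha : φ a + σ (φ a) = -1) (hu : uEl (m := 1) hσ ha ∈ H)
    {hff : mB σ 1 1 (fv 0) (fv 0) = 0} {hfx : mB σ 1 1 (fv 0) (φ r • wv 0) = 0}
    {htr : φ b + σ (φ b) = -mB σ 1 1 (φ r • wv 0) (φ r • wv 0)} (hv : (mB_herm hσ).eich hff hfx htr ∈ H)
    (w : List Letter) {c α β : K} (he : run P (a, r, b) w (P.one, P.zero, P.zero) = (P.zero, P.zero, c))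
    (hw : run P (a, r, b) w (P.zero, P.one, P.zero) = (P.zero, α, β)) :
    ∃ g ∈ H, (g : (Idx 1 1 → F) ≃ₗ[F] (Idx 1 1 → F)) (ev 0) = φ c • fv 0 ∧
      (g : (Idx 1 1 → F) ≃ₗ[F] (Idx 1 1 → F)) (wv 0) = φ α • wv 0 + φ β • fv 0 := by
  obtain ⟨g, hg, hgx⟩ := exists_run hσ ha hu hv w
  have h0 : φ P.zero = 0 := h.zero
  have h1 : φ P.one = 1 := h.one
  have ee := congrArg (map3 φ) he
  have ew := congrArg (map3 φ) hw
  rw [run_map h] at ee ew
  simp only [map3, h0, h1] at ee ew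
  refine ⟨g, hg, ?_, ?_⟩
  · rw [← vec_e, hgx, ee, vec_eq]; simp
  · rw [← vec_w (F := F), hgx, ew, vec_eq, vec_w]; simp

theorem ne_zero_of_inv (h : IsMap P (fieldOps σ) φ) {x y : K} (hxy : P.mul x y = P.one) : φ x ≠ 0 := fun e => by
  have := congrArg φ hxy
  rw [h.mul, h.one] at this
  simp [fieldOps, e] at this

/-- The conjugate generator given by concrete parameters. -/
theorem exists_opposite (h : IsMap P (fieldOps σ) φ) {a l li r b : K} (ha : φ a + σ (φ a) = -1)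
    (hli : P.mul l li = P.one) (hr : r = P.neg (P.mul (P.mul (P.conj l) (P.conj l)) li))
    (hb : b = P.mul (P.mul l (P.conj l)) a) :
    ∃ (hff : mB σ 1 1 (fv 0) (fv 0) = 0) (hfx : mB σ 1 1 (fv 0) (φ r • wv 0) = 0)
      (htr : φ b + σ (φ b) = -mB σ 1 1 (φ r • wv 0) (φ r • wv 0)),
      ∃ M ∈ HSU (mB σ 1 1), (mB_herm hσ).eich hff hfx htr = M * uEl (m := 1) hσ ha * M⁻¹ := by
  have hl : φ l ≠ 0 := ne_zero_of_inv hσ h hli
  have hli' : φ li = (φ l)⁻¹ := by
    refine eq_inv_of_mul_eq_one_right ?_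
    have := congrArg φ hli
    rwa [h.mul, h.one] at this
  have hr' : φ r = -(σ (φ l) * σ (φ l) / φ l) := by
    rw [hr, h.neg, h.mul, h.mul, h.conj, hli', div_eq_mul_inv]; rfl
  have hb' : φ b = φ l * σ (φ l) * φ a := by rw [hb, h.mul, h.mul, h.conj]; rfl
  have htr : φ b + σ (φ b) = -mB σ 1 1 (φ r • wv 0) (φ r • wv 0) := by
    rw [Herm.smul_left, Herm.smul_right, B_wv, hr', hb']
    simp [wv, hσ.invol]
    have hσl : σ (φ l) ≠ 0 := fun e => hl (IsInvol.apply_eq_zero_iff.1 e)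
    field_simp
    linear_combination ha
  obtain ⟨M, hM, hMe⟩ := exists_conj_opposite hσ ha hl hr' hb'
  exact ⟨B_fv_fv, B_fv_smul_wv _, htr, M, hM, hMe _ _ _⟩

/-! ### Prime fields -/

section prime

variable {p : ℕ} [Fact p.Prime] [CharP F p]

/-- The model of the field with `p²` elements. -/
def quadOps (p : ℕ) (d : ZMod p) : Ops (ZMod p × ZMod p) where
  add x y := (x.1 + y.1, x.2 + y.2)
  mul x y := (x.1 * y.1 + d * x.2 * y.2, x.1 * y.2 + x.2 * y.1)
  neg x := (-x.1, -x.2)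
  conj x := (x.1, -x.2)
  zero := (0, 0)
  one := (1, 0)

theorem exists_quad_map [Finite F] (hp2 : p ≠ 2) (hcard : Nat.card (fixedSub σ) = p) (d : ZMod p)
    (hd : d ^ ((p - 1) / 2) = -1) : ∃ φ : ZMod p × ZMod p → F, IsMap (quadOps p d) (fieldOps σ) φ := by
  classical
  have : Fintype F := Fintype.ofFinite F
  have hp : p.Prime := Fact.out
  have hodd : p % 2 = 1 := hp.eq_two_or_odd.resolve_left hp2
  let ι := ZMod.castHom (dvd_refl p) F
  have hι : ∀ x, σ (ι x) = ι x := fun x => congrArg (fun g : ZMod p →+* F => g x) (RingHom.ext_zmod (σ.comp ι) ι)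
  have hd' : ι d ^ ((p - 1) / 2) = -1 := by rw [← map_pow, hd, map_neg, map_one]
  have hd0 : ι d ≠ 0 := fun e => by
    rw [e, zero_pow (by have := hp.two_le; omega)] at hd'; exact neg_ne_zero.2 one_ne_zero hd'.symm
  obtain ⟨t, ht⟩ : ∃ t : F, t * t = ι d := by
    have hF : ringChar F ≠ 2 := by rwa [ringChar.eq F p]
    obtain ⟨t, ht⟩ := (FiniteField.isSquare_iff hF hd0).2 (by
      rw [← Nat.card_eq_fintype_card, hσ.card_sq, hcard]
      obtain ⟨i, hi⟩ : ∃ i, p = 2 * i + 1 := ⟨p / 2, by omega⟩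
      rw [show p ^ 2 / 2 = ((p - 1) / 2) * (p + 1) by
        rw [hi, show (2 * i + 1) ^ 2 = 1 + 2 * (i * (2 * i + 1 + 1)) by ring, Nat.add_mul_div_left _ _ two_pos,
          show (2 * i + 1 - 1) / 2 = i by omega]
        simp, pow_mul, hd', Even.neg_one_pow ⟨(p + 1) / 2, by omega⟩])
    exact ⟨t, ht.symm⟩
  have hσt : σ t = -t := by
    rw [hσ.apply_eq_pow, hcard, show p = 2 * ((p - 1) / 2) + 1 by omega, pow_succ, pow_mul, sq, ht, hd', neg_one_mul]
  refine ⟨fun x => ι x.1 + ι x.2 * t, ⟨fun x y => ?_, fun x y => ?_, fun x => ?_, fun x => ?_, ?_, ?_⟩⟩ <;>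
    simp only [quadOps, fieldOps, map_add, map_mul, map_neg, map_zero, map_one, hι, hσt]
  · ring
  · linear_combination (-(ι x.2 * ι y.2)) * ht
  · ring
  · ring
  · ring
  · ring

/-- The fixed field is the prime field. -/
theorem fixed_eq_int [Finite F] (hcard : Nat.card (fixedSub σ) = p) {x : F} (hx : σ x = x) : ∃ n : ℤ, (n : F) = x := by
  let ψ : ZMod p → fixedSub σ := fun y => ⟨ZMod.castHom (dvd_refl p) F y, by
    show σ _ = _
    exact congrArg (fun g : ZMod p →+* F => g y) (RingHom.ext_zmod (σ.comp (ZMod.castHom (dvd_refl p) F)) (ZMod.castHom (dvd_refl p) F))⟩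
  have hinj : Function.Injective ψ := fun a b h => (ZMod.castHom (dvd_refl p) F).injective (congrArg Subtype.val h)
  have := Fintype.ofFinite (fixedSub σ)
  obtain ⟨y, hy⟩ := ((Fintype.bijective_iff_injective_and_card ψ).2 ⟨hinj, by
    rw [ZMod.card, ← Nat.card_eq_fintype_card, hcard]⟩).2 ⟨x, hx⟩
  refine ⟨(y.val : ℤ), ?_⟩
  have h := congrArg Subtype.val hy
  rw [← ZMod.natCast_zmod_val y] at h
  simpa [ψ] using h

/-- Two coefficients independent over the fixed field give all when that field is prime. -/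
theorem mem_of_indep [Finite F] (hcard : Nat.card (fixedSub σ) = p) (A : AddSubgroup F) (h1 : (1 : F) ∈ A) {γ : F}
    (hγA : γ ∈ A) (hγ : σ γ ≠ γ) (x : F) : x ∈ A := by
  have hne : γ - σ γ ≠ 0 := sub_ne_zero.2 (Ne.symm hγ)
  obtain ⟨n, hn⟩ := fixed_eq_int hσ hcard (x := (x - σ x) / (γ - σ γ)) (by
    rw [map_div₀, map_sub, map_sub, hσ.invol, hσ.invol, ← neg_sub x, ← neg_sub γ, neg_div_neg_eq])
  obtain ⟨k, hk⟩ := fixed_eq_int hσ hcard (x := x - (x - σ x) / (γ - σ γ) * γ) (by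
    have h2 : σ γ - γ ≠ 0 := sub_ne_zero.2 hγ
    rw [map_sub, map_mul, map_div₀, map_sub, map_sub, hσ.invol, hσ.invol, ← neg_sub x, ← neg_sub γ, neg_div_neg_eq]
    field_simp
    ring)
  rw [show x = k • (1 : F) + n • γ by rw [zsmul_eq_mul, zsmul_eq_mul, mul_one, hk, hn]; ring]
  exact A.add_mem (A.zsmul_mem h1 k) (A.zsmul_mem hγA n)

/-- The conclusion for a prime field, given the concrete data. -/
theorem exists_prime_pair [Finite F] (hp2 : p ≠ 2) (hcard : Nat.card (fixedSub σ) = p) (d : ZMod p)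
    (hd : d ^ ((p - 1) / 2) = -1) (a l li r b : ZMod p × ZMod p) (w : List Letter) (c α β ci αi γ γi : ZMod p × ZMod p)
    (h1 : (quadOps p d).add a ((quadOps p d).conj a) = (quadOps p d).neg (quadOps p d).one)
    (h2 : (quadOps p d).mul l li = (quadOps p d).one)
    (h3 : r = (quadOps p d).neg ((quadOps p d).mul ((quadOps p d).mul ((quadOps p d).conj l) ((quadOps p d).conj l)) li))
    (h4 : b = (quadOps p d).mul ((quadOps p d).mul l ((quadOps p d).conj l)) a)
    (h5 : run (quadOps p d) (a, r, b) w ((quadOps p d).one, (quadOps p d).zero, (quadOps p d).zero) =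
      ((quadOps p d).zero, (quadOps p d).zero, c))
    (h6 : run (quadOps p d) (a, r, b) w ((quadOps p d).zero, (quadOps p d).one, (quadOps p d).zero) =
      ((quadOps p d).zero, α, β))
    (h7 : (quadOps p d).mul c ci = (quadOps p d).one) (h8 : (quadOps p d).mul α αi = (quadOps p d).one)
    (h9 : γ = (quadOps p d).mul ((quadOps p d).mul ((quadOps p d).conj ci) r) αi)
    (h10 : (quadOps p d).mul ((quadOps p d).add ((quadOps p d).conj γ) ((quadOps p d).neg γ)) γi = (quadOps p d).one) :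
    ∃ (a : F) (ha : a + σ a = -1) (M : HU (mB σ 1 1)), M ∈ HSU (mB σ 1 1) ∧ ∀ H : Subgroup (HU (mB σ 1 1)),
      uEl (m := 1) hσ ha ∈ H → M * uEl (m := 1) hσ ha * M⁻¹ ∈ H → HSU (mB σ 1 1) ≤ H := by
  obtain ⟨φ, h⟩ := exists_quad_map hσ hp2 hcard d hd
  have ha : φ a + σ (φ a) = -1 := by
    have := congrArg φ h1
    rwa [h.add, h.conj, h.neg, h.one] at this
  obtain ⟨hff, hfx, htr, M, hM, hMe⟩ := exists_opposite hσ h ha h2 h3 h4
  refine ⟨φ a, ha, M, hM, fun H hu hv => ?_⟩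
  rw [← hMe] at hv
  obtain ⟨g, hg, hge, hgw⟩ := exists_move hσ h ha hu hv w h5 h6
  have inv_eq : ∀ {x y : ZMod p × ZMod p}, (quadOps p d).mul x y = (quadOps p d).one → φ y = (φ x)⁻¹ := fun e => by
    refine eq_inv_of_mul_eq_one_right ?_
    have := congrArg φ e
    rwa [h.mul, h.one] at this
  obtain ⟨dd, hγA⟩ := coef_of_move hσ hg (ne_zero_of_inv hσ h h7) (ne_zero_of_inv hσ h h8) hge hgw (Rt.mk hv)
  have hγ : (σ (φ c))⁻¹ * φ r * (φ α)⁻¹ = φ γ := by
    rw [h9, h.mul, h.mul, h.conj, inv_eq h7, inv_eq h8, ← map_inv₀]; rfl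
  rw [hγ] at hγA
  let C : AddSubgroup F :=
    { carrier := {c | ∃ d, Rt (mB_herm hσ) H (ev 0) (c • wv 0) d}
      add_mem' := fun {x y} ⟨p, hp⟩ ⟨r, hr⟩ => ⟨_, (hp.add hr).of_eq rfl (add_smul x y _).symm rfl⟩
      zero_mem' := ⟨0, (rt_zero (by rw [B_ev]; simp [ev])).of_eq rfl (zero_smul F _).symm rfl⟩
      neg_mem' := fun {x} ⟨p, hp⟩ => ⟨_, hp.neg.of_eq rfl (neg_smul x _).symm rfl⟩ }
  have hone : (1 : F) ∈ C := ⟨φ a, by
    rw [one_smul]
    rw [uEl_one, sEl] at hu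
    exact (Rt.mk hu).of_eq (by rw [show lst 1 = (0 : Fin 1) from Subsingleton.elim _ _]) rfl rfl⟩
  refine hsu_le_of_coef hσ (mem_of_indep hσ hcard C hone ⟨dd, hγA⟩ fun e => ne_zero_of_inv hσ h h10 ?_) hg
    (ne_zero_of_inv hσ h h7) hge (by rw [hcard]; exact hp2)
  rw [h.add, h.neg, h.conj]
  exact add_neg_eq_zero.2 e

end prime

local instance factFive : Fact (Nat.Prime 5) := ⟨Nat.prime_five⟩

local instance factEleven : Fact (Nat.Prime 11) := ⟨by norm_num⟩

theorem exists_pair_three [Finite F] (hq : Nat.card (fixedSub σ) = 3) [CharP F 3] :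
    ∃ (a : F) (ha : a + σ a = -1) (M : HU (mB σ 1 1)), M ∈ HSU (mB σ 1 1) ∧ ∀ H : Subgroup (HU (mB σ 1 1)),
      uEl (m := 1) hσ ha ∈ H → M * uEl (m := 1) hσ ha * M⁻¹ ∈ H → HSU (mB σ 1 1) ≤ H := by
  exact exists_prime_pair hσ (p := 3) (by norm_num) hq 2 (by decide) (1, 1) (2, 1) (1, 1) (2, 1) (2, 2)
    [.u, .v, .u, .v] (1, 1) (0, 1) (2, 0) (2, 1) (0, 2) (0, 1) (0, 2)
    (by decide) (by decide) (by decide) (by decide) (by decide) (by decide) (by decide) (by decide) (by decide) (by decide)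

theorem exists_pair_five [Finite F] (hq : Nat.card (fixedSub σ) = 5) [CharP F 5] :
    ∃ (a : F) (ha : a + σ a = -1) (M : HU (mB σ 1 1)), M ∈ HSU (mB σ 1 1) ∧ ∀ H : Subgroup (HU (mB σ 1 1)),
      uEl (m := 1) hσ ha ∈ H → M * uEl (m := 1) hσ ha * M⁻¹ ∈ H → HSU (mB σ 1 1) ≤ H := by
  exact exists_prime_pair hσ (p := 5) (by norm_num) hq 2 (by decide) (2, 4) (2, 0) (3, 0) (3, 0) (3, 1)
    [.U, .U, .V, .V, .u, .v] (2, 1) (2, 2) (4, 0) (1, 2) (2, 3) (0, 2) (0, 3)
    (by decide) (by decide) (by decide) (by decide) (by decide) (by decide) (by decide) (by decide) (by decide) (by decide)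

theorem exists_pair_eleven [Finite F] (hq : Nat.card (fixedSub σ) = 11) [CharP F 11] :
    ∃ (a : F) (ha : a + σ a = -1) (M : HU (mB σ 1 1)), M ∈ HSU (mB σ 1 1) ∧ ∀ H : Subgroup (HU (mB σ 1 1)),
      uEl (m := 1) hσ ha ∈ H → M * uEl (m := 1) hσ ha * M⁻¹ ∈ H → HSU (mB σ 1 1) ≤ H := by
  exact exists_prime_pair hσ (p := 11) (by norm_num) hq 2 (by decide) (5, 4) (2, 6) (10, 3) (0, 1) (1, 3)
    [.U, .v, .u, .V] (3, 0) (10, 0) (3, 1) (4, 0) (10, 0) (0, 7) (0, 9)
    (by decide) (by decide) (by decide) (by decide) (by decide) (by decide) (by decide) (by decide) (by decide) (by decide)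

/-! ### The field with sixty-four elements -/

/-- Product in the model of the field with eight elements, `s³ = s + 1`. -/
def mulEight (x y : ZMod 2 × ZMod 2 × ZMod 2) : ZMod 2 × ZMod 2 × ZMod 2 :=
  (x.1 * y.1 + (x.2.1 * y.2.2 + x.2.2 * y.2.1),
    x.1 * y.2.1 + x.2.1 * y.1 + (x.2.1 * y.2.2 + x.2.2 * y.2.1) + x.2.2 * y.2.2,
    x.1 * y.2.2 + x.2.1 * y.2.1 + x.2.2 * y.1 + x.2.2 * y.2.2)

/-- The model of the field with sixty-four elements, `t² = t + 1`. -/
def bigOps : Ops ((ZMod 2 × ZMod 2 × ZMod 2) × (ZMod 2 × ZMod 2 × ZMod 2)) where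
  add x y := (x.1 + y.1, x.2 + y.2)
  mul x y := (mulEight x.1 y.1 + mulEight x.2 y.2, mulEight x.1 y.2 + mulEight x.2 y.1 + mulEight x.2 y.2)
  neg x := x
  conj x := (x.1 + x.2, x.2)
  zero := (0, 0)
  one := ((1, 0, 0), 0)

theorem exists_big_map [Finite F] [CharP F 2] (hq : Nat.card (fixedSub σ) = 8) :
    ∃ φ, IsMap bigOps (fieldOps σ) φ := by
  classical
  have : Fact (Nat.Prime 2) := ⟨Nat.prime_two⟩
  have h2 : (2 : F) = 0 := by exact_mod_cast CharP.cast_eq_zero F 2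
  obtain ⟨ξ, hξ⟩ := IsCyclic.exists_generator (α := Fˣ)
  have hord : orderOf (ξ : F) = 63 := by
    rw [orderOf_units, orderOf_eq_card_of_forall_mem_zpowers hξ, Nat.card_units, hσ.card_sq, hq]; norm_num
  have hne : ∀ k, 0 < k → k < 63 → (ξ : F) ^ k ≠ 1 := fun k h0 hk h => by
    have := Nat.le_of_dvd h0 (orderOf_dvd_of_pow_eq_one h); omega
  have h63 : (ξ : F) ^ 63 = 1 := hord ▸ pow_orderOf_eq_one _
  obtain ⟨t, ht⟩ : ∃ t : F, t * t = t + 1 := by
    refine ⟨(ξ : F) ^ 21, ?_⟩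
    have : ((ξ : F) ^ 21 - 1) * ((ξ : F) ^ 21 * (ξ : F) ^ 21 + (ξ : F) ^ 21 + 1) = 0 := by linear_combination h63
    linear_combination (mul_eq_zero.1 this).resolve_left (sub_ne_zero.2 (hne 21 (by norm_num) (by norm_num))) -
      ((ξ : F) ^ 21 + 1) * h2
  obtain ⟨s, hs⟩ : ∃ s : F, s * s * s = s + 1 := by
    obtain ⟨z, hz⟩ : ∃ z, z = (ξ : F) ^ 9 := ⟨_, rfl⟩
    have hz1 : z ≠ 1 := hz ▸ hne 9 (by norm_num) (by norm_num)
    have hz7 : z ^ 7 = 1 := by rw [hz, ← pow_mul]; exact h63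
    have : (z - 1) * ((z ^ 3 + z + 1) * (z ^ 3 + z ^ 2 + 1)) = 0 := by
      linear_combination hz7 + ((z - 1) * z ^ 3) * h2
    rcases mul_eq_zero.1 ((mul_eq_zero.1 this).resolve_left (sub_ne_zero.2 hz1)) with h | h
    · exact ⟨z, by linear_combination h - (z + 1) * h2⟩
    · refine ⟨z ^ 6, ?_⟩
      have h18 : z ^ 6 * z ^ 6 * z ^ 6 = z ^ 4 := by linear_combination (z ^ 11 + z ^ 4) * hz7
      rw [h18]
      linear_combination (z ^ 3 + z ^ 2 + 1) * h - (z ^ 6 + z ^ 5 + z ^ 3 + z ^ 2 + 1) * h2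
  have hσs : σ s = s := by
    rw [hσ.apply_eq_pow, hq]
    have : s ^ 7 = 1 := by linear_combination (s ^ 4 + s ^ 2 + s + 1) * hs + (s ^ 2 + s) * h2
    rw [pow_succ, this, one_mul]
  have hσt : σ t = t + 1 := by
    rw [hσ.apply_eq_pow, hq]
    linear_combination (t ^ 6 + t ^ 5 + 2 * t ^ 4 + 3 * t ^ 3 + 5 * t ^ 2 + 8 * t + 13) * ht + (10 * t + 6) * h2
  let ι := ZMod.castHom (dvd_refl 2) F
  have hι : ∀ x, σ (ι x) = ι x := fun x => congrArg (fun g : ZMod 2 →+* F => g x) (RingHom.ext_zmod (σ.comp ι) ι)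
  let e : ZMod 2 × ZMod 2 × ZMod 2 → F := fun x => ι x.1 + ι x.2.1 * s + ι x.2.2 * (s * s)
  have hm : ∀ x y, e (mulEight x y) = e x * e y := fun x y => by
    simp only [e, mulEight, map_add, map_mul]
    linear_combination (-(ι x.2.1 * ι y.2.2 + ι x.2.2 * ι y.2.1 + ι x.2.2 * ι y.2.2 * s)) * hs
  have hadd : ∀ x y, e (x + y) = e x + e y := fun x y => by simp only [e, Prod.fst_add, Prod.snd_add, map_add]; ring
  have he0 : e 0 = 0 := by simp [e]
  have he1 : e (1, 0, 0) = 1 := by simp [e]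
  have hec : ∀ x, σ (e x) = e x := fun x => by simp only [e, map_add, map_mul, hι, hσs]
  refine ⟨fun x => e x.1 + e x.2 * t, ⟨fun x y => ?_, fun x y => ?_, fun x => ?_, fun x => ?_, ?_, ?_⟩⟩ <;>
    simp only [bigOps, fieldOps, hadd, hm, he0, he1, map_add, map_mul, hec, hσt]
  · ring
  · linear_combination (-(e x.2 * e y.2)) * ht
  · linear_combination (e x.1 + e x.2 * t) * h2
  · ring
  · ring
  · ring

theorem exists_pair_eight [Finite F] [CharP F 2] (hq : Nat.card (fixedSub σ) = 8) :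
    ∃ (a : F) (ha : a + σ a = -1) (M : HU (mB σ 1 1)), M ∈ HSU (mB σ 1 1) ∧ ∀ H : Subgroup (HU (mB σ 1 1)),
      uEl (m := 1) hσ ha ∈ H → M * uEl (m := 1) hσ ha * M⁻¹ ∈ H → HSU (mB σ 1 1) ≤ H := by
  obtain ⟨φ, h⟩ := exists_big_map hσ hq
  let a : (ZMod 2 × ZMod 2 × ZMod 2) × (ZMod 2 × ZMod 2 × ZMod 2) := ((0, 1, 0), (1, 0, 0))
  let r : (ZMod 2 × ZMod 2 × ZMod 2) × (ZMod 2 × ZMod 2 × ZMod 2) := ((1, 0, 0), (1, 0, 0))
  have ha : φ a + σ (φ a) = -1 := by
    have := congrArg φ (show bigOps.add a (bigOps.conj a) = bigOps.neg bigOps.one by decide)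
    rwa [h.add, h.conj, h.neg, h.one] at this
  obtain ⟨hff, hfx, htr, M, hM, hMe⟩ := exists_opposite hσ h (l := ((0, 0, 1), (0, 1, 0))) (li := ((0, 1, 1), (0, 1, 0)))
    (r := r) (b := a) ha (by decide) (by decide) (by decide)
  refine ⟨φ a, ha, M, hM, fun H hu hv => ?_⟩
  rw [← hMe] at hv
  obtain ⟨g₁, hg₁, h1e, h1w⟩ := exists_move hσ h ha hu hv [.u, .u, .v, .v]
    (c := bigOps.one) (α := bigOps.one) (β := bigOps.zero) (by decide) (by decide)
  obtain ⟨g₂, hg₂, h2e, h2w⟩ := exists_move hσ h ha hu hv [.u, .v, .U, .v, .u, .v, .v, .u, .v]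
    (c := ((1, 1, 1), (0, 1, 0))) (α := ((0, 0, 1), (0, 1, 0))) (β := ((1, 1, 1), (0, 0, 1))) (by decide) (by decide)
  have e1 : φ bigOps.one = 1 := h.one
  have e0 : φ bigOps.zero = 0 := h.zero
  rw [e1, one_smul] at h1e
  rw [e1, one_smul, e0, zero_smul, add_zero] at h1w
  set c₂ := φ ((1, 1, 1), (0, 1, 0))
  set α₂ := φ ((0, 0, 1), (0, 1, 0))
  set β₂ := φ ((1, 1, 1), (0, 0, 1))
  set μ := φ ((0, 1, 1), (0, 1, 1))
  have hμ : μ = σ c₂ * α₂ := by
    have := congrArg φ (show (((0, 1, 1), (0, 1, 1)) : (ZMod 2 × ZMod 2 × ZMod 2) × (ZMod 2 × ZMod 2 × ZMod 2)) =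
      bigOps.mul (bigOps.conj ((1, 1, 1), (0, 1, 0))) ((0, 0, 1), (0, 1, 0)) by decide)
    rwa [h.mul, h.conj] at this
  have hc₂ : c₂ ≠ 0 := ne_zero_of_inv hσ h (y := ((1, 1, 1), (1, 0, 0))) (by decide)
  let C : AddSubgroup F :=
    { carrier := {c | ∃ d, Rt (mB_herm hσ) H (ev 0) (c • wv 0) d}
      add_mem' := fun {x y} ⟨p, hp⟩ ⟨r, hr⟩ => ⟨_, (hp.add hr).of_eq rfl (add_smul x y _).symm rfl⟩
      zero_mem' := ⟨0, (rt_zero (by rw [B_ev]; simp [ev])).of_eq rfl (zero_smul F _).symm rfl⟩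
      neg_mem' := fun {x} ⟨p, hp⟩ => ⟨_, hp.neg.of_eq rfl (neg_smul x _).symm rfl⟩ }
  have hone : (1 : F) ∈ C := ⟨φ a, by
    rw [one_smul]
    rw [uEl_one, sEl] at hu
    exact (Rt.mk hu).of_eq (by rw [show lst 1 = (0 : Fin 1) from Subsingleton.elim _ _]) rfl rfl⟩
  have hscale : ∀ x ∈ C, μ * x ∈ C := by
    rintro x ⟨d, hd⟩
    have h' := hd.conj (H.mul_mem (H.inv_mem hg₁) hg₂)
    rw [Subgroup.coe_mul, LinearEquiv.mul_apply, LinearEquiv.mul_apply, h2e,
      LinearEquiv.map_smul (g₂ : (Idx 1 1 → F) ≃ₗ[F] (Idx 1 1 → F)), h2w, LinearEquiv.map_smul, LinearEquiv.map_smul,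
      map_add, LinearEquiv.map_smul, LinearEquiv.map_smul, inv_apply_of_eq h1e, inv_apply_of_eq h1w] at h'
    refine ⟨_, ((h'.smul_left hc₂).shift (-(σ c₂ * x * β₂))).of_eq rfl ?_ rfl⟩
    rw [hμ]
    module
  have hμ0 : μ ≠ 0 := hμ ▸ mul_ne_zero (fun e => hc₂ (IsInvol.apply_eq_zero_iff.1 e))
    (ne_zero_of_inv hσ h (y := ((0, 1, 1), (0, 1, 0))) (by decide))
  have hclo : Subring.closure ({μ} : Set F) = ⊤ := by
    have hpow : ∀ k : ℕ, φ (Nat.iterate (bigOps.mul ((0, 1, 1), (0, 1, 1))) k bigOps.one) = μ ^ k := by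
      intro k
      induction k with
      | zero => rw [pow_zero]; exact h.one
      | succ k ih => rw [Function.iterate_succ_apply', h.mul, ih, pow_succ']; rfl
    have hne : ∀ k y, bigOps.mul (bigOps.add (Nat.iterate (bigOps.mul ((0, 1, 1), (0, 1, 1))) k bigOps.one)
        (bigOps.neg bigOps.one)) y = bigOps.one → μ ^ k ≠ 1 := by
      intro k y hy e
      refine ne_zero_of_inv hσ h hy ?_
      rw [h.add, hpow, h.neg, h.one, e]
      exact add_neg_cancel _
    refine closure_eq_top_of_pow hμ0 fun k hk hμk j hj hkj => ?_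
    rw [hσ.card_sq, hq] at hkj
    obtain ⟨i, -, rfl⟩ := (Nat.dvd_prime_pow Nat.prime_two).1
      ((show k ^ j = 2 ^ 6 by rw [hkj]; norm_num) ▸ dvd_pow_self k (by omega) : k ∣ 2 ^ 6)
    rw [← pow_mul] at hkj
    have hi : i * j = 6 := Nat.pow_right_injective le_rfl (hkj.trans (by norm_num))
    have hi3 : i ≤ 3 := by
      have := Nat.mul_le_mul_left i hj
      omega
    interval_cases i
    · norm_num at hk
    · exact hne 1 ((0, 1, 0), (1, 1, 1)) (by decide) (by simpa using hμk)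
    · exact hne 3 ((1, 1, 0), (0, 0, 0)) (by decide) (by simpa using hμk)
    · exact hne 7 ((1, 0, 0), (1, 0, 0)) (by decide) (by simpa using hμk)
  exact hsu_le_of_coef hσ (fun x => mem_of_ring_generator C one_ne_zero hone hscale hclo x) hg₁ one_ne_zero
    (by rw [one_smul]; exact h1e) (by rw [hq]; norm_num)

end CfsgLib.Classical.ClassTheory.UnitaryRegular.Small
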