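import Cfsg.Agent.Lib.Classical.ClassTheory.UnitaryTwoGenerated
import Cfsg.Agent.Lib.Classical.ClassTheory.SpRegularThree

/-!
# The special unitary group of odd dimension is generated by three conjugate regular unipotents

The first element is a Jordan block in the Levi factor times one short root element, the second is
its conjugate by the exchange of the two halves of the basis, and the third is chosen so that the
group contains a transvection.
-/

set_option autoImplicit false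

namespace CfsgLib.Classical.ClassTheory.UnitaryRegular

open Matrix CfsgLib.Classical CfsgLib.Classical.Herm CfsgLib.Classical.ClassTheory.UnitaryGen
open CfsgLib.Classical.ClassTheory.SpRegularThree (shM invT invT_mul mul_invT det_one_add_shM eVec lst lst_succ
  eVec_sq eVec_ne eVec_lst one_add_shM_single one_add_shM_last invT_succ invT_zero transpose_one_add_apply
  one_add_shM_eVec shM_pow_apply shM_pow_eq_zero eVec_apply)

variable {F : Type*} [Field F] {σ : F →+* F}

/-! ### Fields -/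

theorem fixed_mem_closure [Finite F] (hσ : IsInvol σ) {μ : F}
    (h : ∀ t : F, σ t = t → t ^ 2 ∈ Subring.closure ({μ} : Set F)) {x : F} (hx : σ x = x) :
    x ∈ Subring.closure ({μ} : Set F) := by
  have : Fintype F := Fintype.ofFinite F
  have _ := hσ
  by_cases h2 : (2 : F) = 0
  · have : CharP F 2 := CharTwo.of_one_ne_zero_of_two_eq_zero one_ne_zero h2
    obtain ⟨c, rfl⟩ := FiniteField.isSquare_of_char_two (ringChar.eq_iff.2 this) x
    rw [← sq]
    refine h c ?_
    have e : (σ c - c) ^ 2 = 0 := by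
      rw [map_mul] at hx
      linear_combination hx - (σ c * c - c ^ 2) * h2
    exact sub_eq_zero.1 ((pow_eq_zero_iff two_ne_zero).1 e)
  · have h1 : σ ((x + 1) / 2) = (x + 1) / 2 := by rw [map_div₀, map_add, map_one, hx, map_ofNat]
    have h1' : σ ((x - 1) / 2) = (x - 1) / 2 := by rw [map_div₀, map_sub, map_one, hx, map_ofNat]
    rw [show x = ((x + 1) / 2) ^ 2 - ((x - 1) / 2) ^ 2 by field_simp; ring]
    exact sub_mem (h _ h1) (h _ h1')

theorem exists_skew_gen [Finite F] (hσ : IsInvol σ) {N : F} (hN : σ N = N) (hN0 : N ≠ 0) :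
    ∃ k : F, k ≠ 0 ∧ k + σ k = 0 ∧ ∀ x : F, σ x = x → x ∈ Subring.closure ({k ^ 2 * N} : Set F) := by
  obtain ⟨θ, hθ0, hθ⟩ := hσ.exists_skew
  obtain ⟨ξ, hξ⟩ := IsCyclic.exists_generator (α := Fˣ)
  set g : F := (ξ : F) * σ ξ
  have hg0 : g ≠ 0 := mul_ne_zero ξ.ne_zero fun e => ξ.ne_zero (IsInvol.apply_eq_zero_iff.1 e)
  have hgσ : σ g = g := by rw [map_mul, hσ.invol, mul_comm]
  have hpow : ∀ x : F, σ x = x → x ≠ 0 → ∃ i : ℤ, g ^ i = x := by
    intro x hx hx0
    obtain ⟨y, hy⟩ := hσ.exists_norm_eq hx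
    have hy0 : y ≠ 0 := fun e => hx0 (by rw [← hy, e, zero_mul])
    obtain ⟨i, hi⟩ := hξ (Units.mk0 y hy0)
    have hi' : y = (ξ : F) ^ i := by simpa using (congrArg Units.val hi).symm
    exact ⟨i, by rw [mul_zpow, ← hy, hi', map_zpow₀]⟩
  have hc : σ (θ ^ 2 * N) = θ ^ 2 * N := by rw [map_mul, map_pow, hθ, hN, neg_sq]
  obtain ⟨i, hi⟩ := hpow _ hc (mul_ne_zero (pow_ne_zero 2 hθ0) hN0)
  obtain ⟨j, hj⟩ : ∃ j, i = 2 * j ∨ i = 2 * j + 1 := Int.even_or_odd' i
  rcases hj with hj | hj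
  · have e : (θ * g ^ (1 - j)) ^ 2 * N = g ^ (2 : ℤ) := by
      rw [mul_pow, mul_right_comm, ← hi, ← zpow_natCast (g ^ (1 - j)), ← _root_.zpow_mul, ← zpow_add₀ hg0, hj]
      congr 1; push_cast; ring
    refine ⟨θ * g ^ (1 - j), mul_ne_zero hθ0 (zpow_ne_zero _ hg0), by rw [map_mul, map_zpow₀, hθ, hgσ]; ring,
      fun x hx => fixed_mem_closure hσ (fun t ht => ?_) hx⟩
    rcases eq_or_ne t 0 with rfl | ht0
    · simp
    obtain ⟨y, hy⟩ := hσ.exists_norm_eq ht
    have hy0 : y ≠ 0 := fun e' => ht0 (by rw [← hy, e', zero_mul])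
    obtain ⟨l, hl⟩ := (mem_powers_iff_mem_zpowers (x := ξ)).2 (hξ (Units.mk0 y hy0))
    have hl' : y = (ξ : F) ^ l := by simpa using (congrArg Units.val hl).symm
    rw [show t ^ 2 = (g ^ 2) ^ l by rw [← hy, hl', map_pow, ← mul_pow, ← pow_mul, ← pow_mul, mul_comm l],
      show g ^ 2 = (θ * g ^ (1 - j)) ^ 2 * N by rw [e, zpow_ofNat]]
    exact pow_mem (Subring.subset_closure (Set.mem_singleton _)) _
  · have e : (θ * g ^ (-j)) ^ 2 * N = g := by
      rw [mul_pow, mul_right_comm, ← hi, ← zpow_natCast (g ^ (-j)), ← _root_.zpow_mul, ← zpow_add₀ hg0, hj]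
      conv_rhs => rw [← zpow_one g]
      congr 1; push_cast; ring
    refine ⟨θ * g ^ (-j), mul_ne_zero hθ0 (zpow_ne_zero _ hg0), by rw [map_mul, map_zpow₀, hθ, hgσ]; ring,
      fun x hx => ?_⟩
    rcases eq_or_ne x 0 with rfl | hx0
    · simp
    obtain ⟨y, hy⟩ := hσ.exists_norm_eq hx
    have hy0 : y ≠ 0 := fun e' => hx0 (by rw [← hy, e', zero_mul])
    obtain ⟨l, hl⟩ := (mem_powers_iff_mem_zpowers (x := ξ)).2 (hξ (Units.mk0 y hy0))
    have hl' : y = (ξ : F) ^ l := by simpa using (congrArg Units.val hl).symm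
    rw [← hy, hl', map_pow, ← mul_pow, e]
    exact pow_mem (Subring.subset_closure (Set.mem_singleton _)) _

/-! ### The model -/

variable {m : ℕ}

/-- Vectors in the first half. -/
def el (y : Fin m → F) : Idx m 1 → F := Sum.elim (Sum.elim y 0) 0

/-- Vectors in the second half. -/
def fl (y : Fin m → F) : Idx m 1 → F := Sum.elim (Sum.elim 0 y) 0

/-- A vector by its three parts. -/
def tri (y : Fin m → F) (ω : F) (φ : Fin m → F) : Idx m 1 → F := Sum.elim (Sum.elim y φ) fun _ => ω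

theorem tri_eq (y : Fin m → F) (ω : F) (φ : Fin m → F) : tri y ω φ = el y + ω • wv 0 + fl φ := by
  funext x
  rcases x with (i | i) | j
  · simp [tri, el, fl, wv]
  · simp [tri, el, fl, wv]
  · simp [tri, el, fl, wv, Subsingleton.elim j (0 : Fin 1)]

theorem tri_decomp (x : Idx m 1 → F) :
    x = tri (fun i => x (.inl (.inl i))) (x (.inr 0)) (fun i => x (.inl (.inr i))) := by
  funext z
  rcases z with (i | i) | j
  · simp [tri]
  · simp [tri]
  · simp [tri, Subsingleton.elim j (0 : Fin 1)]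

theorem tri_add (y y' : Fin m → F) (ω ω' : F) (φ φ' : Fin m → F) :
    tri y ω φ + tri y' ω' φ' = tri (y + y') (ω + ω') (φ + φ') := by
  funext x; rcases x with (i | i) | j <;> simp [tri]

theorem tri_smul (c : F) (y : Fin m → F) (ω : F) (φ : Fin m → F) :
    c • tri y ω φ = tri (c • y) (c * ω) (c • φ) := by
  funext x; rcases x with (i | i) | j <;> simp [tri]

theorem el_single (i : Fin m) : el (Pi.single i 1) = (ev i : Idx m 1 → F) := by
  funext x; rcases x with (k | k) | j <;> simp [el, ev, Pi.single_apply]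

theorem fl_single (i : Fin m) : fl (Pi.single i 1) = (fv i : Idx m 1 → F) := by
  funext x; rcases x with (k | k) | j <;> simp [fl, fv, Pi.single_apply]

theorem el_add (y y' : Fin m → F) : el (y + y') = el y + el y' := by
  funext x; rcases x with (i | i) | j <;> simp [el]

theorem fl_add (y y' : Fin m → F) : fl (y + y') = fl y + fl y' := by
  funext x; rcases x with (i | i) | j <;> simp [fl]

theorem el_smul (c : F) (y : Fin m → F) : el (c • y) = c • el y := by
  funext x; rcases x with (i | i) | j <;> simp [el]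

theorem fl_smul (c : F) (y : Fin m → F) : fl (c • y) = c • fl y := by
  funext x; rcases x with (i | i) | j <;> simp [fl]

theorem el_zero : el (0 : Fin m → F) = 0 := by
  funext x; rcases x with (i | i) | j <;> simp [el]

theorem fl_zero : fl (0 : Fin m → F) = 0 := by
  funext x; rcases x with (i | i) | j <;> simp [fl]

theorem B_tri (y : Fin m → F) (ω : F) (φ : Fin m → F) (y' : Fin m → F) (ω' : F) (φ' : Fin m → F) :
    mB σ m 1 (tri y ω φ) (tri y' ω' φ') = (∑ i, σ (y i) * φ' i) + (∑ i, σ (φ i) * y' i) + σ ω * ω' := by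
  rw [mB_apply, Fintype.sum_sum_type, Fintype.sum_sum_type]
  simp [tri, inv2]

theorem invT_fixed (i j : Fin m) : σ (invT m F i j) = invT m F i j := by
  have h : (1 + shM m F).transpose * (invT m F).map σ = 1 := by
    have e : ((1 + shM m F).transpose).map σ = (1 + shM m F).transpose := by
      ext a b; simp [shM, Matrix.one_apply, apply_ite σ, eq_comm]
    have := congrArg (fun M : Matrix (Fin m) (Fin m) F => M.map σ) (mul_invT (m := m) (F := F))
    simp only [Matrix.map_mul, Matrix.map_one _ (map_zero σ) (map_one σ)] at this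
    rwa [e] at this
  have e2 : (invT m F).map σ = invT m F := by
    calc (invT m F).map σ = invT m F * ((1 + shM m F).transpose * (invT m F).map σ) := by
          rw [← mul_assoc, invT_mul, one_mul]
      _ = invT m F := by rw [h, mul_one]
  exact congrFun (congrFun e2 i) j

theorem levi_dot (y z : Fin m → F) :
    ∑ i, σ ((invT m F *ᵥ y) i) * ((1 + shM m F) *ᵥ z) i = ∑ i, σ (y i) * z i := by
  have e : (fun i => σ ((invT m F *ᵥ y) i)) = invT m F *ᵥ fun i => σ (y i) := by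
    funext i; simp [Matrix.mulVec, dotProduct, map_sum, invT_fixed]
  show (fun i => σ ((invT m F *ᵥ y) i)) ⬝ᵥ ((1 + shM m F) *ᵥ z) = (fun i => σ (y i)) ⬝ᵥ z
  rw [e, Matrix.dotProduct_mulVec, ← Matrix.mulVec_transpose, Matrix.mulVec_mulVec, mul_invT, Matrix.one_mulVec]

theorem levi_dot' (y z : Fin m → F) :
    ∑ i, σ (((1 + shM m F) *ᵥ z) i) * (invT m F *ᵥ y) i = ∑ i, σ (z i) * y i := by
  have e : (fun i => σ (((1 + shM m F) *ᵥ z) i)) = (1 + shM m F) *ᵥ fun i => σ (z i) := by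
    funext i
    simp [Matrix.mulVec, dotProduct, map_sum, shM, Matrix.one_apply, apply_ite σ]
  show (fun i => σ (((1 + shM m F) *ᵥ z) i)) ⬝ᵥ (invT m F *ᵥ y) = (fun i => σ (z i)) ⬝ᵥ y
  rw [e, dotProduct_comm, Matrix.dotProduct_mulVec, ← Matrix.mulVec_transpose, Matrix.mulVec_mulVec, mul_invT,
    Matrix.one_mulVec, dotProduct_comm]

variable (hσ : IsInvol σ)
include hσ

theorem exists_levi : ∃ g ∈ HSU (mB σ m 1), ∀ (y : Fin m → F) (ω : F) (φ : Fin m → F),
    (g : (Idx m 1 → F) ≃ₗ[F] (Idx m 1 → F)) (tri y ω φ) = tri (invT m F *ᵥ y) ω ((1 + shM m F) *ᵥ φ) := by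
  classical
  let M : Matrix (Idx m 1) (Idx m 1) F :=
    Matrix.fromBlocks (Matrix.fromBlocks (invT m F) 0 0 (1 + shM m F)) 0 0 1
  have hM : ∀ y ω φ, Matrix.toLin' M (tri y ω φ) = tri (invT m F *ᵥ y) ω ((1 + shM m F) *ᵥ φ) := by
    intro y ω φ
    simp only [M, Matrix.toLin'_apply, tri, Matrix.fromBlocks_mulVec, Sum.elim_comp_inl, Sum.elim_comp_inr,
      Matrix.zero_mulVec, add_zero, zero_add, Matrix.one_mulVec]
  refine ⟨(mB_herm hσ).ofPreserves (Matrix.toLin' M) fun x z => ?_, ?_, fun y ω φ => hM y ω φ⟩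
  · rw [tri_decomp x, tri_decomp z, hM, hM, B_tri, B_tri, levi_dot, levi_dot']
  · rw [MonoidHom.mem_ker]
    ext
    show ((LinearEquiv.det _ : Fˣ) : F) = 1
    rw [LinearEquiv.coe_det]
    show LinearMap.det (Matrix.toLin' M) = 1
    rw [LinearMap.det_toLin', Matrix.det_fromBlocks_zero₂₁, Matrix.det_fromBlocks_zero₂₁, Matrix.det_one, mul_one,
      det_one_add_shM, mul_one]
    have := congrArg Matrix.det (invT_mul (m := m) (F := F))
    rwa [Matrix.det_mul, Matrix.det_transpose, det_one_add_shM, mul_one, Matrix.det_one] at this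

/-- The sign of the exchange. -/
noncomputable def swapSign (m : ℕ) (F : Type*) [Field F] : F :=
  ((Equiv.Perm.sign (Function.Involutive.toPerm (inv2 (m := m) (d := 1)) inv2_inv2) : ℤ) : F)

omit hσ in
theorem swapSign_sq : swapSign m F * swapSign m F = 1 := by
  rw [swapSign, ← Int.cast_mul, ← Units.val_mul, Int.units_mul_self]; simp

omit hσ in
theorem swapSign_fixed : σ (swapSign m F) = swapSign m F := map_intCast σ _

theorem exists_exchange : ∃ g ∈ HSU (mB σ m 1), ∀ (y : Fin m → F) (ω : F) (φ : Fin m → F),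
    (g : (Idx m 1 → F) ≃ₗ[F] (Idx m 1 → F)) (tri y ω φ) = tri φ (swapSign m F * ω) y := by
  classical
  let κ := swapSign m F
  let c : Idx m 1 → F := Sum.elim (fun _ => 1) (fun _ => κ)
  let M : Matrix (Idx m 1) (Idx m 1) F :=
    Matrix.diagonal c * (Function.Involutive.toPerm (inv2 (m := m) (d := 1)) inv2_inv2).permMatrix F
  have hM : ∀ y ω φ, Matrix.toLin' M (tri y ω φ) = tri φ (κ * ω) y := by
    intro y ω φ
    funext x
    simp only [M, Matrix.toLin'_apply, ← Matrix.mulVec_mulVec, Matrix.mulVec_diagonal, Matrix.permMatrix_mulVec,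
      Function.comp_apply]
    rcases x with (i | i) | j <;> simp [c, tri, inv2, Function.Involutive.toPerm]
  refine ⟨(mB_herm hσ).ofPreserves (Matrix.toLin' M) fun x z => ?_, ?_, fun y ω φ => hM y ω φ⟩
  · rw [tri_decomp x, tri_decomp z, hM, hM, B_tri, B_tri, map_mul, show σ κ = κ from swapSign_fixed]
    linear_combination (σ (x (.inr 0)) * z (.inr 0)) * swapSign_sq (m := m) (F := F)
  · rw [MonoidHom.mem_ker]
    ext
    show ((LinearEquiv.det _ : Fˣ) : F) = 1
    rw [LinearEquiv.coe_det]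
    show LinearMap.det (Matrix.toLin' M) = 1
    rw [LinearMap.det_toLin', Matrix.det_mul, Matrix.det_diagonal, Matrix.det_permutation, Fintype.prod_sum_type]
    simp [c, κ]
    exact swapSign_sq (m := m) (F := F)

section elements

variable [NeZero m] {a : F} (ha : a + σ a = -1)

omit hσ in
theorem B_ev_self (i : Fin m) : mB σ m 1 (ev i) (ev i) = 0 := by rw [B_ev]; simp [ev]

omit hσ in
theorem B_ev_w (i : Fin m) : mB σ m 1 (ev i) (wv 0) = 0 := by rw [B_ev]; simp [wv]

omit hσ in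
include ha in
theorem short_trace : a + σ a = -mB σ m 1 (wv 0) (wv 0) := by rw [B_wv, ha]; simp [wv]

/-- The short root element. -/
noncomputable def sEl : HU (mB σ m 1) :=
  (mB_herm hσ).eich (B_ev_self (lst m)) (B_ev_w (lst m)) (short_trace ha)

/-- The regular unipotent element. -/
noncomputable def uEl : HU (mB σ m 1) := (exists_levi (m := m) hσ).choose * sEl hσ ha

theorem uEl_mem : uEl (m := m) hσ ha ∈ HSU (mB σ m 1) :=
  Subgroup.mul_mem _ (exists_levi hσ).choose_spec.1 ((mB_herm hσ).eich_mem _ _ _)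

theorem u_tri (y : Fin m → F) (ω : F) (φ : Fin m → F) :
    (uEl (m := m) hσ ha : (Idx m 1 → F) ≃ₗ[F] (Idx m 1 → F)) (tri y ω φ) =
      tri (invT m F *ᵥ y + (a * φ (lst m) - ω) • eVec m F) (ω + φ (lst m)) ((1 + shM m F) *ᵥ φ) := by
  have h1 : (sEl (m := m) hσ ha : (Idx m 1 → F) ≃ₗ[F] (Idx m 1 → F)) (tri y ω φ) =
      tri (y + (a * φ (lst m) - ω) • Pi.single (lst m) 1) (ω + φ (lst m)) φ := by
    rw [sEl, IsHerm.eich_apply, B_ev, B_wv]
    funext x
    rcases x with (i | i) | j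
    · simp [tri, ev, wv, Pi.single_apply]
    · simp [tri, ev, wv, Pi.single_apply]
    · simp [tri, ev, wv, Pi.single_apply, Subsingleton.elim j (0 : Fin 1)]
  rw [uEl, Subgroup.coe_mul, LinearEquiv.mul_apply, h1, (exists_levi (m := m) hσ).choose_spec.2, Matrix.mulVec_add,
    Matrix.mulVec_smul, eVec]

/-- The exchange. -/
noncomputable def jEl : HU (mB σ m 1) := (exists_exchange (m := m) hσ).choose

omit [NeZero m] in
theorem jEl_mem : jEl (m := m) hσ ∈ HSU (mB σ m 1) := (exists_exchange hσ).choose_spec.1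

omit [NeZero m] in
theorem j_tri (y : Fin m → F) (ω : F) (φ : Fin m → F) :
    (jEl (m := m) hσ : (Idx m 1 → F) ≃ₗ[F] (Idx m 1 → F)) (tri y ω φ) = tri φ (swapSign m F * ω) y :=
  (exists_exchange hσ).choose_spec.2 y ω φ

/-- The conjugate of the regular unipotent element. -/
noncomputable def vEl : HU (mB σ m 1) := jEl hσ * uEl hσ ha * (jEl hσ)⁻¹

theorem v_tri (y : Fin m → F) (ω : F) (φ : Fin m → F) :
    (vEl (m := m) hσ ha : (Idx m 1 → F) ≃ₗ[F] (Idx m 1 → F)) (tri y ω φ) =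
      tri ((1 + shM m F) *ᵥ y) (ω + swapSign m F * y (lst m))
        (invT m F *ᵥ φ + (a * y (lst m) - swapSign m F * ω) • eVec m F) := by
  have e2 : (vEl hσ ha : HU (mB σ m 1)) * jEl hσ = jEl hσ * uEl hσ ha := by rw [vEl, inv_mul_cancel_right]
  conv_lhs => rw [show tri y ω φ = (jEl (m := m) hσ : (Idx m 1 → F) ≃ₗ[F] (Idx m 1 → F)) (tri φ (swapSign m F * ω) y) by
    rw [j_tri, ← mul_assoc, swapSign_sq, one_mul]]
  rw [← LinearEquiv.mul_apply, ← Subgroup.coe_mul, e2, Subgroup.coe_mul, LinearEquiv.mul_apply, u_tri, j_tri,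
    mul_add, ← mul_assoc, swapSign_sq, one_mul]

end elements

/-! ### Root elements -/

section roots

variable {V : Type*} [AddCommGroup V] [Module F V] [FiniteDimensional F V] {B : V →ₛₗ[σ] V →ₗ[F] F}
  {hB : IsHerm B} {H : Subgroup (HU B)}

omit hσ

theorem _root_.CfsgLib.Classical.ClassTheory.UnitaryGen.Rt.shift {u x : V} {a : F} (h : Rt hB H u x a) (t : F) : Rt hB H u (x + t • u) (a - t + σ t) := by
  obtain ⟨hu, hux, ha, hm⟩ := h
  have h1 : B u (x + t • u) = 0 := by simp [hux, hu, Herm.smul_right]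
  have h2 : a - t + σ t + σ (a - t + σ t) = -B (x + t • u) (x + t • u) := by
    simp only [map_add, map_sub, LinearMap.add_apply, Herm.smul_left, Herm.smul_right, hB.invol.invol, hux, hu,
      hB.eq_zero_symm hux]
    linear_combination ha
  refine ⟨hu, h1, h2, ?_⟩
  have e : hB.eich hu hux ha = hB.eich hu h1 h2 := by
    refine Subtype.ext (LinearEquiv.ext fun z => ?_)
    simp only [IsHerm.eich_apply, map_add, LinearMap.add_apply, Herm.smul_left]
    match_scalars <;> ring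
  rwa [← e]

/-- The commutator of two root elements with the same centre. -/
theorem _root_.CfsgLib.Classical.ClassTheory.UnitaryGen.Rt.comm {u x y : V} {a b : F} (hx : Rt hB H u x a) (hy : Rt hB H u y b) :
    Rt hB H u 0 (B y x - B x y) := by
  obtain ⟨hu, hux, ha, hm⟩ := hx
  obtain ⟨_, huy, hb, hm'⟩ := hy
  have h := ((Rt.mk (hB := hB) hm).add (Rt.mk (hB := hB) hm')).add
    ((Rt.mk (hB := hB) hm').add (Rt.mk (hB := hB) hm)).neg
  refine h.of_eq rfl (by abel) ?_
  simp only [map_add, map_sub, map_neg, LinearMap.add_apply, hB.symm]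
  linear_combination ha + hb

/-- The root element from two transvections whose centres differ by a multiple of `p`. -/
theorem _root_.CfsgLib.Classical.ClassTheory.UnitaryGen.Rt.start {p q : V} {k : F} (hpp : B p p = 0) (hpq : B p q = 0) (hk : k + σ k = 0) (t : F)
    (hq : Rt hB H q 0 k) (hs : Rt hB H (q + t • p) 0 k) : Rt hB H p ((k * σ t) • q) (k * t * σ t) := by
  obtain ⟨hqq, _, _, hm⟩ := hq
  obtain ⟨hss, _, _, hm'⟩ := hs
  have hσk : σ k = -k := eq_neg_of_add_eq_zero_right hk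
  have h1 : B p ((k * σ t) • q) = 0 := by rw [Herm.smul_right, hpq, mul_zero]
  have h2 : k * t * σ t + σ (k * t * σ t) = -B ((k * σ t) • q) ((k * σ t) • q) := by
    simp only [Herm.smul_left, Herm.smul_right, map_mul, hB.invol.invol, hqq, hσk]; ring
  refine ⟨hpp, h1, h2, ?_⟩
  rename_i q0 q1 s0 s1
  have e : hB.eich hss s0 s1 = hB.eich hqq q0 q1 * hB.eich hpp h1 h2 := by
    refine Subtype.ext (LinearEquiv.ext fun z => ?_)
    simp only [Subgroup.coe_mul, LinearEquiv.mul_apply, IsHerm.eich_apply, map_add, map_zero, LinearMap.add_apply,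
      LinearMap.zero_apply, Herm.smul_left, Herm.smul_right, map_mul, hB.invol.invol, hσk, hqq, hpq, hB.eq_zero_symm hpq]
    match_scalars <;> ring
  rw [e] at hm'
  exact (Subgroup.mul_mem_cancel_left _ hm).1 hm'

/-- Conjugation of a root element by a transvection fixing its centre. -/
theorem _root_.CfsgLib.Classical.ClassTheory.UnitaryGen.Rt.step {p x w : V} {c k : F} (h : Rt hB H p x c) (hw : Rt hB H w 0 k) (hpw : B p w = 0) :
    ∃ d, Rt hB H p ((k * B w x) • w) d := by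
  obtain ⟨hww, hw0, hk, hm⟩ := hw
  have hconj := h.conj hm
  have hp : (hB.eich hww hw0 hk : V ≃ₗ[F] V) p = p := by
    rw [IsHerm.eich_apply, hB.eq_zero_symm hpw]; simp
  have hx : (hB.eich hww hw0 hk : V ≃ₗ[F] V) x = x + (k * B w x) • w := by
    rw [IsHerm.eich_apply]; simp
  rw [hp, hx] at hconj
  exact ⟨_, (h.neg.add hconj).of_eq rfl (by abel) rfl⟩

theorem _root_.CfsgLib.Classical.ClassTheory.UnitaryGen.Long.conj {g : HU B} (hg : g ∈ H) {u : V} (h : Long hB H u) : Long hB H ((g : V ≃ₗ[F] V) u) :=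
  fun k hk => ((h k hk).conj hg).of_eq rfl (map_zero _) rfl

theorem _root_.CfsgLib.Classical.ClassTheory.UnitaryGen.Long.smul {u : V} {c : F} (hc : c ≠ 0) (h : Long hB H (c • u)) : Long hB H u := by
  intro k hk
  have hc' : σ c ≠ 0 := fun e => hc (IsInvol.apply_eq_zero_iff.1 e)
  have := (h (k / (c * σ c)) (by rw [map_div₀, map_mul, hB.invol.invol, mul_comm (σ c), ← add_div, hk, zero_div]))
  refine (this.smul_left hc).of_eq rfl (smul_zero _) ?_
  field_simp

/-- Every root element at `u` follows from one in each direction and the transvections. -/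
theorem _root_.CfsgLib.Classical.ClassTheory.UnitaryGen.Long.of_skew {u : V} {k : F} (hk0 : k ≠ 0) (hk : k + σ k = 0)
    (h : ∀ c : F, σ c = c → Rt hB H u 0 (k * c)) : Long hB H u := by
  intro k' hk'
  have e : k = -σ k := eq_neg_of_add_eq_zero_left hk
  refine (h (k' / k) ?_).of_eq rfl rfl (mul_div_cancel₀ _ hk0)
  rw [map_div₀, eq_neg_of_add_eq_zero_right hk', eq_neg_of_add_eq_zero_right hk, neg_div_neg_eq]

end roots

/-! ### Action on the basis -/

section action

variable [NeZero m] {a : F} (ha : a + σ a = -1)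

omit hσ in
theorem el_eq (y : Fin m → F) : el y = tri y 0 0 := by
  funext x; rcases x with (i | i) | j <;> simp [el, tri]

omit hσ in
theorem fl_eq (φ : Fin m → F) : fl φ = tri 0 0 φ := by
  funext x; rcases x with (i | i) | j <;> simp [fl, tri]

omit hσ in
theorem wv_eq : (wv 0 : Idx m 1 → F) = tri 0 1 0 := by
  funext x
  rcases x with (i | i) | j
  · simp [wv, tri]
  · simp [wv, tri]
  · simp [wv, tri, Subsingleton.elim j (0 : Fin 1)]

omit hσ [NeZero m] in
theorem invT_transpose_last (y : Fin m → F) {l : Fin m} (h : l.val + 1 = m) : (invT m F *ᵥ y) l = y l := by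
  have := congrFun (show (1 + shM m F).transpose *ᵥ (invT m F *ᵥ y) = y by
    rw [Matrix.mulVec_mulVec, mul_invT, Matrix.one_mulVec]) l
  rwa [transpose_one_add_apply, dif_neg (by omega), add_zero] at this

theorem u_el (y : Fin m → F) :
    (uEl (m := m) hσ ha : (Idx m 1 → F) ≃ₗ[F] (Idx m 1 → F)) (el y) = el (invT m F *ᵥ y) := by
  rw [el_eq, u_tri, el_eq]; simp

theorem u_e0 : (uEl (m := m) hσ ha : (Idx m 1 → F) ≃ₗ[F] (Idx m 1 → F)) (ev 0) = ev 0 := by
  rw [← el_single, u_el, invT_zero]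

theorem u_e_succ {i j : Fin m} (h : i.val + 1 = j.val) :
    (uEl (m := m) hσ ha : (Idx m 1 → F) ≃ₗ[F] (Idx m 1 → F)) (ev i + ev j) = ev j := by
  rw [← el_single, ← el_single, ← el_add, u_el, invT_succ h]

theorem v_e {i j : Fin m} (h : i.val + 1 = j.val) :
    (vEl (m := m) hσ ha : (Idx m 1 → F) ≃ₗ[F] (Idx m 1 → F)) (ev i) = ev i + ev j := by
  have hi : (lst m) ≠ i := fun e => by have := lst_succ (m := m); rw [e] at this; have := j.isLt; omega
  rw [← el_single, ← el_single, ← el_add, el_eq, el_eq, v_tri, one_add_shM_single h, Pi.single_eq_of_ne hi]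
  simp

/-- The image of the last basis vector under the second generator. -/
noncomputable def y1 (m : ℕ) [NeZero m] (F : Type*) [Field F] (a : F) : Idx m 1 → F :=
  tri (Pi.single (lst m) 1) (swapSign m F) (a • eVec m F)

theorem v_e_lst : (vEl (m := m) hσ ha : (Idx m 1 → F) ≃ₗ[F] (Idx m 1 → F)) (ev (lst m)) = y1 m F a := by
  rw [← el_single, el_eq, v_tri, one_add_shM_last lst_succ, y1]
  simp

/-- The image of `y1` under the first generator. -/
noncomputable def zv (m : ℕ) [NeZero m] (F : Type*) [Field F] (a : F) : Idx m 1 → F :=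
  tri ((1 + a * a - swapSign m F) • eVec m F) (swapSign m F + a) ((a * eVec m F 0) • Pi.single 0 1)

theorem u_y1 : (uEl (m := m) hσ ha : (Idx m 1 → F) ≃ₗ[F] (Idx m 1 → F)) (y1 m F a) = zv m F a := by
  rw [y1, u_tri, zv, Matrix.mulVec_smul, one_add_shM_eVec, smul_smul, Pi.smul_apply, eVec_lst, smul_eq_mul, mul_one,
    ← eVec]
  congr 1
  module

/-- The preimage of the first basis vector under the second generator. -/
noncomputable def xv (m : ℕ) [NeZero m] (F : Type*) [Field F] (a : F) : Idx m 1 → F :=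
  tri ((invT m F).transpose *ᵥ Pi.single 0 1) (-swapSign m F * eVec m F 0)
    ((-(1 + a) * eVec m F 0) • Pi.single (lst m) 1)

omit hσ in
theorem xv_last : ((invT m F).transpose *ᵥ (Pi.single 0 1 : Fin m → F)) (lst m) = eVec m F 0 := by
  simp [eVec, Matrix.mulVec_single]

theorem v_xv : (vEl (m := m) hσ ha : (Idx m 1 → F) ≃ₗ[F] (Idx m 1 → F)) (xv m F a) = ev 0 := by
  rw [xv, v_tri, Matrix.mulVec_mulVec, ← Matrix.transpose_transpose (1 + shM m F), ← Matrix.transpose_mul, invT_mul,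
    Matrix.transpose_one, Matrix.one_mulVec, Matrix.mulVec_smul, xv_last, ← eVec, ← el_single, el_eq]
  congr 1
  · ring
  · rw [← add_smul]
    convert zero_smul F (eVec m F)
    linear_combination eVec m F 0 * swapSign_sq (m := m) (F := F)

omit hσ in
theorem zv_f0 : zv m F a (.inl (.inr 0)) = a * eVec m F 0 := by simp [zv, tri]

omit hσ in
theorem zv_f (i : Fin m) (hi : i ≠ 0) : zv m F a (.inl (.inr i)) = 0 := by simp [zv, tri, hi]

end action

/-- Every root element at the first vector and a transvection off its perpendicular give everything. -/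
theorem hsu_le_of_roots [Finite F] [NeZero m] {H : Subgroup (HU (mB σ m 1))} (hL : Long (mB_herm hσ) H (ev 0))
    (hall : ∀ i, i ≠ .inl (.inl 0) → i ≠ .inl (.inr 0) → ∀ c : F,
      ∃ d, Rt (mB_herm hσ) H (ev 0) (c • (Pi.single i 1 : Idx m 1 → F)) d)
    {z : Idx m 1 → F} (hLz : Long (mB_herm hσ) H z) (hb0 : z (.inl (.inr 0)) ≠ 0)
    (hex : Module.finrank F (Idx m 1 → F) = 3 → Nat.card (fixedSub σ) ≠ 2) : HSU (mB σ m 1) ≤ H := by
  classical
  set hB := mB_herm (m := m) (d := 1) hσ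
  obtain ⟨θ, hθ0, hθ⟩ := exists_skew' hσ
  have hm1 : 1 ≤ m := Nat.pos_of_ne_zero (NeZero.ne m)
  have hef : mB σ m 1 (ev 0) (fv 0) = 1 := by rw [B_ev]; simp [fv]
  have hff : mB σ m 1 (fv 0) (fv 0) = 0 := by rw [B_fv]; simp [fv]
  set b := z (.inl (.inr 0)) with hb
  set x := -(b⁻¹ • (z - b • fv 0 - z (.inl (.inl 0)) • ev 0)) with hx
  have hx1 : mB σ m 1 (ev 0) x = 0 := by
    rw [hx, B_ev]; simp [ev, fv, hb]
  have hx2 : mB σ m 1 (fv 0) x = 0 := by
    rw [hx, B_fv]; simp [ev, fv]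
  obtain ⟨ax, hax⟩ := hσ.exists_trace_eq (μ := -mB σ m 1 x x) (by rw [map_neg, hB.self_fixed])
  obtain ⟨hu0, hux, _, hmx⟩ := rt_all hσ hL hall x hx1 hx2 ax hax
  obtain ⟨l, hl⟩ : ∃ l, (hB.eich hu0 hux hax : (Idx m 1 → F) ≃ₗ[F] (Idx m 1 → F)) (z) =
      b • (fv 0 : Idx m 1 → F) + l • (ev 0 : Idx m 1 → F) := by
    refine ⟨ax * b - mB σ m 1 x (z) + z (.inl (.inl 0)), ?_⟩
    rw [IsHerm.eich_apply, B_ev, ← hb]
    rw [show b • x = -(z - b • fv 0 - z (.inl (.inl 0)) • ev 0) by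
      rw [hx, smul_neg, smul_smul, mul_inv_cancel₀ hb0, one_smul]]
    funext i
    simp only [Pi.add_apply, Pi.sub_apply, Pi.neg_apply, Pi.smul_apply, smul_eq_mul]
    ring
  have hLl : Long hB H (fv 0 + (l / b) • ev 0) := by
    refine Long.smul hb0 ?_
    rw [smul_add, smul_smul, mul_div_cancel₀ _ hb0, ← hl]
    exact hLz.conj hmx
  have hl0 : (l / b) + σ (l / b) = 0 := by
    obtain ⟨hiso, _⟩ := hLl θ hθ
    simp only [map_add, LinearMap.add_apply, Herm.smul_left, Herm.smul_right, hef, hff, show mB σ m 1 (ev 0) (ev 0) = 0 by rw [B_ev]; simp [ev],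
      show mB σ m 1 (fv 0) (ev 0) = 1 by rw [← hB.symm, hef, map_one]] at hiso
    linear_combination hiso
  have hLf : Long hB H (fv 0) := by
    obtain ⟨_, _, _, hm'⟩ := hL (-(l / b)) (by rw [map_neg]; linear_combination -hl0)
    have := hLl.conj hm'
    rwa [IsHerm.eich_apply, map_add, Herm.smul_right, show mB σ m 1 (ev 0) (ev 0) = 0 by rw [B_ev]; simp [ev], hef, mul_zero, add_zero, one_smul, map_zero,
      LinearMap.zero_apply, sub_zero, mul_one, add_zero, neg_smul, add_neg_cancel_right] at this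
  obtain ⟨g, hg, hge, hgf⟩ : ∃ g ∈ H, (g : (Idx m 1 → F) ≃ₗ[F] (Idx m 1 → F)) (ev 0) = -θ⁻¹ • fv 0 ∧
      (g : (Idx m 1 → F) ≃ₗ[F] (Idx m 1 → F)) (fv 0) = θ • ev 0 := by
    obtain ⟨_, _, _, h1⟩ := hL θ hθ
    obtain ⟨_, _, _, h2⟩ := hLf (-θ⁻¹) (by
      rw [map_neg, map_inv₀, eq_neg_of_add_eq_zero_right hθ, inv_neg]; ring)
    refine ⟨_, H.mul_mem (H.mul_mem h1 h2) h1, ?_, ?_⟩
    all_goals
      simp only [Subgroup.coe_mul, LinearEquiv.mul_apply, IsHerm.eich_apply, map_add, map_zero, LinearMap.zero_apply,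
        smul_zero, add_zero, sub_zero, Herm.smul_right, show mB σ m 1 (ev 0) (ev 0) = 0 by rw [B_ev]; simp [ev], hef, hff, LinearEquiv.map_smul,
        show mB σ m 1 (fv 0) (ev 0) = 1 by rw [← hB.symm, hef, map_one]]
      match_scalars <;> field_simp <;> ring
  exact hsu_le_of_pair (hB := hB) (by rw [finrank_model]; omega) hex
    ((show mB σ m 1 (ev 0) (ev 0) = 0 by rw [B_ev]; simp [ev])) hff hef (rt_all hσ hL hall) hg (neg_ne_zero.2 (inv_ne_zero hθ0)) hge hgf


omit hσ in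
theorem mul_mem_of_ring_generator (A : AddSubgroup F) {μ : F} (hμ : ∀ x ∈ A, μ * x ∈ A) {r : F}
    (hr : r ∈ Subring.closure ({μ} : Set F)) {x : F} (hx : x ∈ A) : r * x ∈ A := by
  let R : Subring F :=
    { carrier := {r | ∀ y ∈ A, r * y ∈ A}
      mul_mem' := fun {r r'} hr hr' y hy => by rw [mul_assoc]; exact hr _ (hr' _ hy)
      one_mem' := fun y hy => by rwa [one_mul]
      add_mem' := fun {r r'} hr hr' y hy => by rw [add_mul]; exact A.add_mem (hr _ hy) (hr' _ hy)
      zero_mem' := fun y _ => by rw [zero_mul]; exact A.zero_mem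
      neg_mem' := fun {r} hr y hy => by rw [neg_mul]; exact A.neg_mem (hr _ hy) }
  exact (show Subring.closure ({μ} : Set F) ≤ R by rw [Subring.closure_le, Set.singleton_subset_iff]; exact hμ) hr x hx

omit hσ in
theorem inv_apply_of_eq {V : Type*} [AddCommGroup V] [Module F V] {B : V →ₛₗ[σ] V →ₗ[F] F} {g : HU B} {x y : V}
    (h : (g : V ≃ₗ[F] V) x = y) : ((g⁻¹ : HU B) : V ≃ₗ[F] V) y = x := by
  rw [← h]; exact (g : V ≃ₗ[F] V).symm_apply_apply x

omit hσ in
theorem eVec_fixed [NeZero m] (i : Fin m) : σ (eVec m F i) = eVec m F i := by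
  simp [eVec, invT_fixed]

section gen

variable [NeZero m] {a : F} (ha : a + σ a = -1) {H : Subgroup (HU (mB σ m 1))}
  (hu : uEl (m := m) hσ ha ∈ H) (hv : vEl (m := m) hσ ha ∈ H)

omit hσ [NeZero m] in
theorem B_ev_ev (i j : Fin m) : mB σ m 1 (ev i) (ev j) = 0 := by rw [B_ev]; simp [ev]

omit hσ in
include ha in
theorem a_ne : a ≠ 0 := fun e => by rw [e, map_zero, add_zero] at ha; simp at ha

omit hσ in
theorem E_mul_self (i : Fin m) : eVec m F i * eVec m F i = 1 := by rw [← sq]; exact eVec_sq i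

include hu hv in
theorem pk_ev {k : F} (h : Rt (mB_herm hσ) H (ev 0) 0 k) (i : Fin m) : Rt (mB_herm hσ) H (ev i) 0 k := by
  obtain ⟨n, hn⟩ : ∃ n, n = i.val := ⟨_, rfl⟩
  induction n generalizing i with
  | zero => rwa [show i = 0 from Fin.ext (by simp [← hn])]
  | succ n ih =>
    refine (((ih ⟨n, by omega⟩ rfl).conj hv).conj hu).of_eq ?_ (by simp) rfl
    rw [v_e hσ ha (j := i) hn, u_e_succ hσ ha (i := ⟨n, by omega⟩) (j := i) hn]

include hu hv in
theorem pk_pair {k : F} (h : Rt (mB_herm hσ) H (ev 0) 0 k) {i j : Fin m} (hij : i.val + 1 = j.val) :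
    Rt (mB_herm hσ) H (ev i + ev j) 0 k :=
  ((pk_ev hσ ha hu hv h i).conj hv).of_eq (v_e hσ ha hij) (by simp) rfl

include hu hv in
theorem pk_y1 {k : F} (h : Rt (mB_herm hσ) H (ev 0) 0 k) : Rt (mB_herm hσ) H (y1 m F a) 0 k :=
  ((pk_ev hσ ha hu hv h (lst m)).conj hv).of_eq (v_e_lst hσ ha) (by simp) rfl

include hu hv in
theorem pk_zv {k : F} (h : Rt (mB_herm hσ) H (ev 0) 0 k) : Rt (mB_herm hσ) H (zv m F a) 0 k :=
  ((pk_y1 hσ ha hu hv h).conj hu).of_eq (u_y1 hσ ha) (by simp) rfl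

theorem B_z_e0 : mB σ m 1 (zv m F a) (ev 0) = σ a * eVec m F 0 := by
  rw [← (mB_herm hσ).symm, B_ev, zv_f0, map_mul, eVec_fixed]

include hu hv in
theorem two_families (hm : 2 ≤ m) {k : F} (hk0 : k ≠ 0) (hk : k + σ k = 0)
    (hgen : ∀ x : F, σ x = x → x ∈ Subring.closure ({k ^ 2 * (a * σ a)} : Set F))
    (h : Rt (mB_herm hσ) H (ev 0) 0 k) (c : F) (hc : σ c = c) :
    (∃ d, Rt (mB_herm hσ) H (ev 0) ((k * c) • xv m F a) d) ∧
      ∃ d, Rt (mB_herm hσ) H (ev 0) ((σ a * c) • ev (lst m)) d := by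
  let o : Fin m := ⟨1, hm⟩
  have h0o : (0 : Fin m).val + 1 = o.val := by simp [o]
  have ho : o ≠ 0 := fun e => by have := congrArg Fin.val e; simp [o] at this
  have hoz : mB σ m 1 (ev o) (zv m F a) = 0 := by rw [B_ev, zv_f o ho]
  have hσk : σ k = -k := eq_neg_of_add_eq_zero_right hk
  let A : AddSubgroup F :=
    { carrier := {α | ∃ d, Rt (mB_herm hσ) H (ev o) (α • ev 0) d}
      add_mem' := fun {x y} ⟨p, hp⟩ ⟨r, hr⟩ => ⟨_, (hp.add hr).of_eq rfl (add_smul x y _).symm rfl⟩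
      zero_mem' := ⟨0, (rt_zero (B_ev_ev o o)).of_eq rfl (zero_smul F _).symm rfl⟩
      neg_mem' := fun {x} ⟨p, hp⟩ => ⟨_, hp.neg.of_eq rfl (neg_smul x _).symm rfl⟩ }
  have hkA : k ∈ A := ⟨_, (Rt.start (B_ev_ev o o) (B_ev_ev o 0) hk 1 (pk_ev hσ ha hu hv h 0)
    (by rw [one_smul]; exact pk_pair hσ ha hu hv h h0o)).of_eq rfl (by rw [map_one, mul_one]) rfl⟩
  have hz : ∀ α ∈ A, ∃ d, Rt (mB_herm hσ) H (ev o) ((k * α * σ a * eVec m F 0) • zv m F a) d := by
    rintro α ⟨d, hd⟩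
    obtain ⟨d', hd'⟩ := hd.step (pk_zv hσ ha hu hv h) hoz
    exact ⟨d', hd'.of_eq rfl (by rw [Herm.smul_right, B_z_e0 hσ]; ring_nf) rfl⟩
  have hμ : ∀ α ∈ A, k ^ 2 * (a * σ a) * α ∈ A := by
    intro α hα
    obtain ⟨d, hd⟩ := hz α hα
    obtain ⟨d', hd'⟩ := hd.step (pk_ev hσ ha hu hv h 0) (B_ev_ev o 0)
    refine ⟨d', hd'.of_eq rfl ?_ rfl⟩
    rw [Herm.smul_right, B_ev, zv_f0]
    congr 1
    linear_combination (k ^ 2 * α * σ a * a) * E_mul_self (F := F) (0 : Fin m)
  have hA : ∀ c, σ c = c → k * c ∈ A := fun c hc => by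
    rw [mul_comm]; exact mul_mem_of_ring_generator A hμ (hgen c hc) hkA
  have hg : (uEl (m := m) hσ ha * vEl hσ ha)⁻¹ ∈ H := H.inv_mem (H.mul_mem hu hv)
  have hge : (((uEl (m := m) hσ ha * vEl hσ ha)⁻¹ : HU (mB σ m 1)) : (Idx m 1 → F) ≃ₗ[F] (Idx m 1 → F)) (ev o) = ev 0 :=
    inv_apply_of_eq (by rw [Subgroup.coe_mul, LinearEquiv.mul_apply, v_e hσ ha h0o, u_e_succ hσ ha h0o])
  constructor
  · obtain ⟨d, hd⟩ := hA c hc
    refine ⟨_, (hd.conj hg).of_eq hge ?_ rfl⟩
    rw [LinearEquiv.map_smul]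
    congr 1
    refine inv_apply_of_eq ?_
    rw [Subgroup.coe_mul, LinearEquiv.mul_apply, v_xv, u_e0]
  · obtain ⟨d, hd⟩ := hz _ (hA (c * eVec m F 0 / (k * k)) (by
      rw [map_div₀, map_mul, map_mul, hc, eVec_fixed, hσk, neg_mul_neg]))
    refine ⟨_, (hd.conj hg).of_eq hge ?_ rfl⟩
    rw [LinearEquiv.map_smul, inv_apply_of_eq (y := zv m F a) (x := ev (lst m))
      (by rw [Subgroup.coe_mul, LinearEquiv.mul_apply, v_e_lst, u_y1])]
    congr 1
    field_simp
    linear_combination (σ a * c) * E_mul_self (F := F) (0 : Fin m)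

include hu hv in
theorem long_e0 (hm : 2 ≤ m) {k : F} (hk0 : k ≠ 0) (hk : k + σ k = 0)
    (hgen : ∀ x : F, σ x = x → x ∈ Subring.closure ({k ^ 2 * (a * σ a)} : Set F))
    (h : Rt (mB_herm hσ) H (ev 0) 0 k) : Long (mB_herm hσ) H (ev 0) := by
  have hσk : σ k = -k := eq_neg_of_add_eq_zero_right hk
  have ha0 : a ≠ 0 := a_ne ha
  have hσa0 : σ a ≠ 0 := fun e => ha0 (IsInvol.apply_eq_zero_iff.1 e)
  have hN : σ (a * σ a) = a * σ a := by rw [map_mul, hσ.invol, mul_comm]
  have hE := E_mul_self (F := F) (0 : Fin m)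
  refine Long.of_skew hk0 hk fun c hc => ?_
  by_cases h2 : (2 : F) = 0
  · have hkk : σ k = k := by linear_combination hσk - k * h2
    obtain ⟨⟨d, hd⟩, -⟩ := two_families hσ ha hu hv hm hk0 hk hgen h (c / (k * (a * σ a))) (by
      rw [map_div₀, map_mul, hc, hN, hkk])
    obtain ⟨⟨d', hd'⟩, -⟩ := two_families hσ ha hu hv hm hk0 hk hgen h 1 (map_one σ)
    have hd'' := (hd'.conj hu).of_eq (u_e0 hσ ha) rfl rfl
    rw [LinearEquiv.map_smul, mul_one] at hd''
    refine (hd.comm hd'').of_eq rfl rfl ?_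
    have hB' : mB σ m 1 (xv m F a) ((uEl (m := m) hσ ha : (Idx m 1 → F) ≃ₗ[F] (Idx m 1 → F)) (xv m F a)) =
        a * (a * σ a) + swapSign m F * (a - σ a) := by
      rw [xv, u_tri, B_tri, Matrix.mulVec_smul, one_add_shM_last lst_succ]
      rw [Finset.sum_eq_single (lst m) (fun i _ hi => by simp [hi]) (by simp),
        Finset.sum_eq_single (lst m) (fun i _ hi => by simp [hi]) (by simp)]
      simp only [Pi.add_apply, Pi.smul_apply, Pi.single_eq_same, smul_eq_mul, mul_one, eVec_lst,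
        invT_transpose_last _ lst_succ, xv_last, map_mul, map_neg, map_add, map_one, eVec_fixed, swapSign_fixed, hσ.invol,
        show (1 : F) + a = -σ a by linear_combination ha, show (1 : F) + σ a = -a by linear_combination ha]
      linear_combination (eVec m F 0 * eVec m F 0) * ha + (eVec m F 0 * eVec m F 0) * swapSign_sq (m := m) (F := F) +
        (a * (a * σ a) + swapSign m F * (a - σ a)) * hE
    have hB'' : mB σ m 1 ((uEl (m := m) hσ ha : (Idx m 1 → F) ≃ₗ[F] (Idx m 1 → F)) (xv m F a)) (xv m F a) =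
        σ a * (a * σ a) + swapSign m F * (σ a - a) := by
      rw [← (mB_herm hσ).symm, hB', map_add, map_mul, hN, map_mul, map_sub, hσ.invol, swapSign_fixed]
    have e2 : k * (c / (k * (a * σ a))) * (a * σ a) = c := by field_simp
    have e : (σ a * (a * σ a) + swapSign m F * (σ a - a)) - (a * (a * σ a) + swapSign m F * (a - σ a)) =
        a * σ a := by
      rw [show σ a = -1 - a by linear_combination ha]
      linear_combination ((a * (1 + a)) * (1 + a) - swapSign m F * (1 + 2 * a)) * h2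
    simp only [Herm.smul_left, Herm.smul_right, hB', hB'', map_mul, map_div₀, hc, hN, hkk]
    linear_combination (k * (k * (c / (k * (a * σ a))))) * e + k * e2
  · obtain ⟨-, d, hd⟩ := two_families hσ ha hu hv hm hk0 hk hgen h (c / (-2 * (a * σ a) * eVec m F 0)) (by
      rw [map_div₀, map_mul, map_mul, hc, hN, eVec_fixed, map_neg, map_ofNat])
    obtain ⟨⟨d', hd'⟩, -⟩ := two_families hσ ha hu hv hm hk0 hk hgen h 1 (map_one σ)
    refine (hd.comm hd').of_eq rfl rfl ?_
    have hB' : mB σ m 1 (ev (lst m)) (xv m F a) = σ a * eVec m F 0 := by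
      rw [B_ev]
      simp [xv, tri]
      left; linear_combination -ha
    have hB'' : mB σ m 1 (xv m F a) (ev (lst m)) = a * eVec m F 0 := by
      rw [← (mB_herm hσ).symm, hB', map_mul, hσ.invol, eVec_fixed]
    simp only [Herm.smul_left, Herm.smul_right, hB', hB'', map_mul, map_div₀, hc, hN, hσk, map_one, mul_one, hσ.invol,
      map_neg, map_ofNat, eVec_fixed]
    have hE0 : eVec m F 0 ≠ 0 := eVec_ne 0
    field_simp
    ring

omit hσ in
theorem shM_pow_mulVec (j : ℕ) (φ : Fin m → F) (i : Fin m) :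
    ((shM m F ^ j) *ᵥ φ) i = if h : j ≤ i.val then φ ⟨i.val - j, by omega⟩ else 0 := by
  simp only [Matrix.mulVec, dotProduct, shM_pow_apply, ite_mul, one_mul, zero_mul]
  split_ifs with h
  · rw [Finset.sum_eq_single (⟨i.val - j, by omega⟩ : Fin m)]
    · simp; omega
    · intro b _ hb; rw [if_neg fun e => hb (Fin.ext (by simp only; omega))]
    · simp
  · exact Finset.sum_eq_zero fun b _ => if_neg (by omega)

omit hσ in
theorem shT_pow_mulVec (j : ℕ) (φ : Fin m → F) (i : Fin m) :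
    (((shM m F).transpose ^ j) *ᵥ φ) i = if h : i.val + j < m then φ ⟨i.val + j, h⟩ else 0 := by
  rw [← Matrix.transpose_pow]
  simp only [Matrix.mulVec, dotProduct, Matrix.transpose_apply, shM_pow_apply, ite_mul, one_mul, zero_mul]
  split_ifs with h
  · rw [Finset.sum_eq_single (⟨i.val + j, h⟩ : Fin m)]
    · simp
    · intro b _ hb; rw [if_neg fun e => hb (Fin.ext e.symm)]
    · simp
  · exact Finset.sum_eq_zero fun b _ => if_neg (by omega)

omit hσ [NeZero m] in
theorem mem_of_singles {P : Submodule F (Fin m → F)} (y : Fin m → F)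
    (h : ∀ i, y i ≠ 0 → (Pi.single i 1 : Fin m → F) ∈ P) : y ∈ P := by
  classical
  rw [pi_eq_sum_univ' y]
  exact sum_mem fun i _ => if e : y i = 0 then by rw [e, zero_smul]; exact P.zero_mem else P.smul_mem _ (h i e)

include hu in
theorem closed_contains (P : Submodule F (Idx m 1 → F))
    (hPu : ∀ x ∈ P, (uEl (m := m) hσ ha : (Idx m 1 → F) ≃ₗ[F] (Idx m 1 → F)) x ∈ P)
    (hPu' : ∀ x ∈ P, (((uEl (m := m) hσ ha)⁻¹ : HU (mB σ m 1)) : (Idx m 1 → F) ≃ₗ[F] (Idx m 1 → F)) x ∈ P)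
    (hm : 2 ≤ m) {yv : Fin m → F} {ωv : F} {φv : Fin m → F} (hvP : tri yv ωv φv ∈ P) (h0 : φv 0 = 0)
    (h1 : φv ⟨1, hm⟩ ≠ 0) :
    (∀ i, ev i ∈ P) ∧ wv 0 ∈ P ∧ ∀ i : Fin m, i ≠ 0 → fv i ∈ P := by
  have _ := hu
  have hN : ∀ y ω φ, tri y ω φ ∈ P →
      tri (invT m F *ᵥ y + (a * φ (lst m) - ω) • eVec m F - y) (φ (lst m)) (shM m F *ᵥ φ) ∈ P := by
    intro y ω φ h
    have := P.sub_mem (hPu _ h) h
    rw [u_tri, Matrix.add_mulVec, Matrix.one_mulVec] at this
    convert this using 1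
    funext x; rcases x with (i | i) | j <;> simp [tri]
  have hpow : ∀ j : ℕ, ∃ Y Ω, tri Y Ω ((shM m F ^ j) *ᵥ φv) ∈ P := by
    intro j
    induction j with
    | zero => exact ⟨yv, ωv, by rwa [pow_zero, Matrix.one_mulVec]⟩
    | succ j ih =>
      obtain ⟨Y, Ω, h⟩ := ih
      exact ⟨_, _, by rw [pow_succ', ← Matrix.mulVec_mulVec]; exact hN _ _ _ h⟩
  obtain ⟨Y, Ω, hY⟩ := hpow (m - 2)
  have hlast : (shM m F ^ (m - 2)) *ᵥ φv = φv ⟨1, hm⟩ • Pi.single (lst m) 1 := by
    funext i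
    rw [shM_pow_mulVec, Pi.smul_apply, smul_eq_mul]
    by_cases hi : i = lst m
    · subst hi
      rw [dif_pos (by simp [lst]; omega), Pi.single_eq_same, mul_one]
      congr 1; exact Fin.ext (by simp [lst]; omega)
    · rw [Pi.single_eq_of_ne hi, mul_zero]
      have hi' : i.val ≠ m - 1 := fun e => hi (Fin.ext (by simpa [lst] using e))
      split_ifs with hle
      · rw [show (⟨i.val - (m - 2), by omega⟩ : Fin m) = 0 from Fin.ext (by simp; omega), h0]
      · rfl
  have hw := hN _ _ _ hY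
  rw [hlast] at hw
  simp only [Pi.smul_apply, Pi.single_eq_same, smul_eq_mul, mul_one, Matrix.mulVec_smul] at hw
  have hs : shM m F *ᵥ Pi.single (lst m) 1 = (0 : Fin m → F) := by
    have := one_add_shM_last (F := F) (lst_succ (m := m))
    rwa [Matrix.add_mulVec, Matrix.one_mulVec, add_eq_left] at this
  rw [hs, smul_zero] at hw
  set Y' := invT m F *ᵥ Y + (a * φv ⟨1, hm⟩ - Ω) • eVec m F - Y with hY'
  have hel := hN _ _ _ hw
  simp only [Pi.zero_apply, mul_zero, zero_sub, Matrix.mulVec_zero] at hel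
  rw [← el_eq] at hel
  let Q : Submodule F (Fin m → F) :=
    { carrier := {y | el y ∈ P}
      add_mem' := fun {x y} hx hy => show el _ ∈ P by rw [el_add]; exact P.add_mem hx hy
      zero_mem' := show el _ ∈ P by rw [el_zero]; exact P.zero_mem
      smul_mem' := fun c {x} hx => show el _ ∈ P by rw [el_smul]; exact P.smul_mem c hx }
  obtain ⟨y₀, hy₀, hy₀l⟩ : ∃ y ∈ Q, y (lst m) ≠ 0 := ⟨_, hel, by
    simp [invT_transpose_last _ lst_succ, eVec_lst, h1]⟩
  have hQT : ∀ j : ℕ, ((shM m F).transpose ^ j) *ᵥ y₀ ∈ Q := by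
    intro j
    induction j with
    | zero => rwa [pow_zero, Matrix.one_mulVec]
    | succ j ih =>
      rw [pow_succ', ← Matrix.mulVec_mulVec]
      set y := ((shM m F).transpose ^ j) *ᵥ y₀
      have h2 : (((uEl (m := m) hσ ha)⁻¹ : HU (mB σ m 1)) : (Idx m 1 → F) ≃ₗ[F] (Idx m 1 → F)) (el y) =
          el ((1 + shM m F).transpose *ᵥ y) :=
        inv_apply_of_eq (by rw [u_el, Matrix.mulVec_mulVec, invT_mul, Matrix.one_mulVec])
      have h3 : (1 + shM m F).transpose *ᵥ y ∈ Q := by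
        show el _ ∈ P
        rw [← h2]; exact hPu' _ ih
      have := Q.sub_mem h3 ih
      rwa [Matrix.transpose_add, Matrix.transpose_one, Matrix.add_mulVec, Matrix.one_mulVec, add_sub_cancel_left] at this
  have hQ : ∀ i : Fin m, (Pi.single i 1 : Fin m → F) ∈ Q := by
    intro i
    induction i using WellFoundedLT.induction with
    | _ i ih =>
      set w := ((shM m F).transpose ^ (m - 1 - i.val)) *ᵥ y₀ with hw'
      have hwi : w i = y₀ (lst m) := by
        rw [hw', shT_pow_mulVec, dif_pos (by omega)]; congr 1; exact Fin.ext (by simp [lst]; omega)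
      have hr : w - w i • Pi.single i 1 ∈ Q := by
        refine mem_of_singles _ fun j hj => ?_
        rcases lt_trichotomy j i with hlt | rfl | hgt
        · exact ih j hlt
        · simp at hj
        · rw [Pi.sub_apply, Pi.smul_apply, Pi.single_eq_of_ne hgt.ne', smul_zero, sub_zero, hw', shT_pow_mulVec,
            dif_neg (by have := Fin.lt_def.1 hgt; omega)] at hj
          exact absurd rfl hj
      have hwi' : w i • Pi.single i 1 ∈ Q := by
        have := Q.sub_mem (hQT (m - 1 - i.val)) hr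
        rwa [← hw', sub_sub_cancel] at this
      exact (Q.smul_mem_iff (hwi ▸ hy₀l)).1 hwi'
  have hQall : ∀ y : Fin m → F, el y ∈ P := fun y => (mem_of_singles y fun i _ => hQ i : y ∈ Q)
  have hwv : wv 0 ∈ P := by
    refine (P.smul_mem_iff h1).1 ?_
    have h := P.sub_mem hw (hQall Y')
    rwa [tri_eq, fl_zero, add_zero, add_sub_cancel_left] at h
  let R : Submodule F (Fin m → F) :=
    { carrier := {y | fl y ∈ P}
      add_mem' := fun {x y} hx hy => show fl _ ∈ P by rw [fl_add]; exact P.add_mem hx hy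
      zero_mem' := show fl _ ∈ P by rw [fl_zero]; exact P.zero_mem
      smul_mem' := fun c {x} hx => show fl _ ∈ P by rw [fl_smul]; exact P.smul_mem c hx }
  have hR : ∀ j : ℕ, (shM m F ^ j) *ᵥ φv ∈ R := by
    intro j
    obtain ⟨Y, Ω, h⟩ := hpow j
    show fl _ ∈ P
    rw [tri_eq] at h
    simpa using P.sub_mem h (P.add_mem (hQall Y) (P.smul_mem Ω hwv))
  have hRall : ∀ i : Fin m, i ≠ 0 → (Pi.single i 1 : Fin m → F) ∈ R := by
    intro i hi
    induction i using WellFoundedGT.induction with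
    | _ i ih =>
      have hi' : i.val ≠ 0 := fun e => hi (Fin.ext (by simp [e]))
      set w := (shM m F ^ (i.val - 1)) *ᵥ φv with hw'
      have hwi : w i = φv ⟨1, hm⟩ := by
        rw [hw', shM_pow_mulVec, dif_pos (by omega)]; congr 1; exact Fin.ext (by simp; omega)
      have hr : w - w i • Pi.single i 1 ∈ R := by
        refine mem_of_singles _ fun j hj => ?_
        rcases lt_trichotomy i j with hlt | rfl | hgt
        · exact ih j hlt (fun e => by rw [e] at hlt; exact absurd hlt (by simp [Fin.lt_def]))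
        · simp at hj
        · have hj' := Fin.lt_def.1 hgt
          simp [hgt.ne, hw', shM_pow_mulVec] at hj
          obtain ⟨hle, hne⟩ := hj
          exact absurd (by rw [show (⟨j.val - (i.val - 1), by omega⟩ : Fin m) = 0 from Fin.ext (by simp; omega)]; exact h0) hne
      have hwi' : w i • Pi.single i 1 ∈ R := by
        have := R.sub_mem (hR (i.val - 1)) hr
        rwa [← hw', sub_sub_cancel] at this
      exact (R.smul_mem_iff (hwi ▸ h1)).1 hwi'
  exact ⟨fun i => by rw [← el_single]; exact hQall _, hwv, fun i hi => by rw [← fl_single]; exact hRall i hi⟩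

include hu hv in
theorem hsu_le_of_long [Finite F] (hm : 2 ≤ m) (hL : Long (mB_herm hσ) H (ev 0))
    (hfam : ∀ c : F, σ c = c → ∃ d, Rt (mB_herm hσ) H (ev 0) ((σ a * c) • ev (lst m)) d) :
    HSU (mB σ m 1) ≤ H := by
  classical
  set hB := mB_herm (m := m) (d := 1) hσ
  have ha0 : a ≠ 0 := a_ne ha
  have hσa0 : σ a ≠ 0 := fun e => ha0 (IsInvol.apply_eq_zero_iff.1 e)
  obtain ⟨θ, hθ0, hθ⟩ := exists_skew' hσ
  let o : Fin m := ⟨1, hm⟩
  have h0o : (0 : Fin m).val + 1 = o.val := by simp [o]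
  have ho : o ≠ 0 := fun e => by have := congrArg Fin.val e; simp [o] at this
  -- the transvections at the basis
  have hLe : ∀ i, Long hB H (ev i) := fun i k hk => pk_ev hσ ha hu hv (hL k hk) i
  have hLz : Long hB H (zv m F a) := fun k hk => pk_zv hσ ha hu hv (hL k hk)
  have hLy : Long hB H (y1 m F a) := fun k hk => pk_y1 hσ ha hu hv (hL k hk)
  -- the root elements along the second vector
  have hskew : ∀ k : F, k + σ k = 0 → ∃ d, Rt hB H (ev 0) (k • ev o) d := fun k hk =>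
    ⟨_, (Rt.start (B_ev_ev 0 0) (B_ev_ev 0 o) hk 1 (hLe o k hk)
      (by rw [one_smul, add_comm]; exact pk_pair hσ ha hu hv (hL k hk) h0o)).of_eq rfl (by rw [map_one, mul_one]) rfl⟩
  have hlow : ∀ n : ℕ, ∀ i : Fin m, i.val + n + 1 = m → ∀ c : F, σ c = c →
      ∃ d, Rt hB H (ev 0) ((σ a * c) • ev i) d := by
    intro n
    induction n with
    | zero => intro i hi; rw [show i = lst m from Fin.ext (by simp [lst]; omega)]; exact hfam
    | succ n ih =>
      intro i hi c hc
      obtain ⟨d, hd⟩ := ih ⟨i.val + 1, by omega⟩ (by simp only; omega) c hc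
      have hu' : (((uEl (m := m) hσ ha)⁻¹ : HU (mB σ m 1)) : (Idx m 1 → F) ≃ₗ[F] (Idx m 1 → F)) (ev ⟨i.val + 1, by omega⟩) =
          ev i + ev ⟨i.val + 1, by omega⟩ := inv_apply_of_eq (u_e_succ hσ ha rfl)
      have hd' := (hd.conj (H.inv_mem hu)).of_eq (inv_apply_of_eq (u_e0 hσ ha)) rfl rfl
      rw [LinearEquiv.map_smul, hu'] at hd'
      exact ⟨_, (hd'.add hd.neg).of_eq rfl (by module) rfl⟩
  have he1 : ∀ c : F, ∃ d, Rt hB H (ev 0) (c • ev o) d := by
    intro c
    obtain ⟨d, hd⟩ := hlow (m - 2) o (by simp [o]; omega) (-(c + σ c)) (by rw [map_neg, map_add, hσ.invol, add_comm])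
    obtain ⟨d', hd'⟩ := hskew (c - σ a * -(c + σ c)) (by
      rw [map_sub, map_mul, map_neg, map_add, hσ.invol, hσ.invol]; linear_combination (c + σ c) * ha)
    exact ⟨_, (hd'.add hd).of_eq rfl (by module) rfl⟩
  -- a vector with all multiples
  have hE0 := eVec_ne (F := F) (0 : Fin m)
  have hEo := eVec_ne (F := F) o
  let c : F := σ ((-θ⁻¹ - mB σ m 1 (zv m F a) (y1 m F a)) / (a * σ a * eVec m F 0 * eVec m F o))
  have hgc : ∃ g ∈ H, (g : (Idx m 1 → F) ≃ₗ[F] (Idx m 1 → F)) (zv m F a) = zv m F a + (a * eVec m F 0 * c) • ev o := by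
    obtain ⟨d, hd⟩ := he1 c
    have hd0 : (0 : F) + σ 0 = -mB σ m 1 (c • ev o) (c • ev o) := by
      rw [Herm.smul_left, Herm.smul_right, B_ev_ev]; simp
    have h' := hL.any hd hd0
    obtain ⟨_, _, _, hm'⟩ := h'
    refine ⟨_, hm', ?_⟩
    rw [IsHerm.eich_apply, Herm.smul_left, B_ev, B_ev, zv_f0, zv_f o ho, smul_smul]
    simp
  obtain ⟨gc, hgcH, hgc⟩ := hgc
  set zc := zv m F a + (a * eVec m F 0 * c) • ev o with hzc
  have hLzc : Long hB H zc := hgc ▸ hLz.conj hgcH
  have hBzy : mB σ m 1 zc (y1 m F a) = -θ⁻¹ := by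
    rw [hzc, map_add, LinearMap.add_apply, Herm.smul_left, B_ev, map_mul, map_mul, eVec_fixed,
      show σ c = (-θ⁻¹ - mB σ m 1 (zv m F a) (y1 m F a)) / (a * σ a * eVec m F 0 * eVec m F o) from hσ.invol _]
    simp [y1, tri]
    field_simp
    ring
  set v := y1 m F a - zc with hvdef
  have hLv : Long hB H v := by
    obtain ⟨hzz, _, _, hm'⟩ := hLzc θ hθ
    have := hLy.conj hm'
    rwa [IsHerm.eich_apply, hBzy, smul_zero, add_zero, map_zero, LinearMap.zero_apply, sub_zero,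
      mul_neg, mul_inv_cancel₀ hθ0, neg_one_smul, ← sub_eq_add_neg] at this
  obtain ⟨yv, ωv, hvt⟩ : ∃ yv ωv, v = tri yv ωv (a • (eVec m F - eVec m F 0 • Pi.single 0 1)) :=
    ⟨Pi.single (lst m) 1 - ((1 + a * a - swapSign m F) • eVec m F + (a * eVec m F 0 * c) • Pi.single o 1),
      swapSign m F - (swapSign m F + a), by
      rw [hvdef, hzc, y1, zv, ← el_single, el_eq, tri_smul, tri_add]
      funext x; rcases x with (i | i) | j <;> simp [tri] <;> ring⟩
  have hpv : mB σ m 1 (ev 0) v = 0 := by rw [hvt, B_ev]; simp [tri]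
  have hvo : mB σ m 1 v (ev o) ≠ 0 := by
    rw [← hB.symm]
    refine fun e => mul_ne_zero ha0 hEo ?_
    rw [IsInvol.apply_eq_zero_iff, hvt, B_ev] at e
    simpa [tri, ho] using e
  have hFv : ∀ d : F, ∃ r, Rt hB H (ev 0) (d • v) r := by
    intro d
    obtain ⟨r, hr⟩ := he1 (d / (θ * mB σ m 1 v (ev o)))
    obtain ⟨r', hr'⟩ := hr.step (hLv θ hθ) hpv
    refine ⟨r', hr'.of_eq rfl ?_ rfl⟩
    rw [Herm.smul_right]
    congr 1
    field_simp
  let P : Submodule F (Idx m 1 → F) :=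
    { carrier := {x | ∀ c : F, ∃ d, Rt hB H (ev 0) (c • x) d}
      add_mem' := fun {x y} hx hy c => by
        obtain ⟨p, hp⟩ := hx c
        obtain ⟨r, hr⟩ := hy c
        exact ⟨_, (hp.add hr).of_eq rfl (smul_add c x y).symm rfl⟩
      zero_mem' := fun c => ⟨0, (rt_zero (B_ev_ev 0 0)).of_eq rfl (smul_zero c).symm rfl⟩
      smul_mem' := fun r {x} hx c => by rw [smul_smul]; exact hx _ }
  have hPg : ∀ g ∈ H, (g : (Idx m 1 → F) ≃ₗ[F] (Idx m 1 → F)) (ev 0) = ev 0 → ∀ x ∈ P,
      (g : (Idx m 1 → F) ≃ₗ[F] (Idx m 1 → F)) x ∈ P := fun g hg hge x hx c => by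
    obtain ⟨d, hd⟩ := hx c
    exact ⟨d, (hd.conj hg).of_eq hge (LinearEquiv.map_smul _ _ _) rfl⟩
  obtain ⟨hPe, hPw, hPf⟩ := closed_contains hσ ha hu P (hPg _ hu (u_e0 hσ ha))
    (hPg _ (H.inv_mem hu) (inv_apply_of_eq (u_e0 hσ ha))) hm (yv := yv) (ωv := ωv)
    (φv := a • (eVec m F - eVec m F 0 • Pi.single 0 1)) (hvt ▸ hFv) (by simp)
    (by simp [Pi.single_eq_of_ne (show (⟨1, hm⟩ : Fin m) ≠ 0 from ho)]; exact ⟨ha0, hEo⟩)
  have hall : ∀ i, i ≠ .inl (.inl 0) → i ≠ .inl (.inr 0) → ∀ c : F,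
      ∃ d, Rt hB H (ev 0) (c • (Pi.single i 1 : Idx m 1 → F)) d := by
    rintro ((i | i) | j) h1 h2
    · exact hPe i
    · exact hPf i fun e => h2 (by rw [e])
    · rw [Subsingleton.elim j 0]; exact hPw
  exact hsu_le_of_roots hσ hL hall hLz (by rw [zv_f0]; exact mul_ne_zero ha0 hE0)
    (fun h3 => absurd h3 (by rw [finrank_model]; omega))

end gen

/-! ### Regularity -/

section regular

variable [NeZero m] {a : F} (ha : a + σ a = -1)

/-- The nilpotent part. -/
noncomputable def nEl : Module.End F (Idx m 1 → F) :=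
  ((uEl (m := m) hσ ha : (Idx m 1 → F) ≃ₗ[F] (Idx m 1 → F)) : (Idx m 1 → F) →ₗ[F] (Idx m 1 → F)) - 1

theorem nEl_tri (y : Fin m → F) (ω : F) (φ : Fin m → F) :
    nEl hσ ha (tri y ω φ) =
      tri ((invT m F - 1) *ᵥ y + (a * φ (lst m) - ω) • eVec m F) (φ (lst m)) (shM m F *ᵥ φ) := by
  rw [nEl, LinearMap.sub_apply, Module.End.one_apply, LinearEquiv.coe_coe, u_tri, Matrix.add_mulVec,
    Matrix.one_mulVec, Matrix.sub_mulVec, Matrix.one_mulVec]
  funext x; rcases x with (i | i) | j <;> simp [tri] <;> ring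

theorem nEl_pow_el (k : ℕ) (y : Fin m → F) : (nEl hσ ha ^ k) (el y) = el (((invT m F - 1) ^ k) *ᵥ y) := by
  induction k with
  | zero => simp
  | succ k ih =>
    rw [pow_succ', Module.End.mul_apply, ih, el_eq, nEl_tri, el_eq, pow_succ', ← Matrix.mulVec_mulVec]
    simp

omit hσ [NeZero m] in
theorem invT_sub_one_pow (k : ℕ) :
    (invT m F - 1) ^ k = (-1) ^ k * ((shM m F).transpose ^ k * invT m F ^ k) := by
  rw [SpRegularThree.invT_sub_one, neg_pow, SpRegularThree.invT_commute.mul_pow,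
    (SpRegularThree.invT_commute.pow_pow k k).eq]

theorem nEl_pow_fl (k : ℕ) (y : Fin m → F) (ω : F) (φ : Fin m → F) :
    ∃ y' ω', (nEl hσ ha ^ k) (tri y ω φ) = tri y' ω' ((shM m F ^ k) *ᵥ φ) := by
  induction k with
  | zero => exact ⟨y, ω, by simp⟩
  | succ k ih =>
    obtain ⟨y', ω', h⟩ := ih
    exact ⟨_, _, by rw [pow_succ', Module.End.mul_apply, h, nEl_tri, pow_succ', ← Matrix.mulVec_mulVec]⟩

theorem nEl_pow_eq_zero : nEl (m := m) hσ ha ^ (m + 1 + m) = 0 := by
  refine LinearMap.ext fun x => ?_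
  rw [pow_add, pow_add, pow_one, Module.End.mul_apply, LinearMap.zero_apply]
  obtain ⟨y, ω, h⟩ := nEl_pow_fl hσ ha m (fun i => x (.inl (.inl i))) (x (.inr 0)) (fun i => x (.inl (.inr i)))
  rw [← tri_decomp, shM_pow_eq_zero, Matrix.zero_mulVec] at h
  rw [h, Module.End.mul_apply, nEl_tri]
  simp only [Pi.zero_apply, mul_zero, Matrix.mulVec_zero]
  rw [← el_eq, nEl_pow_el, invT_sub_one_pow, ← Matrix.transpose_pow, shM_pow_eq_zero]
  simp [el_zero]

theorem nEl_pow_ne : nEl (m := m) hσ ha ^ (2 * m) ≠ 0 := by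
  intro h
  obtain ⟨l, hl⟩ : ∃ l, m = l + 1 := ⟨m - 1, by have := NeZero.ne m; omega⟩
  obtain ⟨Y, Ω, hY⟩ := nEl_pow_fl (m := m) hσ ha l 0 0 (Pi.single 0 1)
  have hφ : (shM m F ^ l) *ᵥ (Pi.single 0 1 : Fin m → F) = Pi.single (lst m) 1 := by
    funext i
    rw [shM_pow_mulVec]
    simp only [Pi.single_apply, Fin.ext_iff, lst, Fin.val_zero]
    split_ifs with h1 h2 h3 <;> first | rfl | omega
  have hs : shM m F *ᵥ Pi.single (lst m) 1 = (0 : Fin m → F) := by
    have := one_add_shM_last (F := F) (lst_succ (m := m))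
    rwa [Matrix.add_mulVec, Matrix.one_mulVec, add_eq_left] at this
  set y := (invT m F - 1) *ᵥ ((invT m F - 1) *ᵥ Y + (a - Ω) • eVec m F) - eVec m F with hy
  have h2 : (nEl hσ ha ^ (l + 1 + 1)) (tri 0 0 (Pi.single 0 1)) = el y := by
    rw [pow_succ', Module.End.mul_apply, pow_succ', Module.End.mul_apply, hY, hφ, nEl_tri, nEl_tri, hs, el_eq]
    simp [hy, sub_eq_add_neg]
  have hyl : y (lst m) = -1 := by
    simp [hy, Matrix.sub_mulVec, invT_transpose_last _ lst_succ, eVec_lst]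
  have h3 : (nEl hσ ha ^ (2 * m)) (tri 0 0 (Pi.single 0 1)) = el (((invT m F - 1) ^ l) *ᵥ y) := by
    rw [show 2 * m = l + (l + 1 + 1) by omega, pow_add, Module.End.mul_apply, h2, nEl_pow_el]
  rw [h, LinearMap.zero_apply, invT_sub_one_pow, ← (SpRegularThree.invT_commute.pow_pow l l).eq,
    ← Matrix.mulVec_mulVec, ← Matrix.mulVec_mulVec] at h3
  have h4 : ((shM m F).transpose ^ l) *ᵥ y = (-1 : F) • Pi.single 0 1 := by
    funext i
    rw [shT_pow_mulVec]
    by_cases hi : i = 0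
    · subst hi
      rw [dif_pos (by simp; omega), Pi.smul_apply, Pi.single_eq_same, smul_eq_mul, mul_one, ← hyl]
      congr 1; exact Fin.ext (by simp [lst]; omega)
    · have hi0 : i.val ≠ (0 : Fin m).val := fun e => hi (Fin.ext e)
      rw [Fin.val_zero] at hi0
      rw [dif_neg (by omega), Pi.smul_apply, Pi.single_eq_of_ne hi, smul_zero]
  have hA : ∀ k, (invT m F ^ k) *ᵥ Pi.single 0 1 = (Pi.single 0 1 : Fin m → F) := by
    intro k
    induction k with
    | zero => rw [pow_zero, Matrix.one_mulVec]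
    | succ k ih => rw [pow_succ', ← Matrix.mulVec_mulVec, ih, invT_zero]
  rw [h4, Matrix.mulVec_smul, hA,
    show ((-1 : Matrix (Fin m) (Fin m) F) ^ l) = ((-1 : F) ^ l) • 1 from by
      rw [← neg_one_smul F (1 : Matrix (Fin m) (Fin m) F), smul_pow, one_pow],
    Matrix.smul_mulVec, Matrix.one_mulVec, smul_smul] at h3
  have := congrFun h3 (.inl (.inl 0))
  simp [el] at this

end regular

/-- Three conjugate regular unipotent elements generate the special unitary group of the model. -/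
theorem exists_three_model [Finite F] [NeZero m] (hm : 2 ≤ m) :
    ∃ (a : F) (ha : a + σ a = -1) (g h : HU (mB σ m 1)), g ∈ HSU (mB σ m 1) ∧ h ∈ HSU (mB σ m 1) ∧
      Subgroup.closure ({uEl hσ ha, g * uEl hσ ha * g⁻¹, h * uEl hσ ha * h⁻¹} : Set (HU (mB σ m 1))) =
        HSU (mB σ m 1) := by
  obtain ⟨a, ha⟩ := hσ.exists_trace_eq (μ := (-1 : F)) (by simp)
  obtain ⟨k, hk0, hk, hgen⟩ := exists_skew_gen hσ (N := a * σ a) (by rw [map_mul, hσ.invol, mul_comm])
    (mul_ne_zero (a_ne ha) fun e => a_ne ha (IsInvol.apply_eq_zero_iff.1 e))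
  obtain ⟨t, ht⟩ := hσ.exists_trace_eq (μ := (1 : F)) (map_one σ)
  let o : Fin m := ⟨1, hm⟩
  have h0o : (0 : Fin m).val + 1 = o.val := by simp [o]
  set ζ := -k * t with hζ
  have hz0 : (0 : F) + σ 0 = -mB σ m 1 (ζ • ev o) (ζ • ev o) := by
    rw [Herm.smul_left, Herm.smul_right, B_ev_ev]; simp
  have h0z : mB σ m 1 (ev 0) (ζ • ev o) = 0 := by rw [Herm.smul_right, B_ev_ev, mul_zero]
  set h := (mB_herm hσ).eich (B_ev_ev (0 : Fin m) 0) h0z hz0 with hh
  refine ⟨a, ha, jEl hσ, h⁻¹, jEl_mem hσ, Subgroup.inv_mem _ ((mB_herm hσ).eich_mem _ _ _), le_antisymm ?_ ?_⟩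
  · have hu' := uEl_mem (m := m) hσ ha
    rw [Subgroup.closure_le]
    rintro _ (rfl | rfl | rfl)
    · exact hu'
    · exact mul_mem (mul_mem (jEl_mem hσ) hu') (inv_mem (jEl_mem hσ))
    · exact mul_mem (mul_mem (inv_mem ((mB_herm hσ).eich_mem _ _ _)) hu') (inv_mem (inv_mem ((mB_herm hσ).eich_mem _ _ _)))
  set H := Subgroup.closure ({uEl hσ ha, jEl hσ * uEl hσ ha * (jEl hσ)⁻¹, h⁻¹ * uEl hσ ha * h⁻¹⁻¹} : Set (HU (mB σ m 1)))
  have hu : uEl hσ ha ∈ H := Subgroup.subset_closure (by simp)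
  have hv : vEl hσ ha ∈ H := Subgroup.subset_closure (by simp [vEl])
  have hk' : k + σ k = -mB σ m 1 (0 : Idx m 1 → F) 0 := by simpa using hk
  have hT : Rt (mB_herm hσ) H (ev 0) 0 k := by
    refine ⟨B_ev_ev 0 0, map_zero _, hk', ?_⟩
    have hmem : h⁻¹ * (uEl hσ ha * h * (uEl hσ ha)⁻¹) ∈ H := by
      have := H.mul_mem (show h⁻¹ * uEl hσ ha * h⁻¹⁻¹ ∈ H from Subgroup.subset_closure (by simp)) (H.inv_mem hu)
      rwa [inv_inv, mul_assoc, mul_assoc, ← mul_assoc (uEl hσ ha)] at this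
    have e : uEl hσ ha * h * (uEl hσ ha)⁻¹ = h * (mB_herm hσ).eich (B_ev_ev 0 0) (map_zero _) hk' := by
      rw [hh, eich_conj']
      have ue : (uEl (m := m) hσ ha : (Idx m 1 → F) ≃ₗ[F] (Idx m 1 → F)) (ev o) = ev o - ev 0 := by
        have := u_e_succ hσ ha h0o
        rw [map_add, u_e0] at this
        rw [eq_sub_iff_add_eq, add_comm]; exact this
      refine Subtype.ext (LinearEquiv.ext fun z => ?_)
      simp only [Subgroup.coe_mul, LinearEquiv.mul_apply, IsHerm.eich_apply, u_e0, LinearEquiv.map_smul, ue,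
        map_add, map_sub, map_zero, LinearMap.sub_apply, LinearMap.zero_apply, smul_zero, add_zero, sub_zero,
        Herm.smul_left, Herm.smul_right, B_ev_ev]
      have e2 : σ ζ - ζ = k := by
        rw [hζ, map_mul, map_neg, eq_neg_of_add_eq_zero_right hk]; linear_combination k * ht
      match_scalars <;> first | ring1 | linear_combination (mB σ m 1 (ev 0) z) * e2
    rwa [e, inv_mul_cancel_left] at hmem
  refine hsu_le_of_long hσ ha hu hv hm (long_e0 hσ ha hu hv hm hk0 hk hgen hT) fun c hc => ?_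
  exact (two_families hσ ha hu hv hm hk0 hk hgen hT c hc).2

end CfsgLib.Classical.ClassTheory.UnitaryRegular
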