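import Cfsg.Agent.Lib.Classical.ClassTheory.UnitaryRegularThree
import Mathlib.GroupTheory.Sylow

/-!
# The three-dimensional special unitary group is generated by two conjugate regular unipotents

The two elements have their centres on a hyperbolic line and are chosen so that their product moves
one centre to the other. Sylow's theorem inside the group of that line then supplies an element of
the Borel subgroup, whose eigenvalue generates the field.
-/

set_option autoImplicit false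

namespace CfsgLib.Classical.ClassTheory.UnitaryRegular

open Matrix CfsgLib.Classical CfsgLib.Classical.Herm CfsgLib.Classical.ClassTheory.UnitaryGen
open CfsgLib.Classical.ClassTheory.SpRegularThree (lst eVec shM invT)

variable {F : Type*} [Field F] {σ : F →+* F}

/-! ### The group of a line -/

section line

variable {V : Type*} [AddCommGroup V] [Module F V] [FiniteDimensional F V] {B : V →ₛₗ[σ] V →ₗ[F] F}
  {hB : IsHerm B} {G : Subgroup (HU B)} {e f w : V}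

/-- A `p`-subgroup of the line group which contains a transvection fixes its centre. -/
theorem pgroup_fixes_centre {p : ℕ} [Fact p.Prime] [CharP F p] (hee : B e e = 0) (hef : B e f = 1)
    (hwf : B w f = 0) (hdec : ∀ d, B e d = 0 → B w d = 0 → ∃ c : F, d = c • e)
    (hext : ∀ z : HU B, (z : V ≃ₗ[F] V) e = e → (z : V ≃ₗ[F] V) f = f → (z : V ≃ₗ[F] V) w = w → z = 1)
    (hw : ∀ x ∈ G, (x : V ≃ₗ[F] V) w = w) {k : F} (hk0 : k ≠ 0) (hk : k + σ k = 0)
    {P : Subgroup (HU B)} [Finite P] (hPG : P ≤ G) (hP : IsPGroup p P) (ht : hB.tr hee hk ∈ P)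
    {x : HU B} (hx : x ∈ P) : ∃ c : F, (x : V ≃ₗ[F] V) e = c • e := by
  have : Nontrivial P := ⟨⟨⟨_, ht⟩, 1, fun h => by
    have h' := congrArg (fun g : P => ((g : HU B) : V ≃ₗ[F] V) f) h
    simp only [IsHerm.tr_apply, hef, mul_one, Subgroup.coe_one, LinearEquiv.coe_one, id_eq, add_eq_left,
      smul_eq_zero] at h'
    rcases h' with h' | h'
    · exact hk0 h'
    · rw [h', map_zero, LinearMap.zero_apply] at hef; exact zero_ne_one hef⟩⟩
  have he0 : e ≠ 0 := fun h => by rw [h, map_zero, LinearMap.zero_apply] at hef; exact zero_ne_one hef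
  have := hP.center_nontrivial
  obtain ⟨⟨⟨z, hzP⟩, hzc⟩, hz1⟩ := exists_ne (1 : Subgroup.center P)
  rw [Subgroup.mem_center_iff] at hzc
  have hcomm : ∀ g ∈ P, ∀ v, (g : V ≃ₗ[F] V) ((z : V ≃ₗ[F] V) v) = (z : V ≃ₗ[F] V) ((g : V ≃ₗ[F] V) v) := fun g hg v =>
    congrArg (fun g : P => ((g : HU B) : V ≃ₗ[F] V) v) (hzc ⟨g, hg⟩)
  -- the central element fixes the centre
  obtain ⟨α, hα⟩ : ∃ α, B e ((z : V ≃ₗ[F] V) f) = α := ⟨_, rfl⟩
  have hze : (z : V ≃ₗ[F] V) e = α • e := by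
    have h := hcomm _ ht f
    rw [IsHerm.tr_apply, IsHerm.tr_apply, hα, map_add, LinearEquiv.map_smul, hef, mul_one, add_right_inj, mul_smul] at h
    exact (smul_right_injective V hk0 h).symm
  have hpow : ∀ n : ℕ, ((z ^ n : HU B) : V ≃ₗ[F] V) e = α ^ n • e := by
    intro n
    induction n with
    | zero => simp
    | succ n ih =>
      rw [pow_succ', Subgroup.coe_mul, LinearEquiv.mul_apply, ih, LinearEquiv.map_smul, hze, smul_smul, pow_succ]
  obtain ⟨j, hj⟩ := hP ⟨z, hzP⟩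
  have hα1 : α ^ p ^ j = 1 := by
    have h := hpow (p ^ j)
    rw [show z ^ p ^ j = 1 from congrArg Subtype.val hj] at h
    simp only [Subgroup.coe_one, LinearEquiv.coe_one, id_eq] at h
    exact smul_left_injective F he0 (h.symm.trans (one_smul F e).symm)
  have : ExpChar F p := ExpChar.prime Fact.out
  have hα' : α = 1 := iterateFrobenius_inj F p j (by rw [iterateFrobenius_def, iterateFrobenius_def, hα1, one_pow])
  rw [hα', one_smul] at hze
  -- it is a transvection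
  have hzw := hw z (hPG hzP)
  obtain ⟨β, hβ⟩ := hdec ((z : V ≃ₗ[F] V) f - f)
    (by rw [map_sub, hα, hα', hef, sub_self])
    (by
      have e1 := HU.map_eq z w f
      rw [hzw] at e1
      rw [map_sub, e1, sub_self])
  have hβ0 : β ≠ 0 := fun h => hz1 (Subtype.ext (Subtype.ext
    (hext z hze (sub_eq_zero.1 (by rw [hβ, h, zero_smul])) hzw)))
  have hzf : (z : V ≃ₗ[F] V) f = f + β • e := by rw [← hβ]; abel
  obtain ⟨r, hr⟩ : ∃ r, r = (x : V ≃ₗ[F] V) f := ⟨_, rfl⟩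
  refine ⟨B e r, ?_⟩
  obtain ⟨c, hc⟩ := hdec (r - B e r • f) (by rw [map_sub, Herm.smul_right, hef, mul_one, sub_self]) (by
    have e1 := HU.map_eq x w f
    rw [hw x (hPG hx), ← hr, hwf] at e1
    rw [map_sub, Herm.smul_right, e1, hwf, mul_zero, sub_self])
  have h := hcomm x hx f
  rw [hzf, map_add, LinearEquiv.map_smul, ← hr] at h
  have e4 : (z : V ≃ₗ[F] V) r = r + (B e r * β) • e := by
    conv_lhs => rw [show r = B e r • f + c • e by rw [← hc]; abel]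
    rw [map_add, LinearEquiv.map_smul, LinearEquiv.map_smul, hzf, hze]
    conv_rhs => arg 1; rw [show r = B e r • f + c • e by rw [← hc]; abel]
    module
  rw [e4, add_right_inj, mul_comm, mul_smul] at h
  exact smul_right_injective V hβ0 h

end line

/-! ### The three-dimensional model -/

variable (hσ : IsInvol σ)
include hσ

omit hσ in
theorem ext_three {z : HU (mB σ 1 1)}
    (he : (z : (Idx 1 1 → F) ≃ₗ[F] (Idx 1 1 → F)) (ev 0) = ev 0)
    (hf : (z : (Idx 1 1 → F) ≃ₗ[F] (Idx 1 1 → F)) (fv 0) = fv 0)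
    (hw : (z : (Idx 1 1 → F) ≃ₗ[F] (Idx 1 1 → F)) (wv 0) = wv 0) : z = 1 := by
  refine Subtype.ext (LinearEquiv.ext fun x => ?_)
  have hx : x = x (.inl (.inl 0)) • ev 0 + x (.inr 0) • wv 0 + x (.inl (.inr 0)) • fv 0 := by
    funext i
    rcases i with (i | i) | i <;> simp [ev, fv, wv, Subsingleton.elim i 0]
  show _ = x
  rw [hx, map_add, map_add, LinearEquiv.map_smul, LinearEquiv.map_smul, LinearEquiv.map_smul, he, hf, hw]

omit hσ in
theorem dec_e (d : Idx 1 1 → F) (h1 : mB σ 1 1 (ev 0) d = 0) (h2 : mB σ 1 1 (wv 0) d = 0) :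
    ∃ c : F, d = c • ev 0 := by
  rw [B_ev] at h1
  rw [B_wv] at h2
  refine ⟨d (.inl (.inl 0)), ?_⟩
  funext i
  rcases i with (i | i) | i <;> simp [ev, Subsingleton.elim i 0, h1, h2]

omit hσ in
theorem dec_f (d : Idx 1 1 → F) (h1 : mB σ 1 1 (fv 0) d = 0) (h2 : mB σ 1 1 (wv 0) d = 0) :
    ∃ c : F, d = c • fv 0 := by
  rw [B_fv] at h1
  rw [B_wv] at h2
  refine ⟨d (.inl (.inr 0)), ?_⟩
  funext i
  rcases i with (i | i) | i <;> simp [fv, Subsingleton.elim i 0, h1, h2]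

/-- An element of the group exchanging the two centres up to scalars. -/
theorem exists_line_move [Finite F] {H : Subgroup (HU (mB σ 1 1))} {k k' : F} (hk0 : k ≠ 0) (hk'0 : k' ≠ 0)
    (he : Rt (mB_herm hσ) H (ev 0) 0 k) (hf : Rt (mB_herm hσ) H (fv 0) 0 k') :
    ∃ h ∈ H, ∃ τ : F, τ ≠ 0 ∧ τ + σ τ = 0 ∧
      (h : (Idx 1 1 → F) ≃ₗ[F] (Idx 1 1 → F)) (fv 0) = τ • ev 0 ∧
      (h : (Idx 1 1 → F) ≃ₗ[F] (Idx 1 1 → F)) (wv 0) = wv 0 := by
  classical
  set hB := mB_herm (m := 1) (d := 1) hσ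
  obtain ⟨hee, _, hk, hm⟩ := he
  obtain ⟨hff, _, hk', hm'⟩ := hf
  rw [map_zero, neg_zero] at hk hk'
  have hef : mB σ 1 1 (ev 0) (fv 0) = 1 := by rw [B_ev]; simp [fv]
  have hfe : mB σ 1 1 (fv 0) (ev 0) = 1 := by rw [B_fv]; simp [ev]
  have hwe : mB σ 1 1 (wv 0) (ev 0) = 0 := by rw [B_wv]; simp [ev]
  have hwf : mB σ 1 1 (wv 0) (fv 0) = 0 := by rw [B_wv]; simp [fv]
  have hew : mB σ 1 1 (ev 0) (wv 0) = 0 := hB.eq_zero_symm hwe
  have hfw : mB σ 1 1 (fv 0) (wv 0) = 0 := hB.eq_zero_symm hwf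
  set te := hB.tr hee hk with hte
  set tf := hB.tr hff hk' with htf
  have hteH : te ∈ H := by
    refine Set.mem_of_eq_of_mem ?_ hm
    refine Subtype.ext (LinearEquiv.ext fun z => ?_)
    rw [hte, IsHerm.tr_apply, IsHerm.eich_apply]; simp
  have htfH : tf ∈ H := by
    refine Set.mem_of_eq_of_mem ?_ hm'
    refine Subtype.ext (LinearEquiv.ext fun z => ?_)
    rw [htf, IsHerm.tr_apply, IsHerm.eich_apply]; simp
  -- the invariant of the line group
  let S : (Idx 1 1 → F) → Prop := fun y => σ (mB σ 1 1 (fv 0) y) = mB σ 1 1 (fv 0) y ∧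
    σ (mB σ 1 1 (ev 0) y) = -mB σ 1 1 (ev 0) y
  let St : Subgroup (HU (mB σ 1 1)) :=
    { carrier := {g | (g : (Idx 1 1 → F) ≃ₗ[F] (Idx 1 1 → F)) (wv 0) = wv 0 ∧
        ∀ y, S ((g : (Idx 1 1 → F) ≃ₗ[F] (Idx 1 1 → F)) y) ↔ S y}
      mul_mem' := fun {g g'} h h' => ⟨by rw [Subgroup.coe_mul, LinearEquiv.mul_apply, h'.1, h.1],
        fun y => by rw [Subgroup.coe_mul, LinearEquiv.mul_apply, h.2, h'.2]⟩
      one_mem' := ⟨rfl, fun y => Iff.rfl⟩
      inv_mem' := fun {g} h => ⟨inv_apply_of_eq h.1, fun y => by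
        conv_rhs => rw [← (g : (Idx 1 1 → F) ≃ₗ[F] (Idx 1 1 → F)).apply_symm_apply y, h.2]
        rfl⟩ }
  set G := Subgroup.closure ({te, tf} : Set (HU (mB σ 1 1))) with hG
  have hGH : G ≤ H := by rw [hG, Subgroup.closure_le]; rintro _ (rfl | rfl); exacts [hteH, htfH]
  have hσk : σ k = -k := eq_neg_of_add_eq_zero_right hk
  have hσk' : σ k' = -k' := eq_neg_of_add_eq_zero_right hk'
  have hGS : G ≤ St := by
    rw [hG, Subgroup.closure_le]
    rintro _ (rfl | rfl)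
    · refine ⟨IsHerm.tr_fix _ _ _ hew, fun y => ?_⟩
      simp only [S, hte, IsHerm.tr_apply, map_add, Herm.smul_right, hee, hfe, mul_zero, add_zero, mul_one, map_mul, hσk]
      refine ⟨fun h => ⟨by linear_combination h.1 + k * h.2, h.2⟩, fun h => ⟨by linear_combination h.1 - k * h.2, h.2⟩⟩
    · refine ⟨IsHerm.tr_fix _ _ _ hfw, fun y => ?_⟩
      simp only [S, htf, IsHerm.tr_apply, map_add, Herm.smul_right, hff, hef, mul_zero, add_zero, mul_one, map_mul, hσk']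
      refine ⟨fun h => ⟨h.1, by linear_combination h.2 + k' * h.1⟩, fun h => ⟨h.1, by linear_combination h.2 - k' * h.1⟩⟩
  -- Sylow subgroups through the two transvections
  obtain ⟨p, _⟩ := CharP.exists F
  have : Fact p.Prime := ⟨CharP.char_is_prime F p⟩
  have hpow : ∀ {u : Idx 1 1 → F} (hu : mB σ 1 1 u u = 0) {c : F} (hc : c + σ c = 0) (n : ℕ) (y : Idx 1 1 → F),
      ((hB.tr hu hc ^ n : HU (mB σ 1 1)) : (Idx 1 1 → F) ≃ₗ[F] (Idx 1 1 → F)) y =
        y + ((n : F) * c * mB σ 1 1 u y) • u := by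
    intro u hu c hc n
    induction n with
    | zero => intro y; simp
    | succ n ih =>
      intro y
      rw [pow_succ, Subgroup.coe_mul, LinearEquiv.mul_apply, IsHerm.tr_apply, ih, map_add, Herm.smul_right, hu]
      push_cast; module
  have hpg : ∀ {t : HU (mB σ 1 1)} (ht : t ∈ G), t ^ p = 1 → IsPGroup p (Subgroup.zpowers (⟨t, ht⟩ : G)) := by
    intro t ht htp x
    obtain ⟨i, hi⟩ := x.2
    exact ⟨1, Subtype.ext (by
      rw [pow_one, Subgroup.coe_pow, Subgroup.coe_one, ← hi, ← zpow_natCast, ← _root_.zpow_mul, mul_comm,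
        _root_.zpow_mul, zpow_natCast, show (⟨t, ht⟩ : G) ^ p = 1 from Subtype.ext htp, _root_.one_zpow])⟩
  have hteG : te ∈ G := Subgroup.subset_closure (by simp)
  have htfG : tf ∈ G := Subgroup.subset_closure (by simp)
  have : Finite ((Idx 1 1 → F) ≃ₗ[F] (Idx 1 1 → F)) :=
    Finite.of_injective (fun g => (g : (Idx 1 1 → F) → (Idx 1 1 → F))) DFunLike.coe_injective
  obtain ⟨P, hP⟩ := (hpg hteG (Subtype.ext (LinearEquiv.ext fun y => by
    rw [hte, hpow, CharP.cast_eq_zero]; simp))).exists_le_sylow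
  obtain ⟨Q, hQ⟩ := (hpg htfG (Subtype.ext (LinearEquiv.ext fun y => by
    rw [htf, hpow, CharP.cast_eq_zero]; simp))).exists_le_sylow
  obtain ⟨g, hg⟩ := MulAction.exists_smul_eq G P Q
  -- the conjugate transvection fixes the other centre
  have hmemQ : (g * ⟨te, hteG⟩ * g⁻¹ : G) ∈ (Q : Subgroup G) := by
    rw [← hg, Sylow.coe_subgroup_smul, Subgroup.mem_pointwise_smul_iff_inv_smul_mem, ← map_inv, MulAut.smul_def,
      MulAut.conj_apply, inv_inv]
    rw [show g⁻¹ * (g * ⟨te, hteG⟩ * g⁻¹) * g = (⟨te, hteG⟩ : G) by group]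
    exact hP (Subgroup.mem_zpowers _)
  obtain ⟨c, hc⟩ := pgroup_fixes_centre (hB := hB) (G := G) (p := p) hff hfe hwe
    dec_f (fun z h1 h2 h3 => ext_three h2 h1 h3) (fun x hx => (hGS hx).1) hk'0 hk'
    (P := (Q : Subgroup G).map G.subtype) (Subgroup.map_subtype_le _) (Q.isPGroup'.map _)
    ⟨⟨tf, htfG⟩, hQ (Subgroup.mem_zpowers _), rfl⟩ ⟨_, hmemQ, rfl⟩
  have hconj : ((g * ⟨te, hteG⟩ * g⁻¹ : G) : HU (mB σ 1 1)) = (g : HU (mB σ 1 1)) * te * (g : HU (mB σ 1 1))⁻¹ := rfl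
  rw [Subgroup.coe_subtype, hconj, hte, IsHerm.conj_tr, IsHerm.tr_apply] at hc
  set d := ((g : HU (mB σ 1 1)) : (Idx 1 1 → F) ≃ₗ[F] (Idx 1 1 → F)) (ev 0) with hd
  have hgw := (hGS g.2).1
  have hdw : mB σ 1 1 (wv 0) d = 0 := by
    have := HU.map_eq (g : HU (mB σ 1 1)) (wv 0) (ev 0)
    rwa [hgw, hwe] at this
  have hdf : mB σ 1 1 (fv 0) d = 0 := by
    by_contra hne
    have hne' : mB σ 1 1 d (fv 0) ≠ 0 := fun h => hne (hB.eq_zero_symm h)
    have h2 := congrArg (mB σ 1 1 (fv 0)) hc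
    simp only [map_add, Herm.smul_right, hff, mul_zero, zero_add, mul_eq_zero] at h2
    rcases h2 with (h2 | h2) | h2 <;> [exact hk0 h2; exact hne' h2; exact hne h2]
  obtain ⟨τ, hτ⟩ := dec_f d hdf hdw
  have hτ0 : τ ≠ 0 := fun h => by
    rw [h, zero_smul, hd, LinearEquiv.map_eq_zero_iff] at hτ
    rw [hτ, map_zero, LinearMap.zero_apply] at hef
    exact zero_ne_one hef
  refine ⟨(g : HU (mB σ 1 1))⁻¹, H.inv_mem (hGH g.2), τ⁻¹, inv_ne_zero hτ0, ?_, ?_, inv_apply_of_eq hgw⟩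
  rotate_left
  · refine inv_apply_of_eq ?_
    rw [LinearEquiv.map_smul, ← hd, hτ, smul_smul, inv_mul_cancel₀ hτ0, one_smul]
  have h := ((hGS g.2).2 (ev 0)).2 ⟨by rw [hfe, map_one], by rw [hee, map_zero, neg_zero]⟩
  rw [← hd, hτ] at h
  have h2 := h.2
  simp only [Herm.smul_right, hef, mul_one] at h2
  rw [map_inv₀, h2, inv_neg, add_neg_cancel]

/-- All short root elements at one centre and a map to the other give everything. -/
theorem hsu_le_of_coef [Finite F] {H : Subgroup (HU (mB σ 1 1))}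
    (hC : ∀ c : F, ∃ d, Rt (mB_herm hσ) H (ev 0) (c • wv 0) d) {g : HU (mB σ 1 1)} (hgH : g ∈ H) {c : F} (hc : c ≠ 0)
    (hge : (g : (Idx 1 1 → F) ≃ₗ[F] (Idx 1 1 → F)) (ev 0) = c • fv 0) (hq : Nat.card (fixedSub σ) ≠ 2) :
    HSU (mB σ 1 1) ≤ H := by
  have hee : mB σ 1 1 (ev 0) (ev 0) = 0 := by rw [B_ev]; simp [ev]
  have hww : mB σ 1 1 (wv 0) (wv 0) = 1 := by simp [B_wv]; simp [wv]
  obtain ⟨d₁, h1⟩ := hC 1
  have hL : Long (mB_herm hσ) H (ev 0) := long_of_pair (x := wv 0) (y := wv 0) hee hww hC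
    ⟨_, h1.of_eq rfl (one_smul _ _) rfl⟩
  have hLf : Long (mB_herm hσ) H (fv 0) := Long.smul hc (hge ▸ hL.conj hgH)
  refine hsu_le_of_roots hσ hL ?_ hLf (by simp [fv]) (fun _ => hq)
  rintro ((i | i) | j) e1 e2
  · exact absurd (by rw [Subsingleton.elim i 0]) e1
  · exact absurd (by rw [Subsingleton.elim i 0]) e2
  · rw [Subsingleton.elim j 0]; exact hC

/-- A move between the centres turns a short root element at one into one at the other. -/
theorem coef_of_move {H : Subgroup (HU (mB σ 1 1))} {g : HU (mB σ 1 1)} (hgH : g ∈ H) {c α β r b : F} (hc : c ≠ 0)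
    (hα : α ≠ 0) (hge : (g : (Idx 1 1 → F) ≃ₗ[F] (Idx 1 1 → F)) (ev 0) = c • fv 0)
    (hgw : (g : (Idx 1 1 → F) ≃ₗ[F] (Idx 1 1 → F)) (wv 0) = α • wv 0 + β • fv 0)
    (hv : Rt (mB_herm hσ) H (fv 0) (r • wv 0) b) :
    ∃ d, Rt (mB_herm hσ) H (ev 0) (((σ c)⁻¹ * r * α⁻¹) • wv 0) d := by
  have hf : ((g⁻¹ : HU (mB σ 1 1)) : (Idx 1 1 → F) ≃ₗ[F] (Idx 1 1 → F)) (fv 0) = c⁻¹ • ev 0 :=
    inv_apply_of_eq (by rw [LinearEquiv.map_smul, hge, smul_smul, inv_mul_cancel₀ hc, one_smul])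
  have hw : ((g⁻¹ : HU (mB σ 1 1)) : (Idx 1 1 → F) ≃ₗ[F] (Idx 1 1 → F)) (wv 0) = α⁻¹ • wv 0 + (-(α⁻¹ * β * c⁻¹)) • ev 0 :=
    inv_apply_of_eq (by
      rw [map_add, LinearEquiv.map_smul, LinearEquiv.map_smul, hgw, hge]
      match_scalars <;> field_simp <;> ring)
  have h := hv.conj (H.inv_mem hgH)
  rw [hf, LinearEquiv.map_smul, hw] at h
  refine ⟨_, ((h.smul_left (inv_ne_zero hc)).shift (σ c⁻¹ * r * (α⁻¹ * β * c⁻¹))).of_eq rfl ?_ rfl⟩
  rw [map_inv₀]
  match_scalars <;> field_simp <;> ring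

theorem swapSign_one : swapSign 1 F = -1 := by
  have _ := hσ
  rw [swapSign, show Function.Involutive.toPerm (inv2 (m := 1) (d := 1)) inv2_inv2 =
    Equiv.swap (Sum.inl (Sum.inl 0)) (Sum.inl (Sum.inr 0)) from Equiv.ext fun x => by
      rcases x with (i | i) | i <;> simp [inv2, Subsingleton.elim i 0, Equiv.swap_apply_of_ne_of_ne],
    Equiv.Perm.sign_swap (by simp)]
  simp

theorem uEl_one {a : F} (ha : a + σ a = -1) : uEl (m := 1) hσ ha = sEl hσ ha := by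
  refine Subtype.ext (LinearEquiv.ext fun x => ?_)
  rw [tri_decomp x, u_tri, sEl, IsHerm.eich_apply, B_ev, B_wv]
  have hl : lst 1 = (0 : Fin 1) := Subsingleton.elim _ _
  have hs : shM 1 F = 0 := by ext i j; simp [shM]
  have hi : invT 1 F = 1 := by
    have := SpRegularThree.invT_mul (m := 1) (F := F)
    rwa [hs, add_zero, Matrix.transpose_one, mul_one] at this
  funext i
  rcases i with (i | i) | i <;>
    simp [tri, ev, wv, hl, Subsingleton.elim i 0, invT_transpose_last, eVec, hs, hi] <;> ring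

/-- The conjugates of the first generator with the opposite centre. -/
theorem exists_conj_opposite {a : F} (ha : a + σ a = -1) {l r b : F} (hl : l ≠ 0)
    (hr : r = -(σ l * σ l / l)) (hb : b = l * σ l * a) :
    ∃ M ∈ HSU (mB σ 1 1), ∀ (hu : mB σ 1 1 (fv 0) (fv 0) = 0) (hux : mB σ 1 1 (fv 0) (r • wv 0) = 0)
      (htr : b + σ b = -mB σ 1 1 (r • wv 0) (r • wv 0)),
      (mB_herm hσ).eich hu hux htr = M * uEl (m := 1) hσ ha * M⁻¹ := by
  classical
  have hσl : σ l ≠ 0 := fun e => hl (IsInvol.apply_eq_zero_iff.1 e)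
  let κ : Idx 1 1 → F := Sum.elim (Sum.elim (fun _ => l) fun _ => (σ l)⁻¹) fun _ => σ l / l
  have hκ : ∀ i, σ (κ i) * κ (inv2 i) = 1 := by
    rintro ((i | i) | i) <;> simp [κ, inv2, hσ.invol] <;> field_simp
  have hD : diagIso hσ κ hκ ∈ HSU (mB σ 1 1) := det_diagIso hσ κ hκ (by
    rw [Fintype.prod_sum_type, Fintype.prod_sum_type]
    simp [κ]
    field_simp)
  refine ⟨jEl hσ * diagIso hσ κ hκ, mul_mem (jEl_mem hσ) hD, fun hu hux htr => ?_⟩
  set M := jEl hσ * diagIso hσ κ hκ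
  have hj : ∀ y ω φ, (jEl (m := 1) hσ : (Idx 1 1 → F) ≃ₗ[F] (Idx 1 1 → F)) (tri y ω φ) = tri φ (-ω) y := fun y ω φ => by
    rw [j_tri, swapSign_one hσ, neg_one_mul]
  have hMe : (M : (Idx 1 1 → F) ≃ₗ[F] (Idx 1 1 → F)) (ev (lst 1)) = l • fv 0 := by
    rw [show M = jEl hσ * diagIso hσ κ hκ from rfl, Subgroup.coe_mul, LinearEquiv.mul_apply, ev, diagIso_single,
      LinearEquiv.map_smul, ← ev, ← el_single, el_eq, hj]
    congr 1
    funext i
    rcases i with (i | i) | i <;> simp [tri, fv, Subsingleton.elim i 0, Subsingleton.elim (lst 1) 0]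
  have hMw : (M : (Idx 1 1 → F) ≃ₗ[F] (Idx 1 1 → F)) (wv 0) = (-(σ l / l)) • wv 0 := by
    rw [show M = jEl hσ * diagIso hσ κ hκ from rfl, Subgroup.coe_mul, LinearEquiv.mul_apply, wv, diagIso_single,
      LinearEquiv.map_smul, ← wv, wv_eq, hj]
    funext i
    rcases i with (i | i) | i <;> simp [tri, κ]
  rw [uEl_one, sEl, eich_conj']
  refine Subtype.ext (LinearEquiv.ext fun z => ?_)
  simp only [IsHerm.eich_apply, hMe, hMw, Herm.smul_left, hr, hb, map_neg, map_mul, map_div₀, hσ.invol]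
  match_scalars <;> field_simp <;> ring

section two

variable {a : F} (ha : a + σ a = -1)

include ha in
theorem vTwo_trace : (σ a)⁻¹ + σ (σ a)⁻¹ = -mB σ 1 1 (-(σ a)⁻¹ • wv 0) (-(σ a)⁻¹ • wv 0) := by
  have ha0 : a ≠ 0 := a_ne ha
  have hσa0 : σ a ≠ 0 := fun e => ha0 (IsInvol.apply_eq_zero_iff.1 e)
  rw [Herm.smul_left, Herm.smul_right, B_wv, map_neg, map_inv₀, hσ.invol]
  simp [wv]
  field_simp
  linear_combination ha

omit hσ in
theorem B_fv_fv : mB σ 1 1 (fv 0) (fv 0) = 0 := by rw [B_fv]; simp [fv]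

omit hσ in
theorem B_fv_smul_wv (c : F) : mB σ 1 1 (fv 0) (c • wv 0) = 0 := by rw [B_fv]; simp [wv]

/-- The second generator. -/
noncomputable def vTwo : HU (mB σ 1 1) :=
  (mB_herm hσ).eich B_fv_fv (B_fv_smul_wv _) (vTwo_trace hσ ha)

variable [Finite F] {H : Subgroup (HU (mB σ 1 1))} (hu : uEl (m := 1) hσ ha ∈ H) (hv : vTwo hσ ha ∈ H)

include hu hv in
/-- Generation by the two elements. -/
theorem hsu_le_of_two {ρ : F} (hρa : σ a = ρ * a) (hρ4 : ρ ^ 4 ≠ 1) (hq : Nat.card (fixedSub σ) ≠ 2)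
    (hgen : (∀ A : AddSubgroup F, 1 ∈ A → (ρ ^ 2)⁻¹ ∈ A → ∀ x, x ∈ A) ∨
      ∀ μ : F, μ ≠ 0 → μ = -ρ ^ 3 * σ μ → Subring.closure ({μ} : Set F) = ⊤) :
    HSU (mB σ 1 1) ≤ H := by
  classical
  set hB := mB_herm (m := 1) (d := 1) hσ
  have ha0 : a ≠ 0 := a_ne ha
  have hσa0 : σ a ≠ 0 := fun e => ha0 (IsInvol.apply_eq_zero_iff.1 e)
  have hρ0 : ρ ≠ 0 := fun e => hσa0 (by rw [hρa, e, zero_mul])
  have hσρ : σ ρ = ρ⁻¹ := by
    have h := congrArg σ hρa
    rw [hσ.invol, map_mul, hρa] at h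
    exact eq_inv_of_mul_eq_one_left (mul_right_cancel₀ ha0 (by rw [one_mul]; linear_combination -h))
  have hee : mB σ 1 1 (ev 0) (ev 0) = 0 := by rw [B_ev]; simp [ev]
  have hew : ∀ c : F, mB σ 1 1 (ev 0) (c • wv 0) = 0 := fun c => by rw [B_ev]; simp [wv]
  have hww : mB σ 1 1 (wv 0) (wv 0) = 1 := by simp [B_wv]; simp [wv]
  -- the product moves one centre to the other
  set g := uEl (m := 1) hσ ha * vTwo hσ ha with hg
  have hgH : g ∈ H := H.mul_mem hu hv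
  have happ : ∀ x, (g : (Idx 1 1 → F) ≃ₗ[F] (Idx 1 1 → F)) x =
      (sEl (m := 1) hσ ha : (Idx 1 1 → F) ≃ₗ[F] (Idx 1 1 → F))
        ((vTwo hσ ha : (Idx 1 1 → F) ≃ₗ[F] (Idx 1 1 → F)) x) := fun x => by
    rw [hg, uEl_one, Subgroup.coe_mul, LinearEquiv.mul_apply]
  have hl : lst 1 = (0 : Fin 1) := Subsingleton.elim _ _
  have hge : (g : (Idx 1 1 → F) ≃ₗ[F] (Idx 1 1 → F)) (ev 0) = (σ a)⁻¹ • fv 0 := by
    rw [happ, vTwo, sEl, IsHerm.eich_apply, IsHerm.eich_apply, hl]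
    simp only [map_add, map_sub, map_neg, Herm.smul_left, Herm.smul_right, B_ev, B_fv, B_wv]
    funext i
    rcases i with (i | i) | i <;>
      simp [ev, fv, wv, Subsingleton.elim i 0, map_inv₀, hσ.invol] <;>
      field_simp <;> linear_combination ha
  have hgw : (g : (Idx 1 1 → F) ≃ₗ[F] (Idx 1 1 → F)) (wv 0) = (-ρ) • wv 0 + a⁻¹ • fv 0 := by
    rw [happ, vTwo, sEl, IsHerm.eich_apply, IsHerm.eich_apply, hl]
    simp only [map_add, map_sub, map_neg, Herm.smul_left, Herm.smul_right, B_ev, B_fv, B_wv]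
    funext i
    rcases i with (i | i) | i <;>
      simp [ev, fv, wv, Subsingleton.elim i 0, map_inv₀, hσ.invol] <;>
      field_simp <;> first | ring1 | linear_combination ha - hρa
  have hgf : ((g⁻¹ : HU (mB σ 1 1)) : (Idx 1 1 → F) ≃ₗ[F] (Idx 1 1 → F)) (fv 0) = σ a • ev 0 :=
    inv_apply_of_eq (by rw [LinearEquiv.map_smul, hge, smul_smul, mul_inv_cancel₀ hσa0, one_smul])
  have hgw' : ((g⁻¹ : HU (mB σ 1 1)) : (Idx 1 1 → F) ≃ₗ[F] (Idx 1 1 → F)) (wv 0) = (-ρ⁻¹) • wv 0 + ev 0 :=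
    inv_apply_of_eq (by
      rw [map_add, LinearEquiv.map_smul, hge, hgw, smul_add, smul_smul, smul_smul, neg_mul_neg,
        inv_mul_cancel₀ hρ0, one_smul, add_assoc, ← add_smul, hρa, mul_inv]
      convert add_zero _ using 2
      convert zero_smul F (fv 0 : Idx 1 1 → F) using 2
      ring)
  -- the short root elements at the first centre
  let C : AddSubgroup F :=
    { carrier := {c | ∃ d, Rt hB H (ev 0) (c • wv 0) d}
      add_mem' := fun {x y} ⟨p, hp⟩ ⟨r, hr⟩ => ⟨_, (hp.add hr).of_eq rfl (add_smul x y _).symm rfl⟩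
      zero_mem' := ⟨0, (rt_zero hee).of_eq rfl (zero_smul F _).symm rfl⟩
      neg_mem' := fun {x} ⟨p, hp⟩ => ⟨_, hp.neg.of_eq rfl (neg_smul x _).symm rfl⟩ }
  obtain ⟨d₁, h1⟩ : ∃ d, Rt hB H (ev 0) ((1 : F) • wv 0) d := ⟨a, by
    rw [one_smul]
    rw [uEl_one, sEl] at hu
    exact (Rt.mk hu).of_eq (by rw [hl]) rfl rfl⟩
  obtain ⟨d₂, h2⟩ : ∃ d, Rt hB H (ev 0) ((ρ ^ 2)⁻¹ • wv 0) d := by
    have h := (Rt.mk (hB := hB) hv).conj (H.inv_mem hgH)
    rw [hgf, LinearEquiv.map_smul, hgw'] at h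
    refine ⟨_, ((h.smul_left hσa0).shift (-(σ (σ a) * -(σ a)⁻¹))).of_eq rfl ?_ rfl⟩
    rw [hσ.invol, hρa]
    match_scalars <;> field_simp <;> ring
  -- two transvections
  have hρ2 : ρ ^ 2 - (ρ ^ 2)⁻¹ ≠ 0 := fun h => hρ4 (by field_simp at h; linear_combination h)
  have hPe : Rt hB H (ev 0) 0 (ρ ^ 2 - (ρ ^ 2)⁻¹) := by
    refine (h1.comm h2).of_eq rfl rfl ?_
    simp only [Herm.smul_left, Herm.smul_right, hww, map_one, map_inv₀, map_pow, hσρ, inv_pow, inv_inv]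
    ring
  have hPf : Rt hB H (fv 0) 0 ((σ a)⁻¹ * σ (σ a)⁻¹ * (ρ ^ 2 - (ρ ^ 2)⁻¹)) := by
    have h := (hPe.conj hgH).of_eq hge (map_zero _) rfl
    exact (h.smul_left (inv_ne_zero hσa0)).of_eq rfl (smul_zero _) rfl
  obtain ⟨h₀, hh₀, τ, hτ0, hτ, hhf, hhw⟩ := exists_line_move hσ hρ2 (mul_ne_zero (mul_ne_zero (inv_ne_zero hσa0)
    (fun e => inv_ne_zero hσa0 (IsInvol.apply_eq_zero_iff.1 e))) hρ2) hPe hPf
  set μ := τ * ρ / a with hμ
  have hscale : ∀ c ∈ C, μ * c ∈ C := by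
    rintro c ⟨d, hd⟩
    have h := hd.conj (H.mul_mem hh₀ hgH)
    rw [Subgroup.coe_mul, LinearEquiv.mul_apply, LinearEquiv.mul_apply, hge, LinearEquiv.map_smul, hhf, smul_smul,
      LinearEquiv.map_smul (g : (Idx 1 1 → F) ≃ₗ[F] (Idx 1 1 → F)), hgw, LinearEquiv.map_smul, map_add,
      LinearEquiv.map_smul, LinearEquiv.map_smul, hhw, hhf] at h
    refine ⟨_, ((h.smul_left (mul_ne_zero (inv_ne_zero hσa0) hτ0)).shift
      (-(σ ((σ a)⁻¹ * τ) * (c * (a⁻¹ * τ))))).of_eq rfl ?_ rfl⟩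
    rw [map_mul, map_inv₀, hσ.invol, eq_neg_of_add_eq_zero_right hτ, hμ]
    match_scalars <;> field_simp <;> ring
  have hC : ∀ c : F, c ∈ C := by
    rcases hgen with hgen | hgen
    · exact hgen C ⟨d₁, h1⟩ ⟨d₂, h2⟩
    · refine fun c => mem_of_ring_generator C one_ne_zero (show (1 : F) ∈ C from ⟨d₁, h1⟩) hscale (hgen μ
        (div_ne_zero (mul_ne_zero hτ0 hρ0) ha0) ?_) c
      rw [hμ, map_div₀, map_mul, hσρ, eq_neg_of_add_eq_zero_right hτ, hρa]
      field_simp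
  exact hsu_le_of_coef hσ hC hgH (inv_ne_zero hσa0) hge hq

end two

end CfsgLib.Classical.ClassTheory.UnitaryRegular
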